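import Cfsg.Agent.Lib.Fischer.Basic
import Cfsg.Agent.Lib.Involutions.Dihedral
import Mathlib.GroupTheory.SpecificGroups.Dihedral
import Mathlib.GroupTheory.Perm.Basic

set_option autoImplicit false

/-!
Two non-commuting 3-transpositions generate a symmetric group of degree three.
-/

namespace Cfsg.Agent.Fischer

variable {G : Type*} [Group G]

theorem TSet.orderOf_mul_eq_three {D : Set G} (hD : IsThreeTranspositionSet D) {a b : G} (ha : a ∈ D)
    (hb : b ∈ D) (h : ¬ Commute a b) : orderOf (a * b) = 3 := by
  refine orderOf_eq_prime (TSet.cube hD ha hb h) fun h1 => h ?_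
  exact (commute_iff_sq_eq_one (TSet.sq hD ha) (TSet.sq hD hb)).2 (by rw [h1, one_pow])

/-- The subgroup generated by two involutions whose product has order 3. -/
theorem nonempty_mulEquiv_perm_three {a b : G} (ha : orderOf a = 2) (hb : orderOf b = 2)
    (hab : orderOf (a * b) = 3) :
    Nonempty (Subgroup.closure ({a, b} : Set G) ≃* Equiv.Perm (Fin 3)) := by
  have hne : a ≠ b := by
    rintro rfl
    rw [mul_self_of_orderOf_two ha, orderOf_one] at hab
    omega
  have u : orderOf (Equiv.swap (0 : Fin 3) 1) = 2 :=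
    orderOf_eq_prime (by decide) (by decide)
  have v : orderOf (Equiv.swap (1 : Fin 3) 2) = 2 :=
    orderOf_eq_prime (by decide) (by decide)
  have uv : orderOf (Equiv.swap (0 : Fin 3) 1 * Equiv.swap (1 : Fin 3) 2) = 3 :=
    orderOf_eq_prime (by decide) (by decide)
  have e₁ : DihedralGroup (orderOf (a * b)) ≃* Subgroup.closure ({a, b} : Set G) :=
    (MonoidHom.ofInjective (Invol.dihHom_injective ha hb hne)).trans
      (MulEquiv.subgroupCongr (Invol.dihHom_range ha hb))
  haveI : NeZero (orderOf (Equiv.swap (0 : Fin 3) 1 * Equiv.swap (1 : Fin 3) 2)) := ⟨by omega⟩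
  have hbij : Function.Bijective (Invol.dihHom u v) :=
    (Fintype.bijective_iff_injective_and_card _).2
      ⟨Invol.dihHom_injective u v (by decide), by
        rw [DihedralGroup.card, uv, Fintype.card_perm, Fintype.card_fin]
        rfl⟩
  have e₂ := MulEquiv.ofBijective (Invol.dihHom u v) hbij
  rw [hab] at e₁
  rw [uv] at e₂
  exact ⟨e₁.symm.trans e₂⟩

end Cfsg.Agent.Fischer
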