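import Mathlib.GroupTheory.OrderOfElement
import Mathlib.GroupTheory.PGroup
import Mathlib.Algebra.Group.Subgroup.Basic
import Mathlib.Tactic.Group
import Cfsg.Prelude.Def_FischerSpaces

set_option autoImplicit false

/-!
Elementary facts on sets of 3-transpositions.
-/

namespace Cfsg.Agent.Fischer

variable {G : Type*} [Group G]

theorem mul_self_of_orderOf_two {d : G} (h : orderOf d = 2) : d * d = 1 := by
  have := pow_orderOf_eq_one d
  rw [h, pow_two] at this
  exact this

theorem inv_eq_self_of_orderOf_two {d : G} (h : orderOf d = 2) : d⁻¹ = d :=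
  inv_eq_of_mul_eq_one_right (mul_self_of_orderOf_two h)

theorem ne_one_of_orderOf_two {d : G} (h : orderOf d = 2) : d ≠ 1 := by
  rintro rfl
  simp at h

theorem orderOf_conj (g x : G) : orderOf (g * x * g⁻¹) = orderOf x := by
  have : g * x * g⁻¹ = MulAut.conj g x := rfl
  rw [this, MulEquiv.orderOf_eq]

theorem commute_conj_iff (g a b : G) :
    Commute (g * a * g⁻¹) (g * b * g⁻¹) ↔ Commute a b := by
  constructor
  · intro h
    have h2 := h.map (MulAut.conj g⁻¹)
    simpa [MulAut.conj_apply, mul_assoc] using h2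
  · intro h
    simpa [MulAut.conj_apply] using h.map (MulAut.conj g)

theorem commute_iff_sq_eq_one {a b : G} (ha : a * a = 1) (hb : b * b = 1) :
    Commute a b ↔ (a * b) ^ 2 = 1 := by
  constructor
  · intro h
    rw [h.mul_pow, pow_two, pow_two, ha, hb, one_mul]
  · intro h
    rw [pow_two] at h
    have h1 : (a * b)⁻¹ = a * b := inv_eq_of_mul_eq_one_right h
    rw [mul_inv_rev, inv_eq_of_mul_eq_one_right ha, inv_eq_of_mul_eq_one_right hb] at h1
    exact h1.symm

variable {D : Set G}

theorem TSet.sq (hD : IsThreeTranspositionSet D) {a : G} (ha : a ∈ D) : a * a = 1 :=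
  mul_self_of_orderOf_two (hD.1 a ha)

theorem TSet.inv (hD : IsThreeTranspositionSet D) {a : G} (ha : a ∈ D) : a⁻¹ = a :=
  inv_eq_self_of_orderOf_two (hD.1 a ha)

theorem TSet.ne_one (hD : IsThreeTranspositionSet D) {a : G} (ha : a ∈ D) : a ≠ 1 :=
  ne_one_of_orderOf_two (hD.1 a ha)

theorem TSet.cube (hD : IsThreeTranspositionSet D) {a b : G} (ha : a ∈ D) (hb : b ∈ D)
    (h : ¬ Commute a b) : (a * b) ^ 3 = 1 := by
  rcases hD.2 a ha b hb with h2 | h3
  · exact absurd ((commute_iff_sq_eq_one (TSet.sq hD ha) (TSet.sq hD hb)).2 h2) h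
  · exact h3

/-- A product whose square lies among the elements of 2-power order and is killed by a cube. -/
theorem TSet.commute_of_two_pow (hD : IsThreeTranspositionSet D) {a b : G} (ha : a ∈ D)
    (hb : b ∈ D) {k : ℕ} (h : (a * b) ^ 2 ^ k = 1) : Commute a b := by
  by_contra hc
  have h3 := TSet.cube hD ha hb hc
  have h1 : orderOf (a * b) = 1 := by
    have d1 := orderOf_dvd_of_pow_eq_one h
    have d2 := orderOf_dvd_of_pow_eq_one h3
    exact Nat.eq_one_of_dvd_coprimes (Nat.Coprime.pow_left k (by decide)) d1 d2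
  rw [orderOf_eq_one_iff] at h1
  exact hc ((commute_iff_sq_eq_one (TSet.sq hD ha) (TSet.sq hD hb)).2 (by rw [h1, one_pow]))

theorem TSet.braid (hD : IsThreeTranspositionSet D) {a b : G} (ha : a ∈ D) (hb : b ∈ D)
    (h : ¬ Commute a b) : a * b * a = b * a * b := by
  have h3 := TSet.cube hD ha hb h
  have e : (a * b) ^ 3 = (a * b * a) * (b * a * b) := by
    simp only [pow_succ, pow_zero, one_mul, mul_assoc]
  rw [e] at h3
  have := eq_inv_of_mul_eq_one_left h3
  rw [this, mul_inv_rev, mul_inv_rev, TSet.inv hD ha, TSet.inv hD hb, mul_assoc]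

theorem not_commute_ne {a b : G} (h : ¬ Commute a b) : a ≠ b := by
  rintro rfl; exact h (Commute.refl a)

theorem TSet.mono {D' : Set G} (hD : IsThreeTranspositionSet D) (h : D' ⊆ D) :
    IsThreeTranspositionSet D' :=
  ⟨fun d hd => hD.1 d (h hd), fun d hd e he => hD.2 d (h hd) e (h he)⟩

theorem TSet.conj_swap (hD : IsThreeTranspositionSet D) {a b : G} (ha : a ∈ D) (hb : b ∈ D)
    (h : ¬ Commute a b) : (a * b) * a * (a * b)⁻¹ = b := by
  rw [mul_inv_rev, TSet.inv hD ha, TSet.inv hD hb]
  calc a * b * a * (b * a) = (a * b * a) * b * a := by simp only [mul_assoc]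
    _ = b * a * b * b * a := by rw [TSet.braid hD ha hb h]
    _ = b := by simp only [mul_assoc, TSet.sq hD hb, mul_one, TSet.sq hD ha]

/-- If `e` centralises `ab` for distinct commuting `a, b`, it centralises both. -/
theorem TSet.commute_mul_iff (hD : IsThreeTranspositionSet D) {a b e : G} (ha : a ∈ D)
    (hb : b ∈ D) (he : e ∈ D) (hab : a ≠ b) (_hc : Commute a b) :
    Commute e (a * b) ↔ (Commute e a ∧ Commute e b) := by
  refine ⟨fun h => ?_, fun h => h.1.mul_right h.2⟩
  have hea : Commute e a := by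
    by_contra hea
    have heb : ¬ Commute e b := by
      intro heb
      refine hea ?_
      have := h.mul_right heb
      rwa [mul_assoc, TSet.sq hD hb, mul_one] at this
    have b1 := TSet.braid hD he ha hea
    have b2 := TSet.braid hD he hb heb
    have ee := TSet.sq hD he
    have key : a * b = (e * a * e) * (e * b * e) := by
      calc a * b = (a * b) * (e * e) := by rw [ee, mul_one]
        _ = (e * (a * b)) * e := by rw [← mul_assoc, h.eq]
        _ = (e * a * e) * (e * b * e) := by
          simp only [mul_assoc]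
          rw [← mul_assoc e e, ee, one_mul]
    rw [b1, b2] at key
    -- a * b = (a * e * a) * (b * e * b)
    have key2 : b = e * (a * b) * e * b := by
      calc b = a * (a * b) := by rw [← mul_assoc, TSet.sq hD ha, one_mul]
        _ = a * (a * e * a * (b * e * b)) := by rw [← key]
        _ = e * (a * b) * e * b := by
          simp only [← mul_assoc, TSet.sq hD ha, one_mul]
    rw [h.eq, mul_assoc (a * b) e e, ee, mul_one, mul_assoc, TSet.sq hD hb, mul_one] at key2
    exact hab key2.symm
  refine ⟨hea, ?_⟩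
  have := (hea.mul_right h)
  rwa [← mul_assoc, TSet.sq hD ha, one_mul] at this

theorem TGroup.conj_mem {D : Set G} (hD : IsThreeTranspositionGroup D) (g : G) {d : G}
    (hd : d ∈ D) : g * d * g⁻¹ ∈ D := hD.2.1 g d hd

theorem conj_inv_mem (hconj : ∀ g : G, ∀ d ∈ D, g * d * g⁻¹ ∈ D) (g : G) {d : G} (hd : d ∈ D) :
    g⁻¹ * d * g ∈ D := by
  simpa using hconj g⁻¹ d hd

theorem TClass.conjInv {D : Set G} (hD : IsThreeTranspositionClass D) :
    ∀ g : G, ∀ d ∈ D, g * d * g⁻¹ ∈ D := by
  obtain ⟨d₀, hd₀, rfl⟩ := hD.2.1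
  intro g d hd
  exact IsConj.trans (b := d) hd (isConj_iff.2 ⟨g, rfl⟩)

theorem TClass.toGroup {D : Set G} (hD : IsThreeTranspositionClass D) :
    IsThreeTranspositionGroup D :=
  ⟨hD.1, TClass.conjInv hD, hD.2.2⟩

theorem TClass.transitive {D : Set G} (hD : IsThreeTranspositionClass D) :
    ∀ a ∈ D, ∀ b ∈ D, ∃ g : G, g * a * g⁻¹ = b := by
  obtain ⟨d₀, hd₀, rfl⟩ := hD.2.1
  intro a ha b hb
  exact isConj_iff.1 (IsConj.trans (IsConj.symm ha) hb)

/-- An element centralising a generating set is central. -/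
theorem mem_center_of_commute_gen {S : Set G} (hS : Subgroup.closure S = ⊤) {x : G}
    (h : ∀ s ∈ S, Commute x s) : x ∈ Subgroup.center G := by
  rw [Subgroup.mem_center_iff]
  intro g
  have hg : g ∈ Subgroup.closure S := by rw [hS]; exact Subgroup.mem_top g
  have : Subgroup.closure S ≤ Subgroup.centralizer ({x} : Set G) := by
    rw [Subgroup.closure_le]
    intro s hs
    rw [SetLike.mem_coe, Subgroup.mem_centralizer_singleton_iff]
    exact (h s hs).eq.symm
  exact Subgroup.mem_centralizer_singleton_iff.1 (this hg)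

/-- In a 2-subgroup two members of `D` commute. -/
theorem TSet.commute_of_mem_twoGroup (hD : IsThreeTranspositionSet D) {T : Subgroup G}
    (hT : IsPGroup 2 T) {a b : G} (ha : a ∈ D) (hb : b ∈ D) (haT : a ∈ T) (hbT : b ∈ T) :
    Commute a b := by
  obtain ⟨k, hk⟩ := hT ⟨a * b, T.mul_mem haT hbT⟩
  exact TSet.commute_of_two_pow hD ha hb (by simpa using congrArg Subtype.val hk)

/-- Pairwise commuting involutions generate a 2-group. -/
theorem isPGroup_closure_of_commute {E : Set G} (h2 : ∀ a ∈ E, a * a = 1)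
    (hc : ∀ a ∈ E, ∀ b ∈ E, Commute a b) : IsPGroup 2 (Subgroup.closure E) := by
  have hcomm : ∀ x ∈ Subgroup.closure E, ∀ y ∈ Subgroup.closure E, Commute x y := by
    have h1 : ∀ a ∈ E, ∀ x ∈ Subgroup.closure E, Commute a x := by
      intro a ha x hx
      induction hx using Subgroup.closure_induction with
      | mem z hz => exact hc a ha z hz
      | one => exact Commute.one_right a
      | mul u v _ _ hu hv => exact hu.mul_right hv
      | inv u _ hu => exact hu.inv_right
    intro x hx y hy
    induction hx using Subgroup.closure_induction with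
    | mem z hz => exact h1 z hz y hy
    | one => exact Commute.one_left y
    | mul u v _ _ hu hv => exact hu.mul_left hv
    | inv u _ hu => exact hu.inv_left
  rintro ⟨x, hx⟩
  refine ⟨1, Subtype.ext ?_⟩
  show x ^ (2 ^ 1) = 1
  rw [pow_one, pow_two]
  induction hx using Subgroup.closure_induction with
  | mem z hz => exact h2 z hz
  | one => exact one_mul 1
  | mul u v hu hv iu iv =>
    rw [mul_assoc, ← mul_assoc v u v, (hcomm v hv u hu).eq, mul_assoc u v v, iv, mul_one, iu]
  | inv u _ iu => rw [← mul_inv_rev, iu, inv_one]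

end Cfsg.Agent.Fischer
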