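import Cfsg.Agent.Lib.Fischer.Basic
import Cfsg.Agent.Lib.Fischer.Dihedral
import Cfsg.Agent.Lib.SymPres.Coxeter
import Cfsg.Prelude.Def_Solvable
import Cfsg.Agent.Lib.FiniteGroup.FittingPow
import Mathlib.GroupTheory.SpecificGroups.Alternating
import Mathlib.GroupTheory.NoncommCoprod

/-!
3-transpositions in which the transpositions commuting with a given one generate a symmetric group of degree
three: the commuting graph is `K₃,₃` or the Petersen graph.
-/

set_option autoImplicit false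
set_option linter.unusedSectionVars false

namespace Cfsg.Agent.Fischer.LocalSymThree

open Cfsg.Agent.Fischer Subgroup

variable {G : Type*} [Group G]

/-- The neighbours in the commuting graph. -/
def nb (D : Set G) (d : G) : Set G := {y | y ∈ D ∧ y ≠ d ∧ Commute d y}

theorem nb_symm {D : Set G} {x y : G} (hx : x ∈ D) (h : y ∈ nb D x) : x ∈ nb D y := ⟨hx, h.2.1.symm, h.2.2.symm⟩

/-- The hypotheses. -/
structure Hyp (D : Set G) : Prop where
  tset : IsThreeTranspositionSet D
  conj : ∀ g : G, ∀ d ∈ D, g * d * g⁻¹ ∈ D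
  sym : ∀ d ∈ D, Nonempty (↥(closure (nb D d)) ≃* Equiv.Perm (Fin 3))
  core : ∀ d ∈ D, Nat.card (Cfsg.pCore 3 ↥(centralizer ({d} : Set G))) = 3

/-- A `K₃,₃` in the commuting graph. -/
structure Frame (D : Set G) (d e a b : G) : Prop where
  d_mem : d ∈ D
  e_mem : e ∈ D
  nc : ¬ Commute d e
  ad : a ∈ nb D d
  bd : b ∈ nb D d
  ae : a ∈ nb D e
  be : b ∈ nb D e
  ab : a ≠ b

namespace Hyp

variable {D : Set G} (H : Hyp D)
include H

theorem sq {x : G} (hx : x ∈ D) : x * x = 1 := TSet.sq H.tset hx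

theorem inv {x : G} (hx : x ∈ D) : x⁻¹ = x := TSet.inv H.tset hx

theorem cancel {x : G} (hx : x ∈ D) (r : G) : x * (x * r) = r := by rw [← mul_assoc, H.sq hx, one_mul]

theorem sandwich {x y : G} (hy : y ∈ D) (hx : x ∈ D) : y * x * y ∈ D := by
  have := H.conj y x hx
  rwa [H.inv hy] at this

/-- Two distinct neighbours of a transposition do not commute and determine the third. -/
theorem local_pair {d a b : G} (hd : d ∈ D) (ha : a ∈ nb D d) (hb : b ∈ nb D d) (hab : a ≠ b) :
    ¬ Commute a b ∧ ∀ y ∈ nb D d, y = a ∨ y = b ∨ y = a * b * a := by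
  obtain ⟨e⟩ := H.sym d hd
  have key : ∀ s t : Equiv.Perm (Fin 3), s * s = 1 → s ≠ 1 → t * t = 1 → t ≠ 1 → s ≠ t →
      s * t ≠ t * s ∧ ∀ r : Equiv.Perm (Fin 3), r * r = 1 → r ≠ 1 → r = s ∨ r = t ∨ r = s * t * s := by decide
  have hmem : ∀ y ∈ nb D d, y ∈ closure (nb D d) := fun y hy => subset_closure hy
  have hinv : ∀ y (hy : y ∈ nb D d), e ⟨y, hmem y hy⟩ * e ⟨y, hmem y hy⟩ = 1 ∧ e ⟨y, hmem y hy⟩ ≠ 1 := by
    intro y hy
    refine ⟨?_, fun h => TSet.ne_one H.tset hy.1 (congrArg Subtype.val (e.injective (h.trans (map_one e).symm)))⟩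
    rw [← map_mul, ← map_one e]
    exact congrArg e (Subtype.ext (H.sq hy.1))
  obtain ⟨k1, k2⟩ := key _ _ (hinv a ha).1 (hinv a ha).2 (hinv b hb).1 (hinv b hb).2
    (fun h => hab (congrArg Subtype.val (e.injective h)))
  refine ⟨fun h => k1 (by rw [← map_mul, ← map_mul]; exact congrArg e (Subtype.ext h.eq)), fun y hy => ?_⟩
  rcases k2 _ (hinv y hy).1 (hinv y hy).2 with h | h | h
  · exact Or.inl (congrArg Subtype.val (e.injective h))
  · exact Or.inr (Or.inl (congrArg Subtype.val (e.injective h)))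
  · rw [← map_mul, ← map_mul] at h
    exact Or.inr (Or.inr (congrArg Subtype.val (e.injective h)))

theorem exists_two {d : G} (hd : d ∈ D) : ∃ a b, a ∈ nb D d ∧ b ∈ nb D d ∧ a ≠ b := by
  by_contra hne
  push_neg at hne
  obtain ⟨e⟩ := H.sym d hd
  have hcomm : ∀ x ∈ closure (nb D d), ∀ y ∈ closure (nb D d), x * y = y * x := by
    intro x hx y hy
    rcases Set.eq_empty_or_nonempty (nb D d) with h | ⟨a, ha⟩
    · rw [h, Subgroup.closure_empty, mem_bot] at hx
      rw [hx, one_mul, mul_one]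
    · have hle : closure (nb D d) ≤ zpowers a := by
        rw [closure_le]
        intro z hz
        rw [hne z a hz ha]
        exact mem_zpowers a
      obtain ⟨i, rfl⟩ := mem_zpowers_iff.1 (hle hx)
      obtain ⟨j, rfl⟩ := mem_zpowers_iff.1 (hle hy)
      exact (Commute.zpow_zpow_self a i j).eq
  have : ∀ s t : Equiv.Perm (Fin 3), s * t = t * s := fun s t => by
    rw [← e.apply_symm_apply s, ← e.apply_symm_apply t]
    refine (map_mul e _ _).symm.trans ((congrArg e (Subtype.ext ?_)).trans (map_mul e _ _))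
    exact hcomm _ (e.symm s).2 _ (e.symm t).2
  exact absurd (this (Equiv.swap 0 1) (Equiv.swap 1 2)) (by decide)

theorem nb_third {d a b : G} (hd : d ∈ D) (ha : a ∈ nb D d) (hb : b ∈ nb D d) (hab : a ≠ b) :
    a * b * a ∈ nb D d ∧ a * b * a ≠ a ∧ a * b * a ≠ b ∧ b * a * b = a * b * a := by
  obtain ⟨hnc, -⟩ := H.local_pair hd ha hb hab
  have hbr := TSet.braid H.tset ha.1 hb.1 hnc
  refine ⟨⟨H.sandwich ha.1 hb.1, fun h => ?_, (ha.2.2.mul_right hb.2.2).mul_right ha.2.2⟩, fun h => ?_, fun h => ?_,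
    hbr.symm⟩
  · refine hnc ?_
    have : b = a * d * a := by rw [← h]; simp only [mul_assoc, H.cancel ha.1, H.sq ha.1, mul_one]
    rw [this, mul_assoc, ha.2.2.eq, ← mul_assoc, H.sq ha.1, one_mul]
    exact ha.2.2.symm
  · refine hab ?_
    have : b = a * a * a := by
      calc b = a * (a * b * a) * a := by simp only [mul_assoc, H.cancel ha.1, H.sq ha.1, mul_one]
        _ = a * a * a := by rw [h]
    rw [this, H.sq ha.1, one_mul]
  · refine hnc ?_
    have := congrArg (· * a) h
    simp only [mul_assoc, H.sq ha.1, mul_one] at this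
    exact this

/-- The product of two commuting transpositions moves an outside transposition to a neighbour. -/
theorem push {x y g : G} (hx : x ∈ D) (hy : y ∈ nb D x) (hg : g ∈ D) (h1 : ¬ Commute g x) (h2 : ¬ Commute g y) :
    x * y * g * (y * x) ∈ nb D g := by
  have bx := TSet.braid H.tset hg hx h1
  have by' := TSet.braid H.tset hg hy.1 h2
  have hk : x * y * g * (y * x) = x * (y * g * y) * x := by simp only [mul_assoc]
  refine ⟨hk ▸ H.sandwich hx (H.sandwich hy.1 hg), fun h => ?_, ?_⟩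
  · have hc : Commute g (x * y) := by
      show g * (x * y) = x * y * g
      conv_lhs => rw [← h]
      simp only [mul_assoc, H.cancel hx, H.cancel hy.1, H.sq hx, H.sq hy.1, mul_one]
    exact h1 ((TSet.commute_mul_iff H.tset hx hy.1 hg hy.2.1.symm hy.2.2).1 hc).1
  · -- both sides equal `d g a g d`
    have e1 : g * (x * y * g * (y * x)) * g = x * y * g * (y * x) := by
      rw [hk, ← by']
      calc g * (x * (g * y * g) * x) * g = (g * x * g) * y * (g * x * g) := by simp only [mul_assoc]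
        _ = x * g * (x * y * x) * g * x := by rw [bx]; simp only [mul_assoc]
        _ = x * (g * y * g) * x := by
          rw [show x * y * x = y by rw [hy.2.2.eq, mul_assoc, H.sq hx, mul_one]]; simp only [mul_assoc]
    show g * _ = _ * g
    calc g * (x * y * g * (y * x)) = g * (x * y * g * (y * x)) * g * g := by
          simp only [mul_assoc, H.sq hg, mul_one]
      _ = _ := by rw [e1]

theorem frame_swap {d e a b : G} (F : Frame D d e a b) : Frame D a b d e where
  d_mem := F.ad.1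
  e_mem := F.bd.1
  nc := (H.local_pair F.d_mem F.ad F.bd F.ab).1
  ad := nb_symm F.d_mem F.ad
  bd := nb_symm F.e_mem F.ae
  ae := nb_symm F.d_mem F.bd
  be := nb_symm F.e_mem F.be
  ab := not_commute_ne F.nc

theorem frame_third {d e a b : G} (F : Frame D d e a b) :
    (∀ y ∈ nb D d, y = a ∨ y = b ∨ y = a * b * a) ∧ (∀ y ∈ nb D e, y = a ∨ y = b ∨ y = a * b * a) ∧
      (∀ y ∈ nb D (d * e * d), y = a ∨ y = b ∨ y = a * b * a) := by
  refine ⟨(H.local_pair F.d_mem F.ad F.bd F.ab).2, (H.local_pair F.e_mem F.ae F.be F.ab).2, ?_⟩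
  have F' := H.frame_swap F
  obtain ⟨hf, -, -, -⟩ := H.nb_third F.ad.1 F'.ad F'.bd F'.ab
  obtain ⟨hfb, -, -, -⟩ := H.nb_third F.bd.1 F'.ae F'.be F'.ab
  exact (H.local_pair hf.1 (nb_symm F.ad.1 hf) (nb_symm F.bd.1 hfb) F.ab).2

theorem frame_nb {d e a b : G} (F : Frame D d e a b) {x : G} (hx : x = d ∨ x = e ∨ x = d * e * d) :
    ∀ y ∈ nb D x, y = a ∨ y = b ∨ y = a * b * a := by
  obtain ⟨h1, h2, h3⟩ := H.frame_third F
  rcases hx with rfl | rfl | rfl <;> assumption

/-- The twisting element attached to an outside transposition. -/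
theorem exists_twist {d e a b : G} (F : Frame D d e a b) {g : G} (hg : g ∈ D)
    (hout : ∀ x, (x = d ∨ x = e ∨ x = d * e * d ∨ x = a ∨ x = b ∨ x = a * b * a) → ¬ Commute g x) :
    ∃ b', Frame D d e a b' ∧ Commute (e * d * (b' * a)) g := by
  have hnd := (H.local_pair F.d_mem F.ad F.bd F.ab).2
  obtain ⟨hc, hca, hcb, -⟩ := H.nb_third F.d_mem F.ad F.bd F.ab
  obtain ⟨hce, -, -, -⟩ := H.nb_third F.e_mem F.ae F.be F.ab
  have hN : ∀ y, (y = a ∨ y = b ∨ y = a * b * a) → y ∈ nb D e ∧ y ∈ nb D d := by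
    rintro y (rfl | rfl | rfl)
    exacts [⟨F.ae, F.ad⟩, ⟨F.be, F.bd⟩, ⟨hce, hc⟩]
  -- injectivity along either side
  have hinj : ∀ x, x ∈ D → ∀ y y', y ∈ D → y' ∈ D → ¬ Commute g y → ¬ Commute g y' →
      x * y * g * (y * x) = x * y' * g * (y' * x) → y = y' := by
    intro x hx y y' hy hy' n1 n2 h
    have h' := congrArg (fun t => x * t * x) h
    simp only [mul_assoc, H.cancel hx, H.sq hx, mul_one] at h'
    rw [← mul_assoc, ← mul_assoc, ← TSet.braid H.tset hg hy n1, ← TSet.braid H.tset hg hy' n2] at h'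
    exact mul_left_cancel (mul_right_cancel h')
  set n := d * a * g * (a * d) with hn
  have hgd : ¬ Commute g d := hout d (by simp)
  have hge : ¬ Commute g e := hout e (by simp)
  have hga : ¬ Commute g a := hout a (by simp)
  have hgy : ∀ y, (y = a ∨ y = b ∨ y = a * b * a) → ¬ Commute g y := fun y hy =>
    hout y (by rcases hy with h | h | h <;> simp [h])
  have hnN : n ∈ nb D g := H.push F.d_mem F.ad hg hgd hga
  set m : G → G := fun y => e * y * g * (y * e) with hm
  have hmN : ∀ y, (y = a ∨ y = b ∨ y = a * b * a) → m y ∈ nb D g := fun y hy =>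
    H.push F.e_mem (hN y hy).1 hg hge (hgy y hy)
  have hma : m a ≠ n := by
    intro h
    refine not_commute_ne F.nc ((hinj a F.ad.1 d e F.d_mem F.e_mem hgd hge ?_))
    calc a * d * g * (d * a) = d * a * g * (a * d) := by rw [F.ad.2.2.eq]
      _ = e * a * g * (a * e) := h.symm
      _ = a * e * g * (e * a) := by rw [F.ae.2.2.eq]
  have hmne : ∀ y y', (y = a ∨ y = b ∨ y = a * b * a) → (y' = a ∨ y' = b ∨ y' = a * b * a) → y ≠ y' → m y ≠ m y' :=
    fun y y' hy hy' hne h => hne (hinj e F.e_mem y y' (hN y hy).1.1 (hN y' hy').1.1 (hgy y hy) (hgy y' hy') h)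
  obtain ⟨y, hy, hye⟩ : ∃ y, (y = b ∨ y = a * b * a) ∧ m y = n := by
    rcases (H.local_pair hg (hmN a (by simp)) (hmN b (by simp)) (hmne a b (by simp) (by simp) F.ab)).2 n hnN with
      h | h | h
    · exact absurd h.symm hma
    · exact ⟨b, Or.inl rfl, h.symm⟩
    · refine ⟨_, Or.inr rfl, ?_⟩
      rcases (H.local_pair hg (hmN a (by simp)) (hmN b (by simp)) (hmne a b (by simp) (by simp) F.ab)).2 _
        (hmN (a * b * a) (by simp)) with h' | h' | h'
      · exact absurd h' (hmne _ _ (by simp) (by simp) hca)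
      · exact absurd h' (hmne _ _ (by simp) (by simp) hcb)
      · rw [h', h]
  have hy' : y = a ∨ y = b ∨ y = a * b * a := Or.inr hy
  have hya : a ≠ y := by rcases hy with rfl | rfl; exacts [F.ab, hca.symm]
  refine ⟨y, ⟨F.d_mem, F.e_mem, F.nc, F.ad, (hN y hy').2, F.ae, (hN y hy').1, hya⟩, ?_⟩
  have hw : e * d * (y * a) = e * y * (d * a) := by
    rw [mul_assoc e d, ← mul_assoc d y, (hN y hy').2.2.2.eq]; simp only [mul_assoc]
  have key : e * y * g * (y * e) = d * a * g * (a * d) := hye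
  have key' : g * (y * e) = y * e * (d * a * g * (a * d)) := by
    rw [← key]; simp only [mul_assoc, H.cancel F.e_mem, H.cancel (hN y hy').1.1]
  rw [hw]
  show e * y * (d * a) * g = g * (e * y * (d * a))
  symm
  calc g * (e * y * (d * a)) = g * (y * e) * (d * a) := by rw [(hN y hy').1.2.2.eq]; simp only [mul_assoc]
    _ = y * e * (d * a) * g := by
      rw [key']; simp only [mul_assoc, H.cancel F.d_mem, H.sq F.ad.1, mul_one]
    _ = e * y * (d * a) * g := by rw [(hN y hy').1.2.2.eq]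

theorem twist_cases {d e a b : G} (F : Frame D d e a b) {g : G} (hg : g ∈ D)
    (hout : ∀ x, (x = d ∨ x = e ∨ x = d * e * d ∨ x = a ∨ x = b ∨ x = a * b * a) → ¬ Commute g x) :
    ∃ b', Frame D d e a b' ∧ Commute (e * d * (b' * a)) g ∧
      Commute (d * e * (b' * a)) (g * d * g) ∧ Commute (d * e * (b' * a)) (g * a * g) ∧
      (∀ y ∈ nb D g, ∀ z ∈ nb D g, Commute (d * e * (b' * a)) (y * z)) ∧
      (∀ y ∈ nb D g, Commute (e * d * (b' * a)) y) := by
  obtain ⟨b', F', hw⟩ := H.exists_twist F hg hout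
  have hde : ∀ y, y ∈ nb D d → y ∈ nb D e → Commute (d * e) y := fun y h1 h2 => h1.2.2.mul_left h2.2.2
  have hconj : d * (e * d * (b' * a)) * d = d * e * (b' * a) := by
    have : Commute d (b' * a) := F'.bd.2.2.mul_right F'.ad.2.2
    calc d * (e * d * (b' * a)) * d = d * e * (d * (b' * a)) * d := by simp only [mul_assoc]
      _ = d * e * (b' * a) := by rw [this.eq]; simp only [mul_assoc, H.sq F.d_mem, mul_one]
  have hgd : ¬ Commute g d := hout d (by simp)
  have hga : ¬ Commute g a := hout a (by simp)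
  -- the twisting element is inverted by every `d * y`, `y` a neighbour of `d`
  have hinv : ∀ y ∈ nb D d, d * y * (e * d * (b' * a)) * (y * d) = (e * d * (b' * a))⁻¹ := by
    intro y hy
    have hyy := (H.local_pair F'.d_mem F'.ad F'.bd F'.ab).2 y hy
    obtain ⟨ht, -, -, hbr⟩ := H.nb_third F'.d_mem F'.ad F'.bd F'.ab
    obtain ⟨hte, -, -, -⟩ := H.nb_third F'.e_mem F'.ae F'.be F'.ab
    have hye : y ∈ nb D e := by rcases hyy with rfl | rfl | rfl; exacts [F'.ae, F'.be, hte]
    have hYba : y * (b' * a) * y = a * b' := by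
      rcases hyy with rfl | rfl | rfl
      · simp only [mul_assoc, H.sq F'.ad.1, mul_one]
      · simp only [mul_assoc, H.cancel F'.bd.1]
      · calc a * b' * a * (b' * a) * (a * b' * a) = a * b' * a * b' * b' * a := by
              simp only [mul_assoc, H.cancel F'.ad.1]
          _ = a * b' := by simp only [mul_assoc, H.cancel F'.bd.1, H.sq F'.ad.1, mul_one]
    calc d * y * (e * d * (b' * a)) * (y * d) = d * (y * (e * d)) * (b' * a) * y * d := by simp only [mul_assoc]
      _ = d * (e * d) * (y * (b' * a) * y) * d := by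
        rw [(show Commute y (e * d) from hye.2.2.symm.mul_right hy.2.2.symm).eq]
        simp only [mul_assoc]
      _ = d * e * (d * (a * b') * d) := by rw [hYba]; simp only [mul_assoc]
      _ = d * e * (a * b') := by
        rw [(F'.ad.2.2.mul_right F'.bd.2.2).eq, mul_assoc (a * b') d d, H.sq F.d_mem, mul_one]
      _ = (e * d * (b' * a))⁻¹ := by
        rw [_root_.mul_inv_rev, _root_.mul_inv_rev, _root_.mul_inv_rev, H.inv F.d_mem, H.inv F.e_mem, H.inv F'.ad.1,
          H.inv F'.bd.1]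
        exact ((hde _ F'.ad F'.ae).mul_right (hde _ F'.bd F'.be)).eq
  have hwN : ∀ y ∈ nb D g, Commute (e * d * (b' * a)) y := by
    -- the three images `d * y * g * y * d` exhaust the neighbours
    obtain ⟨hnd, hna, -⟩ : (∀ y ∈ nb D d, y = a ∨ y = b' ∨ y = a * b' * a) ∧ a ∈ nb D d ∧ b' ∈ nb D d :=
      ⟨(H.local_pair F'.d_mem F'.ad F'.bd F'.ab).2, F'.ad, F'.bd⟩
    have hgy : ∀ y ∈ nb D d, ¬ Commute g y := fun y hy => hout y (by
      rcases (H.local_pair F.d_mem F.ad F.bd F.ab).2 y hy with h | h | h <;> simp [h])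
    have hmem : ∀ y ∈ nb D d, Commute (e * d * (b' * a)) (d * y * g * (y * d)) := by
      intro y hy
      have h1 : Commute (d * y * (e * d * (b' * a)) * (y * d)) (d * y * g * (y * d)) := by
        have := hw.map (MulAut.conj (d * y)).toMonoidHom
        simp only [MulEquiv.coe_toMonoidHom, MulAut.conj_apply, _root_.mul_inv_rev, H.inv F.d_mem, H.inv hy.1] at this
        exact this
      rw [hinv y hy] at h1
      exact Commute.inv_left_iff.1 h1
    have hne : d * a * g * (a * d) ≠ d * b' * g * (b' * d) := by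
      intro h
      refine F'.ab ?_
      have h' := congrArg (fun t => d * t * d) h
      simp only [mul_assoc, H.cancel F.d_mem, H.sq F.d_mem, mul_one] at h'
      rw [← mul_assoc, ← mul_assoc, ← TSet.braid H.tset hg F'.ad.1 hga,
        ← TSet.braid H.tset hg F'.bd.1 (hgy b' F'.bd)] at h'
      exact mul_left_cancel (mul_right_cancel h')
    intro y hy
    rcases (H.local_pair hg (H.push F.d_mem F'.ad hg hgd hga)
      (H.push F.d_mem F'.bd hg hgd (hgy b' F'.bd)) hne).2 y hy with h | h | h <;> rw [h]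
    · exact hmem a F'.ad
    · exact hmem b' F'.bd
    · exact ((hmem a F'.ad).mul_right (hmem b' F'.bd)).mul_right (hmem a F'.ad)
  refine ⟨b', F', hw, ?_, ?_, ?_, hwN⟩
  · rw [TSet.braid H.tset hg F.d_mem hgd, ← hconj]
    have := hw.map (MulAut.conj d).toMonoidHom
    simpa [H.inv F.d_mem] using this
  · rw [TSet.braid H.tset hg F.ad.1 hga, ← hconj]
    have := (hwN _ (H.push F.d_mem F.ad hg hgd hga)).map (MulAut.conj d).toMonoidHom
    simp only [MulEquiv.coe_toMonoidHom, MulAut.conj_apply, H.inv F.d_mem] at this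
    convert this using 1
    simp only [mul_assoc, H.cancel F.d_mem, H.sq F.d_mem, mul_one]
  · -- both lie in the conjugate of an abelian group by `d * g`
    intro y hy z hz
    have hdgd : d * g * d * (g * d) = g := by
      rw [show d * g * d = g * d * g from (TSet.braid H.tset hg F.d_mem hgd).symm]
      simp only [mul_assoc, H.cancel hg, H.sq F.d_mem, mul_one]
    have hgwg : d * g * (e * d * (b' * a)) * (g * d) = d * e * (b' * a) := by
      rw [mul_assoc d g, ← hw.eq, ← hconj]
      simp only [mul_assoc, H.cancel hg]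
    have hpull : ∀ t ∈ nb D g, g * d * t * (d * g) ∈ nb D d := by
      intro t ht
      have hdg : (d * g)⁻¹ = g * d := by rw [_root_.mul_inv_rev, H.inv F.d_mem, H.inv hg]
      have hgd' : g * d * g * (d * g) = d := by
        rw [TSet.braid H.tset hg F.d_mem hgd]
        simp only [mul_assoc, H.cancel F.d_mem, H.sq hg, mul_one]
      refine ⟨?_, fun h => ht.2.1 ?_, ?_⟩
      · have := H.conj (g * d) t ht.1
        rwa [_root_.mul_inv_rev, H.inv F.d_mem, H.inv hg] at this
      · have := congrArg (fun u => d * g * u * (g * d)) h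
        simpa only [mul_assoc, H.cancel hg, H.cancel F.d_mem, H.sq hg, H.sq F.d_mem, mul_one] using
          (this.trans hdgd)
      · have := ht.2.2.map (MulAut.conj (g * d)).toMonoidHom
        simp only [MulEquiv.coe_toMonoidHom, MulAut.conj_apply, _root_.mul_inv_rev, H.inv F.d_mem, H.inv hg] at this
        rwa [hgd'] at this
    have hye : ∀ u ∈ nb D d, u ∈ nb D e := fun u hu => by
      obtain ⟨hte, -, -, -⟩ := H.nb_third F'.e_mem F'.ae F'.be F'.ab
      rcases (H.local_pair F'.d_mem F'.ad F'.bd F'.ab).2 u hu with rfl | rfl | rfl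
      exacts [F'.ae, F'.be, hte]
    have hc3 := TSet.cube H.tset F'.ad.1 F'.bd.1 (H.local_pair F'.d_mem F'.ad F'.bd F'.ab).1
    have hpow : ∀ u ∈ nb D d, ∀ v ∈ nb D d, u * v ∈ zpowers (b' * a) := by
      intro u hu v hv
      have hall : ∀ u ∈ nb D d, a * u ∈ zpowers (b' * a) ∧ u * a ∈ zpowers (b' * a) := by
        intro u hu
        have hba : a * b' = (b' * a)⁻¹ := by rw [_root_.mul_inv_rev, H.inv F'.bd.1, H.inv F'.ad.1]
        rcases (H.local_pair F'.d_mem F'.ad F'.bd F'.ab).2 u hu with rfl | rfl | rfl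
        · rw [H.sq F'.ad.1]; exact ⟨one_mem _, one_mem _⟩
        · rw [hba]; exact ⟨inv_mem (mem_zpowers _), mem_zpowers _⟩
        · simp only [mul_assoc, H.cancel F'.ad.1, H.sq F'.ad.1, mul_one]
          rw [hba]; exact ⟨mem_zpowers _, inv_mem (mem_zpowers _)⟩
      have := mul_mem (hall u hu).2 (hall v hv).1
      simpa only [mul_assoc, H.cancel F'.ad.1] using this
    obtain ⟨i, hi⟩ := mem_zpowers_iff.1 (hpow _ (hpull y hy) _ (hpull z hz))
    have h1 : Commute (e * d * (b' * a)) ((b' * a) ^ i) := by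
      refine Commute.zpow_right ?_ i
      exact (((hye _ F'.bd).2.2.mul_left F'.bd.2.2).mul_right ((hye _ F'.ad).2.2.mul_left F'.ad.2.2)).mul_left
        (Commute.refl _)
    rw [hi] at h1
    have := h1.map (MulAut.conj (d * g)).toMonoidHom
    simp only [MulEquiv.coe_toMonoidHom, MulAut.conj_apply, _root_.mul_inv_rev, H.inv F.d_mem, H.inv hg] at this
    rw [hgwg] at this
    convert this using 1
    simp only [mul_assoc, H.cancel hg, H.cancel F.d_mem, H.sq F.d_mem, H.sq hg, mul_one]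

theorem frame_commute {d e a b : G} (F : Frame D d e a b) {g : G} (hg : g ∈ D) :
    ∀ y ∈ nb D g, ∀ z ∈ nb D g, Commute (a * b) (y * z) := by
  have F' := H.frame_swap F
  have hP : ∀ x, (x = d ∨ x = e ∨ x = d * e * d) → Commute (a * b) x := by
    rintro x (rfl | rfl | rfl)
    · exact F.ad.2.2.symm.mul_left F.bd.2.2.symm
    · exact F.ae.2.2.symm.mul_left F.be.2.2.symm
    · exact ((F.ad.2.2.symm.mul_left F.bd.2.2.symm).mul_right (F.ae.2.2.symm.mul_left F.be.2.2.symm)).mul_right
        (F.ad.2.2.symm.mul_left F.bd.2.2.symm)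
  have hab2 : ∀ u v, (u = a ∨ u = b ∨ u = a * b * a) → (v = a ∨ v = b ∨ v = a * b * a) → u * v ∈ zpowers (a * b) := by
    have hba : b * a = (a * b)⁻¹ := by rw [_root_.mul_inv_rev, H.inv F.bd.1, H.inv F.ad.1]
    have hall : ∀ u, (u = a ∨ u = b ∨ u = a * b * a) → a * u ∈ zpowers (a * b) ∧ u * a ∈ zpowers (a * b) := by
      rintro u (rfl | rfl | rfl)
      · rw [H.sq F.ad.1]; exact ⟨one_mem _, one_mem _⟩
      · rw [hba]; exact ⟨mem_zpowers _, inv_mem (mem_zpowers _)⟩
      · simp only [mul_assoc, H.cancel F.ad.1, H.sq F.ad.1, mul_one]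
        rw [hba]; exact ⟨inv_mem (mem_zpowers _), mem_zpowers _⟩
    intro u v hu hv
    have := mul_mem (hall u hu).2 (hall v hv).1
    simpa only [mul_assoc, H.cancel F.ad.1] using this
  intro y hy z hz
  by_cases hin : ∃ x, (x = d ∨ x = e ∨ x = d * e * d ∨ x = a ∨ x = b ∨ x = a * b * a) ∧ Commute g x
  · obtain ⟨x, hx, hgx⟩ := hin
    have hgS : g = d ∨ g = e ∨ g = d * e * d ∨ g = a ∨ g = b ∨ g = a * b * a := by
      by_cases h : g = x
      · rw [h]; exact hx
      have hxD : x ∈ D := by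
        rcases hx with rfl | rfl | rfl | rfl | rfl | rfl
        exacts [F.d_mem, F.e_mem, H.sandwich F.d_mem F.e_mem, F.ad.1, F.bd.1, H.sandwich F.ad.1 F.bd.1]
      have hgN : g ∈ nb D x := ⟨hg, h, hgx.symm⟩
      rcases hx with hx | hx | hx | hx | hx | hx
      · exact Or.inr (Or.inr (Or.inr (H.frame_nb F (Or.inl hx) g hgN)))
      · exact Or.inr (Or.inr (Or.inr (H.frame_nb F (Or.inr (Or.inl hx)) g hgN)))
      · exact Or.inr (Or.inr (Or.inr (H.frame_nb F (Or.inr (Or.inr hx)) g hgN)))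
      all_goals
        rcases H.frame_nb F' (by simp [hx]) g hgN with h | h | h
        exacts [Or.inl h, Or.inr (Or.inl h), Or.inr (Or.inr (Or.inl h))]
    rcases hgS with h | h | h | h | h | h
    iterate 3
      obtain ⟨i, hi⟩ := mem_zpowers_iff.1 (hab2 y z (H.frame_nb F (by simp [h]) y hy) (H.frame_nb F (by simp [h]) z hz))
      rw [← hi]; exact (Commute.refl _).zpow_right i
    all_goals
      exact (hP y (H.frame_nb F' (by simp [h]) y hy)).mul_right (hP z (H.frame_nb F' (by simp [h]) z hz))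
  · push_neg at hin
    obtain ⟨b', F1, hw, -, -, hw', hwN⟩ := H.twist_cases F hg hin
    -- `w * w'` is a non-trivial power of `a * b`
    have hprod : e * d * (b' * a) * (d * e * (b' * a)) = a * b' := by
      have hc : Commute (b' * a) (d * e) :=
        (F1.bd.2.2.symm.mul_right F1.be.2.2.symm).mul_left (F1.ad.2.2.symm.mul_right F1.ae.2.2.symm)
      calc e * d * (b' * a) * (d * e * (b' * a)) = e * d * ((b' * a) * (d * e)) * (b' * a) := by simp only [mul_assoc]
        _ = (b' * a) * (b' * a) := by rw [hc.eq]; simp only [mul_assoc, H.cancel F.d_mem, H.cancel F.e_mem]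
        _ = (b' * a)⁻¹ := by
          refine eq_inv_of_mul_eq_one_left ?_
          rw [← pow_two, ← pow_succ]
          exact TSet.cube H.tset F1.bd.1 F1.ad.1 (fun h => (H.local_pair F1.d_mem F1.ad F1.bd F1.ab).1 h.symm)
        _ = a * b' := by rw [_root_.mul_inv_rev, H.inv F1.bd.1, H.inv F1.ad.1]
    have hc' : Commute (a * b') (y * z) := hprod ▸ (((hwN y hy).mul_right (hwN z hz)).mul_left (hw' y hy z hz))
    rcases (H.local_pair F.d_mem F.ad F.bd F.ab).2 b' F1.bd with h | h | h
    · exact absurd h.symm F1.ab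
    · rwa [h] at hc'
    · have hab : a * b = (a * b')⁻¹ := by
        rw [h, _root_.mul_inv_rev, H.inv F.ad.1, H.inv (H.sandwich F.ad.1 F.bd.1)]
        simp only [mul_assoc, H.sq F.ad.1, mul_one]
      rw [hab]
      exact hc'.inv_left

variable [Finite G]

/-- A frame contains all transpositions. -/
theorem frame_all {d e a b : G} (F : Frame D d e a b) :
    ∀ g ∈ D, g = d ∨ g = e ∨ g = d * e * d ∨ g = a ∨ g = b ∨ g = a * b * a := by
  haveI : Fact (Nat.Prime 3) := ⟨Nat.prime_three⟩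
  intro g hg
  by_contra hgS
  have F' := H.frame_swap F
  have hout : ∀ x, (x = d ∨ x = e ∨ x = d * e * d ∨ x = a ∨ x = b ∨ x = a * b * a) → ¬ Commute g x := by
    intro x hx hgx
    have hgN : g ∈ nb D x := ⟨hg, fun h => hgS (h ▸ hx), hgx.symm⟩
    rcases hx with hx | hx | hx | hx | hx | hx
    · rcases H.frame_nb F (Or.inl hx) g hgN with h | h | h <;> exact hgS (by simp [h])
    · rcases H.frame_nb F (Or.inr (Or.inl hx)) g hgN with h | h | h <;> exact hgS (by simp [h])
    · rcases H.frame_nb F (Or.inr (Or.inr hx)) g hgN with h | h | h <;> exact hgS (by simp [h])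
    all_goals rcases H.frame_nb F' (by simp [hx]) g hgN with h | h | h <;> exact hgS (by simp [h])
  obtain ⟨b', F1, -, hw1, hw2, -, -⟩ := H.twist_cases F hg hout
  have F1' := H.frame_swap F1
  -- the abelian normal subgroup
  set X : Set G := {t | ∃ k : G, t = k * (a * b') * k⁻¹ ∨ t = k * (d * e) * k⁻¹} with hX
  set A := closure X with hA
  have hnb : ∀ (k x y : G), y ∈ nb D x → k * y * k⁻¹ ∈ nb D (k * x * k⁻¹) := fun k x y hy =>
    ⟨H.conj k y hy.1, fun h => hy.2.1 (by simpa using h), (commute_conj_iff k x y).2 hy.2.2⟩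
  have hpair : ∀ {d' e' a' b' : G}, Frame D d' e' a' b' → ∀ k : G, ∀ {d'' e'' a'' b'' : G},
      Frame D d'' e'' a'' b'' → Commute (a' * b') (k * (a'' * b'') * k⁻¹) := by
    intro d' e' a' b' F₁ k d'' e'' a'' b'' F₂
    rw [show k * (a'' * b'') * k⁻¹ = (k * a'' * k⁻¹) * (k * b'' * k⁻¹) by group]
    exact H.frame_commute F₁ (H.conj k _ F₂.d_mem) _ (hnb k _ _ F₂.ad) _ (hnb k _ _ F₂.bd)
  have hXcomm : ∀ s ∈ X, ∀ t ∈ X, s * t = t * s := by
    have key : ∀ {u v k l : G}, Commute u (k⁻¹ * l * v * (k⁻¹ * l)⁻¹) →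
        (k * u * k⁻¹) * (l * v * l⁻¹) = (l * v * l⁻¹) * (k * u * k⁻¹) := by
      intro u v k l h
      have := h.map (MulAut.conj k).toMonoidHom
      simp only [MulEquiv.coe_toMonoidHom, MulAut.conj_apply] at this
      rw [show k * (k⁻¹ * l * v * (k⁻¹ * l)⁻¹) * k⁻¹ = l * v * l⁻¹ by group] at this
      exact this.eq
    rintro _ ⟨k, rfl | rfl⟩ _ ⟨l, rfl | rfl⟩
    exacts [key (hpair F1 _ F1), key (hpair F1 _ F1'), key (hpair F1' _ F1), key (hpair F1' _ F1')]
  haveI : IsMulCommutative A := Subgroup.isMulCommutative_closure hXcomm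
  have hAn : A.Normal := by
    refine ⟨fun x hx k => ?_⟩
    have hle : A ≤ A.comap (MulAut.conj k).toMonoidHom := by
      rw [hA, closure_le]
      rintro _ ⟨l, h | h⟩ <;> refine subset_closure ⟨k * l, ?_⟩
      · left; simp only [MulEquiv.coe_toMonoidHom, MulAut.conj_apply, h]; group
      · right; simp only [MulEquiv.coe_toMonoidHom, MulAut.conj_apply, h]; group
    exact hle hx
  have hA3 : ∀ x ∈ A, x ^ 3 = 1 := by
    intro x hx
    induction hx using Subgroup.closure_induction with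
    | mem t ht =>
      obtain ⟨k, rfl | rfl⟩ := ht
      · rw [conj_pow, TSet.cube H.tset F1.ad.1 F1.bd.1 (H.local_pair F1.d_mem F1.ad F1.bd F1.ab).1, mul_one,
          mul_inv_cancel]
      · rw [conj_pow, TSet.cube H.tset F.d_mem F.e_mem F.nc, mul_one, mul_inv_cancel]
    | one => exact one_pow 3
    | mul x y hx hy ix iy =>
      have hxy : Commute x y := congrArg Subtype.val (mul_comm' (⟨x, hx⟩ : A) ⟨y, hy⟩)
      rw [hxy.mul_pow, ix, iy, one_mul]
    | inv x _ ix => rw [inv_pow, ix, inv_one]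
  -- the trace of `A` in the centralizer of `d`
  set C := centralizer ({d} : Set G)
  have hsub : A.subgroupOf C ≤ Cfsg.pCore 3 ↥C :=
    le_sSup (show A.subgroupOf C ∈ {N : Subgroup C | N.Normal ∧ IsPGroup 3 N} from
      ⟨hAn.subgroupOf C, fun x => ⟨1, Subtype.ext (Subtype.ext (by
        simp only [SubgroupClass.coe_pow, pow_one]
        exact hA3 _ x.2))⟩⟩)
  have habA : a * b' ∈ A := subset_closure ⟨1, Or.inl (by group)⟩
  have habC : a * b' ∈ C := mem_centralizer_iff.2 fun y hy => by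
    rw [Set.mem_singleton_iff.1 hy]
    exact (F1.ad.2.2.mul_right F1.bd.2.2).eq
  have hab3 := TSet.orderOf_mul_eq_three H.tset F1.ad.1 F1.bd.1 (H.local_pair F1.d_mem F1.ad F1.bd F1.ab).1
  have hcore : zpowers (⟨a * b', habC⟩ : C) = Cfsg.pCore 3 ↥C := by
    refine eq_of_le_of_card_ge (zpowers_le.2 (hsub (mem_subgroupOf.2 habA))) ?_
    rw [H.core d F.d_mem, Nat.card_zpowers, Subgroup.orderOf_mk, hab3]
  set t := g * (d * e * (b' * a)) * g with ht
  have htA : t ∈ A := by
    have h1 : d * e * (b' * a) ∈ A := by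
      refine mul_mem (subset_closure ⟨1, Or.inr (by group)⟩) ?_
      have := inv_mem habA
      rwa [_root_.mul_inv_rev, H.inv F1.ad.1, H.inv F1.bd.1] at this
    have := hAn.conj_mem _ h1 g
    rwa [H.inv hg] at this
  have htd : Commute t d := by
    have := hw1.map (MulAut.conj g).toMonoidHom
    simpa [H.inv hg, ht, mul_assoc, H.cancel hg, H.sq hg] using this
  have hta : Commute t a := by
    have := hw2.map (MulAut.conj g).toMonoidHom
    simpa [H.inv hg, ht, mul_assoc, H.cancel hg, H.sq hg] using this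
  have htC : t ∈ C := mem_centralizer_iff.2 fun y hy => by rw [Set.mem_singleton_iff.1 hy]; exact htd.symm.eq
  obtain ⟨i, hi⟩ := mem_zpowers_iff.1 (hcore.symm ▸ hsub (mem_subgroupOf.2 (show ((⟨t, htC⟩ : C) : G) ∈ A from htA)))
  have hi' : (a * b') ^ i = t := congrArg Subtype.val hi
  have ht1 : t = 1 := by
    by_contra hne
    have hgen : a * b' ∈ zpowers t := by
      have hle : zpowers t ≤ zpowers (a * b') := zpowers_le.2 ⟨i, hi'⟩
      rw [eq_of_le_of_card_ge hle ?_]
      · exact mem_zpowers _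
      rw [Nat.card_zpowers, Nat.card_zpowers, hab3,
        orderOf_eq_prime (hA3 t htA) hne]
    obtain ⟨j, hj⟩ := mem_zpowers_iff.1 hgen
    refine (H.local_pair F1.d_mem F1.ad F1.bd F1.ab).1 ?_
    have h' : Commute (a * b') a := hj ▸ hta.zpow_left j
    have := h'.eq
    rw [mul_assoc] at this
    exact (mul_left_cancel this).symm
  refine F.nc ?_
  have hde : d * e = a * b' := by
    have h1 : d * e * (b' * a) = 1 := by
      have := congrArg (fun u => g * u * g) ht1
      simpa [ht, mul_assoc, H.cancel hg, H.sq hg] using this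
    rw [eq_inv_of_mul_eq_one_left h1, _root_.mul_inv_rev, H.inv F1.ad.1, H.inv F1.bd.1]
  show d * e = e * d
  have hc : d * (d * e) = d * e * d := by rw [hde]; exact (F1.ad.2.2.mul_right F1.bd.2.2).eq
  rw [H.cancel F.d_mem] at hc
  calc d * e = d * (d * e * d) := by rw [← hc]
    _ = e * d := by simp only [mul_assoc, H.cancel F.d_mem]

/-- A frame generates a product of two symmetric groups. -/
theorem frame_iso {d e a b : G} (F : Frame D d e a b) :
    Nonempty (closure D ≃* Equiv.Perm (Fin 3) × Equiv.Perm (Fin 3)) := by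
  have F' := H.frame_swap F
  have hall := H.frame_all F
  obtain ⟨hc, -, -, -⟩ := H.nb_third F.d_mem F.ad F.bd F.ab
  obtain ⟨hf, -, -, -⟩ := H.nb_third F'.d_mem F'.ad F'.bd F'.ab
  have hQ : ∀ y, (y = a ∨ y = b ∨ y = a * b * a) → y ∈ nb D d := by rintro y (rfl | rfl | rfl); exacts [F.ad, F.bd, hc]
  have hP : ∀ x, (x = d ∨ x = e ∨ x = d * e * d) → x ∈ nb D a := by
    rintro x (rfl | rfl | rfl); exacts [F'.ad, F'.bd, hf]
  obtain ⟨e₁⟩ := H.sym a F.ad.1
  obtain ⟨e₂⟩ := H.sym d F.d_mem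
  have hcomm : ∀ x ∈ closure (nb D a), ∀ y ∈ closure (nb D d), Commute x y := by
    have hd1 : ∀ x ∈ nb D a, ∀ y ∈ nb D d, Commute x y := by
      intro x hx y hy
      have hxP := H.frame_nb F' (Or.inl rfl) x hx
      have hyQ := H.frame_nb F (Or.inl rfl) y hy
      by_cases hxy : x = y
      · rw [hxy]
      have hxd : Commute x a := hx.2.2.symm
      rcases hyQ with rfl | rfl | rfl
      · exact hxd
      · rcases hxP with rfl | rfl | rfl
        exacts [F.bd.2.2, F.be.2.2, (F.bd.2.2.mul_left F.be.2.2).mul_left F.bd.2.2]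
      · have hxb : Commute x b := by
          rcases hxP with rfl | rfl | rfl
          exacts [F.bd.2.2, F.be.2.2, (F.bd.2.2.mul_left F.be.2.2).mul_left F.bd.2.2]
        exact (hxd.mul_right hxb).mul_right hxd
    intro x hx y hy
    have h1 : closure (nb D a) ≤ centralizer (nb D d) := (closure_le _).2 fun u hu =>
      mem_centralizer_iff.2 fun v hv => (hd1 u hu v hv).symm.eq
    have h2 : closure (nb D d) ≤ centralizer {x} := (closure_le _).2 fun v hv =>
      mem_centralizer_iff.2 fun u hu => by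
        rw [Set.mem_singleton_iff.1 hu]; exact (mem_centralizer_iff.1 (h1 hx) v hv).symm
    exact (mem_centralizer_iff.1 (h2 hy) x rfl)
  let φ : closure (nb D a) × closure (nb D d) →* G :=
    MonoidHom.noncommCoprod (closure (nb D a)).subtype (closure (nb D d)).subtype
      fun x y => hcomm _ x.2 _ y.2
  have hφ : Function.Injective φ := by
    rw [← MonoidHom.ker_eq_bot_iff, eq_bot_iff_forall]
    rintro ⟨⟨x, hx⟩, ⟨y, hy⟩⟩ h
    have h' : x * y = 1 := h
    have hxy : x = y⁻¹ := eq_inv_of_mul_eq_one_left h'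
    have hcent : ∀ z : closure (nb D a), ⟨x, hx⟩ * z = z * (⟨x, hx⟩ : closure (nb D a)) := fun z =>
      Subtype.ext (by
        show x * (z : G) = (z : G) * x
        rw [hxy]
        exact ((hcomm _ z.2 _ hy).inv_right).symm.eq)
    have key : ∀ s : Equiv.Perm (Fin 3), (∀ r, s * r = r * s) → s = 1 := by decide
    have hx1 : (⟨x, hx⟩ : closure (nb D a)) = 1 := e₁.injective <| (key (e₁ ⟨x, hx⟩) fun r => by
      rw [← e₁.apply_symm_apply r, ← map_mul, ← map_mul, hcent]).trans (map_one e₁).symm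
    have hx1' : x = 1 := congrArg Subtype.val hx1
    refine Prod.ext hx1 (Subtype.ext ?_)
    rw [hx1', one_mul] at h'
    exact h'
  have hrange : φ.range = closure D := by
    rw [show φ.range = closure (nb D a) ⊔ closure (nb D d) from le_antisymm
      (by rintro _ ⟨⟨u, v⟩, rfl⟩; exact mul_mem (mem_sup_left u.2) (mem_sup_right v.2))
      (sup_le (fun u hu => ⟨(⟨u, hu⟩, 1), mul_one u⟩) (fun v hv => ⟨(1, ⟨v, hv⟩), one_mul v⟩))]
    refine le_antisymm (sup_le (closure_mono fun u hu => hu.1) (closure_mono fun u hu => hu.1)) ((closure_le _).2 ?_)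
    intro g hg
    rcases hall g hg with h | h | h | h | h | h
    iterate 3 exact mem_sup_left (subset_closure (hP g (by simp [h])))
    all_goals exact mem_sup_right (subset_closure (hQ g (by simp [h])))
  exact ⟨((MonoidHom.ofInjective hφ).trans (MulEquiv.subgroupCongr hrange)).symm.trans (e₁.prodCongr e₂)⟩

/-- Without a frame the group is the symmetric group of degree five. -/
theorem petersen_iso (hne : D.Nonempty) (hno : ∀ d e a b, ¬ Frame D d e a b) :
    Nonempty (closure D ≃* Equiv.Perm (Fin 5)) := by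
  obtain ⟨d, hd⟩ := hne
  obtain ⟨a, b, ha, hb, hab⟩ := H.exists_two hd
  obtain ⟨x, hx, hxd⟩ : ∃ x ∈ nb D b, x ≠ d := by
    obtain ⟨p, q, hp, hq, hpq⟩ := H.exists_two hb.1
    by_cases h : p = d
    · exact ⟨q, hq, fun h' => hpq (h.trans h'.symm)⟩
    · exact ⟨p, hp, h⟩
  have hdb := nb_symm hd hb
  have hxd' : ¬ Commute d x := (H.local_pair hb.1 hdb hx (Ne.symm hxd)).1
  have hab' : ¬ Commute a b := (H.local_pair hd ha hb hab).1
  have hxa : ¬ Commute x a := by
    intro h
    by_cases hxa : x = a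
    · exact hab' (hxa ▸ hx.2.2.symm)
    exact hno d x a b ⟨hd, hx.1, hxd', ha, hb, ⟨ha.1, Ne.symm hxa, h⟩, nb_symm hb.1 hx, hab⟩
  let s : ℕ → G := fun i => [d, x, a, b].getD i 1
  have hR : SymCoxeter.Rels s 4 := by
    refine ⟨fun i hi => ?_, fun i hi => ?_, fun i j hij hj => ?_⟩
    · interval_cases i
      exacts [H.sq hd, H.sq hx.1, H.sq ha.1, H.sq hb.1]
    · have : i < 3 := by omega
      interval_cases i
      exacts [TSet.braid H.tset hd hx.1 hxd', TSet.braid H.tset hx.1 ha.1 hxa, TSet.braid H.tset ha.1 hb.1 hab']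
    · obtain ⟨rfl, rfl⟩ | ⟨rfl, rfl⟩ | ⟨rfl, rfl⟩ : (i = 0 ∧ j = 2) ∨ (i = 0 ∧ j = 3) ∨ (i = 1 ∧ j = 3) := by omega
      exacts [ha.2.2.eq, hb.2.2.eq, hx.2.2.symm.eq]
  obtain ⟨φ, hφ, hrange⟩ := SymCoxeter.exists_hom 4 s hR
  have e0 : φ (Equiv.swap 0 1) = d := hφ 0 (by norm_num)
  have e1 : φ (Equiv.swap 1 2) = x := hφ 1 (by norm_num)
  -- injectivity
  have hinj : Function.Injective φ := by
    rw [← MonoidHom.ker_eq_bot_iff, eq_bot_iff_forall]
    haveI := alternatingGroup.isSimpleGroup_five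
    rcases (inferInstance : (φ.ker.subgroupOf (alternatingGroup (Fin 5))).Normal).eq_bot_or_eq_top with hK | hK
    · intro σ hσ
      have hc : ∀ τ : Equiv.Perm (Fin 5), σ * τ = τ * σ := by
        intro τ
        have hmem : σ * τ * σ⁻¹ * τ⁻¹ ∈ alternatingGroup (Fin 5) := by
          rw [Equiv.Perm.mem_alternatingGroup]
          simp [map_mul, map_inv, mul_comm, mul_left_comm]
        have hker : σ * τ * σ⁻¹ * τ⁻¹ ∈ φ.ker := by
          rw [MonoidHom.mem_ker, map_mul, map_mul, map_mul, map_inv, map_inv, MonoidHom.mem_ker.1 hσ]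
          group
        have h1 := (eq_bot_iff_forall _).1 hK ⟨_, hmem⟩ (mem_subgroupOf.2 hker)
        have h2 : σ * τ * σ⁻¹ * τ⁻¹ = 1 := congrArg Subtype.val h1
        rw [mul_inv_eq_one, mul_inv_eq_iff_eq_mul] at h2
        exact h2
      exact (by decide +kernel : ∀ σ : Equiv.Perm (Fin 5),
        (∀ i j : Fin 5, σ * Equiv.swap i j = Equiv.swap i j * σ) → σ = 1) σ fun i j => hc _
    · exfalso
      have h : Equiv.swap (0 : Fin 5) 1 * Equiv.swap 1 2 ∈ φ.ker :=
        mem_subgroupOf.1 (show (⟨_, by rw [Equiv.Perm.mem_alternatingGroup]; decide⟩ : alternatingGroup (Fin 5)) ∈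
          φ.ker.subgroupOf (alternatingGroup (Fin 5)) by rw [hK]; exact mem_top _)
      rw [MonoidHom.mem_ker, map_mul, e0, e1, mul_eq_one_iff_eq_inv, H.inv hx.1] at h
      exact hxd h.symm
  set S : Set G := {y | ∃ i j : Fin 5, i ≠ j ∧ φ (Equiv.swap i j) = y} with hSdef
  have hSD : ∀ y ∈ S, y ∈ D := by
    rintro _ ⟨i, j, hij, rfl⟩
    obtain ⟨σ, hσ⟩ := isConj_iff.1 (Equiv.Perm.isConj_swap (show (0 : Fin 5) ≠ 1 by decide) hij)
    rw [← hσ, map_mul, map_mul, map_inv, e0]
    exact H.conj _ _ hd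
  have hdec : ∀ i j : Fin 5, i ≠ j → ∃ k l m : Fin 5, k ≠ l ∧ k ≠ m ∧ l ≠ m ∧
      Equiv.swap i j * Equiv.swap k l = Equiv.swap k l * Equiv.swap i j ∧
      Equiv.swap i j * Equiv.swap k m = Equiv.swap k m * Equiv.swap i j ∧
      Equiv.swap k l ≠ Equiv.swap i j ∧ Equiv.swap k m ≠ Equiv.swap i j ∧ Equiv.swap k l ≠ Equiv.swap k m ∧
      Equiv.swap k l * Equiv.swap k m * Equiv.swap k l = Equiv.swap l m := by decide +kernel
  have hclosed : ∀ y ∈ S, ∀ z ∈ nb D y, z ∈ S := by
    rintro _ ⟨i, j, hij, rfl⟩ z hz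
    obtain ⟨k, l, m, hkl, hkm, hlm, c1, c2, n1, n2, n3, hthird⟩ := hdec i j hij
    have h1 : φ (Equiv.swap k l) ∈ nb D (φ (Equiv.swap i j)) :=
      ⟨hSD _ ⟨k, l, hkl, rfl⟩, fun h => n1 (hinj h), (show Commute _ _ from c1).map φ⟩
    have h2 : φ (Equiv.swap k m) ∈ nb D (φ (Equiv.swap i j)) :=
      ⟨hSD _ ⟨k, m, hkm, rfl⟩, fun h => n2 (hinj h), (show Commute _ _ from c2).map φ⟩
    rcases (H.local_pair (hSD _ ⟨i, j, hij, rfl⟩) h1 h2 (fun h => n3 (hinj h))).2 z hz with rfl | rfl | rfl
    · exact ⟨k, l, hkl, rfl⟩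
    · exact ⟨k, m, hkm, rfl⟩
    · exact ⟨l, m, hlm, by rw [← map_mul, ← map_mul, hthird]⟩
  have hall : ∀ g ∈ D, g ∈ S := by
    by_contra hbad
    push_neg at hbad
    obtain ⟨g, hg, hgS⟩ := hbad
    have hout : ∀ h ∈ D, h ∉ S → ∀ y ∈ S, ¬ Commute h y := fun h hh hhS y hy hc =>
      hhS (hclosed y hy h ⟨hh, fun e => hhS (e ▸ hy), hc.symm⟩)
    -- double transpositions
    have hedge : ∀ i j k l : Fin 5, i ≠ j → k ≠ l → Equiv.swap i j * Equiv.swap k l = Equiv.swap k l * Equiv.swap i j →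
        Equiv.swap k l ≠ Equiv.swap i j → ∀ h ∈ D, h ∉ S →
        φ (Equiv.swap i j * Equiv.swap k l) * h * (φ (Equiv.swap i j * Equiv.swap k l))⁻¹ ∈ nb D h := by
      intro i j k l hij hkl hc hne h hh hhS
      have hi : φ (Equiv.swap i j) ∈ S := ⟨i, j, hij, rfl⟩
      have hk : φ (Equiv.swap k l) ∈ S := ⟨k, l, hkl, rfl⟩
      have := H.push (hSD _ hi) ⟨hSD _ hk, fun e => hne (hinj e), (show Commute _ _ from hc).map φ⟩ hh
        (hout h hh hhS _ hi) (hout h hh hhS _ hk)
      rwa [map_mul, _root_.mul_inv_rev, H.inv (hSD _ hi), H.inv (hSD _ hk)]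
    set p : Equiv.Perm (Fin 5) := Equiv.swap 0 1 * Equiv.swap 2 3 with hp
    set q : Equiv.Perm (Fin 5) := Equiv.swap 0 2 * Equiv.swap 1 3 with hq
    set r : Equiv.Perm (Fin 5) := Equiv.swap 0 3 * Equiv.swap 1 2 with hr
    have hpq : p * q = r := by decide
    set n := φ q * g * (φ q)⁻¹ with hn
    have hn1 : n ∈ nb D g := hedge 0 2 1 3 (by decide) (by decide) (by decide) (by decide) g hg hgS
    have hnS : n ∉ S := fun h => by
      have := hclosed n h g (nb_symm hg hn1)
      exact hgS this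
    have hn2 : φ p * n * (φ p)⁻¹ ∈ nb D n := hedge 0 1 2 3 (by decide) (by decide) (by decide) (by decide) n hn1.1 hnS
    have hn3 : φ p * n * (φ p)⁻¹ ∈ nb D g := by
      have := hedge 0 3 1 2 (by decide) (by decide) (by decide) (by decide) g hg hgS
      rw [← hr, ← hpq, map_mul] at this
      convert this using 1
      rw [hn]; group
    exact (H.local_pair hg hn1 hn3 (Ne.symm hn2.2.1)).1 hn2.2.2
  have hr : φ.range = closure D := by
    refine le_antisymm ?_ ((closure_le _).2 fun g hg => ?_)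
    · rw [hrange, SymCoxeter.gen, closure_le]
      rintro _ ⟨i, hi, rfl⟩
      refine subset_closure ?_
      simp only [Set.mem_setOf_eq] at hi
      interval_cases i
      exacts [hd, hx.1, ha.1, hb.1]
    · obtain ⟨i, j, -, rfl⟩ := hall g hg
      exact ⟨_, rfl⟩
  exact ⟨((MonoidHom.ofInjective hinj).trans (MulEquiv.subgroupCongr hr)).symm⟩

theorem main (hne : D.Nonempty) : Nonempty (closure D ≃* Equiv.Perm (Fin 5)) ∨
    Nonempty (closure D ≃* Equiv.Perm (Fin 3) × Equiv.Perm (Fin 3)) := by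
  by_cases h : ∃ d e a b, Frame D d e a b
  · obtain ⟨d, e, a, b, F⟩ := h
    exact Or.inr (H.frame_iso F)
  · push_neg at h
    exact Or.inl (H.petersen_iso hne h)

end Hyp

end Cfsg.Agent.Fischer.LocalSymThree
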