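import Cfsg.Agent.Lib.Fischer.Basic
import Cfsg.Prelude.Def_FischerSpaces
import Mathlib.LinearAlgebra.Matrix.ToLin
import Mathlib.LinearAlgebra.QuadraticForm.Basic
import Mathlib.LinearAlgebra.Dimension.Constructions
import Mathlib.LinearAlgebra.FiniteDimensional.Basic

set_option autoImplicit false

/-!
Reflections of one norm in an orthogonal space over the field with three elements.
-/

namespace Cfsg.Agent.Fischer.Mod3

open QuadraticMap Matrix

variable {n : ℕ} (Q : QuadraticForm (ZMod 3) (Fin n → ZMod 3))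

theorem polarVec_dot (v x : Fin n → ZMod 3) : Cfsg.polarVec (⇑Q) v ⬝ᵥ x = polar (⇑Q) v x := by
  have h := LinearMap.pi_apply_eq_sum_univ (QuadraticMap.polarBilin Q v) x
  rw [QuadraticMap.polarBilin_apply_apply] at h
  rw [h, dotProduct]
  refine Finset.sum_congr rfl fun j _ => ?_
  rw [smul_eq_mul, mul_comm, QuadraticMap.polarBilin_apply_apply]
  rw [show (fun i : Fin n => if j = i then (1 : ZMod 3) else 0) = Pi.single j 1 from funext fun i => by
    rw [Pi.single_apply]
    by_cases hij : j = i <;> simp [hij, eq_comm]]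
  rfl

theorem refl_mulVec (v x : Fin n → ZMod 3) :
    Cfsg.reflectionMatrix (⇑Q) v *ᵥ x = x - ((Q v)⁻¹ * polar (⇑Q) v x) • v := by
  rw [Cfsg.reflectionMatrix, sub_mulVec, one_mulVec, smul_mulVec, vecMulVec_mulVec, op_smul_eq_smul,
    smul_smul, polarVec_dot]

theorem matrix_ext {A B : Matrix (Fin n) (Fin n) (ZMod 3)} (h : ∀ x, A *ᵥ x = B *ᵥ x) : A = B :=
  Matrix.toLin'.injective (LinearMap.ext fun x => by simp [Matrix.toLin'_apply, h x])

theorem inv_eq_self (c : ZMod 3) : c⁻¹ = c := by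
  by_cases h : c = 0
  · rw [h, _root_.inv_zero]
  · exact inv_eq_of_mul_eq_one_right ((by decide : ∀ a : ZMod 3, a ≠ 0 → a * a = 1) c h)

theorem map_sub_smul (x v : Fin n → ZMod 3) (t : ZMod 3) :
    Q (x - t • v) = Q x + t * t * Q v - t * polar (⇑Q) v x := by
  rw [sub_eq_add_neg, ← neg_smul, QuadraticMap.map_add (⇑Q), QuadraticMap.map_smul, polar_smul_right,
    polar_comm (⇑Q) x v]
  simp only [smul_eq_mul]
  ring

variable {Q}

theorem refl_isometry {v : Fin n → ZMod 3} (hv : Q v ≠ 0) (x : Fin n → ZMod 3) :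
    Q (Cfsg.reflectionMatrix (⇑Q) v *ᵥ x) = Q x := by
  rw [refl_mulVec, map_sub_smul]
  field_simp
  ring

theorem refl_self {v : Fin n → ZMod 3} (hv : Q v ≠ 0) :
    Cfsg.reflectionMatrix (⇑Q) v *ᵥ v = -v := by
  rw [refl_mulVec, polar_self, two_nsmul, mul_add, inv_mul_cancel₀ hv, add_smul, one_smul]
  abel

theorem refl_refl {v : Fin n → ZMod 3} (hv : Q v ≠ 0) (x : Fin n → ZMod 3) :
    Cfsg.reflectionMatrix (⇑Q) v *ᵥ (Cfsg.reflectionMatrix (⇑Q) v *ᵥ x) = x := by
  have h : polar (⇑Q) v (Cfsg.reflectionMatrix (⇑Q) v *ᵥ x) = -polar (⇑Q) v x := by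
    rw [refl_mulVec, polar_sub_right, polar_smul_right, polar_self, smul_eq_mul, two_nsmul]
    field_simp
    ring
  conv_lhs => rw [refl_mulVec, h, refl_mulVec]
  rw [mul_neg, neg_smul]
  abel

/-- The reflection as an isometry. -/
noncomputable def refl {c : ZMod 3} (hc : c ≠ 0) (v : Fin n → ZMod 3) (hv : Q v = c) :
    Cfsg.isometryGroup (ZMod 3) (⇑Q) :=
  ⟨⟨Cfsg.reflectionMatrix (⇑Q) v, Cfsg.reflectionMatrix (⇑Q) v,
    matrix_ext fun x => by rw [← mulVec_mulVec, refl_refl (hv ▸ hc), one_mulVec],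
    matrix_ext fun x => by rw [← mulVec_mulVec, refl_refl (hv ▸ hc), one_mulVec]⟩,
    fun u _ => refl_isometry (hv ▸ hc) u⟩

theorem mem_reflections_iff {c : ZMod 3} (hc : c ≠ 0) (g : Cfsg.isometryGroup (ZMod 3) (⇑Q)) :
    g ∈ Cfsg.reflectionsOfNorm (⇑Q) c ↔ ∃ v, ∃ hv : Q v = c, g = refl hc v hv := by
  constructor
  · rintro ⟨v, hv, h⟩
    exact ⟨v, hv, Subtype.ext (Units.ext h)⟩
  · rintro ⟨v, hv, rfl⟩
    exact ⟨v, hv, rfl⟩

theorem polar_isometry (g : Cfsg.isometryGroup (ZMod 3) (⇑Q)) (u v : Fin n → ZMod 3) :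
    polar (⇑Q) (((g : GL (Fin n) (ZMod 3)) : Matrix _ _ _) *ᵥ u)
      (((g : GL (Fin n) (ZMod 3)) : Matrix _ _ _) *ᵥ v) = polar (⇑Q) u v := by
  have h : ∀ u, Q (((g : GL (Fin n) (ZMod 3)) : Matrix _ _ _) *ᵥ u) = Q u := fun u => g.2 u u
  simp only [polar, ← mulVec_add, h]

theorem conj_refl {c : ZMod 3} (hc : c ≠ 0) (g : Cfsg.isometryGroup (ZMod 3) (⇑Q))
    {v : Fin n → ZMod 3} (hv : Q v = c) :
    g * refl hc v hv * g⁻¹ = refl hc (((g : GL (Fin n) (ZMod 3)) : Matrix _ _ _) *ᵥ v)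
      ((g.2 v v).trans hv) := by
  rw [mul_inv_eq_iff_eq_mul]
  refine Subtype.ext (Units.ext (matrix_ext fun x => ?_))
  show (((g : GL (Fin n) (ZMod 3)) : Matrix _ _ _) * Cfsg.reflectionMatrix (⇑Q) v) *ᵥ x =
    (Cfsg.reflectionMatrix (⇑Q) _ * ((g : GL (Fin n) (ZMod 3)) : Matrix _ _ _)) *ᵥ x
  rw [← mulVec_mulVec, ← mulVec_mulVec, refl_mulVec, refl_mulVec, polar_isometry, mulVec_sub,
    mulVec_smul]
  have : Q (((g : GL (Fin n) (ZMod 3)) : Matrix _ _ _) *ᵥ v) = Q v := g.2 v v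
  rw [this]

theorem refl_congr {c : ZMod 3} (hc : c ≠ 0) {u v : Fin n → ZMod 3} (hu : Q u = c) (hv : Q v = c)
    (h : u = v ∨ u = -v) : refl hc u hu = refl hc v hv := by
  rcases h with rfl | rfl
  · rfl
  · refine Subtype.ext (Units.ext (matrix_ext fun x => ?_))
    show Cfsg.reflectionMatrix (⇑Q) (-v) *ᵥ x = Cfsg.reflectionMatrix (⇑Q) v *ᵥ x
    rw [refl_mulVec, refl_mulVec, QuadraticMap.map_neg, polar_neg_left, smul_neg, mul_neg,
      neg_smul, neg_neg]

theorem refl_mul_self {c : ZMod 3} (hc : c ≠ 0) {v : Fin n → ZMod 3} (hv : Q v = c) :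
    refl hc v hv * refl hc v hv = 1 :=
  Subtype.ext (Units.ext (matrix_ext fun x => by
    show (Cfsg.reflectionMatrix (⇑Q) v * Cfsg.reflectionMatrix (⇑Q) v) *ᵥ x = _
    rw [← mulVec_mulVec, refl_refl (hv ▸ hc)]
    simp))

theorem refl_ne_one {c : ZMod 3} (hc : c ≠ 0) {v : Fin n → ZMod 3} (hv : Q v = c) :
    refl hc v hv ≠ 1 := by
  intro h
  have h1 : Cfsg.reflectionMatrix (⇑Q) v = 1 :=
    congrArg (fun g : Cfsg.isometryGroup (ZMod 3) (⇑Q) =>
      ((g : GL (Fin n) (ZMod 3)) : Matrix (Fin n) (Fin n) (ZMod 3))) h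
  have h2 := refl_self (Q := Q) (v := v) (hv ▸ hc)
  rw [h1, one_mulVec] at h2
  have : v = 0 := funext fun i => by
    have := congrFun h2 i
    simp only [Pi.neg_apply] at this
    exact (by decide : ∀ a : ZMod 3, a = -a → a = 0) _ this
  rw [this, QuadraticMap.map_zero] at hv
  exact hc hv.symm

theorem commute_matrix_iff {u v : Fin n → ZMod 3} (hu : Q u ≠ 0) (huv : Q u = Q v) (h1 : v ≠ u)
    (h2 : v ≠ -u) :
    Commute (Cfsg.reflectionMatrix (⇑Q) u) (Cfsg.reflectionMatrix (⇑Q) v) ↔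
      polar (⇑Q) u v = 0 := by
  constructor
  · intro h
    by_contra hB
    have h3 := congrArg (fun M : Matrix (Fin n) (Fin n) (ZMod 3) => M *ᵥ u) h.eq
    simp only [← mulVec_mulVec, refl_self hu, mulVec_neg] at h3
    rw [refl_mulVec Q v u, mulVec_sub, refl_self hu, mulVec_smul, refl_mulVec Q u v,
      polar_comm (⇑Q) v u, ← huv, inv_eq_self] at h3
    set t := Q u * polar (⇑Q) u v with ht
    have htt : t * t = 1 := (by decide : ∀ a : ZMod 3, a ≠ 0 → a * a = 1) t (mul_ne_zero hu hB)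
    have hv : v = (-t) • u := funext fun i => by
      have := congrFun h3 i
      simp only [Pi.sub_apply, Pi.smul_apply, Pi.neg_apply, smul_eq_mul] at this ⊢
      have key : ∀ a b s : ZMod 3, s * s = 1 → -a - s * (b - s * a) = -(a - s * b) →
          b = -s * a := by decide
      exact key (u i) (v i) t htt this
    rcases (by decide : ∀ a : ZMod 3, a * a = 1 → a = 1 ∨ a = -1) t htt with h' | h' <;>
      rw [h'] at hv
    · exact h2 (by simpa using hv)
    · exact h1 (by simpa using hv)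
  · intro hB
    refine matrix_ext fun x => ?_
    rw [← mulVec_mulVec, ← mulVec_mulVec]
    simp only [refl_mulVec, polar_sub_right, polar_smul_right, hB, polar_comm (⇑Q) v u,
      smul_eq_mul, mul_zero, sub_zero]
    abel

theorem commute_refl_iff {c : ZMod 3} (hc : c ≠ 0) {u v : Fin n → ZMod 3} (hu : Q u = c)
    (hv : Q v = c) (h1 : v ≠ u) (h2 : v ≠ -u) :
    Commute (refl hc u hu) (refl hc v hv) ↔ polar (⇑Q) u v = 0 := by
  rw [← commute_matrix_iff (hu ▸ hc) (hu.trans hv.symm) h1 h2]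
  constructor
  · intro h
    exact congrArg (fun g : Cfsg.isometryGroup (ZMod 3) (⇑Q) =>
      ((g : GL (Fin n) (ZMod 3)) : Matrix (Fin n) (Fin n) (ZMod 3))) h.eq
  · intro h
    exact Subtype.ext (Units.ext h.eq)

/-- Two reflections in non-orthogonal vectors satisfy the braid relation. -/
theorem refl_braid {c : ZMod 3} (hc : c ≠ 0) {u v : Fin n → ZMod 3} (hu : Q u = c) (hv : Q v = c)
    (hB : polar (⇑Q) u v ≠ 0) :
    refl hc u hu * refl hc v hv * refl hc u hu = refl hc v hv * refl hc u hu * refl hc v hv := by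
  have hinv : ∀ {w} (hw : Q w = c), (refl hc w hw)⁻¹ = refl hc w hw := fun hw =>
    inv_eq_of_mul_eq_one_right (refl_mul_self hc hw)
  have e1 := conj_refl hc (refl hc u hu) hv
  have e2 := conj_refl hc (refl hc v hv) hu
  rw [hinv hu] at e1
  rw [hinv hv] at e2
  rw [e1, e2]
  refine refl_congr hc _ _ ?_
  show Cfsg.reflectionMatrix (⇑Q) u *ᵥ v = Cfsg.reflectionMatrix (⇑Q) v *ᵥ u ∨
    Cfsg.reflectionMatrix (⇑Q) u *ᵥ v = -(Cfsg.reflectionMatrix (⇑Q) v *ᵥ u)
  rw [refl_mulVec, refl_mulVec, hu, hv, polar_comm (⇑Q) v u, inv_eq_self]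
  rcases (by decide : ∀ a : ZMod 3, a ≠ 0 → a = 1 ∨ a = -1) _ (mul_ne_zero hc hB) with h | h <;>
    rw [h]
  · right; simp
  · left; simp; abel

theorem threeTransposition {c : ZMod 3} (hc : c ≠ 0) :
    IsThreeTranspositionSet (Cfsg.reflectionsOfNorm (⇑Q) c) := by
  constructor
  · intro g hg
    obtain ⟨v, hv, rfl⟩ := (mem_reflections_iff hc g).1 hg
    exact orderOf_eq_prime (by rw [pow_two]; exact refl_mul_self hc hv) (refl_ne_one hc hv)
  · intro g hg h hh
    obtain ⟨u, hu, rfl⟩ := (mem_reflections_iff hc g).1 hg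
    obtain ⟨v, hv, rfl⟩ := (mem_reflections_iff hc h).1 hh
    have su := refl_mul_self hc hu
    have sv := refl_mul_self hc hv
    by_cases h12 : v = u ∨ v = -u
    · left
      rw [refl_congr hc hv hu h12, su, one_pow]
    push Not at h12
    by_cases hB : polar (⇑Q) u v = 0
    · left
      exact (commute_iff_sq_eq_one su sv).1 ((commute_refl_iff hc hu hv h12.1 h12.2).2 hB)
    · right
      have hbr := refl_braid hc hu hv hB
      set a := refl hc u hu
      set b := refl hc v hv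
      calc (a * b) ^ 3 = (a * b * a) * (b * a * b) := by
            simp only [pow_succ, pow_zero, one_mul, mul_assoc]
        _ = (a * b * a) * (a * b * a) := by rw [hbr]
        _ = a * (b * (a * a) * b) * a := by simp only [mul_assoc]
        _ = 1 := by rw [su, mul_one, sv, mul_one, su]

/-- An anisotropic vector orthogonal to few given orthogonal anisotropic vectors. -/
theorem exists_anisotropic_perp (hQ : (QuadraticMap.polarBilin Q).Nondegenerate)
    {k : ℕ} (s : Fin k → Fin n → ZMod 3) (hk : k < n)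
    (hs : ∀ i, Q (s i) ≠ 0) (horth : ∀ i j, i ≠ j → polar (⇑Q) (s i) (s j) = 0) :
    ∃ z, (∀ i, polar (⇑Q) (s i) z = 0) ∧ Q z ≠ 0 := by
  by_contra h
  push Not at h
  let pr : (Fin n → ZMod 3) → Fin n → ZMod 3 := fun x =>
    x - ∑ i, ((polar (⇑Q) (s i) (s i))⁻¹ * polar (⇑Q) (s i) x) • s i
  have hself : ∀ i, polar (⇑Q) (s i) (s i) ≠ 0 := fun i => by
    rw [polar_self, two_nsmul]
    exact (by decide : ∀ a : ZMod 3, a ≠ 0 → a + a ≠ 0) _ (hs i)
  have hpr : ∀ x i, polar (⇑Q) (s i) (pr x) = 0 := by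
    intro x i
    show polar (⇑Q) (s i) (x - _) = 0
    rw [← QuadraticMap.polarBilin_apply_apply, map_sub, map_sum, Finset.sum_eq_single i]
    · rw [map_smul, QuadraticMap.polarBilin_apply_apply, QuadraticMap.polarBilin_apply_apply,
        smul_eq_mul, mul_comm _ (polar (⇑Q) (s i) (s i)), ← mul_assoc,
        mul_inv_cancel₀ (hself i), one_mul, sub_self]
    · intro j _ hji
      rw [map_smul, QuadraticMap.polarBilin_apply_apply, horth i j (Ne.symm hji), smul_zero]
    · simp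
  have hzero : ∀ x, pr x = 0 := by
    intro x
    refine hQ.1 (pr x) fun y => ?_
    rw [QuadraticMap.polarBilin_apply_apply]
    have hy : y = pr y + ∑ i, ((polar (⇑Q) (s i) (s i))⁻¹ * polar (⇑Q) (s i) y) • s i :=
      (sub_add_cancel _ _).symm
    have h1 : polar (⇑Q) (pr x) (pr y) = 0 := by
      rw [polar, h _ (fun i => hpr x i), h _ (fun i => hpr y i), h]
      · simp
      · intro i
        rw [polar_add_right, hpr x i, hpr y i, add_zero]
    rw [hy, polar_add_right, h1, zero_add, ← QuadraticMap.polarBilin_apply_apply, map_sum]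
    refine Finset.sum_eq_zero fun i _ => ?_
    rw [map_smul, QuadraticMap.polarBilin_apply_apply, polar_comm (⇑Q) (pr x), hpr x i, smul_zero]
  have htop : Submodule.span (ZMod 3) (Set.range s) = ⊤ := by
    rw [eq_top_iff]
    intro x _
    rw [sub_eq_zero.1 (hzero x)]
    exact Submodule.sum_mem _ fun i _ =>
      Submodule.smul_mem _ _ (Submodule.subset_span ⟨i, rfl⟩)
  have := finrank_range_le_card (R := ZMod 3) s
  rw [Set.finrank, htop, finrank_top, Module.finrank_fin_fun, Fintype.card_fin] at this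
  omega

/-- Every non-zero value is taken orthogonal to few given vectors. -/
theorem exists_value_perp (hQ : (QuadraticMap.polarBilin Q).Nondegenerate)
    {k : ℕ} (s : Fin k → Fin n → ZMod 3) (hk : k + 2 ≤ n)
    (hs : ∀ i, Q (s i) ≠ 0) (horth : ∀ i j, i ≠ j → polar (⇑Q) (s i) (s j) = 0)
    {d : ZMod 3} (hd : d ≠ 0) :
    ∃ z, (∀ i, polar (⇑Q) (s i) z = 0) ∧ Q z = d := by
  obtain ⟨z₁, h1, hz1⟩ := exists_anisotropic_perp hQ s (by omega) hs horth
  by_cases hd1 : Q z₁ = d
  · exact ⟨z₁, h1, hd1⟩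
  obtain ⟨z₂, h2, hz2⟩ := exists_anisotropic_perp hQ (Fin.cons z₁ s) (by omega)
    (Fin.cases hz1 hs) (by
      intro i j hij
      induction i using Fin.cases with
      | zero =>
        induction j using Fin.cases with
        | zero => exact absurd rfl hij
        | succ j => simpa [polar_comm (⇑Q) z₁] using h1 j
      | succ i =>
        induction j using Fin.cases with
        | zero => simpa using h1 i
        | succ j => simpa using horth i j fun e => hij (congrArg Fin.succ e))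
  by_cases hd2 : Q z₂ = d
  · exact ⟨z₂, fun i => by simpa using h2 i.succ, hd2⟩
  refine ⟨z₁ + z₂, fun i => ?_, ?_⟩
  · rw [polar_add_right, h1 i, zero_add]
    simpa using h2 i.succ
  · rw [QuadraticMap.map_add (⇑Q), show polar (⇑Q) z₁ z₂ = 0 by simpa using h2 0, add_zero]
    exact (by decide : ∀ a b d : ZMod 3, a ≠ 0 → b ≠ 0 → d ≠ 0 → a ≠ d → b ≠ d → a + b = d)
      _ _ _ hz1 hz2 hd hd1 hd2

theorem exists_norm (hQ : (QuadraticMap.polarBilin Q).Nondegenerate) (hn : 2 ≤ n)
    {c : ZMod 3} (hc : c ≠ 0) : ∃ v, Q v = c :=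
  (exists_value_perp hQ (k := 0) Fin.elim0 (by omega) (fun i => i.elim0) (fun i => i.elim0) hc).imp
    fun _ h => h.2

theorem refl_mem {c : ZMod 3} (hc : c ≠ 0) {v : Fin n → ZMod 3} (hv : Q v = c) :
    refl hc v hv ∈ Cfsg.reflectionSubgroup (⇑Q) c :=
  Subgroup.subset_closure ⟨v, hv, rfl⟩

/-- The reflections of one norm are conjugate in the group they generate. -/
theorem exists_conj (hQ : (QuadraticMap.polarBilin Q).Nondegenerate) (hn : 4 ≤ n)
    {c : ZMod 3} (hc : c ≠ 0) {u v : Fin n → ZMod 3} (hu : Q u = c) (hv : Q v = c) :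
    ∃ g ∈ Cfsg.reflectionSubgroup (⇑Q) c, g * refl hc u hu * g⁻¹ = refl hc v hv := by
  have step : ∀ {a b : Fin n → ZMod 3} (ha : Q a = c) (hb : Q b = c), polar (⇑Q) a b ≠ 0 →
      ∃ g ∈ Cfsg.reflectionSubgroup (⇑Q) c, g * refl hc a ha * g⁻¹ = refl hc b hb := by
    intro a b ha hb hB
    refine ⟨refl hc a ha * refl hc b hb, mul_mem (refl_mem hc ha) (refl_mem hc hb), ?_⟩
    rw [_root_.mul_inv_rev, inv_eq_of_mul_eq_one_right (refl_mul_self hc ha),
      inv_eq_of_mul_eq_one_right (refl_mul_self hc hb)]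
    set x := refl hc a ha
    set y := refl hc b hb
    calc x * y * x * (y * x) = (x * y * x) * y * x := by simp only [mul_assoc]
      _ = y * x * y * y * x := by rw [refl_braid hc ha hb hB]
      _ = y := by rw [mul_assoc (y * x), refl_mul_self hc hb, mul_one, mul_assoc,
          refl_mul_self hc ha, mul_one]
  by_cases h12 : v = u ∨ v = -u
  · exact ⟨1, one_mem _, by rw [one_mul, inv_one, mul_one, refl_congr hc hv hu h12]⟩
  by_cases hB : polar (⇑Q) u v = 0
  · obtain ⟨z, hz, hzc⟩ := exists_value_perp hQ ![u, v] (by omega)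
      (by intro i; fin_cases i <;> simp [hu, hv, hc])
      (by
        intro i j hij
        fin_cases i <;> fin_cases j <;> simp [hB, polar_comm (⇑Q) v u] at hij ⊢)
      (neg_ne_zero.2 hc)
    have hzu : polar (⇑Q) u z = 0 := by simpa using hz 0
    have hzv : polar (⇑Q) v z = 0 := by simpa using hz 1
    have hw : Q (u + v + z) = c := by
      rw [QuadraticMap.map_add (⇑Q), QuadraticMap.map_add (⇑Q), hB, polar_add_left, hzu, hzv, hu, hv, hzc]
      ring
    have h2c : c + c ≠ 0 := (by decide : ∀ a : ZMod 3, a ≠ 0 → a + a ≠ 0) _ hc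
    have hBu : polar (⇑Q) u (u + v + z) ≠ 0 := by
      rw [polar_add_right, polar_add_right, hB, hzu, polar_self, hu, two_nsmul]
      simpa using h2c
    have hBv : polar (⇑Q) (u + v + z) v ≠ 0 := by
      rw [polar_add_left, polar_add_left, hB, polar_self, hv, polar_comm (⇑Q) z, hzv, two_nsmul]
      simpa using h2c
    obtain ⟨g, hg, e1⟩ := step hu hw hBu
    obtain ⟨g', hg', e2⟩ := step hw hv hBv
    refine ⟨g' * g, mul_mem hg' hg, ?_⟩
    rw [← e2, ← e1]; group
  · exact step hu hv hB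

end Cfsg.Agent.Fischer.Mod3
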