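import Cfsg.Agent.Lib.Fischer.Transitive

set_option autoImplicit false

/-!
Perfect derived group and primitivity; consequences.
-/

namespace Cfsg.Agent.Fischer

open Subgroup
open scoped commutatorElement

variable {G : Type*} [Group G] [Finite G] {D : Set G}

theorem exists_commuting_pair (hD : IsThreeTranspositionGroup D)
    (hD2 : ∃ a ∈ D, ∃ b ∈ D, a ≠ b) (h3 : Cfsg.pCore 3 G ≤ Subgroup.center G) :
    ∃ a ∈ D, ∃ b ∈ D, a ≠ b ∧ Commute a b := by
  by_contra hno
  push Not at hno
  have hbr : ∀ a ∈ D, ∀ b ∈ D, a * b * a = b * a * b := by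
    intro a ha b hb
    by_cases hab : a = b
    · rw [hab]
    · exact TSet.braid hD.1 ha hb (hno a ha b hb hab)
  obtain ⟨a, ha, b, hb, hab⟩ := hD2
  obtain ⟨N, hN, hN3, hmem⟩ := braidSet.mul_mem_normal_three_group (fun x hx => TSet.sq hD.1 hx)
    hbr hD.2.1 ha hb
  have hz := Subgroup.mem_center_iff.1 (h3 (PBasic.le_pCore hN hN3 hmem)) a
  refine hno a ha b hb hab ?_
  rw [← mul_assoc, TSet.sq hD.1 ha, one_mul] at hz
  calc a * b = a * (a * b * a) := by rw [← hz]
    _ = b * a := by simp only [← mul_assoc, TSet.sq hD.1 ha, one_mul]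

theorem TClass.commutator_le_component (hD : IsThreeTranspositionClass D)
    (hperf : ⁅commutator G, commutator G⁆ = commutator G) {L : Subgroup G}
    (hL : Cfsg.IsComponent L) : commutator G ≤ L := by
  haveI := component_normal (TClass.toGroup hD) hL
  set π := QuotientGroup.mk' L with hπ
  have hsurj : Function.Surjective π := QuotientGroup.mk'_surjective L
  have htop : Subgroup.closure (π '' D) = ⊤ := by
    rw [← MonoidHom.map_closure, hD.2.2, Subgroup.map_top_of_surjective _ hsurj]
  have hs : Group.IsSolvable (Subgroup.closure (π '' D)) := by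
    refine isSolvable_closure_of_braid ?_ ?_ ?_
    · rintro _ ⟨x, hx, rfl⟩
      rw [← map_mul, TSet.sq hD.1 hx, map_one]
    · rintro _ ⟨x, hx, rfl⟩ _ ⟨y, hy, rfl⟩
      by_cases hc : Commute x y
      · have hmem : x * y * x⁻¹ * y⁻¹ ∈ L := by
          rw [hc.eq, mul_inv_cancel_right, mul_inv_cancel]; exact one_mem L
        have : π (x⁻¹ * y) = 1 :=
          (QuotientGroup.eq_one_iff _).2 (TClass.component_width_one hD hL hx hy hmem)
        rw [map_mul, map_inv, inv_mul_eq_one] at this
        rw [this]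
      · simpa [map_mul] using congrArg π (TSet.braid hD.1 hx hy hc)
    · rintro _ ⟨x, hx, rfl⟩ _ ⟨y, hy, rfl⟩
      exact ⟨x * y * x⁻¹, TClass.conjInv hD x y hy, by simp⟩
  rw [htop] at hs
  haveI : Group.IsSolvable (G ⧸ L) :=
    (Components.isSolvable_congr Subgroup.topEquiv).1 hs
  have hK : ⁅(commutator G).map π, (commutator G).map π⁆ = (commutator G).map π := by
    rw [← Subgroup.map_commutator, hperf]
  by_contra hle
  haveI : Group.IsPerfect ((commutator G).map π) := Subgroup.isPerfect_iff.2 hK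
  haveI : Nontrivial ((commutator G).map π) := by
    rw [Subgroup.nontrivial_iff_ne_bot]
    intro h
    rw [Subgroup.map_eq_bot_iff, hπ, QuotientGroup.ker_mk'] at h
    exact hle h
  exact Group.IsPerfect.not_isSolvable ((commutator G).map π) inferInstance

theorem TClass.primitive_of_perfect (hD : IsThreeTranspositionClass D)
    (hD2 : ∃ a ∈ D, ∃ b ∈ D, a ≠ b) (h2 : Cfsg.pCore 2 G ≤ Subgroup.center G)
    (h3 : Cfsg.pCore 3 G ≤ Subgroup.center G)
    (hperf : ⁅commutator G, commutator G⁆ = commutator G) : Cfsg.IsPrimitiveUnderConj D := by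
  have hT := TClass.toGroup hD
  obtain ⟨L, hL⟩ := TClass.exists_component hD hD2 h2 h3
  haveI := component_normal hT hL
  obtain ⟨d, hd, -⟩ := id hD2
  refine TClass.primitive_of_index hD hD2 h2 h3 hL (index_le_two_of_forall hT hd fun b hb => ?_)
  obtain ⟨g, rfl⟩ := TClass.transitive hD d hd b hb
  refine TClass.commutator_le_component hD hperf hL ?_
  have : d⁻¹ * (g * d * g⁻¹) = ⁅d⁻¹, g⁆ := by rw [commutatorElement_def]; group
  rw [this]
  rw [commutator_def]
  exact Subgroup.commutator_mem_commutator (Subgroup.mem_top _) (Subgroup.mem_top _)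

theorem TClass.of_no_solvable (hD : IsThreeTranspositionClass D)
    (hsol : ∀ N : Subgroup G, N.Normal → Group.IsSolvable ↥N → N = ⊥) :
    Subgroup.center G = ⊥ ∧ Cfsg.pCore 2 G = ⊥ ∧ Cfsg.pCore 3 G = ⊥ ∧
      (∃ a ∈ D, ∃ b ∈ D, a ≠ b) := by
  have hp : ∀ p, p.Prime → Cfsg.pCore p G = ⊥ := fun p hp => by
    haveI := Fact.mk hp
    haveI : Group.IsNilpotent (Cfsg.pCore p G) := (PBasic.pCore_isPGroup p G).isNilpotent
    exact hsol _ (Cfsg.pCore_normal p G) inferInstance
  have hZ : Subgroup.center G = ⊥ := hsol _ inferInstance (Group.isSolvable_of_comm fun x y =>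
    Subtype.ext ((Subgroup.mem_center_iff.1 y.2 (x : G))))
  refine ⟨hZ, hp 2 Nat.prime_two, hp 3 Nat.prime_three, ?_⟩
  obtain ⟨d, hd⟩ : D.Nonempty := ⟨_, hD.2.1.choose_spec.1⟩
  by_contra h
  push Not at h
  have hc : d ∈ Subgroup.center G := mem_center_of_commute_gen hD.2.2 fun s hs => by
    rw [h d hd s hs]
  rw [hZ, Subgroup.mem_bot] at hc
  exact TSet.ne_one hD.1 hd hc

end Cfsg.Agent.Fischer
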