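import Cfsg.Agent.Lib.Fischer.Primitive

set_option autoImplicit false

/-!
Primitivity of conjugation on a class of 3-transpositions.
-/

namespace Cfsg.Agent.Fischer

open Subgroup

variable {G : Type*} [Group G] [Finite G] {D : Set G}

/-- The image of a set under conjugation. -/
def cimg (g : G) (B : Set G) : Set G := (fun x => g * x * g⁻¹) '' B

omit [Finite G] in
theorem cimg_mul (g h : G) (B : Set G) : cimg (g * h) B = cimg g (cimg h B) := by
  simp only [cimg, Set.image_image]
  refine Set.image_congr fun x _ => ?_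
  group

omit [Finite G] in
theorem cimg_one (B : Set G) : cimg (1 : G) B = B := by simp [cimg]

omit [Finite G] in
theorem mem_cimg_conj {B : Set G} {g x : G} (hx : x ∈ B) : g * x * g⁻¹ ∈ cimg g B := ⟨x, hx, rfl⟩

omit [Finite G] in
theorem mem_normalizer_iff_cimg {g : G} {B : Set G} :
    g ∈ Subgroup.normalizer B ↔ cimg g B = B := by
  rw [Subgroup.mem_normalizer_iff_conj_image_eq]; rfl

/-- The block property. -/
def IsConjBlock (B : Set G) : Prop := ∀ g : G, cimg g B = B ∨ Disjoint (cimg g B) B

omit [Finite G] in
theorem IsConjBlock.eq_of_mem {B : Set G} (hB : IsConjBlock B) {g h x : G}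
    (h1 : x ∈ cimg g B) (h2 : x ∈ cimg h B) : cimg g B = cimg h B := by
  obtain ⟨y, hy, hyx⟩ := h2
  have h3 : y ∈ cimg (h⁻¹ * g) B := by
    have := mem_cimg_conj (g := h⁻¹) h1
    rw [← cimg_mul, ← hyx] at this
    simpa [mul_assoc] using this
  have h4 := (hB (h⁻¹ * g)).resolve_right (fun hd => Set.disjoint_left.1 hd h3 hy)
  calc cimg g B = cimg h (cimg (h⁻¹ * g) B) := by rw [← cimg_mul, mul_inv_cancel_left]
    _ = cimg h B := by rw [h4]

omit [Finite G] in
theorem IsConjBlock.fix {B : Set G} (hB : IsConjBlock B) {g x : G} (h1 : x ∈ cimg g B)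
    (h2 : x ∈ B) : cimg g B = B := by
  have := hB.eq_of_mem h1 (h := 1) (by rwa [cimg_one])
  rwa [cimg_one] at this

omit [Finite G] in
/-- Members of one block act in the same way on every block. -/
theorem IsConjBlock.same_action (hD : IsThreeTranspositionGroup D) {B : Set G} (hBD : B ⊆ D)
    (hB : IsConjBlock B) {d b : G} (hd : d ∈ B) (hb : b ∈ B) (g : G) :
    cimg d (cimg g B) = cimg b (cimg g B) := by
  set c := g * d * g⁻¹ with hc
  have hcB : c ∈ cimg g B := mem_cimg_conj hd
  have hcD : c ∈ D := hD.2.1 g d (hBD hd)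
  have fixcase : ∀ x ∈ B, Commute x c →
      cimg x (cimg g B) = cimg g B ∧ cimg c B = B := by
    intro x hx hxc
    refine ⟨?_, ?_⟩
    · rw [← cimg_mul]
      refine hB.eq_of_mem (x := c) ?_ hcB
      have := mem_cimg_conj (g := x) hcB
      rwa [← cimg_mul, hxc.eq, mul_inv_cancel_right] at this
    · refine hB.fix (x := x) ?_ hx
      have := mem_cimg_conj (g := c) hx
      rwa [← hxc.eq, mul_inv_cancel_right] at this
  have movecase : ∀ x ∈ B, ¬ Commute x c → cimg x (cimg g B) = cimg c B := by
    intro x hx hxc
    rw [← cimg_mul]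
    refine hB.eq_of_mem (x := x * c * x⁻¹) ?_ ?_
    · rw [cimg_mul]; exact mem_cimg_conj hcB
    · have h1 := TSet.braid hD.1 (hBD hx) hcD hxc
      rw [TSet.inv hD.1 (hBD hx), h1]
      have := mem_cimg_conj (g := c) hx
      rwa [TSet.inv hD.1 hcD] at this
  have mixed : ∀ x ∈ B, ∀ y ∈ B, Commute x c → ¬ Commute y c →
      cimg x (cimg g B) = cimg y (cimg g B) := by
    intro x hx y hy hxc hyc
    obtain ⟨f1, f2⟩ := fixcase x hx hxc
    have f3 := movecase y hy hyc
    rw [f2] at f3
    have hy1 : cimg y B = B := by
      refine hB.fix (x := y) ?_ hy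
      have := mem_cimg_conj (g := y) hy
      rwa [mul_inv_cancel_right] at this
    have : cimg g B = B := by
      have h4 := congrArg (cimg y) f3
      rwa [← cimg_mul, TSet.sq hD.1 (hBD hy), cimg_one, hy1] at h4
    rw [f1, f3, this]
  by_cases hdc : Commute d c <;> by_cases hbc : Commute b c
  · rw [(fixcase d hd hdc).1, (fixcase b hb hbc).1]
  · exact mixed d hd b hb hdc hbc
  · exact (mixed b hb d hd hbc hdc).symm
  · rw [movecase d hd hdc, movecase b hb hbc]

/-- If the component has index at most two the action on the class is primitive. -/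
theorem TClass.primitive_of_index (hD : IsThreeTranspositionClass D)
    (hD2 : ∃ a ∈ D, ∃ b ∈ D, a ≠ b) (h2 : Cfsg.pCore 2 G ≤ Subgroup.center G)
    (h3 : Cfsg.pCore 3 G ≤ Subgroup.center G) {L : Subgroup G} (hL : Cfsg.IsComponent L)
    (hidx : L.index ≤ 2) : Cfsg.IsPrimitiveUnderConj D := by
  have hT := TClass.toGroup hD
  refine ⟨TClass.transitive hD, hD2, fun B hBD hblock => ?_⟩
  have hB : IsConjBlock B := hblock
  rw [or_iff_not_imp_left, Set.not_subsingleton_iff]
  rintro ⟨d, hd, b, hb, hdb⟩
  haveI := component_normal hT hL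
  have hdfix : d ∈ Subgroup.normalizer B := by
    rw [mem_normalizer_iff_cimg]
    refine hB.fix (x := d) ?_ hd
    have := mem_cimg_conj (g := d) hd
    rwa [mul_inv_cancel_right] at this
  set K := (Subgroup.normalizer B).normalCore with hK
  rcases Components.component_le_or_commute hL (Subgroup.normalCore_normal _).isSubnormal (H := K)
    with hLK | hcomm
  · -- the stabiliser is everything
    have hall : ∀ g : G, g ∈ Subgroup.normalizer B := by
      intro g
      have hLS : L ≤ Subgroup.normalizer B := hLK.trans (Subgroup.normalCore_le _)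
      by_cases hdL : d ∈ L
      · have htop : (⊤ : Subgroup G) ≤ L := by
          rw [← hD.2.2, Subgroup.closure_le]
          intro x hx
          obtain ⟨w, rfl⟩ := TClass.transitive hD d (hBD hd) x hx
          exact (inferInstance : L.Normal).conj_mem d hdL w
        exact hLS (htop (Subgroup.mem_top g))
      · have h1 : L.index = 2 := by
          have h0 : L.index ≠ 0 := Subgroup.index_ne_zero_of_finite
          have h1' : L.index ≠ 1 := fun h => hdL ((Subgroup.index_eq_one.1 h).symm ▸ Subgroup.mem_top d)
          omega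
        by_cases hg : g ∈ L
        · exact hLS hg
        · have hdg : d * g ∈ L :=
            (Subgroup.mul_mem_iff_of_index_two h1).2 (iff_of_false hdL hg)
          have := mul_mem hdfix (hLS hdg)
          rwa [← mul_assoc, TSet.sq hD.1 (hBD hd), one_mul] at this
    refine Set.Subset.antisymm hBD fun x hx => ?_
    obtain ⟨w, rfl⟩ := TClass.transitive hD d (hBD hd) x hx
    exact (Subgroup.mem_set_normalizer_iff.1 (hall w) d).1 hd
  · exfalso
    have hKF : K ≤ Subgroup.centralizer (Cfsg.generalizedFittingSubgroup G : Set G) := by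
      rw [Subgroup.le_centralizer_iff, TClass.generalizedFitting_eq hD h2 h3 hL]
      exact sup_le (Subgroup.commutator_eq_bot_iff_le_centralizer.1 hcomm)
        (Subgroup.center_le_centralizer _)
    haveI : IsMulCommutative K := by
      refine Subgroup.le_centralizer_iff_isMulCommutative.1 (hKF.trans ?_)
      exact Subgroup.centralizer_le (hKF.trans Components.centralizer_generalizedFitting_le)
    have hKZ : K ≤ Subgroup.center G :=
      (Components.le_fittingSubgroup (Subgroup.normalCore_normal _)
        (Components.isNilpotent_of_commutator_le_center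
          fun x _ => Subgroup.mem_center_iff.2 fun y => mul_comm' y x)).trans
        (fitting_le_center hT h2 h3)
    have hdbK : d * b ∈ K := by
      intro w
      rw [mem_normalizer_iff_cimg]
      have h1 := hB.same_action hT hBD hd hb w⁻¹
      have hbb : b * b = 1 := TSet.sq hD.1 (hBD hb)
      have hdd : cimg (d * b) (cimg w⁻¹ B) = cimg w⁻¹ B := by
        rw [cimg_mul, ← h1, ← cimg_mul d d, TSet.sq hD.1 (hBD hd), cimg_one]
      calc cimg (w * (d * b) * w⁻¹) B = cimg w (cimg (d * b) (cimg w⁻¹ B)) := by
            rw [← cimg_mul, ← cimg_mul, mul_assoc]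
        _ = cimg w (cimg w⁻¹ B) := by rw [hdd]
        _ = B := by rw [← cimg_mul, mul_inv_cancel, cimg_one]
    have hz := hKZ hdbK
    haveI : (Cfsg.pCore 2 G).Normal := Cfsg.pCore_normal 2 G
    have hsame : SameComm D d b := by
      refine ⟨hBD hb, fun e _ => ?_⟩
      have hzc : Commute (d * b) e := (Subgroup.mem_center_iff.1 hz e).symm
      constructor
      · intro h
        have := hzc.mul_left h
        rwa [mul_assoc, TSet.sq hD.1 (hBD hb), mul_one] at this
      · intro h
        have := h.mul_left hzc
        rwa [← mul_assoc, TSet.sq hD.1 (hBD hd), one_mul] at this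
    obtain ⟨g, hg, hgb⟩ := SameComm.eq_conj hD hD2 (hBD hd) hsame
    rw [← Subgroup.mem_center_iff.1 (h2 hg) d, mul_inv_cancel_right] at hgb
    exact hdb hgb.symm

end Cfsg.Agent.Fischer
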