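import Cfsg.Agent.Lib.Fischer.WidthOne
import Cfsg.Agent.Lib.Transfer.Basic

set_option autoImplicit false

/-!
Fischer's theorem on the two equivalence relations on a 3-transposition class and the
largest normal 2- and 3-subgroups.
-/

namespace Cfsg.Agent.Fischer

variable {G : Type*} [Group G] {D : Set G}

/-- Same commuting members. -/
def SameComm (D : Set G) (d v : G) : Prop :=
  v ∈ D ∧ ∀ e ∈ D, Commute v e ↔ Commute d e

/-- Same commuting partners other than the element itself. -/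
def SameNbr (D : Set G) (d w : G) : Prop :=
  w ∈ D ∧ ∀ y ∈ D, (y ≠ d ∧ Commute d y) ↔ (y ≠ w ∧ Commute w y)

theorem SameComm.refl {d : G} (hd : d ∈ D) : SameComm D d d := ⟨hd, fun _ _ => Iff.rfl⟩

theorem SameComm.symm {d v : G} (hd : d ∈ D) (h : SameComm D d v) : SameComm D v d :=
  ⟨hd, fun e he => (h.2 e he).symm⟩

theorem SameComm.trans {a b c : G} (h : SameComm D a b) (h' : SameComm D b c) : SameComm D a c :=
  ⟨h'.1, fun e he => (h'.2 e he).trans (h.2 e he)⟩

theorem SameComm.commute {d v : G} (h : SameComm D d v) : Commute d v :=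
  (h.2 v h.1).1 (Commute.refl v)

theorem SameComm.conj (hconj : ∀ g : G, ∀ d ∈ D, g * d * g⁻¹ ∈ D) (g : G) {d v : G}
    (h : SameComm D d v) : SameComm D (g * d * g⁻¹) (g * v * g⁻¹) := by
  refine ⟨hconj g v h.1, fun e he => ?_⟩
  have he' : g⁻¹ * e * g ∈ D := conj_inv_mem hconj g he
  have hh : g * (g⁻¹ * e * g) * g⁻¹ = e := by group
  have := h.2 _ he'
  rwa [← commute_conj_iff g v, ← commute_conj_iff g d, hh] at this

theorem SameNbr.refl {d : G} (hd : d ∈ D) : SameNbr D d d := ⟨hd, fun _ _ => Iff.rfl⟩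

theorem SameNbr.symm {d v : G} (hd : d ∈ D) (h : SameNbr D d v) : SameNbr D v d :=
  ⟨hd, fun e he => (h.2 e he).symm⟩

theorem SameNbr.trans {a b c : G} (h : SameNbr D a b) (h' : SameNbr D b c) : SameNbr D a c :=
  ⟨h'.1, fun e he => (h.2 e he).trans (h'.2 e he)⟩

theorem SameNbr.not_commute {d w : G} (h : SameNbr D d w) (hne : w ≠ d) : ¬ Commute d w :=
  fun hc => ((h.2 w h.1).1 ⟨hne, hc⟩).1 rfl

theorem SameNbr.conj (hconj : ∀ g : G, ∀ d ∈ D, g * d * g⁻¹ ∈ D) (g : G) {d v : G}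
    (h : SameNbr D d v) : SameNbr D (g * d * g⁻¹) (g * v * g⁻¹) := by
  refine ⟨hconj g v h.1, fun e he => ?_⟩
  have he' : g⁻¹ * e * g ∈ D := conj_inv_mem hconj g he
  have hh : g * (g⁻¹ * e * g) * g⁻¹ = e := by group
  have hne : ∀ x : G, g⁻¹ * e * g = x ↔ e = g * x * g⁻¹ := fun x =>
    ⟨fun hx => by rw [← hx, hh], fun hx => by rw [hx]; group⟩
  have := h.2 _ he'
  rwa [← commute_conj_iff g v, ← commute_conj_iff g d, hh, ne_eq, hne, ne_eq, hne] at this

/-- The fourth member of a string `c - d - e`. -/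
theorem TSet.string_commute (hD : IsThreeTranspositionSet D) {c d e : G} (hc : c ∈ D) (hd : d ∈ D)
    (he : e ∈ D) (hdc : ¬ Commute d c) (hde : ¬ Commute d e) (hce : Commute c e) :
    Commute d (c * e * d * (c * e)⁻¹) := by
  rw [mul_inv_rev, TSet.inv hD hc, TSet.inv hD he]
  have h1 : e * d * e = d * e * d := (TSet.braid hD hd he hde).symm
  have h2 : d * c * d = c * d * c := TSet.braid hD hd hc hdc
  have h3 : c * e * d * (e * c) = c * d * e * d * c := by
    calc c * e * d * (e * c) = c * (e * d * e) * c := by simp only [mul_assoc]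
      _ = _ := by rw [h1]; simp only [mul_assoc]
  rw [h3]
  calc d * (c * d * e * d * c) = (d * c * d) * (e * d * c) := by simp only [mul_assoc]
    _ = c * d * (c * e) * (d * c) := by rw [h2]; simp only [mul_assoc]
    _ = c * d * e * (c * d * c) := by rw [hce.eq]; simp only [mul_assoc]
    _ = c * d * e * d * c * d := by rw [← h2]; simp only [mul_assoc]

/-- The common computation for both relations. -/
theorem key_commute (hD : IsThreeTranspositionSet D) {c d e v : G} (hc : c ∈ D) (hd : d ∈ D)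
    (he : e ∈ D) (hv : v ∈ D) (hde : ¬ Commute d e) (hvc : ¬ Commute v c)
    (h : Commute d (c * e * v * (c * e)⁻¹)) (hce : Commute c e) :
    Commute (d * v * c * (d * v)⁻¹) e := by
  rw [← commute_conj_iff d]
  have h1 : d * (d * v * c * (d * v)⁻¹) * d⁻¹ = c * v * c := by
    rw [mul_inv_rev, TSet.inv hD hd, TSet.inv hD hv]
    calc d * (d * v * c * (v * d)) * d = (d * d) * (v * c * v) * (d * d) := by simp only [mul_assoc]
      _ = _ := by rw [TSet.sq hD hd, one_mul, mul_one, TSet.braid hD hv hc hvc]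
  have h2 : d * e * d⁻¹ = e * d * e := by rw [TSet.inv hD hd, TSet.braid hD hd he hde]
  rw [h1, h2, ← commute_conj_iff e]
  have h3 : e * (c * v * c) * e⁻¹ = c * e * v * (c * e)⁻¹ := by
    rw [mul_inv_rev, TSet.inv hD hc, TSet.inv hD he, hce.eq]
    calc e * (c * v * c) * e = e * c * v * (c * e) := by simp only [mul_assoc]
      _ = _ := by rw [hce.eq]
  have h4 : e * (e * d * e) * e⁻¹ = d := by
    rw [TSet.inv hD he]
    calc e * (e * d * e) * e = (e * e) * d * (e * e) := by simp only [mul_assoc]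
      _ = d := by rw [TSet.sq hD he, one_mul, mul_one]
  rw [h3, h4]
  exact h.symm

theorem conj_eq_self_of_commute {u e : G} (h : Commute u e) : u * e * u⁻¹ = e := by
  rw [h.eq, mul_inv_cancel_right]

theorem conj_ce_sq (hD : IsThreeTranspositionSet D) {c e x : G} (hc : c ∈ D) (he : e ∈ D)
    (hce : Commute c e) : c * e * (c * e * x * (c * e)⁻¹) * (c * e)⁻¹ = x := by
  have : (c * e) * (c * e) = 1 := by
    rw [← pow_two, hce.mul_pow, pow_two, pow_two, TSet.sq hD hc, TSet.sq hD he, one_mul]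
  calc c * e * (c * e * x * (c * e)⁻¹) * (c * e)⁻¹
      = (c * e) * (c * e) * x * ((c * e) * (c * e))⁻¹ := by group
    _ = x := by rw [this]; group

theorem SameComm.forward (hD : IsThreeTranspositionGroup D) {d v c e : G} (hd : d ∈ D)
    (h : SameComm D d v) (hc : c ∈ D) (he : e ∈ D) (hce : Commute c e) :
    Commute (d * v * c * (d * v)⁻¹) e := by
  by_cases hde : Commute d e
  · have hu : Commute (d * v) e := hde.mul_left ((h.2 e he).2 hde)
    rw [← conj_eq_self_of_commute hu]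
    exact (commute_conj_iff (d * v) c e).2 hce
  by_cases hdc : Commute d c
  · rwa [conj_eq_self_of_commute (hdc.mul_left ((h.2 c hc).2 hdc))]
  have hvc : ¬ Commute v c := fun hh => hdc ((h.2 c hc).1 hh)
  refine key_commute hD.1 hc hd he h.1 hde hvc ?_ hce
  have h3 := TSet.string_commute hD.1 hc hd he hdc hde hce
  have h4 := (h.2 _ (hD.2.1 (c * e) d hd)).2 h3
  rw [← commute_conj_iff (c * e), conj_ce_sq hD.1 hc he hce] at h4
  exact h4.symm

theorem SameComm.transport (hD : IsThreeTranspositionGroup D) {d v c : G} (hd : d ∈ D)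
    (h : SameComm D d v) (hc : c ∈ D) : SameComm D c (d * v * c * (d * v)⁻¹) := by
  have hc' : d * v * c * (d * v)⁻¹ ∈ D := hD.2.1 _ c hc
  refine ⟨hc', fun e he => ⟨fun h1 => ?_, fun h1 => SameComm.forward hD hd h hc he h1⟩⟩
  have h2 := SameComm.forward hD hd h hc' he h1
  have huu : d * v * (d * v) = 1 := by
    rw [← pow_two, h.commute.mul_pow, pow_two, pow_two, TSet.sq hD.1 hd, TSet.sq hD.1 h.1, one_mul]
  have : d * v * (d * v * c * (d * v)⁻¹) * (d * v)⁻¹ = c := by
    calc _ = (d * v * (d * v)) * c * (d * v * (d * v))⁻¹ := by group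
      _ = c := by rw [huu]; group
  rwa [this] at h2

theorem SameNbr.forward (hD : IsThreeTranspositionGroup D) {d w c e : G} (hd : d ∈ D)
    (h : SameNbr D d w) (hne : w ≠ d) (hc : c ∈ D) (he : e ∈ D) (hce : Commute c e)
    (hec : e ≠ c) :
    e ≠ d * w * c * (d * w)⁻¹ ∧ Commute (d * w * c * (d * w)⁻¹) e := by
  have hu : ∀ x ∈ D, x ≠ d → Commute d x → Commute (d * w) x := fun x hx h1 h2 =>
    h2.mul_left ((h.2 x hx).1 ⟨h1, h2⟩).2
  by_cases he' : e ≠ d ∧ Commute d e
  · have hu' := hu e he he'.1 he'.2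
    refine ⟨fun heq => hec ?_, ?_⟩
    · have := conj_eq_self_of_commute hu'
      rw [← this] at heq
      simpa using heq
    · rw [← conj_eq_self_of_commute hu']
      exact (commute_conj_iff (d * w) c e).2 hce
  by_cases hc' : c ≠ d ∧ Commute d c
  · rw [conj_eq_self_of_commute (hu c hc hc'.1 hc'.2)]
    exact ⟨hec, hce⟩
  have hde : ¬ Commute d e := fun hh => by
    have hed : e = d := by_contra fun hn => he' ⟨hn, hh⟩
    exact hc' ⟨fun hcd => hec (hed.trans hcd.symm), hed ▸ hce.symm⟩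
  have hdc : ¬ Commute d c := fun hh => by
    have hcd : c = d := by_contra fun hn => hc' ⟨hn, hh⟩
    exact hde (hcd ▸ hce)
  have hwc : ¬ Commute w c := fun hh => by
    by_cases hcw : c = w
    · exact hde ((h.2 e he).2 ⟨hcw ▸ hec, hcw ▸ hce⟩).2
    · exact hdc ((h.2 c hc).2 ⟨hcw, hh⟩).2
  have hdw := h.not_commute hne
  have h3 := TSet.string_commute hD.1 hc hd he hdc hde hce
  have hd3 : c * e * d * (c * e)⁻¹ ≠ d := by
    intro heq
    have : Commute d (c * e) := by
      have h5 := mul_inv_eq_iff_eq_mul.1 heq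
      exact h5.symm
    exact hdc ((TSet.commute_mul_iff hD.1 hc he hd hec.symm hce).1 this).1
  have h4 := ((h.2 _ (hD.2.1 (c * e) d hd)).1 ⟨hd3, h3⟩).2
  rw [← commute_conj_iff (c * e), conj_ce_sq hD.1 hc he hce] at h4
  refine ⟨fun heq => ?_, key_commute hD.1 hc hd he h.1 hde hwc h4.symm hce⟩
  have h5 : c * e * w * (c * e)⁻¹ = d := by
    have h6 : c * w * c = e * d * e := by
      rw [← TSet.braid hD.1 hd he hde, ← TSet.braid hD.1 h.1 hc hwc]
      rw [heq]
      rw [mul_inv_rev, TSet.inv hD.1 hd, TSet.inv hD.1 h.1]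
      calc w * c * w = (d * d) * (w * c * w) * (d * d) := by
            rw [TSet.sq hD.1 hd, one_mul, mul_one]
        _ = _ := by simp only [mul_assoc]
    rw [mul_inv_rev, TSet.inv hD.1 hc, TSet.inv hD.1 he]
    calc c * e * w * (e * c) = (e * c) * w * (c * e) := by rw [hce.eq]
      _ = e * (c * w * c) * e := by simp only [mul_assoc]
      _ = (e * e) * d * (e * e) := by rw [h6]; simp only [mul_assoc]
      _ = d := by rw [TSet.sq hD.1 he, one_mul, mul_one]
  have h6 : c * e * d * (c * e)⁻¹ = w := by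
    have := conj_ce_sq hD.1 hc he hce (x := w)
    rwa [h5] at this
  rw [h6] at h3
  exact hdw h3

theorem SameNbr.transport (hD : IsThreeTranspositionGroup D) {d w c : G} (hd : d ∈ D)
    (h : SameNbr D d w) (hc : c ∈ D) : SameNbr D c (d * w * c * (d * w)⁻¹) := by
  by_cases hne : w = d
  · subst hne
    rw [TSet.sq hD.1 hd, one_mul, inv_one, mul_one]
    exact SameNbr.refl hc
  have hc' : d * w * c * (d * w)⁻¹ ∈ D := hD.2.1 _ c hc
  refine ⟨hc', fun e he => ⟨fun h1 => SameNbr.forward hD hd h hne hc he h1.2 h1.1, fun h1 => ?_⟩⟩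
  have h2 := SameNbr.forward hD h.1 (h.symm hd) (Ne.symm hne) hc' he h1.2 h1.1
  have hinv : (w * d) = (d * w)⁻¹ := by rw [mul_inv_rev, TSet.inv hD.1 hd, TSet.inv hD.1 h.1]
  have : w * d * (d * w * c * (d * w)⁻¹) * (w * d)⁻¹ = c := by rw [hinv]; group
  rw [this] at h2
  exact ⟨h2.1, h2.2.symm.symm⟩

/-- An equivariant relation whose class products are p-groups lands in a normal p-subgroup. -/
theorem mul_mem_normal_of_relation [Finite G] {p : ℕ} [Fact p.Prime] {R : G → G → Prop}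
    (hD : IsThreeTranspositionGroup D) (hmem : ∀ {a b : G}, R a b → b ∈ D)
    (hrefl : ∀ {a : G}, a ∈ D → R a a)
    (htrans : ∀ {a b c : G}, R a b → R b c → R a c)
    (hconj : ∀ (g : G) {a b : G}, R a b → R (g * a * g⁻¹) (g * b * g⁻¹))
    (htp : ∀ {d v c : G}, d ∈ D → R d v → c ∈ D → R c (d * v * c * (d * v)⁻¹))
    (hU : ∀ a ∈ D, IsPGroup p (Subgroup.closure {x : G | ∃ b, R a b ∧ x = a * b}))
    {d v : G} (hd : d ∈ D) (hdv : R d v) :
    ∃ N : Subgroup G, N.Normal ∧ IsPGroup p N ∧ d * v ∈ N := by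
  set U : G → Subgroup G := fun a => Subgroup.closure {x : G | ∃ b, R a b ∧ x = a * b} with hUdef
  have hUmem : ∀ {a b : G}, R a b → a * b ∈ U a := fun h => Subgroup.subset_closure ⟨_, h, rfl⟩
  have hnorm : ∀ a ∈ D, ∀ c ∈ D, U c ≤ Subgroup.normalizer (U a : Set G) := by
    intro a ha c hc
    rw [hUdef, Subgroup.closure_le]
    rintro _ ⟨b, hb, rfl⟩
    rw [SetLike.mem_coe, Subgroup.mem_normalizer_iff_map_conj_eq]
    have hle : (U a).map (MulAut.conj (c * b)).toMonoidHom ≤ U a := by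
      rw [hUdef, MonoidHom.map_closure, Subgroup.closure_le]
      rintro _ ⟨_, ⟨x, hx, rfl⟩, rfl⟩
      have h1 : R a (c * b * a * (c * b)⁻¹) := htp hc hb ha
      have h2 : R a (c * b * x * (c * b)⁻¹) := htrans h1 (hconj _ hx)
      have h3 := mul_mem (inv_mem (hUmem h1)) (hUmem h2)
      have h4 : (MulAut.conj (c * b)).toMonoidHom (a * x) =
          (a * (c * b * a * (c * b)⁻¹))⁻¹ * (a * (c * b * x * (c * b)⁻¹)) := by
        show c * b * (a * x) * (c * b)⁻¹ = _
        have ha' := TSet.inv hD.1 (hD.2.1 (c * b) a ha)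
        rw [mul_inv_rev a, ha', TSet.inv hD.1 ha, mul_assoc (c * b * a * (c * b)⁻¹),
          ← mul_assoc a a, TSet.sq hD.1 ha, one_mul]
        group
      rw [SetLike.mem_coe, h4]
      exact h3
    refine SetLike.ext' ?_
    refine Set.eq_of_subset_of_ncard_le hle ?_ (Set.toFinite _)
    rw [Subgroup.coe_map]
    exact (Set.ncard_image_of_injective _ (MulAut.conj (c * b)).injective).ge
  have key : ∀ g : G, IsPGroup p (Subgroup.zpowers (d * v) ⊔
      (Subgroup.zpowers (d * v)).map (MulAut.conj g).toMonoidHom : Subgroup G) := by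
    intro g
    refine (IsPGroup.to_sup_of_normal_left' (hU d hd) (hU _ (hD.2.1 g d hd))
      (hnorm d hd _ (hD.2.1 g d hd))).to_le (sup_le_sup ?_ ?_)
    · rw [Subgroup.zpowers_le]; exact hUmem hdv
    · rw [MonoidHom.map_zpowers, Subgroup.zpowers_le]
      refine Subgroup.subset_closure ⟨_, hconj g hdv, ?_⟩
      show g * (d * v) * g⁻¹ = _
      group
  obtain ⟨N, hN, hNp, hle⟩ := BaerSuzuki.baerSuzuki (Subgroup.zpowers (d * v))
    ((key 1).to_le le_sup_left) key
  exact ⟨N, hN, hNp, hle (Subgroup.mem_zpowers _)⟩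

theorem SameComm.mul_mem_pCore [Finite G] (hD : IsThreeTranspositionGroup D) {d v : G}
    (hd : d ∈ D) (h : SameComm D d v) : d * v ∈ Cfsg.pCore 2 G := by
  have hU : ∀ a ∈ D, IsPGroup 2 (Subgroup.closure {x : G | ∃ b, SameComm D a b ∧ x = a * b}) := by
    intro a ha
    refine (isPGroup_closure_of_commute (E := {x : G | SameComm D a x})
      (fun x hx => TSet.sq hD.1 hx.1) (fun x hx y hy => ?_)).to_le ?_
    · exact ((SameComm.symm ha hx).trans hy).commute
    · rw [Subgroup.closure_le]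
      rintro _ ⟨b, hb, rfl⟩
      exact mul_mem (Subgroup.subset_closure (SameComm.refl ha)) (Subgroup.subset_closure hb)
  obtain ⟨N, hN, hNp, hmem⟩ := mul_mem_normal_of_relation (R := SameComm D) (p := 2) hD
    (fun h => h.1) SameComm.refl SameComm.trans (fun g _ _ h => h.conj hD.2.1 g)
    (fun hd h hc => SameComm.transport hD hd h hc) hU hd h
  exact PBasic.le_pCore hN hNp hmem

theorem SameNbr.mul_mem_pCore [Finite G] (hD : IsThreeTranspositionGroup D) {d v : G}
    (hd : d ∈ D) (h : SameNbr D d v) : d * v ∈ Cfsg.pCore 3 G := by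
  haveI : Fact (Nat.Prime 3) := ⟨Nat.prime_three⟩
  suffices hU : ∀ a ∈ D, IsPGroup 3 (Subgroup.closure {x : G | ∃ b, SameNbr D a b ∧ x = a * b}) by
    obtain ⟨N, hN, hNp, hmem⟩ := mul_mem_normal_of_relation (R := SameNbr D) (p := 3) hD
      (fun h => h.1) SameNbr.refl SameNbr.trans (fun g _ _ h => h.conj hD.2.1 g)
      (fun hd h hc => SameNbr.transport hD hd h hc) hU hd h
    exact PBasic.le_pCore hN hNp hmem
  intro a ha
  set S : Set G := {x : G | SameNbr D a x} with hS
  set H := Subgroup.closure S with hH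
  have hnc : ∀ x ∈ S, ∀ y ∈ S, Commute x y → x = y := fun x hx y hy hc =>
    by_contra fun hne => ((SameNbr.symm ha hx).trans hy).not_commute (Ne.symm hne) hc
  have hbr : ∀ x ∈ S, ∀ y ∈ S, x * y * x = y * x * y := by
    intro x hx y hy
    by_cases hc : Commute x y
    · rw [hnc x hx y hy hc]
    · exact TSet.braid hD.1 hx.1 hy.1 hc
  have hcl : ∀ x ∈ S, ∀ y ∈ S, x * y * x⁻¹ ∈ S := by
    intro x hx y hy
    have h1 := ((SameNbr.symm ha hx).trans hy).conj hD.2.1 x
    rw [mul_inv_cancel_right] at h1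
    exact hx.trans h1
  have hcH : ∀ g ∈ H, g ∈ Subgroup.normalizer S := by
    refine fun g hg => (Subgroup.closure_le _).2 (fun x hx => ?_) hg
    refine Subgroup.mem_set_normalizer_iff.2 fun y => ⟨hcl x hx y, fun hy => ?_⟩
    have := hcl x hx _ hy
    rwa [TSet.inv hD.1 hx.1, ← mul_assoc, ← mul_assoc, TSet.sq hD.1 hx.1, one_mul, mul_assoc,
      TSet.sq hD.1 hx.1, mul_one] at this
  set T : Set H := {z | (z : G) ∈ S} with hT
  have hN3 : ∀ z : G, SameNbr D a z → a * z ∈ (Cfsg.pCore 3 H).map H.subtype := by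
    intro z hz
    obtain ⟨M, hM, hM3, hMm⟩ := braidSet.mul_mem_normal_three_group (D := T)
      (fun y hy => Subtype.ext (TSet.sq hD.1 hy.1))
      (fun x hx y hy => Subtype.ext (hbr x hx y hy))
      (fun g y hy => ((Subgroup.mem_set_normalizer_iff.1 (hcH g g.2)) y).1 hy)
      (a := ⟨a, Subgroup.subset_closure (SameNbr.refl ha)⟩) (b := ⟨z, Subgroup.subset_closure hz⟩)
      (SameNbr.refl ha) hz
    exact ⟨_, PBasic.le_pCore hM hM3 hMm, rfl⟩
  refine ((PBasic.pCore_isPGroup 3 H).map H.subtype).to_le ?_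
  rw [Subgroup.closure_le]
  rintro _ ⟨b, hb, rfl⟩
  exact hN3 b hb

theorem commute_of_mul_mem_two [Finite G] (hD : IsThreeTranspositionGroup D) {d v e : G}
    (hd : d ∈ D) (hv : v ∈ D) (he : e ∈ D) (h : d * v ∈ Cfsg.pCore 2 G) (hde : Commute d e) :
    Commute v e := by
  haveI : (Cfsg.pCore 2 G).Normal := Cfsg.pCore_normal 2 G
  have hT : IsPGroup 2 (Subgroup.closure ({d, e} : Set G) ⊔ Cfsg.pCore 2 G : Subgroup G) := by
    refine IsPGroup.to_sup_of_normal_right (isPGroup_closure_of_commute ?_ ?_)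
      (PBasic.pCore_isPGroup 2 G)
    · rintro x (rfl | rfl) <;> apply TSet.sq hD.1 <;> assumption
    · rintro x (rfl | rfl) y (rfl | rfl)
      exacts [Commute.refl _, hde, hde.symm, Commute.refl _]
  refine TSet.commute_of_mem_twoGroup hD.1 hT hv he ?_ ?_
  · have := mul_mem
      (Subgroup.mem_sup_left (T := Cfsg.pCore 2 G)
        (Subgroup.subset_closure (Set.mem_insert d {e})))
      (Subgroup.mem_sup_right (S := Subgroup.closure ({d, e} : Set G)) h)
    rwa [← mul_assoc, TSet.sq hD.1 hd, one_mul] at this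
  · exact Subgroup.mem_sup_left (Subgroup.subset_closure (Set.mem_insert_of_mem d rfl))

theorem sameComm_iff [Finite G] (hD : IsThreeTranspositionGroup D) {d v : G} (hd : d ∈ D) :
    SameComm D d v ↔ v ∈ D ∧ d * v ∈ Cfsg.pCore 2 G := by
  refine ⟨fun h => ⟨h.1, h.mul_mem_pCore hD hd⟩, fun ⟨hv, h⟩ => ⟨hv, fun e he => ⟨fun hc => ?_,
    fun hc => commute_of_mul_mem_two hD hd hv he h hc⟩⟩⟩
  have h' : v * d ∈ Cfsg.pCore 2 G := by
    have := inv_mem h
    rwa [mul_inv_rev, TSet.inv hD.1 hd, TSet.inv hD.1 hv] at this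
  exact commute_of_mul_mem_two hD hv hd he h' hc

/-- An element of order two is not in a 3-group. -/
theorem eq_one_of_sq_mem_three {N : Subgroup G} (hN : IsPGroup 3 N) {x : G} (hx : x ∈ N)
    (h2 : x ^ 2 = 1) : x = 1 := by
  obtain ⟨k, hk⟩ := hN ⟨x, hx⟩
  rw [← orderOf_eq_one_iff]
  exact Nat.eq_one_of_dvd_coprimes (Nat.Coprime.pow_right k (by decide))
    (orderOf_dvd_of_pow_eq_one h2) (orderOf_dvd_of_pow_eq_one (congrArg Subtype.val hk))

theorem sameNbr_step [Finite G] (hD : IsThreeTranspositionGroup D) {d w y : G}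
    (hd : d ∈ D) (hw : w ∈ D) (hy : y ∈ D) (h : d * w ∈ Cfsg.pCore 3 G) (hyd : y ≠ d)
    (hc : Commute d y) : y ≠ w ∧ Commute w y := by
  haveI : (Cfsg.pCore 3 G).Normal := Cfsg.pCore_normal 3 G
  have h3 := PBasic.pCore_isPGroup 3 G
  have hnot : d * y ∉ Cfsg.pCore 3 G := fun hm => hyd (by
    have := eq_one_of_sq_mem_three h3 hm
      ((commute_iff_sq_eq_one (TSet.sq hD.1 hd) (TSet.sq hD.1 hy)).1 hc)
    rw [mul_eq_one_iff_eq_inv, TSet.inv hD.1 hy] at this
    exact this.symm)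
  refine ⟨fun hyw => hnot (hyw ▸ h), by_contra fun hwy => hnot ?_⟩
  set π := QuotientGroup.mk' (Cfsg.pCore 3 G) with hπ
  have hdw : π w = π d := by
    have : π (d * w) = 1 := (QuotientGroup.eq_one_iff _).2 h
    rw [map_mul, mul_eq_one_iff_eq_inv, ← map_inv, TSet.inv hD.1 hw] at this
    exact this.symm
  have hcube : (π d * π y) ^ 3 = 1 := by
    rw [← hdw, ← map_mul, ← map_pow, TSet.cube hD.1 hw hy hwy, map_one]
  have hsq : (π d * π y) ^ 2 = 1 := by
    rw [← map_mul, ← map_pow,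
      (commute_iff_sq_eq_one (TSet.sq hD.1 hd) (TSet.sq hD.1 hy)).1 hc, map_one]
  have : π (d * y) = 1 := by
    rw [map_mul]
    rw [pow_succ, hsq, one_mul] at hcube
    exact hcube
  exact (QuotientGroup.eq_one_iff _).1 this

theorem sameNbr_iff [Finite G] (hD : IsThreeTranspositionGroup D) {d w : G} (hd : d ∈ D) :
    SameNbr D d w ↔ w ∈ D ∧ d * w ∈ Cfsg.pCore 3 G := by
  refine ⟨fun h => ⟨h.1, h.mul_mem_pCore hD hd⟩, fun ⟨hw, h⟩ => ⟨hw, fun y hy =>
    ⟨fun hy' => sameNbr_step hD hd hw hy h hy'.1 hy'.2, fun hy' => ?_⟩⟩⟩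
  have h' : w * d ∈ Cfsg.pCore 3 G := by
    have := inv_mem h
    rwa [mul_inv_rev, TSet.inv hD.1 hd, TSet.inv hD.1 hw] at this
  exact sameNbr_step hD hw hd hy h' hy'.1 hy'.2

end Cfsg.Agent.Fischer

namespace Cfsg.Agent.Fischer

variable {G : Type*} [Group G] {D : Set G}

theorem TClass.exists_not_commute (hD : IsThreeTranspositionClass D)
    (hD2 : ∃ a ∈ D, ∃ b ∈ D, a ≠ b) {d : G} (hd : d ∈ D) : ∃ c ∈ D, ¬ Commute d c := by
  by_contra h
  push Not at h
  have hz := mem_center_of_commute_gen hD.2.2 h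
  have hall : ∀ x ∈ D, x = d := by
    intro x hx
    obtain ⟨g, hg⟩ := TClass.transitive hD d hd x hx
    rw [← hg, Subgroup.mem_center_iff.1 hz g, mul_inv_cancel_right]
  obtain ⟨a, ha, b, hb, hab⟩ := hD2
  exact hab ((hall a ha).trans (hall b hb).symm)

theorem mul_conj_mem {N : Subgroup G} [N.Normal] {d g : G} (hg : g ∈ N) :
    d⁻¹ * (g * d * g⁻¹) ∈ N := by
  have h := (inferInstance : N.Normal).conj_mem g hg d⁻¹
  rw [inv_inv] at h
  have := mul_mem h (inv_mem hg)
  convert this using 1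
  group

theorem SameComm.eq_conj [Finite G] (hD : IsThreeTranspositionClass D)
    (hD2 : ∃ a ∈ D, ∃ b ∈ D, a ≠ b) {d v : G} (hd : d ∈ D) (h : SameComm D d v) :
    ∃ g ∈ Cfsg.pCore 2 G, v = g * d * g⁻¹ := by
  have hT := TClass.toGroup hD
  obtain ⟨c, hc, hdc⟩ := TClass.exists_not_commute hD hD2 hd
  have hvc : ¬ Commute v c := fun hh => hdc ((h.2 c hc).1 hh)
  refine ⟨c * (d * v * c * (d * v)⁻¹),
    (SameComm.transport hT hd h hc).mul_mem_pCore hT hc, ?_⟩
  have hu : Commute (d * v) d := (Commute.refl d).mul_left h.commute.symm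
  have sv := TSet.sq hD.1 h.1
  have sc := TSet.sq hD.1 hc
  have hud : (d * v)⁻¹ * d * (d * v) = d := by rw [mul_assoc, ← hu.eq, inv_mul_cancel_left]
  symm
  calc c * (d * v * c * (d * v)⁻¹) * d * (c * (d * v * c * (d * v)⁻¹))⁻¹
      = c * (d * v) * (c * ((d * v)⁻¹ * d * (d * v)) * c⁻¹) * (d * v)⁻¹ * c⁻¹ := by group
    _ = c * (d * v) * (c * d * c) * (d * v)⁻¹ * c := by rw [hud, TSet.inv hD.1 hc]
    _ = c * (d * v) * (d * c * d) * (d * v)⁻¹ * c := by rw [TSet.braid hD.1 hd hc hdc]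
    _ = c * (v * c * v) * c := by
      rw [mul_inv_rev, TSet.inv hD.1 hd, TSet.inv hD.1 h.1]
      calc c * (d * v) * (d * c * d) * (v * d) * c
          = c * (d * v * d) * c * (d * v * d) * c := by simp only [mul_assoc]
        _ = _ := by
          rw [h.commute.eq, mul_assoc v d d, TSet.sq hD.1 hd, mul_one]
          simp only [mul_assoc]
    _ = v := by
      rw [TSet.braid hD.1 h.1 hc hvc]
      simp only [mul_assoc, sc, mul_one]
      rw [← mul_assoc c c, sc, one_mul]

theorem SameNbr.eq_conj [Finite G] (hD : IsThreeTranspositionGroup D) {d w : G} (hd : d ∈ D)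
    (h : SameNbr D d w) : ∃ g ∈ Cfsg.pCore 3 G, w = g * d * g⁻¹ := by
  by_cases hne : w = d
  · exact ⟨1, one_mem _, by rw [hne]; group⟩
  · exact ⟨d * w, h.mul_mem_pCore hD hd,
      (TSet.conj_swap hD.1 hd h.1 (h.not_commute hne)).symm⟩

end Cfsg.Agent.Fischer
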