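import Mathlib
import Cfsg.Agent.Lib.Fischer.Basic

/-!
A normal 2-subgroup of a group generated by a class of 3-transpositions is elementary abelian when
perpendicular sets generate modulo it.
-/

set_option autoImplicit false

namespace Cfsg.Agent.Fischer.PerpGen

open Subgroup
open scoped commutatorElement

variable {G : Type*} [Group G]

/-- Elementwise commuting sets generate elementwise commuting subgroups. -/
theorem commute_closures {S T : Set G} (h : ∀ a ∈ S, ∀ b ∈ T, Commute a b) :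
    ∀ x ∈ closure S, ∀ y ∈ closure T, Commute x y := by
  have h1 : closure S ≤ centralizer T := by
    rw [closure_le]
    exact fun a ha => mem_centralizer_iff.2 fun b hb => (h a ha b hb).eq.symm
  intro x hx y hy
  have h2 : closure T ≤ centralizer ({x} : Set G) := by
    rw [closure_le]
    exact fun b hb => mem_centralizer_singleton_iff.2 (mem_centralizer_iff.1 (h1 hx) b hb)
  exact (mem_centralizer_singleton_iff.1 (h2 hy)).symm

/-- The coset class of e. -/
def cls (W : Subgroup G) (e : G) : Set G := {y | ∃ x ∈ W, y = x * e * x⁻¹}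

variable [Finite G] {D : Set G} {W : Subgroup G}

theorem elementaryAbelian' (hD : IsThreeTranspositionClass D) (hZ : center G = ⊥) (hn : W.Normal)
    (hW : IsPGroup 2 W)
    (hA : ∀ e ∈ D, ∀ g ∈ D, ¬ Commute e g →
      closure ({d ∈ D | Commute d e} ∪ {d ∈ D | Commute d g}) ⊔ W = ⊤)
    (hB : ∃ M : Subgroup G, Odd (M ⊔ W).index ∧
      M ⊓ W ≤ ⨆ e ∈ D, closure {d ∈ D | Commute d e} ⊓ W)
    (hC : ∀ e ∈ D, ∃ l : List G, Odd l.length ∧ (∀ d ∈ l, d ∈ D ∧ Commute d e) ∧ l.prod ∈ W) :
    (∀ x ∈ W, ∀ y ∈ W, x * y = y * x) ∧ ∀ x ∈ W, x ^ 2 = 1 := by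
  have hconj := TClass.conjInv hD
  have hgen := hD.2.2
  have sq : ∀ {a}, a ∈ D → a * a = 1 := fun ha => TSet.sq hD.1 ha
  -- members which agree up to W commute
  have cmW : ∀ {a b}, a ∈ D → b ∈ D → (a * b) ^ 2 ∈ W → Commute a b := by
    intro a b ha hb h
    obtain ⟨k, hk⟩ := hW ⟨_, h⟩
    refine TSet.commute_of_two_pow hD.1 ha hb (k := k + 1) ?_
    rw [pow_succ', pow_mul]
    exact congrArg Subtype.val hk
  have clsD : ∀ {e}, e ∈ D → ∀ y ∈ cls W e, y ∈ D := by
    rintro e he _ ⟨x, -, rfl⟩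
    exact hconj x e he
  -- W moves members inside their commuting sets
  have cmx : ∀ {d e}, d ∈ D → e ∈ D → Commute d e → ∀ x ∈ W, Commute (x * d * x⁻¹) e := by
    intro d e hd he hde x hx
    refine cmW (hconj x d hd) he ?_
    have hw : x * d * x⁻¹ * d ∈ W := by
      have := W.mul_mem hx (hn.conj_mem _ (W.inv_mem hx) d)
      rwa [TSet.inv hD.1 hd, ← mul_assoc, ← mul_assoc] at this
    have e1 : (x * d * x⁻¹ * e) ^ 2 =
        (x * d * x⁻¹ * d) * ((d * e) * (x * d * x⁻¹ * d) * (d * e)⁻¹) * (d * e) ^ 2 := by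
      have e2 : x * d * x⁻¹ * e = (x * d * x⁻¹ * d) * (d * e) := by
        rw [mul_assoc (x * d * x⁻¹) d (d * e), ← mul_assoc d d e, sq hd, one_mul]
      rw [e2, pow_two, pow_two]
      group
    rw [e1, (commute_iff_sq_eq_one (sq hd) (sq he)).1 hde, mul_one]
    exact W.mul_mem hw (hn.conj_mem _ hw _)
  have clsC : ∀ {d e}, d ∈ D → e ∈ D → Commute d e → ∀ y ∈ cls W d, ∀ z ∈ cls W e, Commute y z := by
    rintro d e hd he hde _ ⟨x, hx, rfl⟩ z hz
    have hz' := clsD he z hz
    obtain ⟨x', hx', rfl⟩ := hz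
    have h1 := cmx hd he hde (x'⁻¹ * x) (W.mul_mem (W.inv_mem hx') hx)
    have h2 := h1.map (MulAut.conj x')
    simpa [MulAut.conj_apply, mul_assoc] using h2
  set T : G → Subgroup G := fun e => closure (cls W e) with hT
  have hTC : ∀ {d e}, d ∈ D → e ∈ D → Commute d e → ∀ a ∈ T d, ∀ b ∈ T e, Commute a b :=
    fun hd he hde => commute_closures (clsC hd he hde)
  have self_cls : ∀ e, e ∈ cls W e := fun e => ⟨1, W.one_mem, by simp⟩
  have self_T : ∀ e, e ∈ T e := fun e => subset_closure (self_cls e)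
  have T2 : ∀ {e}, e ∈ D → ∀ a ∈ T e, a * a = 1 := by
    intro e he a ha
    induction ha using closure_induction with
    | mem z hz => exact sq (clsD he z hz)
    | one => exact one_mul 1
    | mul u v hu hv iu iv =>
      rw [mul_assoc, ← mul_assoc v u v, (hTC he he (Commute.refl e) v hv u hu).eq, mul_assoc u v v, iv,
        mul_one, iu]
    | inv u _ iu => rw [← mul_inv_rev, iu, inv_one]
  have Tconj : ∀ g e, ∀ a ∈ T e, g * a * g⁻¹ ∈ T (g * e * g⁻¹) := by
    intro g e
    suffices T e ≤ (T (g * e * g⁻¹)).comap (MulAut.conj g).toMonoidHom from fun a ha => this ha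
    rw [hT, closure_le]
    rintro _ ⟨x, hx, rfl⟩
    refine subset_closure ⟨g * x * g⁻¹, hn.conj_mem x hx g, ?_⟩
    simp only [MulEquiv.coe_toMonoidHom, MulAut.conj_apply]
    group
  have TW : ∀ e, ∀ a ∈ T e, ∀ x ∈ W, x * a * x⁻¹ ∈ T e := by
    intro e a ha x hx
    suffices T e ≤ (T e).comap (MulAut.conj x).toMonoidHom from this ha
    rw [hT, closure_le]
    rintro _ ⟨y, hy, rfl⟩
    refine subset_closure ⟨x * y, W.mul_mem hx hy, ?_⟩
    simp only [MulEquiv.coe_toMonoidHom, MulAut.conj_apply]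
    group
  -- the parts inside W of the various T commute
  have ACC : ∀ {e g}, e ∈ D → g ∈ D → ∀ a ∈ T e, a ∈ W → ∀ b ∈ T g, b ∈ W → Commute a b := by
    intro e g he hg a ha haW b hb hbW
    by_cases heg : Commute e g
    · exact hTC he hg heg a ha b hb
    set S := {d ∈ D | Commute d e} ∪ {d ∈ D | Commute d g}
    set K := closure S
    have hWK : W ≤ normalizer (K : Set G) := by
      intro x hx
      have key : ∀ y ∈ W, ∀ z ∈ K, y * z * y⁻¹ ∈ K := by
        intro y hy z hz
        suffices K ≤ K.comap (MulAut.conj y).toMonoidHom from this hz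
        rw [closure_le]
        rintro d (⟨hd, hde⟩ | ⟨hd, hdg⟩)
        · exact subset_closure (Or.inl ⟨hconj y d hd, cmx hd he hde y hy⟩)
        · exact subset_closure (Or.inr ⟨hconj y d hd, cmx hd hg hdg y hy⟩)
      rw [mem_normalizer_iff]
      refine fun z => ⟨fun hz => key x hx z hz, fun hz => ?_⟩
      have := key x⁻¹ (W.inv_mem hx) _ hz
      simpa [mul_assoc] using this
    have hKn : K.Normal := by
      rw [← normalizer_eq_top_iff]
      exact top_le_iff.1 ((hA e he g hg heg).ge.trans (sup_le le_normalizer hWK))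
    have hK : K = ⊤ := by
      refine top_le_iff.1 (hgen.ge.trans ((closure_le _).2 fun d hd => ?_))
      obtain ⟨c, hc⟩ := TClass.transitive hD e he d hd
      rw [← hc]
      exact hKn.conj_mem _ (subset_closure (Or.inl ⟨he, Commute.refl e⟩)) c
    have h1 : ⁅a, b⁆ ∈ T e := by
      rw [commutatorElement_def, mul_assoc, mul_assoc, ← mul_assoc b a⁻¹ b⁻¹]
      exact (T e).mul_mem ha (TW e _ ((T e).inv_mem ha) b hbW)
    have h2 : ⁅a, b⁆ ∈ T g := by
      rw [commutatorElement_def]
      exact (T g).mul_mem (TW g b hb a haW) ((T g).inv_mem hb)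
    have h3 : ⁅a, b⁆ ∈ center G := by
      refine mem_center_of_commute_gen (show closure S = ⊤ from hK) ?_
      rintro d (⟨hd, hde⟩ | ⟨hd, hdg⟩)
      · exact hTC he hd hde.symm _ h1 d (self_T d)
      · exact hTC hg hd hdg.symm _ h2 d (self_T d)
    rw [hZ, mem_bot] at h3
    exact commutatorElement_eq_one_iff_commute.1 h3
  set CS : Set G := {a | a ∈ W ∧ ∃ e ∈ D, a ∈ T e}
  set C := closure CS
  have hCW : C ≤ W := (closure_le _).2 fun a ha => ha.1
  have hCab : ∀ a ∈ C, ∀ b ∈ C, Commute a b := commute_closures (by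
    rintro a ⟨haW, e, he, ha⟩ b ⟨hbW, g, hg, hb⟩
    exact ACC he hg a ha haW b hb hbW)
  have hC2 : ∀ a ∈ C, a * a = 1 := by
    intro a ha
    induction ha using closure_induction with
    | mem z hz =>
      obtain ⟨-, e, he, hz⟩ := hz
      exact T2 he z hz
    | one => exact one_mul 1
    | mul u v hu hv iu iv =>
      rw [mul_assoc, ← mul_assoc v u v, (hCab v hv u hu).eq, mul_assoc u v v, iv, mul_one, iu]
    | inv u _ iu => rw [← mul_inv_rev, iu, inv_one]
  have hCn : C.Normal := ⟨fun a ha g => by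
    suffices C ≤ C.comap (MulAut.conj g).toMonoidHom from this ha
    rw [closure_le]
    rintro a ⟨haW, e, he, ha⟩
    exact subset_closure ⟨hn.conj_mem a haW g, _, hconj g e he, Tconj g e a ha⟩⟩
  -- W is central modulo C
  have hphi : ∀ x ∈ W, ∀ d ∈ D, x * d * x⁻¹ * d ∈ C := by
    intro x hx d hd
    refine subset_closure ⟨?_, d, hd, (T d).mul_mem (subset_closure ⟨x, hx, rfl⟩) (self_T d)⟩
    have := W.mul_mem hx (hn.conj_mem _ (W.inv_mem hx) d)
    rwa [TSet.inv hD.1 hd, ← mul_assoc, ← mul_assoc] at this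
  have hcent : ∀ x ∈ W, ∀ g : G, ⁅x, g⁆ ∈ C := by
    intro x hx g
    have hg : g ∈ closure D := hgen ▸ mem_top g
    induction hg using closure_induction with
    | mem d hd => rw [commutatorElement_def, TSet.inv hD.1 hd]; exact hphi x hx d hd
    | one => simp [commutatorElement_def]
    | mul u v _ _ iu iv =>
      rw [show ⁅x, u * v⁆ = ⁅x, u⁆ * (u * ⁅x, v⁆ * u⁻¹) by simp only [commutatorElement_def]; group]
      exact C.mul_mem iu (hCn.conj_mem _ iv u)
    | inv u _ iu =>
      rw [show ⁅x, u⁻¹⁆ = u⁻¹ * ⁅x, u⁆⁻¹ * u⁻¹⁻¹ by simp only [commutatorElement_def]; group]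
      exact hCn.conj_mem _ (C.inv_mem iu) _
  -- the kernel of the action of W on C
  set C0 := W ⊓ centralizer (C : Set G)
  have hC0n : C0.Normal := ⟨fun a ha g => ⟨hn.conj_mem a ha.1 g, mem_centralizer_iff.2 fun c hc => by
    have h := mem_centralizer_iff.1 ha.2 _ (show g⁻¹ * c * g ∈ C by simpa using hCn.conj_mem c hc g⁻¹)
    have h' : g * (g⁻¹ * c * g * a) * g⁻¹ = g * (a * (g⁻¹ * c * g)) * g⁻¹ := by rw [h]
    simpa [mul_assoc] using h'⟩⟩
  have hCC0 : C ≤ C0 := fun c hc => ⟨hCW hc, mem_centralizer_iff.2 fun b hb => (hCab b hb c hc).eq⟩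
  have hEW : ∀ {e}, e ∈ D → closure {d ∈ D | Commute d e} ⊓ W ≤ C0 := by
    intro e he x hx
    obtain ⟨hxE, hxW⟩ : x ∈ closure {d ∈ D | Commute d e} ∧ x ∈ W := hx
    refine ⟨hxW, ?_⟩
    have hxe : ∀ a ∈ T e, Commute x a := by
      have hle : closure {d ∈ D | Commute d e} ≤ centralizer (T e : Set G) := by
        rw [closure_le]
        rintro d ⟨hd, hde⟩
        exact mem_centralizer_iff.2 fun a ha => (hTC he hd hde.symm a ha d (self_T d)).eq
      exact fun a ha => (mem_centralizer_iff.1 (hle hxE) a ha).symm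
    have hle : C ≤ centralizer ({x} : Set G) := by
      rw [closure_le]
      rintro a ⟨haW, g, hg, ha⟩
      rw [SetLike.mem_coe, mem_centralizer_singleton_iff]
      obtain ⟨h, hh⟩ := TClass.transitive hD g hg e he
      have h1 := hxe _ (hh ▸ Tconj h g a ha)
      have h2 := h1.map (MulAut.conj h⁻¹)
      have h3 : Commute (h⁻¹ * x * h) a := by simpa [MulAut.conj_apply, mul_assoc] using h2
      have hc : x * (h⁻¹ * x⁻¹ * h) ∈ C := by
        have := hcent x hxW h⁻¹
        simpa [commutatorElement_def, mul_assoc] using this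
      have h4 : Commute (x * (h⁻¹ * x⁻¹ * h)) a := hCab _ hc a (subset_closure ⟨haW, g, hg, ha⟩)
      have h5 := h4.mul_left h3
      rw [show x * (h⁻¹ * x⁻¹ * h) * (h⁻¹ * x * h) = x by group] at h5
      exact h5.eq.symm
    exact mem_centralizer_iff.2 fun c hc => mem_centralizer_singleton_iff.1 (hle hc)
  -- transfer
  have hWC0 : W ≤ C0 := by
    obtain ⟨e₀, he₀, -⟩ := hD.2.1
    obtain ⟨M, hMi, hMW⟩ := hB
    have hMC : M ⊓ W ≤ C0 := hMW.trans (iSup₂_le fun e he => hEW he)
    set mk := QuotientGroup.mk' C0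
    set E := M.map mk with hE
    set Z := W.map mk with hZdef
    have hmk : ∀ {x}, mk x = 1 ↔ x ∈ C0 := fun {x} => QuotientGroup.eq_one_iff x
    have hzc : ∀ z ∈ Z, ∀ q : G ⧸ C0, Commute z q := by
      rintro _ ⟨x, hx, rfl⟩ q
      obtain ⟨g, rfl⟩ := QuotientGroup.mk'_surjective C0 q
      rw [← commutatorElement_eq_one_iff_commute, ← map_commutatorElement, hmk]
      exact hCC0 (hcent x hx g)
    have hEZ : ∀ q, q ∈ E → q ∈ Z → q = 1 := by
      rintro _ ⟨x, hx, rfl⟩ ⟨w, hw, hwx⟩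
      refine hmk.2 (hMC ⟨hx, ?_⟩)
      have : w⁻¹ * x ∈ C0 := hmk.1 (by rw [map_mul, map_inv, hwx, inv_mul_cancel])
      simpa using W.mul_mem hw this.1
    set Ψ : E × Z →* G ⧸ C0 := MonoidHom.noncommCoprod E.subtype Z.subtype
      fun m n => (hzc n n.2 m).symm with hΨdef
    have hΨ : Function.Injective Ψ := by
      rw [← MonoidHom.ker_eq_bot_iff, eq_bot_iff]
      rintro ⟨a, b⟩ h
      have h1 : (a : G ⧸ C0) * b = 1 := h
      have hb : (b : G ⧸ C0) = 1 := by
        refine hEZ _ ?_ b.2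
        rw [eq_inv_of_mul_eq_one_right h1]
        exact E.inv_mem a.2
      rw [hb, mul_one] at h1
      rw [mem_bot]
      exact Prod.ext (Subtype.ext h1) (Subtype.ext hb)
    set φ : Ψ.range →* Z := (MonoidHom.snd E Z).comp (MonoidHom.ofInjective hΨ).symm.toMonoidHom with hφ
    have hφz : ∀ (y : Ψ.range) (z : Z), (y : G ⧸ C0) = z → φ y = z := by
      intro y z hy
      have : y = MonoidHom.ofInjective hΨ (1, z) := Subtype.ext (by
        rw [MonoidHom.ofInjective_apply, hy]
        show (z : G ⧸ C0) = ((1 : E) : G ⧸ C0) * z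
        simp)
      rw [this, hφ]
      simp
    have hodd : Odd Ψ.range.index := by
      have : Ψ.range = (M ⊔ W).map mk := by
        refine (MonoidHom.noncommCoprod_range _ _ _).trans ?_
        rw [range_subtype, range_subtype, Subgroup.map_sup]
      rw [this, index_map_eq _ (QuotientGroup.mk'_surjective C0)
        (by rw [QuotientGroup.ker_mk']; exact inf_le_left.trans le_sup_right)]
      exact hMi
    let _ : CommGroup Z :=
      { (inferInstance : Group Z) with mul_comm := fun a b => Subtype.ext (hzc a a.2 b).eq }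
    set τ := MonoidHom.transfer φ
    have hZp : IsPGroup 2 Z := hW.map mk
    have hτz : ∀ z : Z, τ (z : G ⧸ C0) = z ^ Ψ.range.index := by
      intro z
      rw [MonoidHom.transfer_eq_pow φ (z : G ⧸ C0) fun k g₀ _ => by
        rw [mul_assoc, ((hzc z z.2 g₀).pow_left k).eq, ← mul_assoc, inv_mul_cancel, one_mul]]
      exact hφz _ _ (by simp)
    have hτD : ∀ d ∈ D, τ (mk d) = τ (mk e₀) := by
      intro d hd
      obtain ⟨c, hc⟩ := TClass.transitive hD e₀ he₀ d hd
      rw [← hc, map_mul, map_mul, map_mul, map_mul, map_inv, map_inv, mul_comm (τ (mk c)),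
        mul_inv_cancel_right]
    set a := τ (mk e₀)
    have ha2 : a * a = 1 := by rw [← map_mul, ← map_mul, sq he₀, map_one, map_one]
    have ha : a = 1 := by
      obtain ⟨l, ⟨n, hl⟩, hlD, hlW⟩ := hC e₀ he₀
      have hlE : l.prod ∈ closure {d ∈ D | Commute d e₀} :=
        list_prod_mem fun d hd => subset_closure (hlD d hd)
      have h1 : τ (mk l.prod) = a ^ l.length := by
        rw [map_list_prod, map_list_prod, List.prod_eq_pow_card _ a ?_, List.length_map, List.length_map]
        intro y hy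
        simp only [List.mem_map] at hy
        obtain ⟨_, ⟨d, hd, rfl⟩, rfl⟩ := hy
        exact hτD d (hlD d hd).1
      rw [hmk.2 (hEW he₀ ⟨hlE, hlW⟩), map_one, hl, pow_succ, pow_mul, pow_two, ha2, one_pow, one_mul] at h1
      exact h1.symm
    have hτ : ∀ g, τ (mk g) = 1 := by
      intro g
      have hg : g ∈ closure D := hgen ▸ mem_top g
      induction hg using closure_induction with
      | mem d hd => rw [hτD d hd, ha]
      | one => rw [map_one, map_one]
      | mul u v _ _ iu iv => rw [map_mul, map_mul, iu, iv, one_mul]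
      | inv u _ iu => rw [map_inv, map_inv, iu, inv_one]
    intro x hx
    have hz : (⟨mk x, mem_map_of_mem mk hx⟩ : Z) ^ Ψ.range.index = 1 := by
      rw [← hτz]; exact hτ x
    obtain ⟨k, hk⟩ := hZp ⟨mk x, mem_map_of_mem mk hx⟩
    have h1 := Nat.eq_one_of_dvd_coprimes (Nat.Coprime.pow_left k (Nat.coprime_two_left.2 hodd))
      (orderOf_dvd_of_pow_eq_one hk) (orderOf_dvd_of_pow_eq_one hz)
    exact hmk.1 (congrArg Subtype.val (orderOf_eq_one_iff.1 h1))
  -- conclusion
  have hmul : ∀ x ∈ W, ∀ y ∈ W, ∀ d ∈ D,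
      x * y * d * (x * y)⁻¹ * d = (x * d * x⁻¹ * d) * (y * d * y⁻¹ * d) := by
    intro x hx y hy d hd
    have h1 := mem_centralizer_iff.1 (hWC0 hx).2 _ (hphi y hy d hd)
    have h2 := hCab _ (hphi x hx d hd) _ (hphi y hy d hd)
    calc x * y * d * (x * y)⁻¹ * d = x * (y * d * y⁻¹ * (d * d)) * x⁻¹ * d := by rw [sq hd]; group
      _ = x * (y * d * y⁻¹ * d) * x⁻¹ * (x * d * x⁻¹ * d) := by group
      _ = (x * d * x⁻¹ * d) * (y * d * y⁻¹ * d) := by
          rw [← h1, mul_inv_cancel_right]; exact h2.eq.symm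
  have hone : ∀ x ∈ W, (∀ d ∈ D, x * d * x⁻¹ * d = 1) → x = 1 := by
    intro x hx h
    rw [← mem_bot, ← hZ]
    refine mem_center_of_commute_gen hgen fun d hd => ?_
    have := eq_inv_of_mul_eq_one_left (h d hd)
    rw [TSet.inv hD.1 hd] at this
    exact mul_inv_eq_iff_eq_mul.1 this
  refine ⟨fun x hx y hy => ?_, fun x hx => ?_⟩
  · have h : x * y * (y * x)⁻¹ = 1 := by
      refine hone _ (W.mul_mem (W.mul_mem hx hy) (W.inv_mem (W.mul_mem hy hx))) fun d hd => ?_
      have h1 := hmul x hx y hy d hd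
      have h2 := hmul y hy x hx d hd
      rw [(hCab _ (hphi y hy d hd) _ (hphi x hx d hd)).eq, ← h1] at h2
      have hz : x * y * (y * x)⁻¹ ∈ W := W.mul_mem (W.mul_mem hx hy) (W.inv_mem (W.mul_mem hy hx))
      have h3 := hmul _ hz (y * x) (W.mul_mem hy hx) d hd
      rw [inv_mul_cancel_right, h2] at h3
      exact right_eq_mul.1 h3
    exact mul_inv_eq_one.1 h
  · refine hone _ (W.pow_mem hx 2) fun d hd => ?_
    rw [pow_two, hmul x hx x hx d hd, hC2 _ (hphi x hx d hd)]

/-- The version with the commuting set of one member as subgroup of odd index. -/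
theorem elementaryAbelian (hD : IsThreeTranspositionClass D) (hZ : center G = ⊥) (hn : W.Normal)
    (hW : IsPGroup 2 W)
    (hA : ∀ e ∈ D, ∀ g ∈ D, ¬ Commute e g →
      closure ({d ∈ D | Commute d e} ∪ {d ∈ D | Commute d g}) ⊔ W = ⊤)
    (hB : ∀ e ∈ D, Odd (closure {d ∈ D | Commute d e} ⊔ W).index)
    (hC : ∀ e ∈ D, ∃ l : List G, Odd l.length ∧ (∀ d ∈ l, d ∈ D ∧ Commute d e) ∧ l.prod ∈ W) :
    (∀ x ∈ W, ∀ y ∈ W, x * y = y * x) ∧ ∀ x ∈ W, x ^ 2 = 1 := by
  obtain ⟨d₀, hd₀, -⟩ := hD.2.1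
  exact elementaryAbelian' hD hZ hn hW hA ⟨_, hB d₀ hd₀,
    le_iSup₂_of_le (f := fun e _ => closure {d ∈ D | Commute d e} ⊓ W) d₀ hd₀ le_rfl⟩ hC

end Cfsg.Agent.Fischer.PerpGen
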