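import Mathlib
import Cfsg.Agent.Lib.Fischer.PerpGen

/-!
The action of 3-transpositions on an elementary abelian normal 2-subgroup.
-/

set_option autoImplicit false

namespace Cfsg.Agent.Fischer.CoverAction

open Subgroup

variable {G : Type*} [Group G] [Finite G]

/-- The commutator map. -/
def phi (e x : G) : G := x * e * x⁻¹ * e

/-- An elementary abelian normal 2-subgroup of a 3-transposition group with generating perpendicular sets. -/
structure Cover (D : Set G) (W : Subgroup G) : Prop where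
  hD : IsThreeTranspositionClass D
  hZ : center G = ⊥
  hn : W.Normal
  hab : ∀ x ∈ W, ∀ y ∈ W, x * y = y * x
  hsq : ∀ x ∈ W, x * x = 1
  hA : ∀ e ∈ D, ∀ g ∈ D, ¬ Commute e g →
    closure ({d ∈ D | Commute d e} ∪ {d ∈ D | Commute d g}) ⊔ W = ⊤

variable {D : Set G} {W : Subgroup G}

theorem Cover.inv (h : Cover D W) {x : G} (hx : x ∈ W) : x⁻¹ = x :=
  inv_eq_of_mul_eq_one_right (h.hsq x hx)

theorem Cover.phi_mem (h : Cover D W) {e x : G} (he : e ∈ D) (hx : x ∈ W) : phi e x ∈ W := by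
  have := W.mul_mem hx (h.hn.conj_mem _ (W.inv_mem hx) e)
  rwa [TSet.inv h.hD.1 he, ← mul_assoc, ← mul_assoc] at this

theorem Cover.conj_eq (h : Cover D W) {e x : G} (hx : x ∈ W) : e * x * e = x * phi e x := by
  rw [phi, h.inv hx]
  simp only [← mul_assoc]
  rw [h.hsq x hx, one_mul]

theorem Cover.phi_one (h : Cover D W) {e : G} (he : e ∈ D) : phi e (1 : G) = 1 := by
  simp [phi, TSet.sq h.hD.1 he]

theorem Cover.phi_mul (h : Cover D W) {e x y : G} (he : e ∈ D) (hx : x ∈ W) (hy : y ∈ W) :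
    phi e (x * y) = phi e x * phi e y := by
  have h1 : phi e (x * y) = x * phi e y * x⁻¹ * phi e x := by
    simp only [phi, _root_.mul_inv_rev, mul_assoc, inv_mul_cancel_left]
    rw [← mul_assoc e e, TSet.sq h.hD.1 he, one_mul]
  rw [h1, h.hab x hx _ (h.phi_mem he hy), mul_inv_cancel_right]
  exact h.hab _ (h.phi_mem he hy) _ (h.phi_mem he hx)

theorem Cover.phi_self_phi (h : Cover D W) {e x : G} (he : e ∈ D) (hx : x ∈ W) :
    phi e (phi e x) = 1 := by
  have hp := h.phi_mem he hx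
  have h1 : e * phi e x * e = phi e x := by
    calc e * phi e x * e = e * x * e * x⁻¹ * (e * e) := by simp only [phi, mul_assoc]
      _ = x * phi e x * x⁻¹ := by rw [TSet.sq h.hD.1 he, mul_one, h.conj_eq hx]
      _ = phi e x := by rw [h.hab x hx _ hp, mul_inv_cancel_right]
  rw [h.conj_eq hp] at h1
  exact mul_eq_left.1 h1

theorem Cover.phi_eq_one_iff (h : Cover D W) {e x : G} (he : e ∈ D) :
    phi e x = 1 ↔ Commute x e := by
  constructor
  · intro h1
    have := eq_inv_of_mul_eq_one_left h1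
    rw [TSet.inv h.hD.1 he] at this
    exact mul_inv_eq_iff_eq_mul.1 this
  · intro h1
    rw [phi, h1.eq, mul_inv_cancel_right, TSet.sq h.hD.1 he]

theorem phi_conj (g e x : G) : g * phi e x * g⁻¹ = phi (g * e * g⁻¹) (g * x * g⁻¹) := by
  simp only [phi]; group

theorem Cover.phi_congr (h : Cover D W) {d d' x : G} (hd : d ∈ D) (hd' : d' ∈ D) (hdd : d' * d ∈ W)
    (hx : x ∈ W) : phi d' x = phi d x := by
  set w := d' * d with hw
  have hd'w : d' = w * d := by rw [hw, mul_assoc, TSet.sq h.hD.1 hd, mul_one]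
  have h1 : w * (d * w * d) = 1 := by
    rw [← mul_assoc, ← mul_assoc, ← hd'w, mul_assoc, ← hd'w, TSet.sq h.hD.1 hd']
  have hdwd : d * w * d ∈ W := by
    have := h.hn.conj_mem w hdd d
    rwa [TSet.inv h.hD.1 hd] at this
  calc phi d' x = x * (w * d) * x⁻¹ * (w * d) := by rw [phi, hd'w]
    _ = w * (x * d * x⁻¹) * (w * d) := by rw [← mul_assoc x w d, h.hab x hx w hdd]; simp only [mul_assoc]
    _ = w * phi d x * (d * w * d) := by
      simp only [phi, mul_assoc]
      rw [← mul_assoc d d, TSet.sq h.hD.1 hd, one_mul]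
    _ = phi d x := by rw [h.hab w hdd _ (h.phi_mem hd hx), mul_assoc, h1, mul_one]

theorem Cover.commute_conj (h : Cover D W) {d e x : G} (hd : d ∈ D) (he : e ∈ D) (hde : Commute d e)
    (hx : x ∈ W) : Commute (x * e * x⁻¹) d := by
  have he' := TClass.conjInv h.hD x e he
  refine TSet.commute_of_two_pow h.hD.1 he' hd (k := 2) ?_
  have hp := h.phi_mem he hx
  have e1 : x * e * x⁻¹ * d = phi e x * (e * d) := by
    simp only [phi, mul_assoc]
    rw [← mul_assoc e e, TSet.sq h.hD.1 he, one_mul]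
  have h2 : (x * e * x⁻¹ * d) ^ 2 ∈ W := by
    have h3 : (e * d) ^ 2 = 1 := (commute_iff_sq_eq_one (TSet.sq h.hD.1 he) (TSet.sq h.hD.1 hd)).1 hde.symm
    have e2 : (x * e * x⁻¹ * d) ^ 2 =
        phi e x * ((e * d) * phi e x * (e * d)⁻¹) * (e * d) ^ 2 := by
      rw [e1, pow_two, pow_two]; group
    rw [e2, h3, mul_one]
    exact W.mul_mem hp (h.hn.conj_mem _ hp _)
  rw [show (2 : ℕ) ^ 2 = 2 * 2 from rfl, pow_mul, pow_two]
  exact h.hsq _ h2

theorem Cover.phi_comm (h : Cover D W) {d e x : G} (hd : d ∈ D) (he : e ∈ D) (hde : Commute d e)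
    (hx : x ∈ W) : phi d (phi e x) = 1 := by
  rw [h.phi_eq_one_iff hd]
  exact (h.commute_conj hd he hde hx).mul_left hde.symm

theorem Cover.eq_one_of_fixed (h : Cover D W) {e g y : G} (he : e ∈ D) (hg : g ∈ D) (heg : ¬ Commute e g)
    (hy : y ∈ W) (h1 : ∀ d ∈ D, Commute d e → Commute y d) (h2 : ∀ d ∈ D, Commute d g → Commute y d) :
    y = 1 := by
  rw [← mem_bot, ← h.hZ, mem_center_iff]
  intro a
  have hle : closure ({d ∈ D | Commute d e} ∪ {d ∈ D | Commute d g}) ⊔ W ≤ centralizer ({y} : Set G) := by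
    refine sup_le ((closure_le _).2 ?_) fun w hw => mem_centralizer_singleton_iff.2 (h.hab w hw y hy)
    rintro d (⟨hd, hde⟩ | ⟨hd, hdg⟩)
    · exact mem_centralizer_singleton_iff.2 (h1 d hd hde).eq.symm
    · exact mem_centralizer_singleton_iff.2 (h2 d hd hdg).eq.symm
  exact mem_centralizer_singleton_iff.1 (hle (by rw [h.hA e he g hg heg]; exact mem_top a))

theorem Cover.phi_braid (h : Cover D W) {e g x : G} (he : e ∈ D) (hg : g ∈ D) (heg : ¬ Commute e g)
    (hx : x ∈ W) : phi e (phi g (phi e x)) = phi e x := by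
  have ha := h.phi_mem he hx
  have hb := h.phi_mem hg hx
  have hab := h.phi_mem he hb
  have hba := h.phi_mem hg ha
  have haba := h.phi_mem he hba
  have hbab := h.phi_mem hg hab
  have expand : ∀ {e g : G}, e ∈ D → g ∈ D →
      e * (g * (e * x * e) * g) * e =
        x * (phi g x * phi e (phi g x) * (phi g (phi e x) * phi e (phi g (phi e x)))) := by
    intro e g he hg
    have ha := h.phi_mem he hx
    have hb := h.phi_mem hg hx
    have hba := h.phi_mem hg ha
    have hxa := W.mul_mem hx ha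
    rw [h.conj_eq hx, h.conj_eq hxa, h.conj_eq (W.mul_mem hxa (h.phi_mem hg hxa)), h.phi_mul hg hx ha,
      h.phi_mul he hxa (W.mul_mem hb hba), h.phi_mul he hx ha, h.phi_self_phi he hx, mul_one,
      h.phi_mul he hb hba]
    have hab := h.phi_mem he hb
    have haba := h.phi_mem he hba
    calc x * phi e x * (phi g x * phi g (phi e x)) *
          (phi e x * (phi e (phi g x) * phi e (phi g (phi e x))))
        = x * (phi e x * (phi g x * phi g (phi e x)) * phi e x) *
          (phi e (phi g x) * phi e (phi g (phi e x))) := by simp only [mul_assoc]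
      _ = x * (phi g x * phi g (phi e x)) * (phi e (phi g x) * phi e (phi g (phi e x))) := by
          rw [h.hab _ ha _ (W.mul_mem hb hba), mul_assoc (phi g x * phi g (phi e x)), h.hsq _ ha, mul_one]
      _ = x * (phi g x * phi e (phi g x) * (phi g (phi e x) * phi e (phi g (phi e x)))) := by
          simp only [mul_assoc]
          rw [← mul_assoc (phi g (phi e x)), h.hab _ hba _ hab, mul_assoc]
  have hbr := TSet.braid h.hD.1 he hg heg
  have hl : e * (g * (e * x * e) * g) * e = g * (e * (g * x * g) * e) * g := by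
    calc e * (g * (e * x * e) * g) * e = (e * g * e) * x * (e * g * e) := by simp only [mul_assoc]
      _ = (g * e * g) * x * (g * e * g) := by rw [hbr]
      _ = _ := by simp only [mul_assoc]
  rw [expand he hg, expand hg he, mul_left_cancel_iff] at hl
  have hswap : phi g x * phi e (phi g x) * (phi g (phi e x) * phi e (phi g (phi e x))) =
      phi e x * phi g (phi e x) * (phi e (phi g x) * phi g (phi e (phi g x))) := hl
  let _ : CommGroup W :=
    { (inferInstance : Group W) with mul_comm := fun a b => Subtype.ext (h.hab a a.2 b b.2) }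
  have key : phi e x * phi e (phi g (phi e x)) = phi g x * phi g (phi e (phi g x)) := by
    have h1 : (⟨_, hb⟩ : W) * ⟨_, hab⟩ * (⟨_, hba⟩ * ⟨_, haba⟩) =
        ⟨_, ha⟩ * ⟨_, hba⟩ * (⟨_, hab⟩ * ⟨_, hbab⟩) := Subtype.ext hswap
    have h2 : (⟨_, hb⟩ : W) * ⟨_, haba⟩ = ⟨_, ha⟩ * ⟨_, hbab⟩ := by
      have e1 : (⟨_, hb⟩ : W) * ⟨_, hab⟩ * (⟨_, hba⟩ * ⟨_, haba⟩) =
          (⟨_, hab⟩ * ⟨_, hba⟩) * (⟨_, hb⟩ * ⟨_, haba⟩) := by ac_rfl
      have e2 : (⟨_, ha⟩ : W) * ⟨_, hba⟩ * (⟨_, hab⟩ * ⟨_, hbab⟩) =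
          (⟨_, hab⟩ * ⟨_, hba⟩) * (⟨_, ha⟩ * ⟨_, hbab⟩) := by ac_rfl
      rw [e1, e2] at h1
      exact mul_left_cancel h1
    have h3 : phi g x * phi e (phi g (phi e x)) = phi e x * phi g (phi e (phi g x)) :=
      congrArg Subtype.val h2
    have h4 : ∀ {p q r s : G}, p ∈ W → q ∈ W → r ∈ W → s ∈ W → p * q = r * s → r * q = p * s := by
      intro p q r s hp hq hr hs hpq
      calc r * q = r * (p * (p * q)) := by rw [← mul_assoc p p, h.hsq p hp, one_mul]
        _ = r * p * (r * s) := by rw [hpq, mul_assoc]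
        _ = p * s := by
          rw [h.hab r hr p hp, mul_assoc, ← mul_assoc r r, h.hsq r hr, one_mul]
    exact h4 hb haba ha hbab h3
  have hy : phi e x * phi e (phi g (phi e x)) = 1 := by
    refine h.eq_one_of_fixed he hg heg (W.mul_mem ha haba) (fun d hd hde => ?_) fun d hd hdg => ?_
    · exact (h.phi_eq_one_iff hd).1 (by
        rw [h.phi_mul hd ha haba, h.phi_comm hd he hde hx, h.phi_comm hd he hde hba, one_mul])
    · rw [key]
      exact (h.phi_eq_one_iff hd).1 (by
        rw [h.phi_mul hd hb hbab, h.phi_comm hd hg hdg hx, h.phi_comm hd hg hdg hab, one_mul])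
  exact (eq_inv_of_mul_eq_one_right hy).trans (h.inv ha)

/-- Two members agreeing modulo W, one of which has a non-commuting partner, are conjugate under W. -/
theorem Cover.fibre (h : Cover D W) {d d' e : G} (hd : d ∈ D) (hd' : d' ∈ D) (he : e ∈ D)
    (hed : ¬ Commute e d) (hdd : d' * d ∈ W) : ∃ x ∈ W, d' = x * d * x⁻¹ := by
  set z := d' * d with hz
  have hd'z : d' = z * d := by rw [hz, mul_assoc, TSet.sq h.hD.1 hd, mul_one]
  have hdzd : d * z * d = z := by
    have h0 := TSet.sq h.hD.1 hd'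
    rw [hd'z] at h0
    have h1 : z * (d * z * d) = 1 := by simpa only [mul_assoc] using h0
    exact (eq_inv_of_mul_eq_one_right h1).trans (h.inv hdd)
  have hbz : phi d z = 1 := by
    have h1 := h.conj_eq (e := d) hdd
    rw [hdzd] at h1
    exact mul_eq_left.1 h1.symm
  have hed' : ¬ Commute e d' := by
    intro hc
    apply hed
    refine TSet.commute_of_two_pow h.hD.1 he hd (k := 2) ?_
    have h1 : (e * d) ^ 2 ∈ W := by
      have e1 : e * d = e * z⁻¹ * e⁻¹ * (e * d') := by rw [hd'z]; group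
      have hz1 : e * z⁻¹ * e⁻¹ ∈ W := h.hn.conj_mem _ (W.inv_mem hdd) e
      have h3 : (e * d') ^ 2 = 1 :=
        (commute_iff_sq_eq_one (TSet.sq h.hD.1 he) (TSet.sq h.hD.1 hd')).1 hc
      have e2 : ∀ a b : G, (a * b) ^ 2 = a * (b * a * b⁻¹) * b ^ 2 := fun a b => by
        rw [pow_two, pow_two]; group
      rw [e1, e2, h3, mul_one]
      exact W.mul_mem hz1 (h.hn.conj_mem _ hz1 _)
    rw [show (2 : ℕ) ^ 2 = 2 * 2 from rfl, pow_mul, pow_two]
    exact h.hsq _ h1
  -- compare the two braid relations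
  set z' := e * z * e with hz'
  have hz'W : z' ∈ W := by
    have := h.hn.conj_mem z hdd e
    rwa [TSet.inv h.hD.1 he] at this
  set r := e * d with hr
  have h3 := TSet.cube h.hD.1 he hd' hed'
  have h3' := TSet.cube h.hD.1 he hd hed
  have er : e * d' = z' * r := by
    rw [hz', hr, hd'z]
    simp only [mul_assoc]
    rw [← mul_assoc e e, TSet.sq h.hD.1 he, one_mul]
  have hsum : z' * (r * z' * r⁻¹) * (r ^ 2 * z' * (r ^ 2)⁻¹) = 1 := by
    rw [er] at h3
    have e2 : (z' * r) ^ 3 = z' * (r * z' * r⁻¹) * (r ^ 2 * z' * (r ^ 2)⁻¹) * r ^ 3 := by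
      simp only [pow_succ, pow_zero, one_mul]; group
    rwa [e2, hr, h3', mul_one] at h3
  have a0 := h.phi_mem he hdd
  have b1 := h.phi_mem hd a0
  have a1 := h.phi_mem he b1
  have c1 : z' = z * phi e z := h.conj_eq hdd
  have c2 : r * z' * r⁻¹ = e * (d * z' * d) * e := by
    rw [hr, _root_.mul_inv_rev, TSet.inv h.hD.1 he, TSet.inv h.hD.1 hd]
    simp only [mul_assoc]
  have c3 : r ^ 2 * z' * (r ^ 2)⁻¹ = d * (e * z' * e) * d := by
    have hr2 : r ^ 2 = d * e := by
      have e3 : r ^ 3 = r ^ 2 * r := pow_succ r 2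
      rw [h3'] at e3
      rw [eq_inv_of_mul_eq_one_left e3.symm, hr, _root_.mul_inv_rev, TSet.inv h.hD.1 he, TSet.inv h.hD.1 hd]
    rw [hr2, _root_.mul_inv_rev, TSet.inv h.hD.1 he, TSet.inv h.hD.1 hd]
    simp only [mul_assoc]
  have d1 : d * z' * d = z' * phi d (phi e z) := by
    rw [h.conj_eq hz'W, c1, h.phi_mul hd hdd a0, hbz, one_mul]
  have d2 : r * z' * r⁻¹ = z * (phi d (phi e z) * phi e (phi d (phi e z))) := by
    rw [c2, d1, h.conj_eq (W.mul_mem hz'W b1), h.phi_mul he hz'W b1]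
    have : phi e z' = phi e z := by rw [c1, h.phi_mul he hdd a0, h.phi_self_phi he hdd, mul_one]
    rw [this, c1]
    calc z * phi e z * phi d (phi e z) * (phi e z * phi e (phi d (phi e z)))
        = z * (phi e z * phi d (phi e z) * phi e z) * phi e (phi d (phi e z)) := by simp only [mul_assoc]
      _ = z * (phi d (phi e z) * phi e (phi d (phi e z))) := by
          rw [h.hab _ a0 _ b1, mul_assoc (phi d (phi e z)), h.hsq _ a0, mul_one, mul_assoc]
  have d3 : r ^ 2 * z' * (r ^ 2)⁻¹ = z := by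
    rw [c3, show e * z' * e = z by
      rw [hz']
      simp only [← mul_assoc, TSet.sq h.hD.1 he, one_mul]
      rw [mul_assoc, TSet.sq h.hD.1 he, mul_one], hdzd]
  rw [d2, d3, c1, h.phi_braid he hd hed hdd] at hsum
  have hres : z = phi d (phi e z) := by
    have h1 : z * phi e z * (z * (phi d (phi e z) * phi e z)) * z = z * phi d (phi e z) := by
      rw [h.hab _ hdd _ a0, mul_assoc (phi e z) z, ← mul_assoc z z, h.hsq z hdd, one_mul,
        h.hab _ b1 _ a0, ← mul_assoc (phi e z), h.hsq _ a0, one_mul]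
      exact h.hab _ b1 _ hdd
    rw [h1] at hsum
    exact (eq_inv_of_mul_eq_one_left hsum).trans (h.inv b1)
  refine ⟨phi e z, a0, ?_⟩
  conv_lhs => rw [hd'z, hres]
  simp only [phi, mul_assoc, TSet.sq h.hD.1 hd, mul_one]

omit [Finite G] in
/-- An injective endomorphism of a finite subgroup is onto. -/
theorem exists_preimage {S : Subgroup G} [Finite S] (φ : G → G) (hmem : ∀ x ∈ S, φ x ∈ S)
    (hmul : ∀ x ∈ S, ∀ y ∈ S, φ (x * y) = φ x * φ y) (hinj : ∀ x ∈ S, φ x = 1 → x = 1) {y : G}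
    (hy : y ∈ S) : ∃ x ∈ S, φ x = y := by
  let ψ : S →* S := MonoidHom.mk' (fun x => ⟨φ x, hmem x x.2⟩) fun a b => Subtype.ext (hmul a a.2 b b.2)
  have hψ : Function.Injective ψ := by
    rw [← MonoidHom.ker_eq_bot_iff, eq_bot_iff]
    intro x hx
    exact Subtype.ext (hinj x x.2 (congrArg Subtype.val (MonoidHom.mem_ker.1 hx)))
  obtain ⟨x, hx⟩ := (Finite.injective_iff_surjective.1 hψ) ⟨y, hy⟩
  exact ⟨x, x.2, congrArg Subtype.val hx⟩

end Cfsg.Agent.Fischer.CoverAction
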