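import Cfsg.Agent.Lib.Fischer.Cores

/-!
Uniqueness of the class of 3-transpositions of a group with elementary abelian self-centralising
`O_2` and trivial centre, by elementary means: the subspaces `[V, d]` of the module `V`.
-/

set_option autoImplicit false

namespace Cfsg.Agent.Fischer.ModU

variable {G : Type*} [Group G] {M : Type*} [AddCommGroup M] [DistribMulAction G M]

/-- `M` is (a copy of) the 2-core of `G`, elementary abelian and self-centralising, with conjugation
as action, and `G` fixes no non-zero point. -/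
structure Mod (ι : M → G) : Prop where
  add : ∀ x y, ι (x + y) = ι x * ι y
  inj : Function.Injective ι
  conj : ∀ (g : G) (x : M), ι (g • x) = g * ι x * g⁻¹
  two : ∀ x : M, x + x = 0
  range : ∀ z : G, z ∈ Cfsg.pCore 2 G ↔ ∃ x, ι x = z
  faithful : ∀ g : G, (∀ x : M, g • x = x) → g ∈ Cfsg.pCore 2 G
  nofix : ∀ x : M, (∀ g : G, g • x = x) → x = 0

/-- The map `x ↦ [x, g]`. -/
def N (g : G) : M →+ M where
  toFun x := g • x + x
  map_zero' := by simp
  map_add' x y := by rw [smul_add]; abel

theorem N_apply (g : G) (x : M) : N g x = g • x + x := rfl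

/-- The subgroup `[M, g]`. -/
def W (g : G) : AddSubgroup M := (N g).range

theorem N_mem (g : G) (x : M) : N g x ∈ W g := ⟨x, rfl⟩

variable {ι : M → G} (hm : Mod ι)
include hm

theorem neg_eq (x : M) : -x = x := neg_eq_of_add_eq_zero_left (hm.two x)

theorem eq_of_add {x y : M} (h : x + y = 0) : x = y := by
  rw [eq_neg_of_add_eq_zero_left h, neg_eq hm]

theorem smul_eq (g : G) (x : M) : g • x = x + N g x := by
  rw [N_apply, add_comm (g • x) x, ← add_assoc, hm.two, zero_add]

theorem N_eq_zero_iff {g : G} {x : M} : N g x = 0 ↔ g • x = x := by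
  rw [N_apply]
  exact ⟨fun h => eq_of_add hm h, fun h => by rw [h, hm.two]⟩

theorem smul_of_mem_core {g : G} (hg : g ∈ Cfsg.pCore 2 G) (x : M) : g • x = x := by
  obtain ⟨y, rfl⟩ := (hm.range g).1 hg
  apply hm.inj
  rw [hm.conj, ← hm.add, add_comm, hm.add, mul_inv_cancel_right]

theorem smul_congr {a b : G} (h : a⁻¹ * b ∈ Cfsg.pCore 2 G) (x : M) : b • x = a • x := by
  conv_lhs => rw [show b = a * (a⁻¹ * b) by group, mul_smul, smul_of_mem_core hm h]

theorem W_congr {a b : G} (h : a⁻¹ * b ∈ Cfsg.pCore 2 G) : W (M := M) b = W a := by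
  have : (N b : M →+ M) = N a := AddMonoidHom.ext fun x => by
    rw [N_apply, N_apply, smul_congr hm h]
  rw [W, W, this]

theorem smul_fix_W {a : G} (ha : a * a = 1) {w : M} (hw : w ∈ W a) : a • w = w := by
  obtain ⟨x, rfl⟩ := hw
  rw [N_apply, smul_add, ← mul_smul, ha, one_smul, add_comm]

theorem N_self {a : G} (ha : a * a = 1) {w : M} (hw : w ∈ W a) : N a w = 0 :=
  (N_eq_zero_iff hm).2 (smul_fix_W hm ha hw)

theorem conj_eq {a : G} (ha : a * a = 1) (x : M) : ι x * a * (ι x)⁻¹ = a * ι (N a x) := by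
  have hx : (ι x)⁻¹ = ι x := by
    have h0 : ι (0 : M) = 1 := by
      have := hm.add 0 0
      rw [add_zero] at this
      exact mul_eq_left.1 this.symm
    exact inv_eq_of_mul_eq_one_right (by rw [← hm.add, hm.two, h0])
  rw [hx, N_apply, hm.add, hm.conj, inv_eq_of_mul_eq_one_right ha]
  simp only [← mul_assoc, ha, one_mul]

omit hm in
theorem smul_mem_W (g : G) {a : G} {w : M} (hw : w ∈ W a) : g • w ∈ W (g * a * g⁻¹) := by
  obtain ⟨x, rfl⟩ := hw
  refine ⟨g • x, ?_⟩
  rw [N_apply, N_apply, smul_add, ← mul_smul, ← mul_smul, inv_mul_cancel_right]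

omit hm in
theorem N_conj {g : G} (hg : g * g = 1) (a : G) (x : M) : N (g * a * g) x = g • N a (g • x) := by
  rw [N_apply, N_apply, smul_add, ← mul_smul g g, hg, one_smul, mul_smul, mul_smul]

section TClass

variable [Finite G] {D : Set G} (hD : IsThreeTranspositionClass D)
include hD

omit [Finite G] hm in
theorem tsq {a : G} (ha : a ∈ D) : a * a = 1 := TSet.sq hD.1 ha

omit [Finite G] hm in
theorem tinv {a : G} (ha : a ∈ D) : a⁻¹ = a := TSet.inv hD.1 ha

omit [Finite G] hm in
theorem tconj (g : G) {a : G} (ha : a ∈ D) : g * a * g⁻¹ ∈ D := (TClass.toGroup hD).2.1 g a ha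

omit [Finite G] in
theorem twist_mem {a : G} (ha : a ∈ D) {w : M} (hw : w ∈ W a) : a * ι w ∈ D := by
  obtain ⟨x, rfl⟩ := hw
  rw [← conj_eq hm (tsq hD ha)]
  exact tconj hD _ ha

theorem fix_of_commute {a b : G} (ha : a ∈ D) (hb : b ∈ D) (hc : Commute a b) {w : M}
    (hw : w ∈ W a) : b • w = w := by
  have hw' := twist_mem hm hD ha hw
  have h1 : Commute (a * ι w) b := commute_of_mul_mem_two (TClass.toGroup hD) ha hw' hb
    (by rw [← mul_assoc, tsq hD ha, one_mul]; exact (hm.range _).2 ⟨w, rfl⟩) hc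
  have h2 : Commute (ι w) b := by
    have := hc.mul_left h1
    rwa [← mul_assoc, tsq hD ha, one_mul] at this
  apply hm.inj
  rw [hm.conj, h2.symm.eq, mul_inv_cancel_right]

theorem N_N {a b : G} (ha : a ∈ D) (hb : b ∈ D) (hc : ¬ Commute a b) {w : M} (hw : w ∈ W a) :
    N a (N b w) = w := by
  have hsa := tsq hD ha
  have hsb := tsq hD hb
  have haw : a * ι w = ι w * a := by
    have : ι (a • w) = a * ι w * a⁻¹ := hm.conj a w
    rw [smul_fix_W hm hsa hw] at this
    conv_rhs => rw [this, inv_mul_cancel_right]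
  have hnc : ¬ Commute (a * ι w) b := by
    intro h
    have h2 : ((a * ι w) * b) ^ 2 = 1 :=
      (commute_iff_sq_eq_one (TSet.sq hD.1 (twist_mem hm hD ha hw)) hsb).1 h
    have h3 : ((a * ι w) * b) ^ 2 = ι (w + (a * b) • w) * ((a * b) * (a * b)) := by
      rw [hm.add, hm.conj, haw, pow_two]; group
    rw [h2] at h3
    have h4 : (a * b) ^ 2 ∈ Cfsg.pCore 2 G := by
      rw [pow_two, eq_inv_of_mul_eq_one_right h3.symm]
      exact inv_mem ((hm.range _).2 ⟨_, rfl⟩)
    have h5 := TSet.cube hD.1 ha hb hc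
    rw [pow_succ, mul_eq_one_iff_inv_eq] at h5
    have h6 : a * b ∈ Cfsg.pCore 2 G := h5 ▸ inv_mem h4
    exact hc (commute_of_mul_mem_two (TClass.toGroup hD) ha hb ha h6 (Commute.refl a)).symm
  have h := TSet.cube hD.1 (twist_mem hm hD ha hw) hb hnc
  have key : ((a * ι w) * b) ^ 3 =
      ι (w + (a * b) • w + ((a * b) * (a * b)) • w) * (a * b) ^ 3 := by
    rw [hm.add, hm.add, hm.conj, hm.conj, haw]
    simp only [pow_succ, pow_zero, one_mul]
    group
  rw [h, TSet.cube hD.1 ha hb hc, mul_one] at key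
  have h0 : ι (0 : M) = 1 := by
    have := hm.add 0 0
    rw [add_zero] at this
    exact mul_eq_left.1 this.symm
  have hzero := hm.inj (key.symm.trans h0.symm)
  have hba : a * b * (a * b) = b * a := by
    have h5 := TSet.cube hD.1 ha hb hc
    rw [pow_succ, pow_two, mul_eq_one_iff_eq_inv, mul_inv_rev, tinv hD ha, tinv hD hb] at h5
    exact h5
  rw [hba, mul_smul, mul_smul, smul_fix_W hm hsa hw, smul_eq hm b w, smul_add,
    smul_fix_W hm hsa hw, smul_eq hm a (N b w)] at hzero
  refine eq_of_add hm ?_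
  have e : w + (w + (N b w + N a (N b w))) + (w + N b w)
      = (w + w) + (N b w + N b w) + (N a (N b w) + w) := by abel
  rw [e, hm.two w, hm.two (N b w), zero_add, zero_add] at hzero
  exact hzero

theorem not_fix {a b : G} (ha : a ∈ D) (hb : b ∈ D) (hc : ¬ Commute a b) {w : M} (hw : w ∈ W a)
    (h : b • w = w) : w = 0 := by
  rw [← N_N hm hD ha hb hc hw, (N_eq_zero_iff hm).2 h, map_zero]

theorem commute_core {a b : G} (ha : a ∈ D) (hb : b ∈ D) (h : a * b ∈ Cfsg.pCore 2 G) :
    Commute a b :=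
  (commute_of_mul_mem_two (TClass.toGroup hD) ha hb ha h (Commute.refl a)).symm

theorem core_of_meet {a b : G} (ha : a ∈ D) (hb : b ∈ D) {w : M} (hw0 : w ≠ 0) (hwa : w ∈ W a)
    (hwb : w ∈ W b) : a * b ∈ Cfsg.pCore 2 G := by
  have hT := TClass.toGroup hD
  refine ((sameComm_iff hT ha).1 ⟨hb, fun e he => ⟨fun h => ?_, fun h => ?_⟩⟩).2
  · by_contra hn
    exact hw0 (not_fix hm hD ha he hn hwa (fix_of_commute hm hD hb he h hwb))
  · by_contra hn
    exact hw0 (not_fix hm hD hb he hn hwb (fix_of_commute hm hD ha he h hwa))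

theorem meet_eq_zero {a b : G} (ha : a ∈ D) (hb : b ∈ D) (hn : ¬ Commute a b) {w : M}
    (hwa : w ∈ W a) (hwb : w ∈ W b) : w = 0 := by
  by_contra hw
  exact hn (commute_core hm hD ha hb (core_of_meet hm hD ha hb hw hwa hwb))

theorem core_of_fix {a g : G} (ha : a ∈ D) {w : M} (hw0 : w ≠ 0) (hwa : w ∈ W a)
    (hg : g • w = w) : a * (g * a * g⁻¹) ∈ Cfsg.pCore 2 G :=
  core_of_meet hm hD ha (tconj hD g ha) hw0 hwa (hg ▸ smul_mem_W g hwa)

theorem exists_ne_zero {a : G} (ha : a ∈ D) : ∃ w ∈ W (M := M) a, w ≠ 0 := by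
  by_contra h
  push Not at h
  have hall : ∀ b ∈ D, ∀ x : M, b • x = x := by
    intro b hb x
    obtain ⟨g, rfl⟩ := TClass.transitive hD a ha b hb
    have h1 : a • (g⁻¹ • x) = g⁻¹ • x := (N_eq_zero_iff hm).1 (h _ (N_mem a _))
    rw [mul_smul, mul_smul, h1, ← mul_smul, mul_inv_cancel, one_smul]
  have hfixall : ∀ (g : G) (x : M), g • x = x := by
    intro g
    have : g ∈ Subgroup.closure D := hD.2.2 ▸ Subgroup.mem_top g
    induction this using Subgroup.closure_induction with
    | mem z hz => exact hall z hz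
    | one => simp
    | mul u v _ _ iu iv => intro x; rw [mul_smul, iv, iu]
    | inv u _ iu => intro x; conv_lhs => rw [← iu x, ← mul_smul, inv_mul_cancel, one_smul]
  have h1 : a ∈ Cfsg.pCore 2 G := hm.faithful a (hfixall a)
  obtain ⟨x, hx⟩ := (hm.range a).1 h1
  have h0 : ι (0 : M) = 1 := by
    have := hm.add 0 0
    rw [add_zero] at this
    exact mul_eq_left.1 this.symm
  exact TSet.ne_one hD.1 ha (by rw [← hx, hm.nofix x fun g => hfixall g x, h0])

omit [Finite G] hm in
theorem third_mem {x m : G} (hx : x ∈ D) (hm' : m ∈ D) : x * m * x ∈ D := by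
  have := tconj hD x hm'
  rwa [tinv hD hx] at this

theorem N_third {x m : G} (hx : x ∈ D) (hm' : m ∈ D) (hn : ¬ Commute x m) {a b : M}
    (ha : a ∈ W x) (hb : b ∈ W m) :
    N (x * m * x) (a + b) = (N m a + b) + (a + N x b) := by
  have e1 : N m (x • (a + b)) = N m a + b := by
    rw [smul_add, smul_fix_W hm (tsq hD hx) ha, smul_eq hm x b, map_add, map_add,
      N_self hm (tsq hD hm') hb, N_N hm hD hm' hx (fun h => hn h.symm) hb, zero_add]
  rw [N_conj (tsq hD hx), e1, smul_eq hm x, map_add, N_N hm hD hx hm' hn ha]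

theorem mem_third {x m : G} (hx : x ∈ D) (hm' : m ∈ D) (hn : ¬ Commute x m) {a b : M}
    (ha : a ∈ W x) (hb : b ∈ W m) (h : N (x * m * x) (a + b) = 0) :
    a + b ∈ W (x * m * x) := by
  rw [N_third hm hD hx hm' hn ha hb] at h
  have h' := eq_of_add hm h
  have h0 : a + N x b = 0 :=
    meet_eq_zero hm hD hx hm' hn (add_mem ha (N_mem x b)) (h' ▸ add_mem (N_mem m a) hb)
  have : a + b = x • b := by rw [smul_eq hm x b, ← eq_of_add hm h0, add_comm]
  rw [this]
  have := smul_mem_W x hb
  rwa [tinv hD hx] at this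

/-- A subspace `[M, d]` meets `[M, x] + [M, m]` only if `d` is one of the three transpositions. -/
theorem triangle {x m d : G} (hx : x ∈ D) (hm' : m ∈ D) (hn : ¬ Commute x m) (hd : d ∈ D)
    {a b : M} (ha : a ∈ W x) (hb : b ∈ W m) (hu : a + b ∈ W d) (h0 : a + b ≠ 0) :
    d * x ∈ Cfsg.pCore 2 G ∨ d * m ∈ Cfsg.pCore 2 G ∨ d * (x * m * x) ∈ Cfsg.pCore 2 G := by
  have sx := tsq hD hx
  have sm := tsq hD hm'
  have sd := tsq hD hd
  have hi := third_mem hD hx hm'
  by_cases ha0 : a = 0
  · right; left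
    rw [ha0, zero_add] at hu h0
    exact core_of_meet hm hD hd hm' h0 hu hb
  by_cases hb0 : b = 0
  · left
    rw [hb0, add_zero] at hu h0
    exact core_of_meet hm hD hd hx h0 hu ha
  have hdx : ¬ Commute d x := fun hc => hb0 (not_fix hm hD hm' hx (fun h => hn h.symm) hb (by
    have := fix_of_commute hm hD hd hx hc hu
    rwa [smul_add, smul_fix_W hm sx ha, add_left_cancel_iff] at this))
  have hdm : ¬ Commute d m := fun hc => ha0 (not_fix hm hD hx hm' hn ha (by
    have := fix_of_commute hm hD hd hm' hc hu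
    rwa [smul_add, smul_fix_W hm sm hb, add_right_cancel_iff] at this))
  have hthird : N (x * m * x) (a + b) = 0 → d * (x * m * x) ∈ Cfsg.pCore 2 G := fun h =>
    core_of_meet hm hD hd hi h0 hu (mem_third hm hD hx hm' hn ha hb h)
  -- the common image in `[M, d]`
  set p := N d a with hp
  have hdu : N d a + N d b = 0 := by rw [← map_add]; exact N_self hm sd hu
  have hpb : p = N d b := eq_of_add hm hdu
  have hmp : N m p = b := by rw [hpb]; exact N_N hm hD hm' hd (fun h => hdm h.symm) hb
  have hxp : N x p = a := N_N hm hD hx hd (fun h => hdx h.symm) ha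
  have hxu : N x (a + b) = N x b := by rw [map_add, N_self hm sx ha, zero_add]
  have hmu : N m (a + b) = N m a := by rw [map_add, N_self hm sm hb, add_zero]
  have he : d * x * d ∈ D := third_mem hD hd hx
  have hwe : a + p ∈ W (d * x * d) := by
    have := smul_mem_W d ha
    rwa [tinv hD hd, smul_eq hm d a] at this
  by_cases hem : Commute (d * x * d) m
  · right; right
    refine hthird ?_
    have h1 := (N_eq_zero_iff hm).2 (fix_of_commute hm hD he hm' hem hwe)
    rw [map_add, hmp] at h1
    have h2 : a = N x b := by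
      rw [← eq_of_add hm h1]; exact (N_N hm hD hx hm' hn ha).symm
    rw [N_third hm hD hx hm' hn ha hb, h1, zero_add, ← h2, hm.two]
  · exfalso
    have h1 := N_N hm hD he hm' hem hwe
    rw [map_add, hmp, N_conj sd, smul_eq hm d (N m a + b)] at h1
    have h2 : N d (N m a + b) = (a + b) + p := by
      rw [map_add, ← hpb, ← hmu, N_N hm hD hd hm' hdm hu]
    rw [h2, map_add, map_add, map_add (N x) (a + b) p, hxu, hxp, N_N hm hD hx hm' hn ha,
      add_comm (N x b) a, hm.two, smul_zero] at h1
    refine ha0 (meet_eq_zero hm hD hd hx hdx ?_ ha)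
    rw [eq_of_add hm h1.symm]
    exact N_mem d a

end TClass

section Two

variable [Finite G] {D E : Set G} (hD : IsThreeTranspositionClass D)
  (hE : IsThreeTranspositionClass E)
include hD hE

/-- A member of `D` moved by `f ∈ E` modulo the core determines the partner of `f`. -/
theorem moved {f x : G} (hf : f ∈ E) (hx : x ∈ D) (hmv : x * (f * x * f) ∉ Cfsg.pCore 2 G) :
    Commute (x * (f * x * f) * x) f ∧
      (∃ u ∈ W (M := M) f, u ≠ 0 ∧ u ∈ W (x * (f * x * f) * x)) ∧
      ¬ Commute x (f * x * f) ∧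
      ∀ d ∈ D, ∀ u : M, u ∈ W f → u ∈ W d → u ≠ 0 →
        d * (x * (f * x * f) * x) ∈ Cfsg.pCore 2 G := by
  have sf := tsq hE hf
  have sx := tsq hD hx
  set m := f * x * f with hm_def
  have hm' : m ∈ D := by
    have := tconj hD f hx
    rwa [tinv hE hf] at this
  have sm := tsq hD hm'
  have hfm : f * m * f = x := by
    rw [hm_def]
    simp only [← mul_assoc, sf, one_mul]
    rw [mul_assoc, sf, mul_one]
  have hWm : ∀ {w : M}, w ∈ W x → f • w ∈ W m := fun {w} hw => by
    have := smul_mem_W f hw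
    rwa [tinv hE hf] at this
  have hWx : ∀ {w : M}, w ∈ W m → f • w ∈ W x := fun {w} hw => by
    have := smul_mem_W f hw
    rwa [tinv hE hf, hfm] at this
  -- `x` and its image do not commute
  have hn : ¬ Commute x m := by
    intro hc
    obtain ⟨w, hw, hw0⟩ := exists_ne_zero hm hD hx
    have hv0 : N f w ≠ 0 := fun h => hmv
      (core_of_meet hm hD hx hm' hw0 hw ((N_eq_zero_iff hm).1 h ▸ hWm hw))
    have hvfix : x • N f w = N f w := by
      rw [N_apply, smul_add, fix_of_commute hm hD hm' hx hc.symm (hWm hw), smul_fix_W hm sx hw]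
    have := inv_mem (core_of_fix hm hE hf hv0 (N_mem f w) hvfix)
    rw [mul_inv_rev, mul_inv_rev, mul_inv_rev, inv_inv, tinv hE hf, tinv hD hx] at this
    exact hmv (by rw [hm_def]; simpa only [mul_assoc] using this)
  have hf' : x * f * x ∈ E := by
    have := tconj hE x hf
    rwa [tinv hD hx] at this
  have hn' : ¬ Commute f (x * f * x) := by
    intro hc
    refine hn (((commute_iff_sq_eq_one sm sx).2 ?_).symm)
    have := (commute_iff_sq_eq_one sf (TSet.sq hE.1 hf')).1 hc
    rwa [← mul_assoc, ← mul_assoc, ← hm_def] at this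
  -- `[M, f]` lies in `[M, x] + [M, m]`
  have hdec : ∀ u ∈ W (M := M) f, ∃ a ∈ W x, u = a + f • a := by
    intro u hu
    refine ⟨N x (N f (N x u)), N_mem x _, ?_⟩
    have h := N_N hm hE hf hf' hn' hu
    rw [N_conj sx, smul_eq hm x u, map_add, N_self hm sf hu, zero_add, smul_eq hm x, map_add,
      N_self hm sf (N_mem f _), zero_add] at h
    rw [add_comm, ← N_apply, h]
  set i := x * m * x with hi_def
  have hi : i ∈ D := third_mem hD hx hm'
  have hif : Commute i f := by
    have hbr : x * m * x = m * x * m := TSet.braid hD.1 hx hm' hn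
    have : f * i * f = i := by
      conv_rhs => rw [hi_def, hbr, hm_def]
      rw [hi_def, hm_def]
      simp only [← mul_assoc]
    show i * f = f * i
    conv_lhs => rw [← this, mul_assoc _ f f, sf, mul_one]
  refine ⟨hif, ?_, hn, ?_⟩
  · obtain ⟨u, hu, hu0⟩ := exists_ne_zero hm hE hf
    by_cases h : N i u = 0
    · obtain ⟨a, ha, rfl⟩ := hdec u hu
      exact ⟨_, hu, hu0, mem_third hm hD hx hm' hn ha (hWm ha) h⟩
    · refine ⟨N i u, ?_, h, N_mem i u⟩
      have hiu := smul_mem_W i hu
      rw [hif.eq, mul_inv_cancel_right] at hiu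
      rw [N_apply]
      exact add_mem hiu hu
  · intro d hd u hu hud hu0
    obtain ⟨a, ha, rfl⟩ := hdec u hu
    rcases triangle hm hD hx hm' hn hd ha (hWm ha) hud hu0 with h | h | h
    · refine absurd (meet_eq_zero hm hD hx hm' hn (w := a + f • a) ?_ ?_) hu0
      · rw [W_congr hm (a := d) (b := x) (by rwa [tinv hD hd])]; exact hud
      · rw [← smul_fix_W hm sf hu]
        exact hWm (by rw [W_congr hm (a := d) (b := x) (by rwa [tinv hD hd])]; exact hud)
    · refine absurd (meet_eq_zero hm hD hx hm' hn (w := a + f • a) ?_ ?_) hu0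
      · rw [← smul_fix_W hm sf hu]
        exact hWx (by rw [W_congr hm (a := d) (b := m) (by rwa [tinv hD hd])]; exact hud)
      · rw [W_congr hm (a := d) (b := m) (by rwa [tinv hD hd])]; exact hud
    · exact h

/-- Every member of `E` agrees with a member of `D` modulo the core. -/
theorem exists_congr {f : G} (hf : f ∈ E) : ∃ d ∈ D, d * f ∈ Cfsg.pCore 2 G := by
  haveI : (Cfsg.pCore 2 G).Normal := Cfsg.pCore_normal 2 G
  haveI : Fact (Nat.Prime 2) := ⟨Nat.prime_two⟩
  set π := QuotientGroup.mk' (Cfsg.pCore 2 G) with hπ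
  have hπ1 : ∀ z, π z = 1 ↔ z ∈ Cfsg.pCore 2 G := fun z => QuotientGroup.eq_one_iff z
  have hcore : ∀ {g : G}, (∀ z ∈ D, π g * π z = π z * π g) → g * g = 1 →
      g ∈ Cfsg.pCore 2 G := by
    intro g hg h2
    have hcen : π g ∈ Subgroup.center (G ⧸ Cfsg.pCore 2 G) := by
      rw [Subgroup.mem_center_iff]
      intro q
      obtain ⟨z, rfl⟩ := QuotientGroup.mk'_surjective _ q
      have : z ∈ Subgroup.closure D := hD.2.2 ▸ Subgroup.mem_top z
      induction this using Subgroup.closure_induction with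
      | mem z hz => exact (hg z hz).symm
      | one => simp
      | mul u v _ _ iu iv => rw [map_mul]; exact (Commute.mul_left iu iv)
      | inv u _ iu => rw [map_inv]; exact (Commute.inv_left iu)
    set K := Cfsg.pCore 2 G ⊔ Subgroup.zpowers g
    have hKn : K.Normal := by
      have hK : K = (Subgroup.zpowers (π g)).comap π := by
        rw [← MonoidHom.map_zpowers, Subgroup.comap_map_eq, hπ, QuotientGroup.ker_mk', sup_comm]
      rw [hK]
      haveI : (Subgroup.zpowers (π g)).Normal := ⟨fun n hn q => by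
        have := Subgroup.mem_center_iff.1 ((Subgroup.zpowers_le).2 hcen hn) q
        rwa [this, mul_inv_cancel_right]⟩
      exact Subgroup.Normal.comap this _
    have hK2 : IsPGroup 2 K := by
      refine IsPGroup.to_sup_of_normal_left (PBasic.pCore_isPGroup 2 G) ?_
      rintro ⟨z, hz⟩
      obtain ⟨k, rfl⟩ := Subgroup.mem_zpowers_iff.1 hz
      refine ⟨1, Subtype.ext ?_⟩
      show (g ^ k) ^ (2 ^ 1) = 1
      rw [pow_one, ← zpow_natCast, ← zpow_mul, mul_comm, zpow_mul, zpow_natCast, pow_two, h2,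
        one_zpow]
    exact PBasic.le_pCore hKn hK2 (Subgroup.mem_sup_right (Subgroup.mem_zpowers g))
  by_cases hall : ∀ x ∈ D, x * (f * x * f) ∈ Cfsg.pCore 2 G
  · exfalso
    have hfc : f ∈ Cfsg.pCore 2 G := by
      refine hcore (fun z hz => ?_) (tsq hE hf)
      have h := (hπ1 _).2 (hall z hz)
      rw [map_mul, map_mul, map_mul, mul_eq_one_iff_inv_eq, ← map_inv, tinv hD hz] at h
      conv_rhs => rw [h, mul_assoc, ← map_mul π f f, tsq hE hf, map_one, mul_one]
    obtain ⟨w, hw, hw0⟩ := exists_ne_zero hm hE hf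
    obtain ⟨y, rfl⟩ := hw
    exact hw0 ((N_eq_zero_iff hm).2 (smul_of_mem_core hm hfc y))
  push Not at hall
  obtain ⟨x₀, hx₀, hmv₀⟩ := hall
  obtain ⟨hdf, ⟨u₀, huf, hu0, hud⟩, -, huniq⟩ := moved hm hD hE hf hx₀ hmv₀
  set d := x₀ * (f * x₀ * f) * x₀ with hd_def
  have hm₀ : f * x₀ * f ∈ D := by
    have := tconj hD f hx₀
    rwa [tinv hE hf] at this
  have hd : d ∈ D := third_mem hD hx₀ hm₀
  refine ⟨d, hd, hcore (fun c hc => ?_) ?_⟩
  swap
  · rw [← pow_two]; exact (commute_iff_sq_eq_one (tsq hD hd) (tsq hE hf)).1 hdf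
  have sd := tsq hD hd
  have sc := tsq hD hc
  have sf := tsq hE hf
  set m := f * c * f with hm_def
  suffices h : π d * π m * π d = π c by
    have h' : π (d * f) * π c = π c * π (d * f) := by
      conv_rhs => rw [← h, hm_def]
      simp only [← map_mul]
      congr 1
      simp only [mul_assoc]
      rw [← mul_assoc d d f, sd, one_mul, sf, mul_one]
    exact h'
  by_cases hmv : c * (f * c * f) ∈ Cfsg.pCore 2 G
  · have hmc : π m = π c := by
      have h := (hπ1 _).2 hmv
      rw [map_mul, mul_eq_one_iff_inv_eq, ← map_inv, tinv hD hc] at h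
      exact h.symm
    have hcf : f⁻¹ * (c * f * c⁻¹) ∈ Cfsg.pCore 2 G := by
      have h : π (f⁻¹ * (c * f * c⁻¹)) = 1 := by
        rw [tinv hE hf, tinv hD hc, show f * (c * f * c) = f * c * f * c by group, map_mul,
          ← hm_def, hmc, ← map_mul, sc, map_one]
      exact (hπ1 _).1 h
    have h1 := huniq _ (tconj hD c hd) (c • u₀) (W_congr hm hcf ▸ smul_mem_W c huf)
      (smul_mem_W c hud) (by rwa [Ne, smul_eq_zero_iff_eq])
    rw [tinv hD hc] at h1
    have h2 := (hπ1 _).2 h1
    simp only [map_mul] at h2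
    have hcd : Commute (π c) (π d) := by
      refine (commute_iff_sq_eq_one ?_ ?_).2 ?_
      · rw [← map_mul, sc, map_one]
      · rw [← map_mul, sd, map_one]
      · rw [pow_two, ← mul_assoc, h2]
    rw [hmc, ← hcd.eq, mul_assoc, ← map_mul π d d, sd, map_one, mul_one]
  · obtain ⟨-, ⟨u, hu, hu1, hui⟩, hn, -⟩ := moved hm hD hE hf hc hmv
    have hm' : m ∈ D := by
      have := tconj hD f hc
      rwa [tinv hE hf] at this
    have h2 := (hπ1 _).2 (huniq _ (third_mem hD hc hm') u hu hui hu1)
    rw [map_mul, mul_eq_one_iff_eq_inv, ← map_inv, tinv hD hd] at h2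
    rw [← h2]
    simp only [← map_mul]
    congr 1
    have hbr : c * m * c = m * c * m := TSet.braid hD.1 hc hm' hn
    calc c * m * c * m * (c * m * c) = m * c * m * m * (c * m * c) := by rw [hbr]
      _ = m * c * (m * m) * (c * m * c) := by group
      _ = m * (c * c) * (m * c) := by rw [tsq hD hm']; group
      _ = c := by rw [sc, mul_one, ← mul_assoc, tsq hD hm', one_mul]

/-- The two classes coincide. -/
theorem meet : ∃ f ∈ E, f ∈ D := by
  obtain ⟨f, hf, -⟩ := hE.2.1
  refine ⟨f, hf, ?_⟩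
  obtain ⟨d, hd, hdf⟩ := exists_congr hm hD hE hf
  obtain ⟨v, hv⟩ := (hm.range _).1 hdf
  have sd := tsq hD hd
  have hfv : f = d * ι v := by rw [hv, ← mul_assoc, sd, one_mul]
  have h0 : ι (0 : M) = 1 := by
    have := hm.add 0 0
    rw [add_zero] at this
    exact mul_eq_left.1 this.symm
  have hdv : d • v = v := by
    have h := tsq hE hf
    rw [hfv] at h
    refine eq_of_add hm (hm.inj ?_)
    rw [hm.add, hm.conj, h0, tinv hD hd, mul_assoc (d * ι v), h]
  have lift : ∀ x ∈ D, ∃ g : G, g * d * g⁻¹ = x ∧ x * ι (g • v) ∈ E ∧ x • g • v = g • v := by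
    intro x hx
    obtain ⟨g, rfl⟩ := TClass.transitive hD d hd x hx
    refine ⟨g, rfl, ?_, ?_⟩
    · rw [hm.conj, show g * d * g⁻¹ * (g * ι v * g⁻¹) = g * (d * ι v) * g⁻¹ by group, ← hfv]
      exact tconj hE g hf
    · rw [← mul_smul, inv_mul_cancel_right, mul_smul, hdv]
  have hπ : ∀ {a b : G} {p q : M}, a ∈ D → b ∈ D → Commute (a * ι p) (b * ι q) →
      a • p = p → b • q = q → Commute a b := by
    intro a b p q ha hb hc hp hq
    by_contra hn
    have h3 := TSet.cube hD.1 ha hb hn
    have h2 : (a * b) ^ 2 ∈ Cfsg.pCore 2 G := by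
      haveI : (Cfsg.pCore 2 G).Normal := Cfsg.pCore_normal 2 G
      set π := QuotientGroup.mk' (Cfsg.pCore 2 G)
      have hp1 : π (ι p) = 1 := (QuotientGroup.eq_one_iff _).2 ((hm.range _).2 ⟨p, rfl⟩)
      have hq1 : π (ι q) = 1 := (QuotientGroup.eq_one_iff _).2 ((hm.range _).2 ⟨q, rfl⟩)
      have hc' : Commute (π a) (π b) := by
        simpa [map_mul, hp1, hq1] using hc.map π
      refine (QuotientGroup.eq_one_iff _).1 (?_ : π ((a * b) ^ 2) = 1)
      rw [map_pow, map_mul, hc'.mul_pow, pow_two, pow_two, ← map_mul, ← map_mul, tsq hD ha,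
        tsq hD hb, map_one, mul_one]
    rw [pow_succ, mul_eq_one_iff_inv_eq] at h3
    exact hn (commute_core hm hD ha hb (h3 ▸ inv_mem h2))
  -- the common point of a non-commuting pair
  have pair : ∀ a ∈ D, ∀ b ∈ D, ¬ Commute a b → ∀ p q : M, a * ι p ∈ E → b * ι q ∈ E →
      a • p = p → b • q = q → ∃ c : M, c + p ∈ W a ∧ c + q ∈ W b ∧ a • c = c ∧ b • c = c := by
    intro a ha b hb hn p q hp hq hap hbq
    have sa := tsq hD ha
    have sb := tsq hD hb
    have hbr : a * b * a = b * a * b := TSet.braid hD.1 ha hb hn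
    have hnE : ¬ Commute (a * ι p) (b * ι q) := fun h => hn (hπ ha hb h hap hbq)
    have h3 := TSet.cube hE.1 hp hq hnE
    set z := b • p + q with hz
    have e1 : a * ι p * (b * ι q) = a * b * ι z := by
      rw [hz, hm.add, hm.conj, inv_eq_of_mul_eq_one_right sb]
      simp only [← mul_assoc]
      rw [mul_assoc a b b, sb, mul_one]
    have hg3 := TSet.cube hD.1 ha hb hn
    set g := a * b with hg
    have e0 : ∀ y : M, (g * ι y) ^ 3 = ι (g • y + (g * g) • y + g ^ 3 • y) * g ^ 3 := by
      intro y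
      rw [hm.add, hm.add, hm.conj, hm.conj, hm.conj]
      simp only [pow_succ, pow_zero, one_mul]
      group
    have e2 := e0 z
    rw [← e1, h3, hg3, one_smul, mul_one] at e2
    have hz0 := hm.inj (e2.symm.trans h0.symm)
    have hgg : g * g = b * a := by
      rw [pow_succ, pow_two, mul_eq_one_iff_eq_inv, hg, mul_inv_rev, tinv hD ha, tinv hD hb] at hg3
      exact hg3
    rw [hgg] at hz0
    -- both orbit sums agree
    have hbb : ∀ w : M, b • b • w = w := fun w => by rw [← mul_smul, sb, one_smul]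
    have haba : b • a • b • p = a • b • p := by
      rw [← mul_smul, ← mul_smul, ← hbr, mul_smul, mul_smul, hap]
    set c := p + a • b • p + b • p with hc
    set c' := q + a • q + b • a • q with hc'
    have hcc : c = c' := by
      refine eq_of_add hm ?_
      have e : c + c' = g • z + (b * a) • z + z := by
        rw [hz, hg, mul_smul, mul_smul, smul_add, hbb, hbq, smul_add, smul_add, smul_add, hap,
          haba, hc, hc']
        abel
      rw [e, hz0]
    refine ⟨c, ?_, ?_, ?_, ?_⟩
    · refine ⟨b • p, ?_⟩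
      rw [N_apply, hc]
      have : p + a • b • p + b • p + p = (p + p) + (a • b • p + b • p) := by abel
      rw [this, hm.two, zero_add]
    · refine ⟨a • q, ?_⟩
      rw [N_apply, hcc, hc']
      have : q + a • q + b • a • q + q = (q + q) + (b • a • q + a • q) := by abel
      rw [this, hm.two, zero_add]
    · rw [hc, smul_add, smul_add, hap, ← mul_smul a a, sa, one_smul]; abel
    · rw [hc, smul_add, smul_add, haba, hbb]; abel
  have hD2 : ∃ a ∈ D, ∃ b ∈ D, a ≠ b := by
    by_contra h
    push Not at h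
    obtain ⟨w, hw, hw0⟩ := exists_ne_zero hm hD hd
    refine hw0 (hm.inj ?_)
    rw [h0]
    exact (mul_eq_left.1 (h _ (twist_mem hm hD hd hw) d hd))
  obtain ⟨x, hx, hdx⟩ := TClass.exists_not_commute hD hD2 hd
  obtain ⟨gx, -, hxE, hxv⟩ := lift x hx
  obtain ⟨c, hcd, hcx, hdc, hxc⟩ := pair d hd x hx hdx v (gx • v) (hfv ▸ hf) hxE hdv hxv
  -- commuting members fix the point
  have hcfix : ∀ a ∈ D, ∀ p : M, a * ι p ∈ E → a • p = p → c + p ∈ W a → ∀ h ∈ D,
      Commute a h → h • c = c := by
    intro a ha p hp hap hca h hh hah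
    have h1 := fix_of_commute hm hD ha hh hah hca
    suffices h2 : h • p = p by rwa [smul_add, h2, add_left_inj] at h1
    by_cases hsame : a * h ∈ Cfsg.pCore 2 G
    · rw [smul_congr hm (a := a) (by rwa [tinv hD ha]), hap]
    obtain ⟨g, -, hgE, hgv⟩ := lift h hh
    generalize g • v = q at hgE hgv
    have hcm : Commute (a * ι p) (h * ι q) := by
      rcases hE.1.2 _ hp _ hgE with h' | h'
      · exact (commute_iff_sq_eq_one (TSet.sq hE.1 hp) (TSet.sq hE.1 hgE)).2 h'
      · by_contra hn'
        haveI : (Cfsg.pCore 2 G).Normal := Cfsg.pCore_normal 2 G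
        set π := QuotientGroup.mk' (Cfsg.pCore 2 G)
        have hp1 : π (ι p) = 1 := (QuotientGroup.eq_one_iff _).2 ((hm.range _).2 ⟨p, rfl⟩)
        have hq1 : π (ι q) = 1 := (QuotientGroup.eq_one_iff _).2 ((hm.range _).2 ⟨q, rfl⟩)
        have e := congrArg π h'
        rw [map_pow, map_mul, map_mul, map_mul, hp1, hq1, mul_one, mul_one, ← map_mul, ← map_pow,
          map_one, pow_succ, (commute_iff_sq_eq_one (tsq hD ha) (tsq hD hh)).1 hah,
          one_mul] at e
        exact hsame ((QuotientGroup.eq_one_iff _).1 e)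
    have key : h • p + q = a • q + p := by
      apply hm.inj
      rw [hm.add, hm.add, hm.conj, hm.conj, tinv hD ha, tinv hD hh]
      refine mul_left_cancel (a := a * h) ?_
      calc a * h * (h * ι p * h * ι q) = a * (h * h) * ι p * (h * ι q) := by group
        _ = a * ι p * (h * ι q) := by rw [tsq hD hh, mul_one]
        _ = h * ι q * (a * ι p) := hcm.eq
        _ = h * (a * a) * ι q * (a * ι p) := by rw [tsq hD ha, mul_one]
        _ = h * a * (a * ι q * a * ι p) := by group
        _ = _ := by rw [hah.eq]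
    have key' : N h p = N a q := by
      rw [N_apply, N_apply]
      refine eq_of_add hm ?_
      rw [show h • p + p + (a • q + q) = (h • p + q) + (a • q + p) by abel, key, hm.two]
    have : N h p = 0 := by
      by_contra hne
      exact hsame (core_of_meet hm hD ha hh hne (key' ▸ N_mem a q) (N_mem h p))
    exact (N_eq_zero_iff hm).1 this
  have hk : x * d * x ∈ D := third_mem hD hx hd
  have hfixD : ∀ h ∈ D, h • c = c := by
    intro h hh
    by_cases hdh : Commute d h
    · exact hcfix d hd v (hfv ▸ hf) hdv hcd h hh hdh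
    by_cases hxh : Commute x h
    · exact hcfix x hx _ hxE hxv hcx h hh hxh
    by_cases hkh : Commute (x * d * x) h
    · have hh' : x * h * x ∈ D := third_mem hD hx hh
      have hcm : Commute d (x * h * x) := by
        have h' := (commute_conj_iff x _ _).2 hkh
        rw [tinv hD hx] at h'
        simpa only [← mul_assoc, tsq hD hx, one_mul, mul_assoc (d : G) x x, mul_one] using h'
      have h' := hcfix d hd v (hfv ▸ hf) hdv hcd _ hh' hcm
      rw [mul_smul, mul_smul, hxc] at h'
      have h'' := congrArg (x • ·) h'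
      rwa [← mul_smul x x, tsq hD hx, one_smul, hxc] at h''
    obtain ⟨gh, -, hhE, hhv⟩ := lift h hh
    obtain ⟨c₁, hc₁d, hc₁h, -, hhc₁⟩ := pair d hd h hh hdh v (gh • v) (hfv ▸ hf) hhE hdv hhv
    obtain ⟨c₂, hc₂x, hc₂h, -, -⟩ := pair x hx h hh hxh (gx • v) (gh • v) hxE hhE hxv hhv
    have ha : c + c₁ ∈ W d := by
      have := add_mem hcd hc₁d
      rwa [show c + v + (c₁ + v) = c + c₁ + (v + v) by abel, hm.two, add_zero] at this
    have hb : c + c₂ ∈ W x := by
      have := add_mem hcx hc₂x
      rwa [show c + gx • v + (c₂ + gx • v) = c + c₂ + (gx • v + gx • v) by abel, hm.two,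
        add_zero] at this
    have hu : (c + c₁) + (c + c₂) ∈ W h := by
      have := add_mem hc₁h hc₂h
      rw [show c₁ + gh • v + (c₂ + gh • v) = c₁ + c₂ + (gh • v + gh • v) by abel, hm.two,
        add_zero] at this
      rwa [show c + c₁ + (c + c₂) = c₁ + c₂ + (c + c) by abel, hm.two, add_zero]
    by_cases hu0 : (c + c₁) + (c + c₂) = 0
    · have hab := eq_of_add hm hu0
      have := meet_eq_zero hm hD hd hx hdx ha (hab ▸ hb)
      rw [eq_of_add hm this]
      exact hhc₁
    · exfalso
      have hk' : d * x * d = x * d * x := TSet.braid hD.1 hd hx hdx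
      rcases triangle hm hD hd hx hdx hh ha hb hu hu0 with h1 | h1 | h1
      · exact hdh (commute_core hm hD hh hd h1).symm
      · exact hxh (commute_core hm hD hh hx h1).symm
      · exact hkh (commute_core hm hD hh hk (hk' ▸ h1)).symm
  have hall : ∀ g : G, g • c = c := by
    intro g
    have : g ∈ Subgroup.closure D := hD.2.2 ▸ Subgroup.mem_top g
    induction this using Subgroup.closure_induction with
    | mem z hz => exact hfixD z hz
    | one => simp
    | mul u w _ _ iu iw => rw [mul_smul, iw, iu]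
    | inv u _ iu => conv_lhs => rw [← iu, ← mul_smul, inv_mul_cancel, one_smul]
  rw [hm.nofix c hall, zero_add] at hcd
  rw [hfv]
  exact twist_mem hm hD hd hcd

theorem class_eq : E = D := by
  obtain ⟨f, hfE, hfD⟩ := meet hm hD hE
  ext y
  exact ⟨fun hy => by
      obtain ⟨g, rfl⟩ := TClass.transitive hE f hfE y hy
      exact tconj hD g hfD,
    fun hy => by
      obtain ⟨g, rfl⟩ := TClass.transitive hD f hfD y hy
      exact tconj hE g hfE⟩

end Two

end Cfsg.Agent.Fischer.ModU
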