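import Mathlib

set_option autoImplicit false

/-!
A rationality condition on triangle-free strongly regular graphs.
-/

namespace Cfsg.Agent.Fischer.SrgSquare

open Matrix

/-- The trace of an idempotent real matrix is a natural number. -/
theorem trace_idempotent {V : Type*} [Fintype V] [DecidableEq V] {E : Matrix V V ℝ}
    (h : E * E = E) : ∃ m : ℕ, E.trace = (m : ℝ) := by
  have hf : IsIdempotentElem (Matrix.toLin' E) := by
    rw [IsIdempotentElem, Module.End.mul_eq_comp, ← Matrix.toLin'_mul, h]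
  exact ⟨_, (Matrix.trace_toLin'_eq E).symm.trans (LinearMap.IsIdempotentElem.isProj_range _ hf).trace⟩

theorem exists_sqrt {D : ℕ} {q t : ℤ} (ht : t ≠ 0) (h : (D : ℤ) * q ^ 2 = t ^ 2) :
    ∃ s : ℕ, D = s ^ 2 := by
  have hq : q ^ 2 ≠ 0 := fun h0 => ht (pow_eq_zero_iff (n := 2) (by norm_num) |>.1 (by rw [← h, h0, mul_zero]))
  have h' : q ^ 2 ∣ t ^ 2 := ⟨(D : ℤ), by rw [← h, mul_comm]⟩
  obtain ⟨r, rfl⟩ := (Int.pow_dvd_pow_iff two_ne_zero).1 h'
  refine ⟨r.natAbs, ?_⟩
  have h2 : (D : ℤ) = r ^ 2 := mul_right_cancel₀ hq (by rw [h]; ring)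
  exact_mod_cast h2.trans (Int.natAbs_sq r).symm

/-- The discriminant of the eigenvalues is a square. -/
theorem square {V : Type*} [Fintype V] [DecidableEq V] [Nonempty V] {G : SimpleGraph V}
    [DecidableRel G.Adj] {n k μ : ℕ} (h : G.IsSRGWith n k 0 μ) (hk : 3 ≤ k) (hμ : 1 ≤ μ)
    (hμk : μ < k) : ∃ s : ℕ, μ ^ 2 + 4 * (k - μ) = s ^ 2 := by
  have hn : 0 < n := h.card ▸ Fintype.card_pos
  have hp : k * (k - 0 - 1) = (n - k - 1) * μ := h.param_eq G hn
  have hnk : k + 1 ≤ n := by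
    by_contra hlt
    rw [show n - k - 1 = 0 by omega, zero_mul] at hp
    rcases mul_eq_zero.1 hp with h0 | h0 <;> omega
  have hpR : (k : ℝ) * ((k : ℝ) - 1) = ((n : ℝ) - k - 1) * μ := by
    have := congrArg (Nat.cast (R := ℝ)) hp
    rw [Nat.sub_zero, Nat.sub_sub n k 1, Nat.cast_mul, Nat.cast_mul, Nat.cast_sub (by omega),
      Nat.cast_sub (by omega)] at this
    push_cast at this
    linarith
  have hnR : (n : ℝ) ≠ 0 := by exact_mod_cast hn.ne'
  set A : Matrix V V ℝ := G.adjMatrix ℝ with hA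
  set J : Matrix V V ℝ := Matrix.of fun _ _ => 1 with hJ
  have hC : Gᶜ.adjMatrix ℝ = J - 1 - A := by
    ext v w
    by_cases hvw : v = w
    · subst hvw; simp [hA, hJ]
    · by_cases ha : G.Adj v w <;> simp [hA, hJ, hvw, ha, Matrix.one_apply_ne hvw]
  have hAA : A * A = (k : ℝ) • (1 : Matrix V V ℝ) + (μ : ℝ) • (J - 1 - A) := by
    have := h.matrix_eq (α := ℝ)
    rw [hC, ← hA, zero_smul, add_zero, pow_two, ← Nat.cast_smul_eq_nsmul ℝ,
      ← Nat.cast_smul_eq_nsmul ℝ] at this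
    exact this
  have hAJ : A * J = (k : ℝ) • J := by
    ext v w
    rw [hA, SimpleGraph.adjMatrix_mul_apply]
    simp [hJ, h.regular.degree_eq]
  have hJA : J * A = (k : ℝ) • J := by
    ext v w
    rw [hA, SimpleGraph.mul_adjMatrix_apply]
    simp [hJ, h.regular.degree_eq]
  have hJJ : J * J = (n : ℝ) • J := by
    ext v w
    simp [hJ, Matrix.mul_apply, h.card]
  have hDpos : (0 : ℝ) < ((μ ^ 2 + 4 * (k - μ) : ℕ) : ℝ) := by
    exact_mod_cast (show 0 < μ ^ 2 + 4 * (k - μ) by omega)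
  set s : ℝ := Real.sqrt ((μ ^ 2 + 4 * (k - μ) : ℕ) : ℝ) with hs
  have hs0 : 0 < s := Real.sqrt_pos.2 hDpos
  have hs2 : s ^ 2 = (μ : ℝ) ^ 2 + 4 * ((k : ℝ) - μ) := by
    rw [hs, Real.sq_sqrt hDpos.le, Nat.cast_add, Nat.cast_mul, Nat.cast_sub hμk.le]
    push_cast; ring
  set c : ℝ := (2 * (k : ℝ) + μ) / n with hc
  have hcn : c * n = 2 * (k : ℝ) + μ := by rw [hc]; field_simp
  set N : Matrix V V ℝ := (2 : ℝ) • A + (μ : ℝ) • 1 - c • J with hN
  set P : Matrix V V ℝ := 1 - (n : ℝ)⁻¹ • J with hP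
  have hcoef : 4 * (μ : ℝ) - c * (2 * k + μ) = -(s ^ 2) * (n : ℝ)⁻¹ := by
    rw [hs2, hc]
    field_simp
    linear_combination -4 * hpR
  have hNN : N * N = s ^ 2 • P := by
    rw [hN, hP]
    simp only [sub_mul, mul_sub, add_mul, mul_add, smul_mul_assoc, mul_smul_comm, hAA, hAJ, hJA,
      hJJ, mul_one, one_mul, smul_smul, smul_add, smul_sub]
    match_scalars
    all_goals
      first
      | ring1
      | linear_combination hcoef + c * hcn
      | linear_combination hs2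
      | linear_combination -hs2
  have hNJ : N * J = 0 := by
    rw [hN]
    simp only [sub_mul, add_mul, smul_mul_assoc, hAJ, hJJ, one_mul, smul_smul]
    match_scalars
    linear_combination -hcn
  have hJN : J * N = 0 := by
    rw [hN]
    simp only [mul_sub, mul_add, mul_smul_comm, hJA, hJJ, mul_one, smul_smul]
    match_scalars
    linear_combination -hcn
  have hNP : N * P = N := by rw [hP, mul_sub, mul_one, mul_smul_comm, hNJ, smul_zero, sub_zero]
  have hPN : P * N = N := by rw [hP, sub_mul, one_mul, smul_mul_assoc, hJN, smul_zero, sub_zero]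
  have hPP : P * P = P := by
    rw [hP]
    simp only [sub_mul, mul_sub, one_mul, mul_one, smul_mul_assoc, mul_smul_comm, hJJ, smul_smul]
    match_scalars
    all_goals
      first
      | ring1
      | (field_simp; ring1)
      | field_simp
  set E : Matrix V V ℝ := (2 * s)⁻¹ • (N + s • P) with hE
  have hEE : E * E = E := by
    rw [hE]
    simp only [smul_mul_assoc, mul_smul_comm, add_mul, mul_add, hNN, hNP, hPN, hPP, smul_smul,
      smul_add]
    match_scalars
    all_goals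
      first
      | ring1
      | (field_simp; ring1)
      | field_simp
  obtain ⟨m, hm⟩ := trace_idempotent hEE
  have htA : A.trace = 0 := SimpleGraph.trace_adjMatrix (G := G) (α := ℝ)
  have htJ : J.trace = (n : ℝ) := by simp [hJ, Matrix.trace, h.card]
  have htE : (2 * s) * E.trace =
      ((((n : ℤ) - 1) * μ - 2 * k : ℤ) : ℝ) + s * ((((n : ℤ) - 1) : ℤ) : ℝ) := by
    rw [hE, hN, hP]
    simp only [trace_smul, trace_add, trace_sub, htA, htJ, trace_one, smul_eq_mul, h.card]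
    push_cast
    field_simp
    linear_combination -hcn
  set t : ℤ := ((n : ℤ) - 1) * μ - 2 * k with ht
  have ht0 : t ≠ 0 := by
    intro h0
    have h1 : ((t : ℤ) : ℝ) = 0 := by exact_mod_cast congrArg (Int.cast (R := ℝ)) h0
    rw [ht] at h1
    push_cast at h1
    have h2 : (k : ℝ) * ((k : ℝ) + μ - 3) = 0 := by linear_combination h1 + hpR
    have h3 : (3 : ℝ) ≤ k := by exact_mod_cast hk
    have h4 : (1 : ℝ) ≤ μ := by exact_mod_cast hμ
    rcases mul_eq_zero.1 h2 with h5 | h5 <;> linarith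
  rw [hm] at htE
  set q : ℤ := 2 * (m : ℤ) - ((n : ℤ) - 1) with hq
  have hsq : s * (q : ℝ) = (t : ℝ) := by rw [hq]; push_cast at htE ⊢; linarith
  refine exists_sqrt (q := q) ht0 ?_
  have : ((μ ^ 2 + 4 * (k - μ) : ℕ) : ℝ) * (q : ℝ) ^ 2 = (t : ℝ) ^ 2 := by
    rw [← hsq, mul_pow, hs, Real.sq_sqrt hDpos.le]
  exact_mod_cast this

theorem not_square_aux : ∀ (j u s : ℕ), s ^ 2 = 3 ^ j * u → u % 3 ≠ 2 := by
  intro j
  induction j using Nat.strong_induction_on with
  | _ j ih =>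
    intro u s h hu
    match j with
    | 0 =>
      rw [pow_zero, one_mul] at h
      have h' := Nat.pow_mod s 2 3
      rw [h, hu] at h'
      have hs : s % 3 < 3 := Nat.mod_lt _ (by norm_num)
      interval_cases s % 3 <;> simp at h'
    | i + 1 =>
      have h3 : 3 ∣ s := Nat.prime_three.dvd_of_dvd_pow ⟨3 ^ i * u, by rw [h, pow_succ]; ring⟩
      obtain ⟨t, rfl⟩ := h3
      match i with
      | 0 =>
        rw [mul_pow, zero_add, pow_one] at h
        have : 3 ∣ u := ⟨t ^ 2, by omega⟩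
        omega
      | l + 1 =>
        refine ih l (by omega) u t ?_ hu
        have : 9 * t ^ 2 = 9 * (3 ^ l * u) := by rw [show 9 * t ^ 2 = (3 * t) ^ 2 by ring, h]; ring
        omega

/-- With both parameters powers of three, only `(3, 1)` is possible. -/
theorem three_one {i j : ℕ} (hji : j < i) {s : ℕ}
    (h : (3 ^ j) ^ 2 + 4 * (3 ^ i - 3 ^ j) = s ^ 2) : i = 1 ∧ j = 0 := by
  obtain ⟨d, rfl⟩ := Nat.exists_eq_add_of_lt hji
  rcases Nat.eq_zero_or_pos j with rfl | hj
  · refine ⟨?_, rfl⟩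
    rcases Nat.eq_zero_or_pos d with rfl | hd
    · simp
    exfalso
    obtain ⟨e, rfl⟩ := Nat.exists_eq_add_of_lt hd
    simp only [pow_zero, one_pow, zero_add] at h
    have he : 3 ^ (e + 1 + 1) = 9 * 3 ^ e := by ring
    have hpos : 1 ≤ 3 ^ e := Nat.one_le_pow _ _ (by norm_num)
    rw [he] at h
    have h3 : 3 ∣ s := Nat.prime_three.dvd_of_dvd_pow (m := s) (n := 2) ⟨12 * 3 ^ e - 1, by omega⟩
    obtain ⟨t, rfl⟩ := h3
    have : (3 * t) ^ 2 = 9 * t ^ 2 := by ring
    omega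
  · exfalso
    have e1 : 3 ^ (j + d + 1) = 3 ^ j * 3 ^ (d + 1) := by rw [← pow_add]; ring_nf
    have hpos : 1 ≤ 3 ^ (d + 1) := Nat.one_le_pow _ _ (by norm_num)
    have hu : (3 ^ j + 4 * (3 ^ (d + 1) - 1)) % 3 = 2 := by
      obtain ⟨l, rfl⟩ := Nat.exists_eq_add_of_lt hj
      have a1 : 3 ^ (0 + l + 1) = 3 * 3 ^ l := by ring
      have a2 : 3 ^ (d + 1) = 3 * 3 ^ d := by ring
      rw [a1, a2] at *
      omega
    refine not_square_aux j _ s ?_ hu
    rw [← h, e1, ← Nat.mul_sub_one]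
    ring

end Cfsg.Agent.Fischer.SrgSquare
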