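import Cfsg.Agent.Lib.Fischer.Classes
import Cfsg.Agent.Lib.Fischer.LocalSymThree
import Cfsg.Agent.Lib.Fischer.SrgSquare
import Cfsg.Agent.Lib.FiniteGroup.PermSmall
import Cfsg.Prelude.Def_CaseTheorems

set_option autoImplicit false

/-!
Fischer groups in which the transpositions commuting with a given one generate a group with a
non-central odd core: only the symmetric group of degree five.
-/

namespace Cfsg.Agent.Fischer.OddCoreLocal

open Cfsg.Agent Cfsg.Agent.Fischer Subgroup Equiv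
open Cfsg.Agent.Fischer.LocalSymThree (nb nb_symm)

variable {G : Type*} [Group G] {D : Set G}

/-- The standing hypotheses. -/
structure Ctx (D : Set G) : Prop where
  tg : IsThreeTranspositionGroup D
  trans : ∀ a ∈ D, ∀ b ∈ D, ∃ g : G, g * a * g⁻¹ = b
  trc : ∀ d ∈ D, ∀ y ∈ nb D d, ∀ y' ∈ nb D d, ∃ g ∈ closure (nb D d), g * y * g⁻¹ = y'
  trn : ∀ d ∈ D, ∀ c ∈ D, ∀ c' ∈ D, ¬ Commute d c → ¬ Commute d c' →
    ∃ m ∈ commClosure D d, m * c * m⁻¹ = c'
  nbr : ∀ d ∈ D, ∀ w, SameNbr D d w → w = d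

/-- Common neighbours. -/
def X (D : Set G) (d a : G) : Set G := nb D d ∩ nb D a

/-- Two neighbours of `d` with the same common neighbours with `d`. -/
def W (D : Set G) (d a b : G) : Prop := a ∈ nb D d ∧ b ∈ nb D d ∧ X D d a = X D d b

theorem commute_of_mem_closure_nb {a g : G} (hg : g ∈ closure (nb D a)) : Commute g a := by
  have : closure (nb D a) ≤ centralizer ({a} : Set G) := by
    rw [closure_le]
    exact fun y hy => mem_centralizer_singleton_iff.2 hy.2.2.eq.symm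
  exact mem_centralizer_singleton_iff.1 (this hg)

theorem hom_conj {H : Type*} [Group H] (φ : H →* G) {u t t' : H} (h : u * t * u⁻¹ = t') :
    φ u * φ t * (φ u)⁻¹ = φ t' := by
  rw [← h, map_mul, map_mul, map_inv]

theorem commute_of_sq_commute {p u : G} (hp : Odd (orderOf p)) (h : Commute (p ^ 2) u) :
    Commute p u := by
  obtain ⟨r, hr⟩ := hp
  have : p = (p ^ 2) ^ (r + 1) := by
    rw [← pow_mul, show 2 * (r + 1) = orderOf p + 1 by omega, pow_succ, pow_orderOf_eq_one, one_mul]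
  rw [this]
  exact h.pow_left _

theorem commute_conj_self_iff {g y : G} : g * y * g⁻¹ = y ↔ Commute g y := by
  rw [mul_inv_eq_iff_eq_mul]
  rfl

/-- A set of 3-transpositions without commuting members, closed under its own conjugations. -/
theorem exists_card_eq_three_pow [Finite G] (hD : IsThreeTranspositionSet D) {T : Set G}
    (hT : T ⊆ D) (hcl : ∀ y ∈ T, ∀ z ∈ T, y * z * y⁻¹ ∈ T)
    (hnc : ∀ y ∈ T, ∀ z ∈ T, y ≠ z → ¬ Commute y z) (hne : T.Nonempty) :
    ∃ n, T.ncard = 3 ^ n := by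
  haveI : Fact (Nat.Prime 3) := ⟨Nat.prime_three⟩
  obtain ⟨t₀, ht₀⟩ := hne
  set K := closure T with hK
  have hconj : ∀ g ∈ K, ∀ t ∈ T, g * t * g⁻¹ ∈ T ∧ g⁻¹ * t * g ∈ T := by
    intro g hg
    induction hg using Subgroup.closure_induction with
    | mem z hz =>
      intro t ht
      have h := hcl z hz t ht
      refine ⟨h, ?_⟩
      rw [TSet.inv hD (hT hz)] at h ⊢
      exact h
    | one => intro t ht; simpa using ht
    | mul u v _ _ hu hv =>
      intro t ht
      refine ⟨?_, ?_⟩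
      · rw [show u * v * t * (u * v)⁻¹ = u * (v * t * v⁻¹) * u⁻¹ by group]
        exact (hu _ (hv t ht).1).1
      · rw [show (u * v)⁻¹ * t * (u * v) = v⁻¹ * (u⁻¹ * t * u) * v by group]
        exact (hv _ (hu t ht).2).2
    | inv u _ hu =>
      intro t ht
      rw [inv_inv]
      exact ⟨(hu t ht).2, (hu t ht).1⟩
  set T' : Set K := Subtype.val ⁻¹' T with hT'
  have hsq : ∀ d ∈ T', d * d = 1 := fun d hd => Subtype.ext (TSet.sq hD (hT hd))
  have hbr : ∀ a ∈ T', ∀ b ∈ T', a * b * a = b * a * b := by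
    intro a ha b hb
    by_cases hab : a = b
    · rw [hab]
    · exact Subtype.ext (TSet.braid hD (hT ha) (hT hb)
        (hnc _ ha _ hb fun e => hab (Subtype.ext e)))
  have hcj : ∀ g : K, ∀ d ∈ T', g * d * g⁻¹ ∈ T' := fun g d hd => (hconj g g.2 d hd).1
  set t : K := ⟨t₀, subset_closure ht₀⟩ with htdef
  set P := (Cfsg.pCore 3 K).map (ConjAct.toConjAct (G := K)).toMonoidHom with hP
  have hP3 : IsPGroup 3 P := (PBasic.pCore_isPGroup 3 K).map _
  have horb : MulAction.orbit P t = T' := by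
    ext y
    constructor
    · rintro ⟨⟨g, hg⟩, rfl⟩
      show (g • t : K) ∈ T'
      rw [ConjAct.smul_def]
      exact hcj _ t ht₀
    · intro hy
      by_cases hty : t = y
      · exact hty ▸ MulAction.mem_orbit_self t
      obtain ⟨N, hN, hN3, hmem⟩ :=
        braidSet.mul_mem_normal_three_group hsq hbr hcj (a := t) (b := y) ht₀ hy
      refine ⟨⟨ConjAct.toConjAct (t * y), mem_map_of_mem _ (PBasic.le_pCore hN hN3 hmem)⟩, ?_⟩
      show (ConjAct.toConjAct (t * y) • t : K) = y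
      rw [ConjAct.toConjAct_smul]
      exact Subtype.ext (TSet.conj_swap hD (hT ht₀) (hT hy)
        (hnc _ ht₀ _ hy fun e => hty (Subtype.ext e)))
  obtain ⟨n, hn⟩ := hP3.card_orbit t
  refine ⟨n, ?_⟩
  rw [← hn, horb, Nat.card_coe_set_eq, hT', Set.ncard_preimage_of_injective_subset_range
    Subtype.val_injective (by rw [Subtype.range_coe_subtype]; exact fun z hz => subset_closure hz)]

namespace Ctx

variable (hC : Ctx D)
include hC

theorem conj_mem (g : G) {d : G} (hd : d ∈ D) : g * d * g⁻¹ ∈ D := hC.tg.2.1 g d hd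

theorem nb_conj {d y : G} (g : G) (hy : y ∈ nb D d) : g * y * g⁻¹ ∈ nb D (g * d * g⁻¹) :=
  ⟨hC.conj_mem g hy.1, fun h => hy.2.1 (mul_left_cancel (mul_right_cancel h)),
    (commute_conj_iff g d y).2 hy.2.2⟩

theorem nb_conj_iff {d y : G} (g : G) : g * y * g⁻¹ ∈ nb D (g * d * g⁻¹) ↔ y ∈ nb D d := by
  refine ⟨fun h => ?_, hC.nb_conj g⟩
  simpa [mul_assoc] using hC.nb_conj g⁻¹ h

theorem image_nb (d g : G) : (fun z => g * z * g⁻¹) '' nb D d = nb D (g * d * g⁻¹) := by
  ext z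
  constructor
  · rintro ⟨y, hy, rfl⟩
    exact hC.nb_conj g hy
  · intro hz
    have e : g * (g⁻¹ * z * g) * g⁻¹ = z := by group
    exact ⟨g⁻¹ * z * g, (hC.nb_conj_iff g).1 (by rwa [e]), e⟩

theorem image_X (d a g : G) :
    (fun z => g * z * g⁻¹) '' X D d a = X D (g * d * g⁻¹) (g * a * g⁻¹) := by
  rw [X, X, Set.image_inter (fun y z h => mul_left_cancel (mul_right_cancel h)), hC.image_nb,
    hC.image_nb]

theorem W_conj {d a b : G} (g : G) (h : W D d a b) :
    W D (g * d * g⁻¹) (g * a * g⁻¹) (g * b * g⁻¹) :=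
  ⟨hC.nb_conj g h.1, hC.nb_conj g h.2.1, by rw [← hC.image_X, ← hC.image_X, h.2.2]⟩

omit hC in
theorem W_not_commute {d a b : G} (h : W D d a b) (hne : b ≠ a) : ¬ Commute a b := by
  intro hc
  have hb : b ∈ X D d a := ⟨h.2.1, h.2.1.1, hne, hc⟩
  rw [h.2.2] at hb
  exact hb.2.2.1 rfl

theorem pair_move {d a d' a' : G} (hd : d ∈ D) (ha : a ∈ nb D d) (hd' : d' ∈ D)
    (ha' : a' ∈ nb D d') : ∃ g : G, g * d * g⁻¹ = d' ∧ g * a * g⁻¹ = a' := by
  obtain ⟨g₀, hg₀⟩ := hC.trans d hd d' hd'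
  have h := hC.nb_conj g₀ ha
  rw [hg₀] at h
  obtain ⟨g₁, hg₁, he⟩ := hC.trc d' hd' _ h a' ha'
  refine ⟨g₁ * g₀, ?_, ?_⟩
  · rw [show g₁ * g₀ * d * (g₁ * g₀)⁻¹ = g₁ * (g₀ * d * g₀⁻¹) * g₁⁻¹ by group, hg₀]
    exact commute_conj_self_iff.2 (commute_of_mem_closure_nb hg₁)
  · rw [show g₁ * g₀ * a * (g₁ * g₀)⁻¹ = g₁ * (g₀ * a * g₀⁻¹) * g₁⁻¹ by group, he]

theorem card_X {d a d' a' : G} (hd : d ∈ D) (ha : a ∈ nb D d) (hd' : d' ∈ D)
    (ha' : a' ∈ nb D d') : (X D d a).ncard = (X D d' a').ncard := by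
  obtain ⟨g, rfl, rfl⟩ := hC.pair_move hd ha hd' ha'
  rw [← hC.image_X, Set.ncard_image_of_injective _
    (fun y z h => mul_left_cancel (mul_right_cancel h))]

theorem card_nb {d d' : G} (hd : d ∈ D) (hd' : d' ∈ D) : (nb D d).ncard = (nb D d').ncard := by
  obtain ⟨g, rfl⟩ := hC.trans d hd d' hd'
  rw [← hC.image_nb, Set.ncard_image_of_injective _
    (fun y z h => mul_left_cancel (mul_right_cancel h))]

/-- A string `p - q - r - s` satisfies the relations of the symmetric group of degree five. -/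
theorem exists_chain_hom {p q r s : G} (hp : p ∈ D) (hq : q ∈ D) (hr : r ∈ D) (hs : s ∈ D)
    (hpq : ¬ Commute p q) (hqr : ¬ Commute q r) (hrs : ¬ Commute r s) (hpr : Commute p r)
    (hps : Commute p s) (hqs : Commute q s) :
    ∃ φ : Perm (Fin 5) →* G, φ (swap 0 1) = p ∧ φ (swap 1 2) = q ∧ φ (swap 2 3) = r ∧
      φ (swap 3 4) = s := by
  have hrels : SymCoxeter.Rels
      (fun i => if i = 0 then p else if i = 1 then q else if i = 2 then r else s) 4 := by
    refine ⟨fun i hi => ?_, fun i hi => ?_, fun i j hij hj => ?_⟩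
    · interval_cases i <;> simp [TSet.sq hC.tg.1, hp, hq, hr, hs]
    · have h₂ : i < 3 := by omega
      interval_cases i
      · simpa using TSet.braid hC.tg.1 hp hq hpq
      · simpa using TSet.braid hC.tg.1 hq hr hqr
      · simpa using TSet.braid hC.tg.1 hr hs hrs
    · have h₂ : i < 2 := by omega
      interval_cases i <;> interval_cases j
      · simpa using hpr.eq
      · simpa using hps.eq
      · simpa using hqs.eq
  obtain ⟨φ, hφ, -⟩ := SymCoxeter.exists_hom 4 _ hrels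
  refine ⟨φ, ?_, ?_, ?_, ?_⟩
  · simpa [SymCoxeter.adj] using hφ 0 (by omega)
  · simpa [SymCoxeter.adj] using hφ 1 (by omega)
  · simpa [SymCoxeter.adj] using hφ 2 (by omega)
  · simpa [SymCoxeter.adj] using hφ 3 (by omega)

theorem exists_W [Finite G] {x : G} (hx : x ∈ D)
    (h : ¬ Cfsg.oddCore ↥(closure (nb D x)) ≤ center ↥(closure (nb D x))) :
    ∀ d ∈ D, ∀ a ∈ nb D d, ∃ b, b ≠ a ∧ W D d a b := by
  haveI : Fact (Nat.Prime 2) := ⟨Nat.prime_two⟩
  set K := closure (nb D x) with hK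
  set O := Cfsg.oddCore ↥K with hO
  have hcop : (Nat.card O).Coprime 2 := PBasic.pPrimeCore_coprime 2 ↥K
  haveI hOn : O.Normal := pPrimeCore_normal 2 ↥K
  have hinvol : ∀ u : K, u ∈ O → u * u = 1 → u = 1 := by
    intro u hu huu
    have h2 : orderOf u ∣ 2 := orderOf_dvd_of_pow_eq_one (by rw [pow_two, huu])
    have h3 : orderOf u ∣ Nat.card O := by
      rw [← Subgroup.orderOf_mk u hu]
      exact orderOf_dvd_natCard _
    exact orderOf_eq_one_iff.1 (Nat.eq_one_of_dvd_coprimes hcop h3 h2)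
  have key : ∀ e e' : G, ∀ he : e ∈ nb D x, ∀ he' : e' ∈ nb D x, e ≠ e' →
      (⟨e, subset_closure he⟩ * ⟨e', subset_closure he'⟩ : K) ∈ O → X D x e ⊆ X D x e' := by
    intro e e' he he' hne ho y hy
    set E : K := ⟨e, subset_closure he⟩ with hE
    set E' : K := ⟨e', subset_closure he'⟩ with hE'
    set Y : K := ⟨y, subset_closure hy.1⟩ with hY
    have sE : E * E = 1 := Subtype.ext (TSet.sq hC.tg.1 he.1)
    have sY : Y * Y = 1 := Subtype.ext (TSet.sq hC.tg.1 hy.1.1)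
    have cYE : Y * E = E * Y := Subtype.ext hy.2.2.2.eq.symm
    have hye : y ≠ e' := by
      rintro rfl
      refine hne ?_
      have h2 : E * E' * (E * E') = 1 := by
        rw [show E * E' * (E * E') = E * (E' * E) * E' by group, cYE,
          show E * (E * E') * E' = (E * E) * (E' * E') by group, sE, sY, one_mul]
      have := hinvol _ ho h2
      rw [← sE] at this
      exact congrArg Subtype.val (mul_left_cancel this).symm
    refine ⟨hy.1, hy.1.1, hye, ?_⟩
    by_contra hnc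
    have h3 : (Y * E') ^ 3 = 1 := Subtype.ext (by
      have := TSet.cube hC.tg.1 hy.1.1 he'.1 (fun h => hnc h.symm)
      simpa using this)
    have hsq : (Y * E') ^ 2 ∈ O := by
      have : (Y * E') ^ 2 = ((Y * E) * (E * E') * (Y * E)⁻¹) *
          (((Y * E) * (Y * E)) * (E * E')) := by
        have hYE' : Y * E' = Y * E * (E * E') := by
          rw [mul_assoc, ← mul_assoc E E, sE, one_mul]
        rw [pow_two, hYE']
        group
      rw [this]
      refine mul_mem (hOn.conj_mem _ ho _) ?_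
      have : (Y * E) * (Y * E) = 1 := by
        rw [show Y * E * (Y * E) = Y * (E * Y) * E by group, ← cYE,
          show Y * (Y * E) * E = (Y * Y) * (E * E) by group, sY, sE, one_mul]
      rw [this, one_mul]
      exact ho
    have hu : Y * E' ∈ O := by
      rw [show Y * E' = (Y * E') ^ 3 * ((Y * E') ^ 2)⁻¹ by group, h3, one_mul]
      exact inv_mem hsq
    have hYE : Y * E ∈ O := by
      have hc : Y * E = (Y * E') * (E * E')⁻¹ := by
        rw [mul_inv_rev, inv_eq_of_mul_eq_one_right sE]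
        group
      rw [hc]
      exact mul_mem hu (inv_mem ho)
    have h2 : Y * E * (Y * E) = 1 := by
      rw [show Y * E * (Y * E) = Y * (E * Y) * E by group, ← cYE,
        show Y * (Y * E) * E = (Y * Y) * (E * E) by group, sY, sE, one_mul]
    have := hinvol _ hYE h2
    rw [← sE] at this
    exact hy.2.2.1 (congrArg Subtype.val (mul_right_cancel this))
  obtain ⟨e, he, n, hn, hne⟩ : ∃ e, ∃ he : e ∈ nb D x, ∃ n ∈ O,
      n * ⟨e, subset_closure he⟩ ≠ (⟨e, subset_closure he⟩ : K) * n := by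
    by_contra hall
    push Not at hall
    refine h fun n hn => mem_center_iff.2 fun k => ?_
    obtain ⟨k, hk⟩ := k
    refine Subgroup.closure_induction (p := fun g hg => (⟨g, hg⟩ : K) * n = n * ⟨g, hg⟩)
      ?_ ?_ ?_ ?_ hk
    · exact fun z hz => (hall z hz n hn).symm
    · exact (Commute.one_left n).eq
    · exact fun u v hu' hv' iu iv =>
        (Commute.mul_left (show Commute (⟨u, hu'⟩ : K) n from iu)
          (show Commute (⟨v, hv'⟩ : K) n from iv)).eq
    · exact fun u hu' iu => (Commute.inv_left (show Commute (⟨u, hu'⟩ : K) n from iu)).eq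
  set E : K := ⟨e, subset_closure he⟩ with hE
  set E' : K := n * E * n⁻¹ with hE'
  have he' : (E' : G) ∈ nb D x := by
    have := hC.nb_conj (n : G) he
    rwa [commute_conj_self_iff.2 (commute_of_mem_closure_nb n.2)] at this
  have hne' : e ≠ (E' : G) := fun hee => hne (mul_inv_eq_iff_eq_mul.1 (Subtype.ext hee.symm))
  have hO1 : E * E' ∈ O := by
    rw [hE', show E * (n * E * n⁻¹) = (E * n * E⁻¹) * ((E * E) * n⁻¹) by group,
      show E * E = 1 from Subtype.ext (TSet.sq hC.tg.1 he.1), one_mul]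
    exact mul_mem (hOn.conj_mem _ hn _) (inv_mem hn)
  have hO2 : E' * E ∈ O := by
    have := inv_mem hO1
    rwa [mul_inv_rev, show E⁻¹ = E from Subtype.ext (TSet.inv hC.tg.1 he.1),
      show E'⁻¹ = E' from Subtype.ext (TSet.inv hC.tg.1 he'.1)] at this
  have hW : W D x e (E' : G) :=
    ⟨he, he', Set.Subset.antisymm (key e _ he he' hne' hO1) (key _ e he' he hne'.symm hO2)⟩
  intro d hd a ha
  obtain ⟨g, rfl, rfl⟩ := hC.pair_move hx he hd ha
  exact ⟨g * E' * g⁻¹, fun h => hne' (mul_left_cancel (mul_right_cancel h)).symm,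
    hC.W_conj g hW⟩

section Triangle

variable (hX : ∀ d ∈ D, ∀ a ∈ nb D d, (X D d a).Nonempty)
include hX

theorem stepP {d a b d' : G} (hd : d ∈ D) (h₁ : W D d a b) (h₂ : W D a d d') :
    Commute b d' := by
  by_contra hnc
  have ha := h₁.1
  obtain ⟨x, hx⟩ := hX d hd a ha
  obtain ⟨g, hg, hgx⟩ := hC.trc a ha.1 d (nb_symm hd ha) x hx.2
  have hga : g * a * g⁻¹ = a := commute_conj_self_iff.2 (commute_of_mem_closure_nb hg)
  set b' := g * b * g⁻¹ with hb'
  set x' := g * d' * g⁻¹ with hx'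
  have W₁ : W D x a b' := by have := hC.W_conj g h₁; rwa [hgx, hga] at this
  have W₂ : W D a x x' := by have := hC.W_conj g h₂; rwa [hgx, hga] at this
  have hnc' : ¬ Commute x' b' := fun h => hnc ((commute_conj_iff g b d').1 h.symm)
  have hdx : d ∈ nb D x := nb_symm hd hx.1
  have hdX : d ∈ X D x a := ⟨hdx, nb_symm hd ha⟩
  have hd'a : d' ∈ nb D a := h₂.2.1
  have hd'x : d' ∈ nb D x := by
    have : x ∈ X D a d := ⟨hx.2, hx.1⟩
    rw [h₂.2.2] at this
    exact nb_symm hd'a.1 this.2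
  have hdb' : d ∈ nb D b' := by rw [W₁.2.2] at hdX; exact hdX.2
  have hd'b' : d' ∈ nb D b' := by
    have : d' ∈ X D x a := ⟨hd'x, hd'a⟩
    rw [W₁.2.2] at this
    exact this.2
  have hdx' : d ∈ nb D x' := by
    have : d ∈ X D a x := ⟨nb_symm hd ha, hdx⟩
    rw [W₂.2.2] at this
    exact this.2
  have hd'x' : d' ∈ nb D x' := by
    have : d' ∈ X D a x := ⟨hd'a, hd'x⟩
    rw [W₂.2.2] at this
    exact this.2
  have hab' : ¬ Commute b' a := by
    have hbne : b ≠ a := by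
      rintro rfl
      exact hnc hd'a.2.2
    intro h
    refine W_not_commute h₁ hbne ?_
    rw [← commute_conj_iff g, hga]
    exact h.symm
  set h := (b' * a) * (x' * b') with hh
  have hhx : h * x' * h⁻¹ = a := by
    rw [hh, show (b' * a) * (x' * b') * x' * ((b' * a) * (x' * b'))⁻¹
      = (b' * a) * ((x' * b') * x' * (x' * b')⁻¹) * (b' * a)⁻¹ by group,
      TSet.conj_swap hC.tg.1 W₂.2.1.1 W₁.2.1.1 hnc',
      TSet.conj_swap hC.tg.1 W₁.2.1.1 ha.1 hab']
  have hcd : Commute h d :=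
    (hdb'.2.2.mul_left ha.2.2.symm).mul_left (hdx'.2.2.mul_left hdb'.2.2)
  have hcd' : Commute h d' :=
    (hd'b'.2.2.mul_left hd'a.2.2).mul_left (hd'x'.2.2.mul_left hd'b'.2.2)
  have Wz : W D d x' (h⁻¹ * b * h) := by
    have := hC.W_conj h⁻¹ h₁
    rw [inv_inv, show h⁻¹ * d * h = d by rw [mul_assoc, ← hcd.eq, inv_mul_cancel_left],
      show h⁻¹ * a * h = x' by rw [← hhx]; group] at this
    exact this
  have haz : a ∈ X D d x' := ⟨ha, nb_symm ha.1 W₂.2.1⟩
  rw [Wz.2.2] at haz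
  have hz : h⁻¹ * b * h ∈ X D a d := ⟨nb_symm Wz.2.1.1 haz.2, Wz.2.1⟩
  rw [h₂.2.2] at hz
  have hcz := (commute_conj_iff h d' (h⁻¹ * b * h)).2 hz.2.2.2
  rw [commute_conj_self_iff.2 hcd', show h * (h⁻¹ * b * h) * h⁻¹ = b by group] at hcz
  exact hnc hcz.symm

theorem stepQ [Finite G] {d a x b' : G} (hd : d ∈ D) (ha : a ∈ nb D d) (hx : x ∈ X D d a)
    (h : W D x a b') : W D d a b' := by
  have hdX : d ∈ X D x a := ⟨nb_symm hd hx.1, nb_symm hd ha⟩
  rw [h.2.2] at hdX
  have hb' : b' ∈ nb D d := nb_symm h.2.1.1 hdX.2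
  refine ⟨ha, hb', Set.eq_of_subset_of_ncard_le (fun y hy => ?_) ?_ (Set.toFinite _)⟩
  · refine ⟨hy.1, ?_⟩
    by_cases hyx : y = x
    · exact hyx ▸ nb_symm hx.1.1 h.2.1
    by_cases hcyx : Commute y x
    · have : y ∈ X D x a := ⟨⟨hy.1.1, hyx, hcyx.symm⟩, hy.2⟩
      rw [h.2.2] at this
      exact this.2
    by_cases hne : b' = a
    · exact hne.symm ▸ hy.2
    by_cases hcyb : Commute b' y
    · exact ⟨hy.2.1, fun e => W_not_commute h hne (e ▸ hy.2.2.2), hcyb⟩
    exfalso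
    obtain ⟨φ, e₁, e₂, e₃, e₄⟩ := hC.exists_chain_hom ha.1 h.2.1.1 hy.2.1 hx.1.1
      (W_not_commute h hne) hcyb hcyx hy.2.2.2 hx.2.2.2 h.2.1.2.2.symm
    have hw : W D a x y := by
      have := hC.W_conj (φ (swap 0 4 * swap 1 3)) h
      rwa [← e₄, ← e₁, hom_conj φ (t' := swap 0 1) (by decide),
        hom_conj φ (t' := swap 3 4) (by decide), ← e₂, hom_conj φ (t' := swap 2 3) (by decide),
        e₁, e₃, e₄] at this
    exact hcyb (hC.stepP hX hx.1.1 h hw)
  · exact le_of_eq (hC.card_X hd hb' hd ha)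

theorem triangle_false [Finite G] (hW : ∀ d ∈ D, ∀ a ∈ nb D d, ∃ b, b ≠ a ∧ W D d a b)
    {d a : G} (hd : d ∈ D) (ha : a ∈ nb D d) : False := by
  obtain ⟨b, hne, h⟩ := hW d hd a ha
  have hbD : b ∈ D := h.2.1.1
  have hsub : nb D a ⊆ nb D b := by
    intro y hy
    by_cases hyd : y = d
    · exact hyd ▸ nb_symm hd h.2.1
    by_cases hcy : Commute d y
    · have : y ∈ X D d a := ⟨⟨hy.1, hyd, hcy⟩, hy⟩
      rw [h.2.2] at this
      exact this.2
    by_cases hall : ∀ x ∈ X D d a, Commute x y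
    · obtain ⟨x, hx⟩ := hX d hd a ha
      have hxa : a ∈ nb D x := nb_symm ha.1 hx.2
      have hxW : W D x a b := hC.stepQ hX hx.1.1 hxa ⟨nb_symm hd hx.1, nb_symm hd ha⟩ h
      have hyx : y ≠ x := fun e => hcy (e ▸ hx.1.2.2)
      have : y ∈ X D x a := ⟨⟨hy.1, hyx, hall x hx⟩, hy⟩
      rw [hxW.2.2] at this
      exact this.2
    push Not at hall
    obtain ⟨x, hx, hxy⟩ := hall
    by_cases hby : Commute b y
    · exact ⟨hy.1, fun e => W_not_commute h hne (e ▸ hy.2.2), hby⟩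
    exfalso
    obtain ⟨φ, e₁, e₂, e₃, e₄⟩ := hC.exists_chain_hom ha.1 hbD hy.1 hd
      (W_not_commute h hne) hby (fun c => hcy c.symm) hy.2.2 ha.2.2.symm h.2.1.2.2.symm
    set w := φ (Equiv.addRight (3 : Fin 5)) with hw
    have c₁ : w * a * w⁻¹ = d := by
      rw [← e₁, hom_conj φ (t' := swap 3 4) (by decide), e₄]
    have c₂ : w * d * w⁻¹ = b := by
      rw [← e₄, hom_conj φ (t' := swap 1 2) (by decide), e₂]
    have c₃ : w * b * w⁻¹ = φ (swap 0 4) := by
      rw [← e₂, hom_conj φ (t' := swap 0 4) (by decide)]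
    set q := w⁻¹ * x * w with hq
    have c₄ : w * q * w⁻¹ = x := by rw [hq]; group
    have hqX : q ∈ X D d a := by
      refine ⟨(hC.nb_conj_iff w).1 ?_, (hC.nb_conj_iff w).1 ?_⟩
      · rw [c₂, c₄]
        have : x ∈ X D d b := h.2.2 ▸ hx
        exact this.2
      · rw [c₁, c₄]
        exact hx.1
    rw [h.2.2] at hqX
    have hx04 := hC.nb_conj w hqX.2
    rw [c₃, c₄] at hx04
    have hxb : Commute x b := by
      have : x ∈ X D d b := h.2.2 ▸ hx
      exact this.2.2.2.symm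
    have hu : Commute x (φ (swap 3 4 * swap 1 2 * swap 0 1)) := by
      rw [map_mul, map_mul, e₁, e₂, e₄]
      exact (hx.1.2.2.symm.mul_right hxb).mul_right hx.2.2.2.symm
    refine hxy ?_
    rw [← e₃, ← hom_conj φ (u := swap 3 4 * swap 1 2 * swap 0 1) (t := swap 0 4) (t' := swap 2 3)
      (by decide)]
    exact (hu.mul_right hx04.2.2.symm).mul_right hu.inv_right
  have heq : nb D a = nb D b := Set.eq_of_subset_of_ncard_le hsub
    (le_of_eq (hC.card_nb hbD ha.1)) (Set.toFinite _)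
  refine hne (hC.nbr a ha.1 b ⟨hbD, fun y hy => ?_⟩)
  constructor
  · intro hh
    have : y ∈ nb D b := heq ▸ (⟨hy, hh⟩ : y ∈ nb D a)
    exact this.2
  · intro hh
    have : y ∈ nb D a := heq.symm ▸ (⟨hy, hh⟩ : y ∈ nb D b)
    exact this.2

end Triangle

theorem nb_noncommute [Finite G] (hW : ∀ d ∈ D, ∀ a ∈ nb D d, ∃ b, b ≠ a ∧ W D d a b) {d : G}
    (hd : d ∈ D) : ∀ y ∈ nb D d, ∀ z ∈ nb D d, y ≠ z → ¬ Commute y z := by
  intro y hy z hz hne hc
  refine hC.triangle_false (fun d' hd' a' ha' => ?_) hW hd hy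
  have h1 : (X D d y).Nonempty := ⟨z, hz, hz.1, hne.symm, hc⟩
  rw [← Set.ncard_pos, hC.card_X hd' ha' hd hy, Set.ncard_pos]
  exact h1

theorem params [Finite G] (hnc : ∀ d ∈ D, ∀ y ∈ nb D d, ∀ z ∈ nb D d, y ≠ z → ¬ Commute y z)
    {d₀ a₀ b₀ : G} (hd₀ : d₀ ∈ D) (ha₀ : a₀ ∈ nb D d₀) (hb₀ : b₀ ∈ nb D d₀) (hne₀ : a₀ ≠ b₀) :
    (∀ d ∈ D, (nb D d).ncard = 3) ∧
      ∀ a ∈ D, ∀ b ∈ D, ¬ Commute a b → (nb D a ∩ nb D b).Nonempty := by
  haveI : Fintype D := Fintype.ofFinite _
  have hnc₀ := hnc d₀ hd₀ a₀ ha₀ b₀ hb₀ hne₀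
  set μ := (nb D a₀ ∩ nb D b₀).ncard with hμ
  set k := (nb D d₀).ncard with hk
  have hk' : ∀ d ∈ D, (nb D d).ncard = k := fun d hd => hC.card_nb hd hd₀
  have hμ' : ∀ a ∈ D, ∀ b ∈ D, ¬ Commute a b → (nb D a ∩ nb D b).ncard = μ := by
    intro a ha b hb hab
    obtain ⟨g, rfl⟩ := hC.trans a₀ ha₀.1 a ha
    have h1 : ¬ Commute (g * a₀ * g⁻¹) (g * b₀ * g⁻¹) := fun h =>
      hnc₀ ((commute_conj_iff g a₀ b₀).1 h)
    obtain ⟨m, hm, rfl⟩ := hC.trn _ ha _ (hC.conj_mem g hb₀.1) _ hb h1 hab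
    have e : m * (g * a₀ * g⁻¹) * m⁻¹ = g * a₀ * g⁻¹ :=
      commute_conj_self_iff.2 (commute_of_mem_commClosure hm)
    rw [← show X D (g * a₀ * g⁻¹) (m * (g * b₀ * g⁻¹) * m⁻¹) =
      nb D (g * a₀ * g⁻¹) ∩ nb D (m * (g * b₀ * g⁻¹) * m⁻¹) from rfl]
    conv_lhs => rw [← e]
    rw [← hC.image_X, Set.ncard_image_of_injective _
      (fun y z h => mul_left_cancel (mul_right_cancel h)), ← hC.image_X,
      Set.ncard_image_of_injective _ (fun y z h => mul_left_cancel (mul_right_cancel h))]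
    rfl
  have hμpos : 1 ≤ μ :=
    (Set.ncard_pos).2 ⟨d₀, nb_symm hd₀ ha₀, nb_symm hd₀ hb₀⟩
  have hμk : μ < k := by
    rw [← hk' a₀ ha₀.1]
    refine Set.ncard_lt_ncard ⟨Set.inter_subset_left, fun hsub => ?_⟩ (Set.toFinite _)
    have hab : nb D a₀ ⊆ nb D b₀ := fun y hy => (hsub hy).2
    have heq : nb D a₀ = nb D b₀ := Set.eq_of_subset_of_ncard_le hab
      (le_of_eq (hC.card_nb hb₀.1 ha₀.1)) (Set.toFinite _)
    refine hne₀ (hC.nbr a₀ ha₀.1 b₀ ⟨hb₀.1, fun y hy => ?_⟩).symm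
    constructor
    · intro hh
      have : y ∈ nb D b₀ := heq ▸ (⟨hy, hh⟩ : y ∈ nb D a₀)
      exact this.2
    · intro hh
      have : y ∈ nb D a₀ := heq.symm ▸ (⟨hy, hh⟩ : y ∈ nb D b₀)
      exact this.2
  have hcl : ∀ d, ∀ y ∈ nb D d, ∀ z ∈ nb D d, y * z * y⁻¹ ∈ nb D d := by
    intro d y hy z hz
    have := hC.nb_conj y hz
    rwa [commute_conj_self_iff.2 hy.2.2.symm] at this
  obtain ⟨i, hi⟩ := exists_card_eq_three_pow hC.tg.1 (T := nb D d₀) (fun y hy => hy.1)
    (hcl d₀) (hnc d₀ hd₀) ⟨a₀, ha₀⟩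
  obtain ⟨j, hj⟩ := exists_card_eq_three_pow hC.tg.1 (T := nb D a₀ ∩ nb D b₀)
    (fun y hy => hy.1.1) (fun y hy z hz => ⟨hcl _ y hy.1 z hz.1, hcl _ y hy.2 z hz.2⟩)
    (fun y hy z hz => hnc a₀ ha₀.1 y hy.1 z hz.1) ⟨d₀, nb_symm hd₀ ha₀, nb_symm hd₀ hb₀⟩
  rw [← hk] at hi
  rw [← hμ] at hj
  have hji : j < i := by
    rw [hi, hj] at hμk
    exact (Nat.pow_lt_pow_iff_right (by norm_num)).1 hμk
  have hk3 : 3 ≤ k := by
    rw [hi]
    exact Nat.le_self_pow (by omega) 3
  let Γ : SimpleGraph D :=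
    { Adj := fun u v => (v : G) ∈ nb D u
      symm := ⟨fun u v h => nb_symm u.2 h⟩
      loopless := ⟨fun u h => h.2.1 rfl⟩ }
  haveI : DecidableRel Γ.Adj := Classical.decRel _
  haveI : DecidableEq D := Classical.decEq _
  haveI : Nonempty D := ⟨⟨d₀, hd₀⟩⟩
  have hncard : ∀ S : Set G, S ⊆ D → (Subtype.val ⁻¹' S : Set D).ncard = S.ncard := fun S hS =>
    Set.ncard_preimage_of_injective_subset_range Subtype.val_injective
      (by rw [Subtype.range_coe_subtype]; exact hS)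
  have hsrg : Γ.IsSRGWith (Fintype.card D) k 0 μ := by
    refine ⟨rfl, fun v => ?_, fun v w h => ?_, fun v w hvw h => ?_⟩
    · rw [← SimpleGraph.card_neighborSet_eq_degree, Fintype.card_eq_nat_card,
        Nat.card_coe_set_eq, ← hk' v v.2, ← hncard _ (fun y hy => hy.1)]
      rfl
    · rw [Fintype.card_eq_nat_card, Nat.card_coe_set_eq, Set.ncard_eq_zero,
        Set.eq_empty_iff_forall_notMem]
      rintro u ⟨h1, h2⟩
      exact hnc v v.2 w h u h1 (fun e => h2.2.1 e.symm) h2.2.2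
    · have hncm : ¬ Commute (v : G) w := fun hc =>
        h ⟨w.2, fun e => hvw (Subtype.ext e).symm, hc⟩
      rw [Fintype.card_eq_nat_card, Nat.card_coe_set_eq, ← hμ' v v.2 w w.2 hncm,
        ← hncard _ (fun y hy => hy.1.1)]
      rfl
  obtain ⟨s, hs⟩ := SrgSquare.square hsrg hk3 hμpos hμk
  rw [hi, hj] at hs
  obtain ⟨hi1, hj0⟩ := SrgSquare.three_one hji hs
  refine ⟨fun d hd => by rw [hk' d hd, hi, hi1, pow_one], fun a ha b hb hab => ?_⟩
  rw [← Set.ncard_pos, hμ' a ha b hb hab]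
  exact hμpos

theorem fix_three [Finite G] (h3 : ∀ d ∈ D, (nb D d).ncard = 3) {g v a : G} (hv : v ∈ D)
    (hgv : Commute g v) (hg : Odd (orderOf g)) (ha : a ∈ nb D v) (hga : Commute g a) :
    ∀ z ∈ nb D v, Commute g z := by
  intro z hz
  by_contra hcz
  have hza : z ≠ a := fun e => hcz (e ▸ hga)
  have hfv : g * v * g⁻¹ = v := commute_conj_self_iff.2 hgv
  have hfa : g * a * g⁻¹ = a := commute_conj_self_iff.2 hga
  have hinj : ∀ {p q : G}, g * p * g⁻¹ = g * q * g⁻¹ → p = q := fun h =>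
    mul_left_cancel (mul_right_cancel h)
  set z' := g * z * g⁻¹ with hz'
  have hzz' : z' ≠ z := fun e => hcz (commute_conj_self_iff.1 e)
  have hz'a : z' ≠ a := fun e => hza (hinj (e.trans hfa.symm))
  have hz'm : z' ∈ nb D v := by have := hC.nb_conj g hz; rwa [hfv] at this
  have hset : ({a, z, z'} : Set G) = nb D v := by
    refine Set.eq_of_subset_of_ncard_le ?_ ?_ (Set.toFinite _)
    · rintro y (rfl | rfl | rfl) <;> assumption
    · rw [h3 v hv, Set.ncard_eq_three.2 ⟨a, z, z', hza.symm, hz'a.symm, hzz'.symm, rfl⟩]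
  have hz''m : g * z' * g⁻¹ ∈ nb D v := by have := hC.nb_conj g hz'm; rwa [hfv] at this
  rw [← hset] at hz''m
  rcases hz''m with h | h | h
  · exact hz'a (hinj (h.trans hfa.symm))
  · refine hcz (commute_of_sq_commute hg (commute_conj_self_iff.1 ?_))
    rw [show g ^ 2 * z * (g ^ 2)⁻¹ = g * z' * g⁻¹ by rw [hz', pow_two]; group]
    exact h
  · exact hzz' (hinj h)

theorem hyp [Finite G] (hz : center G = ⊥) (h3 : ∀ d ∈ D, (nb D d).ncard = 3)
    (hμ : ∀ a ∈ D, ∀ b ∈ D, ¬ Commute a b → (nb D a ∩ nb D b).Nonempty)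
    (hnc : ∀ d ∈ D, ∀ y ∈ nb D d, ∀ z ∈ nb D d, y ≠ z → ¬ Commute y z) :
    LocalSymThree.Hyp D := by
  haveI : Fact (Nat.Prime 3) := ⟨Nat.prime_three⟩
  have hpick : ∀ d ∈ D, ∃ a ∈ nb D d, ∃ b ∈ nb D d, a ≠ b := by
    intro d hd
    obtain ⟨x, y, z, hxy, -, -, he⟩ := Set.ncard_eq_three.1 (h3 d hd)
    exact ⟨x, by simp [he], y, by simp [he], hxy⟩
  refine ⟨hC.tg.1, hC.tg.2.1, fun d hd => ?_, fun d hd => ?_⟩
  · obtain ⟨a, ha, b, hb, hab⟩ := hpick d hd
    have hn := hnc d hd a ha b hb hab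
    have haba : a * b * a ∈ nb D d := by
      have := hC.nb_conj a hb
      rwa [commute_conj_self_iff.2 ha.2.2.symm, TSet.inv hC.tg.1 ha.1] at this
    have h1 : a * b * a ≠ a := by
      intro e
      refine hab ?_
      have : a * b * a = a * a * a := by rw [e, TSet.sq hC.tg.1 ha.1, one_mul]
      exact (mul_left_cancel (mul_right_cancel this)).symm
    have h2 : a * b * a ≠ b := by
      intro e
      refine hn ?_
      show a * b = b * a
      calc a * b = a * b * a * a := by rw [mul_assoc (a * b), TSet.sq hC.tg.1 ha.1, mul_one]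
        _ = b * a := by rw [e]
    have hset : ({a, b, a * b * a} : Set G) = nb D d := by
      refine Set.eq_of_subset_of_ncard_le ?_ ?_ (Set.toFinite _)
      · rintro y (rfl | rfl | rfl) <;> assumption
      · rw [h3 d hd, Set.ncard_eq_three.2 ⟨a, b, _, hab, h1.symm, h2.symm, rfl⟩]
    have hcl : closure (nb D d) = closure ({a, b} : Set G) := by
      refine le_antisymm ((closure_le _).2 ?_) (closure_mono ?_)
      · rw [← hset]
        have ha' : a ∈ closure ({a, b} : Set G) := subset_closure (Or.inl rfl)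
        have hb' : b ∈ closure ({a, b} : Set G) := subset_closure (Or.inr rfl)
        rintro y (rfl | rfl | rfl)
        exacts [ha', hb', mul_mem (mul_mem ha' hb') ha']
      · rintro y (rfl | rfl) <;> assumption
    rw [hcl]
    exact nonempty_mulEquiv_perm_three (hC.tg.1.1 a ha.1) (hC.tg.1.1 b hb.1)
      (TSet.orderOf_mul_eq_three hC.tg.1 ha.1 hb.1 hn)
  · obtain ⟨a, ha, b, hb, hab⟩ := hpick d hd
    set C := centralizer ({d} : Set G) with hCdef
    set P := Cfsg.pCore 3 ↥C with hP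
    have hP3 : IsPGroup 3 P := PBasic.pCore_isPGroup 3 ↥C
    have hmemC : ∀ y ∈ nb D d, y ∈ C := fun y hy =>
      mem_centralizer_singleton_iff.2 hy.2.2.eq.symm
    have hab3 : orderOf (a * b) = 3 :=
      TSet.orderOf_mul_eq_three hC.tg.1 ha.1 hb.1 (hnc d hd a ha b hb hab)
    have hge : 3 ∣ Nat.card P := by
      obtain ⟨N, hN, hN3, hmem⟩ := braidSet.mul_mem_normal_three_group
        (D := (Subtype.val ⁻¹' nb D d : Set C)) (a := ⟨a, hmemC a ha⟩) (b := ⟨b, hmemC b hb⟩)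
        (fun y hy => Subtype.ext (TSet.sq hC.tg.1 hy.1)) (fun y hy z hz => by
          by_cases hyz : y = z
          · rw [hyz]
          · exact Subtype.ext (TSet.braid hC.tg.1 hy.1 hz.1
              (hnc d hd _ hy _ hz fun e => hyz (Subtype.ext e))))
        (fun g y hy => by
          have := hC.nb_conj (g : G) hy
          rwa [commute_conj_self_iff.2 (mem_centralizer_singleton_iff.1 g.2)] at this)
        ha hb
      have := orderOf_dvd_natCard (⟨_, PBasic.le_pCore hN hN3 hmem⟩ : P)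
      rwa [Subgroup.orderOf_mk, ← Subgroup.orderOf_coe, Subgroup.coe_mul, hab3] at this
    have hle : Nat.card P ≤ 3 := by
      rw [← h3 d hd, ← Nat.card_coe_set_eq]
      have hfix : ∀ p : P, ((p : C) : G) * d * ((p : C) : G)⁻¹ = d := fun p =>
        commute_conj_self_iff.2 (mem_centralizer_singleton_iff.1 (p : C).2)
      refine Nat.card_le_card_of_injective
        (fun p : P => (⟨((p : C) : G) * a * ((p : C) : G)⁻¹, by
          have := hC.nb_conj ((p : C) : G) ha
          rwa [hfix p] at this⟩ : nb D d)) (fun p q hpq => ?_)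
      set r : P := q⁻¹ * p with hr
      set g : G := ((r : C) : G) with hgdef
      have hga : Commute g a := by
        refine commute_conj_self_iff.1 ?_
        have e := congrArg Subtype.val hpq
        dsimp only at e
        calc g * a * g⁻¹
            = ((q : C) : G)⁻¹ * (((p : C) : G) * a * ((p : C) : G)⁻¹) * ((q : C) : G) := by
              rw [hgdef, hr]
              push_cast
              group
          _ = a := by rw [e]; group
      have hgd : Commute g d := mem_centralizer_singleton_iff.1 (r : C).2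
      have hodd : Odd (orderOf g) := by
        rw [hgdef, Subgroup.orderOf_coe, Subgroup.orderOf_coe]
        obtain ⟨n, hn⟩ := IsPGroup.iff_orderOf.1 hP3 r
        rw [hn]
        exact (by decide : Odd 3).pow
      have hz1 : ∀ y ∈ nb D d, Commute g y := hC.fix_three h3 hd hgd hodd ha hga
      have hz2 : ∀ y ∈ D, Commute g y := by
        intro y hy
        by_cases hyd : y = d
        · exact hyd ▸ hgd
        by_cases hc : Commute d y
        · exact hz1 y ⟨hy, hyd, hc⟩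
        obtain ⟨c, hc1, hc2⟩ := hμ d hd y hy hc
        exact hC.fix_three h3 hc1.1 (hz1 c hc1) hodd (nb_symm hd hc1) hgd y (nb_symm hy hc2)
      have hg1 : g = 1 := by
        have := mem_center_of_commute_gen hC.tg.2.2 hz2
        rwa [hz, mem_bot] at this
      have : r = 1 := Subtype.ext (Subtype.ext hg1)
      exact (inv_mul_eq_one.1 this).symm
    have := Nat.le_of_dvd Nat.card_pos hge
    omega

end Ctx

/-- The main theorem of this file. -/
theorem nonempty_mulEquiv_perm_five [Finite G]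
    (hsol : ∀ N : Subgroup G, N.Normal → Group.IsSolvable ↥N → N = ⊥)
    (hperf : ⁅commutator G, commutator G⁆ = commutator G)
    (hD : Cfsg.IsThreeTranspositionClass D) {x : G} (hx : x ∈ D)
    (h : ¬ Cfsg.oddCore ↥(closure (nb D x)) ≤ center ↥(closure (nb D x))) :
    Nonempty (G ≃* Equiv.Perm (Fin 5)) := by
  have hT := TClass.toGroup hD
  obtain ⟨hz, h2, h3, hD2⟩ := TClass.of_no_solvable hD hsol
  have hprim := TClass.primitive_of_perfect hD hD2 (h2.le.trans bot_le) (h3.le.trans bot_le) hperf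
  have hw := exists_commuting_pair hT hD2 (h3.le.trans bot_le)
  have hC : Ctx D := ⟨hT, TClass.transitive hD, fun d hd => prim_trans_commuting hT hprim hw hd,
    fun d hd => prim_trans_noncommuting hT hprim hw hd,
    fun d hd w hsame => prim_sameNbr_trivial hT hprim hw hd hsame⟩
  have hW := hC.exists_W hx h
  have hnc : ∀ d ∈ D, ∀ y ∈ nb D d, ∀ z ∈ nb D d, y ≠ z → ¬ Commute y z := fun d hd =>
    hC.nb_noncommute hW hd
  obtain ⟨a₁, ha₁, b₁, hb₁, hab₁, hc₁⟩ := hw
  have hb : b₁ ∈ nb D a₁ := ⟨hb₁, hab₁.symm, hc₁⟩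
  obtain ⟨b₂, hne, hW₁⟩ := hW a₁ ha₁ b₁ hb
  obtain ⟨hk, hμ⟩ := hC.params hnc ha₁ hb hW₁.2.1 hne.symm
  have H := hC.hyp hz hk hμ hnc
  have e : ↥(closure D) ≃* G := (MulEquiv.subgroupCongr hT.2.2).trans Subgroup.topEquiv
  rcases H.main ⟨x, hx⟩ with h5 | h33
  · exact h5.map fun f => e.symm.trans f
  · exfalso
    obtain ⟨f⟩ := h33
    haveI := PermSmall.isSolvable_perm_of_card_le_four (α := Fin 3) (by simp)
    haveI : Group.IsSolvable (Equiv.Perm (Fin 3) × Equiv.Perm (Fin 3)) := inferInstance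
    have hs : Group.IsSolvable ↥(⊤ : Subgroup G) :=
      Group.isSolvable_of_isSolvable_injective (f := ((MulEquiv.subgroupCongr hT.2.2).symm.trans f).toMonoidHom)
        (MulEquiv.injective _)
    have htop := hsol ⊤ inferInstance hs
    have hx1 : x ∈ (⊥ : Subgroup G) := htop ▸ mem_top x
    exact TSet.ne_one hD.1 hx (mem_bot.1 hx1)

end Cfsg.Agent.Fischer.OddCoreLocal
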