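import Cfsg.Agent.Lib.Fischer.Planes
import Cfsg.Agent.S5344

set_option autoImplicit false

/-!
The planes spanned by three members of a set of 3-transpositions.
-/

namespace Cfsg.Agent.Fischer

variable {G : Type*} [Group G] {D : Set G}

/-- The line through two non-commuting members. -/
def tLine (D : Set G) (x y : D) : Set D :=
  {z : D | (z : G) = x ∨ (z : G) = y ∨ (z : G) = (y : G) * (x : G) * (y : G)⁻¹}

/-- The line system of a plane realised inside `D`. -/
structure Realises {X₀ : Type} (op : X₀ → X₀ → X₀) (P : X₀ → D) : Prop where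
  inj : Function.Injective P
  mul : ∀ a b, (P (op a b) : G) = P a * P b * P a
  comm : ∀ a b, op a b = b ↔ Commute (P a : G) (P b)

theorem tLine_image (hD : IsThreeTranspositionGroup D) {X₀ : Type} {op : X₀ → X₀ → X₀}
    {P : X₀ → D} (hP : Realises op P) {a b : X₀} (h : op a b ≠ b) :
    tLine D (P a) (P b) = P '' {a, b, op a b} := by
  have hnc : ¬ Commute (P a : G) (P b) := fun hc => h ((hP.comm a b).2 hc)
  have h3 : (P b : G) * (P a : G) * (P b : G)⁻¹ = P (op a b) := by
    rw [hP.mul, TSet.inv hD.1 (P b).2, TSet.braid hD.1 (P a).2 (P b).2 hnc]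
  ext z
  simp only [tLine, Set.mem_setOf_eq, h3, Set.image_insert_eq, Set.image_singleton,
    Set.mem_insert_iff, Set.mem_singleton_iff, Subtype.ext_iff]

theorem third_of_line (hD : IsThreeTranspositionGroup D) {x y p q : D}
    (hxy : ¬ Commute (x : G) y) (hp : p ∈ tLine D x y) (hq : q ∈ tLine D x y) (hpq : p ≠ q) :
    ¬ Commute (p : G) q ∧ tLine D x y = tLine D p q := by
  have ix := TSet.inv hD.1 x.2
  have iy := TSet.inv hD.1 y.2
  have sx := TSet.sq hD.1 x.2
  have sy := TSet.sq hD.1 y.2
  have hbr := TSet.braid hD.1 x.2 y.2 hxy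
  set t := (y : G) * x * (y : G)⁻¹ with ht
  have htD : t ∈ D := hD.2.1 _ _ x.2
  have ht1 : t = (y : G) * x * y := by rw [ht, iy]
  have ht2 : t = (x : G) * y * x := by rw [ht1, hbr]
  have hyt : ¬ Commute (y : G) t := fun h => hxy (by
    have h' : Commute ((y : G) * y * (y : G)⁻¹) t := by rwa [mul_inv_cancel_right]
    exact ((commute_conj_iff (y : G) y x).1 h').symm)
  have hxt : ¬ Commute (x : G) t := fun h => hxy (by
    rw [ht2] at h
    have h' : Commute ((x : G) * x * (x : G)⁻¹) ((x : G) * y * (x : G)⁻¹) := by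
      rwa [mul_inv_cancel_right, ix]
    exact (commute_conj_iff (x : G) x y).1 h')
  have cxy : (y : G) * x * (y : G)⁻¹ = t := rfl
  have cyx : (x : G) * y * (x : G)⁻¹ = t := by rw [ix, ← ht2]
  have cxt : t * (x : G) * t⁻¹ = (y : G) := by
    rw [TSet.inv hD.1 htD, ← TSet.braid hD.1 x.2 htD hxt, ht2]
    simp only [mul_assoc, sx, mul_one]
    rw [← mul_assoc, sx, one_mul]
  have ctx : (x : G) * t * (x : G)⁻¹ = (y : G) := by
    rw [ix, ht2]
    simp only [mul_assoc, sx, mul_one]
    rw [← mul_assoc, sx, one_mul]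
  have cyt : t * (y : G) * t⁻¹ = (x : G) := by
    rw [TSet.inv hD.1 htD, ← TSet.braid hD.1 y.2 htD hyt, ht1]
    simp only [mul_assoc, sy, mul_one]
    rw [← mul_assoc, sy, one_mul]
  have cty : (y : G) * t * (y : G)⁻¹ = (x : G) := by
    rw [iy, ht1]
    simp only [mul_assoc, sy, mul_one]
    rw [← mul_assoc, sy, one_mul]
  have hmem : ∀ {a b c : G}, (p : G) = a → (q : G) = b → b * a * b⁻¹ = c →
      (({a, b, c} : Set G) = {(x : G), (y : G), t}) → tLine D x y = tLine D p q := by
    intro a b c hpa hqb hc hset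
    ext z
    simp only [tLine, Set.mem_setOf_eq, hpa, hqb, hc, ← ht]
    have := Set.ext_iff.1 hset (z : G)
    simpa [Set.mem_insert_iff] using this.symm
  rcases hp with hp | hp | hp <;> rcases hq with hq | hq | hq <;>
    try exact absurd (Subtype.ext (hp.trans hq.symm)) hpq
  · exact ⟨by rw [hp, hq]; exact hxy, hmem hp hq cxy rfl⟩
  · rw [← ht] at hq
    exact ⟨by rw [hp, hq]; exact hxt,
      hmem hp hq cxt (by ext z; simp; tauto)⟩
  · exact ⟨by rw [hp, hq]; exact fun h => hxy h.symm,
      hmem hp hq cyx (by ext z; simp; tauto)⟩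
  · rw [← ht] at hq
    exact ⟨by rw [hp, hq]; exact hyt,
      hmem hp hq cyt (by ext z; simp; tauto)⟩
  · rw [← ht] at hp
    exact ⟨by rw [hp, hq]; exact fun h => hxt h.symm,
      hmem hp hq ctx (by ext z; simp; tauto)⟩
  · rw [← ht] at hp
    exact ⟨by rw [hp, hq]; exact fun h => hyt h.symm,
      hmem hp hq cty (by ext z; simp; tauto)⟩

theorem realised_plane (hD : IsThreeTranspositionGroup D) {X₀ : Type} {M : Set (Set X₀)}
    {op : X₀ → X₀ → X₀} (hop : PlaneOp M op) {P : X₀ → D} (hP : Realises op P) {A : Set D}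
    (hA : A ⊆ Set.range P)
    (hgen : ∀ T : Set X₀, (∀ a, P a ∈ A → a ∈ T) →
      (∀ a ∈ T, ∀ b ∈ T, op a b ≠ b → op a b ∈ T) → ∀ a, a ∈ T) :
    Cfsg.LineSystem.Isomorphic
      (Cfsg.LineSystem.restrict (Cfsg.threeTranspositionLines D)
        (Cfsg.LineSystem.span (Cfsg.threeTranspositionLines D) A)) M := by
  set L := Cfsg.threeTranspositionLines D
  have hsub : Cfsg.LineSystem.IsSubspace L (Set.range P) := by
    rintro l ⟨x, y, hxy, rfl⟩ _ ⟨a, rfl⟩ _ ⟨b, rfl⟩ hne ha hb
    obtain ⟨hnc, heq⟩ := third_of_line hD hxy ha hb hne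
    show tLine D x y ⊆ _
    rw [heq, tLine_image hD hP fun h => hnc ((hP.comm a b).1 h)]
    exact Set.image_subset_range _ _
  have hspan : Cfsg.LineSystem.span L A = Set.range P := by
    refine le_antisymm (span_le hA hsub) ?_
    rintro _ ⟨a, rfl⟩
    refine hgen {a | P a ∈ Cfsg.LineSystem.span L A} (fun a ha => subset_span L A ha) ?_ a
    intro a ha b hb hab
    have hnc : ¬ Commute (P a : G) (P b) := fun hc => hab ((hP.comm a b).2 hc)
    have hne : P a ≠ P b := fun h => hnc (h ▸ Commute.refl _)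
    refine isSubspace_span L A (tLine D (P a) (P b)) ⟨P a, P b, hnc, rfl⟩ _ ha _ hb hne
      (Or.inl rfl) (Or.inr (Or.inl rfl)) ?_
    rw [tLine_image hD hP hab]
    exact ⟨op a b, by simp, rfl⟩
  rw [hspan]
  let e : Set.range P ≃ X₀ := (Equiv.ofInjective P hP.inj).symm
  have he : ∀ a, (e.symm a : D) = P a := fun a => rfl
  refine ⟨e, fun n => ⟨?_, fun hn => ?_⟩⟩
  · rintro ⟨l, hl, hlS, rfl⟩
    obtain ⟨x, y, hxy, rfl⟩ := hl
    obtain ⟨a, hax⟩ := hlS (Or.inl rfl : x ∈ tLine D x y)
    obtain ⟨b, hby⟩ := hlS (Or.inr (Or.inl rfl) : y ∈ tLine D x y)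
    subst hax hby
    have hab : op a b ≠ b := fun h => hxy ((hP.comm a b).1 h)
    refine (hop.lines _).2 ⟨a, b, hab, ?_⟩
    ext c
    have : P c ∈ tLine D (P a) (P b) ↔ c ∈ ({a, b, op a b} : Set X₀) := by
      rw [tLine_image hD hP hab]; exact hP.inj.mem_set_image
    rw [← this]
    exact ⟨fun ⟨w, hw, hwc⟩ => by rw [← he c, ← hwc, Equiv.symm_apply_apply]; exact hw,
      fun h => ⟨e.symm c, h, Equiv.apply_symm_apply e c⟩⟩
  · obtain ⟨a, b, hab, heq⟩ := (hop.lines _).1 hn
    refine ⟨tLine D (P a) (P b), ⟨P a, P b, fun hc => hab ((hP.comm a b).2 hc), rfl⟩, ?_, ?_⟩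
    · rw [tLine_image hD hP hab]; exact Set.image_subset_range _ _
    · ext w
      obtain ⟨c, rfl⟩ := e.symm.surjective w
      simp only [Set.mem_setOf_eq, he, tLine_image hD hP hab, hP.inj.mem_set_image, ← heq]
      exact ⟨fun h => ⟨_, h, Equiv.apply_symm_apply e c⟩,
        fun ⟨w, hw, hwc⟩ => by rwa [← hwc, Equiv.symm_apply_apply]⟩

/-- The transposition of a two-element set. -/
def pairSwap (s : Cfsg.DualAffinePoint) : Equiv.Perm (Fin 4) :=
  Equiv.swap (s.val.min' (Finset.card_pos.1 (by rw [s.2]; exact Nat.zero_lt_two)))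
    (s.val.max' (Finset.card_pos.1 (by rw [s.2]; exact Nat.zero_lt_two)))

theorem pairSwap_op : ∀ a b, pairSwap (dualOp a b) = pairSwap a * pairSwap b * pairSwap a := by
  decide

theorem pairSwap_comm : ∀ a b, dualOp a b = b ↔
    pairSwap a * pairSwap b = pairSwap b * pairSwap a := by decide

theorem pairSwap_inj : ∀ a b, pairSwap a = pairSwap b → a = b := by decide

/-- Point {0,1}. -/
def q01 : Cfsg.DualAffinePoint := ⟨{0, 1}, rfl⟩
/-- Point {1,2}. -/
def q12 : Cfsg.DualAffinePoint := ⟨{1, 2}, rfl⟩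
/-- Point {2,3}. -/
def q23 : Cfsg.DualAffinePoint := ⟨{2, 3}, rfl⟩

theorem dual_gen : ∀ s : Cfsg.DualAffinePoint, s = q01 ∨ s = q12 ∨ s = q23 ∨
    s = dualOp q01 q12 ∨ s = dualOp q12 q23 ∨ s = dualOp (dualOp q01 q12) q23 := by decide

theorem dual_gen_ne : dualOp q01 q12 ≠ q12 ∧ dualOp q12 q23 ≠ q23 ∧
    dualOp (dualOp q01 q12) q23 ≠ q23 := by decide

theorem pairSwap_gen : pairSwap q01 = Equiv.swap 0 1 ∧ pairSwap q12 = Equiv.swap 1 2 ∧
    pairSwap q23 = Equiv.swap 2 3 := by decide

/-- A string gives a dual affine plane. -/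
theorem plane_of_string (hD : IsThreeTranspositionGroup D) {u w v : D} (huv : u ≠ v)
    (huv' : Commute (u : G) v) (huw : ¬ Commute (u : G) w) (hwv : ¬ Commute (w : G) v) :
    ∃ P : Cfsg.DualAffinePoint → D, Realises dualOp P ∧ P q01 = u ∧ P q12 = w ∧ P q23 = v := by
  obtain ⟨φ, hφ, e1, e2, e3⟩ := S5344.result hD.1 u.2 w.2 v.2
    (fun h => huv (Subtype.ext h)) huv' huw hwv
  obtain ⟨g1, g2, g3⟩ := pairSwap_gen
  have hmem : ∀ s, φ (pairSwap s) ∈ D := by
    have h1 : φ (pairSwap q01) ∈ D := by rw [g1, e1]; exact u.2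
    have h2 : φ (pairSwap q12) ∈ D := by rw [g2, e2]; exact w.2
    have h3 : φ (pairSwap q23) ∈ D := by rw [g3, e3]; exact v.2
    have hcl : ∀ a b, φ (pairSwap a) ∈ D → φ (pairSwap b) ∈ D → φ (pairSwap (dualOp a b)) ∈ D := by
      intro a b ha hb
      have := hD.2.1 (φ (pairSwap a)) _ hb
      rwa [TSet.inv hD.1 ha, ← map_mul, ← map_mul, ← pairSwap_op] at this
    intro s
    rcases dual_gen s with rfl | rfl | rfl | rfl | rfl | rfl
    exacts [h1, h2, h3, hcl _ _ h1 h2, hcl _ _ h2 h3, hcl _ _ (hcl _ _ h1 h2) h3]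
  refine ⟨fun s => ⟨φ (pairSwap s), hmem s⟩, ⟨fun a b h => pairSwap_inj a b (hφ (congrArg Subtype.val h)),
    fun a b => ?_, fun a b => ?_⟩, Subtype.ext (show φ (pairSwap q01) = (u : G) by rw [g1, e1]), Subtype.ext (show φ (pairSwap q12) = (w : G) by rw [g2, e2]),
    Subtype.ext (show φ (pairSwap q23) = (v : G) by rw [g3, e3])⟩
  · show φ (pairSwap (dualOp a b)) = φ (pairSwap a) * φ (pairSwap b) * φ (pairSwap a)
    rw [pairSwap_op, map_mul, map_mul]
  · show dualOp a b = b ↔ φ (pairSwap a) * φ (pairSwap b) = φ (pairSwap b) * φ (pairSwap a)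
    rw [← map_mul, ← map_mul, hφ.eq_iff]
    exact pairSwap_comm a b

/-- Origin. -/
def p00 : Fin 2 → ZMod 3 := ![0, 0]
/-- First unit point. -/
def p10 : Fin 2 → ZMod 3 := ![1, 0]
/-- Second unit point. -/
def p01 : Fin 2 → ZMod 3 := ![0, 1]

/-- The nine points from three generators. -/
def ninePoint (a b c : G) (v : Fin 2 → ZMod 3) : G :=
  ![![a, c, a * c * a], ![b, a * (b * c * b) * a, c * (a * b * a) * c],
    ![a * b * a, b * (a * c * a) * b, b * c * b]] (show Fin 3 from v 0) (show Fin 3 from v 1)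

theorem affine_gen : ∀ v : Fin 2 → ZMod 3, v = p00 ∨ v = p10 ∨ v = p01 ∨
    v = affineOp p00 p10 ∨ v = affineOp p00 p01 ∨ v = affineOp p10 p01 ∨
    v = affineOp p00 (affineOp p10 p01) ∨ v = affineOp p10 (affineOp p00 p01) ∨
    v = affineOp p01 (affineOp p00 p10) := by decide

theorem affine_all (v : Fin 2 → ZMod 3) : v = ![v 0, v 1] := List.ofFn_inj.1 rfl

/-- Three pairwise non-commuting members with `a`, `c b c` non-commuting give an affine plane. -/
theorem plane_of_triangle (hD : IsThreeTranspositionGroup D) {a b c : D}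
    (hab : ¬ Commute (a : G) b) (hac : ¬ Commute (a : G) c) (hbc : ¬ Commute (b : G) c)
    (h4 : ¬ Commute (a : G) ((b : G) * c * b)) :
    ∃ P : (Fin 2 → ZMod 3) → D, Realises affineOp P ∧ P p00 = a ∧ P p10 = b ∧ P p01 = c := by
  obtain ⟨a, ha⟩ := a
  obtain ⟨b, hb⟩ := b
  obtain ⟨c, hc⟩ := c
  simp only at hab hac hbc h4
  have sa := TSet.sq hD.1 ha
  have sb := TSet.sq hD.1 hb
  have sc := TSet.sq hD.1 hc
  have ia := TSet.inv hD.1 ha
  have ib := TSet.inv hD.1 hb
  have ic := TSet.inv hD.1 hc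
  have cl : ∀ {x y : G}, x ∈ D → y ∈ D → x * y * x ∈ D := fun {x y} hx hy => by
    have := hD.2.1 x y hy; rwa [TSet.inv hD.1 hx] at this
  have ra : ∀ z, a * (a * z) = z := fun z => by rw [← mul_assoc, sa, one_mul]
  have rb : ∀ z, b * (b * z) = z := fun z => by rw [← mul_assoc, sb, one_mul]
  have rc : ∀ z, c * (c * z) = z := fun z => by rw [← mul_assoc, sc, one_mul]
  have bab : a * b * a = b * a * b := TSet.braid hD.1 ha hb hab
  have cac : a * c * a = c * a * c := TSet.braid hD.1 ha hc hac
  have cbc : b * c * b = c * b * c := TSet.braid hD.1 hb hc hbc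
  have n1 : ¬ Commute b (a * c * a) := fun h => h4 (by
    have h' := (commute_conj_iff c _ _).2 h
    rw [ic, ← cbc, cac] at h'
    rw [show c * (c * a * c) * c = a by simp only [mul_assoc, rc, sc, mul_one]] at h'
    exact h'.symm)
  have n2 : ¬ Commute c (a * b * a) := fun h => n1 (by
    have h' := (commute_conj_iff a _ _).2 h
    rw [ia, show a * (a * b * a) * a = b by simp only [mul_assoc, ra, sa, mul_one]] at h'
    exact h'.symm)
  -- the derived conjugations
  have d1 : a * (b * (a * c * a) * b) * a = c * (a * b * a) * c := by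
    calc a * (b * (a * c * a) * b) * a = (a * b * a) * c * (a * b * a) := by simp only [mul_assoc]
      _ = _ := (TSet.braid hD.1 hc (cl ha hb) n2).symm
  have d2 : b * (c * (a * b * a) * c) * b = a * (b * c * b) * a := by
    calc b * (c * (a * b * a) * c) * b = (b * c * b) * a * (b * c * b) := by
          rw [bab]; simp only [mul_assoc]
      _ = _ := (TSet.braid hD.1 ha (cl hb hc) h4).symm
  have d3 : c * (a * (b * c * b) * a) * c = b * (a * c * a) * b := by
    calc c * (a * (b * c * b) * a) * c = (c * a * c) * b * (c * a * c) := by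
          rw [cbc]; simp only [mul_assoc]
      _ = _ := by rw [← cac, TSet.braid hD.1 hb (cl ha hc) n1]
  have u2 : ∀ {k x y : G}, k * k = 1 → k * x * k = y → k * y * k = x := fun {k x y} hk h => by
    rw [← h]; simp only [mul_assoc, hk, mul_one]; rw [← mul_assoc, hk, one_mul]
  have ea : ∀ v, ninePoint a b c (affineOp p00 v) = a * ninePoint a b c v * a := by
    intro v
    rw [affine_all v]
    generalize v 0 = i
    generalize v 1 = j
    fin_cases i <;> fin_cases j
    · show a = a * a * a; rw [sa, one_mul]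
    · show a * c * a = a * c * a; rfl
    · show c = a * (a * c * a) * a; exact (u2 sa rfl).symm
    · show a * b * a = a * b * a; rfl
    · show b * c * b = a * (a * (b * c * b) * a) * a; exact (u2 sa rfl).symm
    · show b * (a * c * a) * b = a * (c * (a * b * a) * c) * a; exact (u2 sa d1).symm
    · show b = a * (a * b * a) * a; exact (u2 sa rfl).symm
    · show c * (a * b * a) * c = a * (b * (a * c * a) * b) * a; exact d1.symm
    · show a * (b * c * b) * a = a * (b * c * b) * a; rfl
  have eb : ∀ v, ninePoint a b c (affineOp p10 v) = b * ninePoint a b c v * b := by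
    intro v
    rw [affine_all v]
    generalize v 0 = i
    generalize v 1 = j
    fin_cases i <;> fin_cases j
    · show a * b * a = b * a * b; exact bab
    · show b * c * b = b * c * b; rfl
    · show b * (a * c * a) * b = b * (a * c * a) * b; rfl
    · show b = b * b * b; rw [sb, one_mul]
    · show c * (a * b * a) * c = b * (a * (b * c * b) * a) * b; exact (u2 sb d2).symm
    · show a * (b * c * b) * a = b * (c * (a * b * a) * c) * b; exact d2.symm
    · show a = b * (a * b * a) * b; exact (u2 sb bab.symm).symm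
    · show a * c * a = b * (b * (a * c * a) * b) * b; exact (u2 sb rfl).symm
    · show c = b * (b * c * b) * b; exact (u2 sb rfl).symm
  have ec : ∀ v, ninePoint a b c (affineOp p01 v) = c * ninePoint a b c v * c := by
    intro v
    rw [affine_all v]
    generalize v 0 = i
    generalize v 1 = j
    fin_cases i <;> fin_cases j
    · show a * c * a = c * a * c; exact cac
    · show c = c * c * c; rw [sc, one_mul]
    · show a = c * (a * c * a) * c; exact (u2 sc cac.symm).symm
    · show b * c * b = c * b * c; exact cbc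
    · show b * (a * c * a) * b = c * (a * (b * c * b) * a) * c; exact d3.symm
    · show a * b * a = c * (c * (a * b * a) * c) * c; exact (u2 sc rfl).symm
    · show c * (a * b * a) * c = c * (a * b * a) * c; rfl
    · show a * (b * c * b) * a = c * (b * (a * c * a) * b) * c; exact (u2 sc d3).symm
    · show b = c * (b * c * b) * c; exact (u2 sc cbc.symm).symm
  have e00 : ninePoint a b c p00 = a := rfl
  have e10 : ninePoint a b c p10 = b := rfl
  have e01 : ninePoint a b c p01 = c := rfl
  set Q := ninePoint a b c with hQ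
  -- every point behaves like the generators
  let Good : (Fin 2 → ZMod 3) → Prop := fun v =>
    Q v ∈ D ∧ (∀ w, Q (affineOp v w) = Q v * Q w * Q v)
  have hstep : ∀ k v, Good k → Good v → Good (affineOp k v) := by
    intro k v hk hv
    refine ⟨by rw [hk.2]; exact cl hk.1 hv.1, fun w => ?_⟩
    have hd : affineOp (affineOp k v) w = affineOp k (affineOp v (affineOp k w)) := by
      ext i
      have : ∀ k v w : ZMod 3, -(-k - v) - w = -k - (-v - (-k - w)) := by decide
      exact this (k i) (v i) (w i)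
    rw [hd, hk.2, hv.2, hk.2, hk.2]
    simp only [mul_assoc]
  have g00 : Good p00 := ⟨by rw [e00]; exact ha, fun w => by rw [e00]; exact ea w⟩
  have g10 : Good p10 := ⟨by rw [e10]; exact hb, fun w => by rw [e10]; exact eb w⟩
  have g01 : Good p01 := ⟨by rw [e01]; exact hc, fun w => by rw [e01]; exact ec w⟩
  have good : ∀ v, Good v := by
    intro v
    rcases affine_gen v with rfl | rfl | rfl | rfl | rfl | rfl | rfl | rfl | rfl
    exacts [g00, g10, g01, hstep _ _ g00 g10, hstep _ _ g00 g01, hstep _ _ g10 g01,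
      hstep _ _ g00 (hstep _ _ g10 g01), hstep _ _ g10 (hstep _ _ g00 g01),
      hstep _ _ g01 (hstep _ _ g00 g10)]
  have nA : ∀ w, w ≠ p00 → ¬ Commute a (Q w) := by
    intro w hw
    have conjA : ∀ x : G, Commute a (a * x * a) → Commute a x := fun x h => by
      have h' : Commute (a * a * a⁻¹) (a * x * a⁻¹) := by rwa [mul_inv_cancel_right, ia]
      exact (commute_conj_iff a a x).1 h'
    have nt : ¬ Commute a (b * (a * c * a) * b) := fun h => hbc (by
      have h' := (commute_conj_iff b _ _).2 h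
      rw [ib, ← bab, show b * (b * (a * c * a) * b) * b = a * c * a from u2 sb rfl] at h'
      have h'' := (commute_conj_iff a _ _).2 h'
      rwa [ia, u2 sa rfl, u2 sa rfl] at h'')
    revert hw
    rw [affine_all w]
    generalize w 0 = i
    generalize w 1 = j
    fin_cases i <;> fin_cases j
    · intro hw; exact absurd rfl hw
    · intro _; exact hac
    · intro _ h; exact hac (conjA c h)
    · intro _; exact hab
    · intro _ h; exact h4 (conjA _ h)
    · intro _ h
      refine nt (conjA _ ?_)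
      rw [d1]; exact h
    · intro _ h; exact hab (conjA b h)
    · intro _; exact nt
    · intro _; exact h4
  -- transitivity on the nine points
  have hnc : ∀ v, ∀ w, w ≠ v → ¬ Commute (Q v) (Q w) := by
    have step : ∀ k u, (∀ w, w ≠ u → ¬ Commute (Q u) (Q w)) →
        ∀ w, w ≠ affineOp k u → ¬ Commute (Q (affineOp k u)) (Q w) := by
      intro k u hu w hw h
      have hww : affineOp k (affineOp k w) = w := by simp only [affineOp]; abel
      refine hu (affineOp k w) (fun e => hw (by rw [← hww, e])) ?_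
      rw [(good k).2]
      rw [(good k).2] at h
      have h' := (commute_conj_iff (Q k) _ _).2 h
      rwa [TSet.inv hD.1 (good k).1, u2 (TSet.sq hD.1 (good k).1) rfl] at h'
    intro v
    have h0 : ∀ w, w ≠ p00 → ¬ Commute (Q p00) (Q w) := fun w hw => by rw [e00]; exact nA w hw
    have hv : affineOp (-v) p00 = v := by
      ext i
      fin_cases i <;> simp [affineOp, p00]
    rw [← hv]
    exact step _ _ h0
  refine ⟨fun v => ⟨Q v, (good v).1⟩, ⟨fun v w h => ?_, fun v w => (good v).2 w, fun v w => ?_⟩,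
    Subtype.ext e00, Subtype.ext e10, Subtype.ext e01⟩
  · by_contra hne
    exact hnc v w (Ne.symm hne) (by rw [show Q v = Q w from congrArg Subtype.val h])
  · rw [affine_eq_iff]
    exact ⟨fun h => h ▸ Commute.refl _, fun h => by_contra fun hne => hnc v w (Ne.symm hne) h⟩

end Cfsg.Agent.Fischer
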