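import Cfsg.Agent.Lib.Fischer.Cores
import Cfsg.Prelude.Def_FischerSpaces
import Mathlib.Data.Fintype.Pi
import Mathlib.Data.Fintype.Powerset

set_option autoImplicit false

/-!
The two planes of a Fischer space described by their operations.
-/

namespace Cfsg.Agent.Fischer

/-- An operation whose nontrivial pairs give the lines. -/
structure PlaneOp {X : Type*} (M : Set (Set X)) (op : X → X → X) : Prop where
  lines : ∀ l : Set X, l ∈ M ↔ ∃ x y, op x y ≠ y ∧ l = {x, y, op x y}
  idem : ∀ x, op x x = x
  third : ∀ x y, op x y ≠ y → op x y ≠ x ∧ op y x = op x y ∧ op x (op x y) = y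
  distrib : ∀ x p q, op x (op p q) = op (op x p) (op x q)
  fix_symm : ∀ x y, op x y = y → op y x = x

/-- The operation of the affine plane of order three. -/
def affineOp (x y : Fin 2 → ZMod 3) : Fin 2 → ZMod 3 := -x - y

theorem affine_line_shape : ∀ x y : Fin 2 → ZMod 3, ∀ s : Fin 2 → ZMod 3, x ≠ y →
    ((∃ c : ZMod 3, s = x + c • (y - x)) ↔ (s = x ∨ s = y ∨ s = affineOp x y)) := by decide

theorem affine_distrib : ∀ x p q : Fin 2 → ZMod 3,
    affineOp x (affineOp p q) = affineOp (affineOp x p) (affineOp x q) := by decide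

theorem affine_eq_iff : ∀ x y : Fin 2 → ZMod 3, affineOp x y = y ↔ x = y := by decide

theorem planeOp_affine : PlaneOp Cfsg.affinePlaneThree affineOp where
  lines l := by
    constructor
    · rintro ⟨v, w, hw, rfl⟩
      have hne : v ≠ v + w := fun h => hw (by simpa using h)
      refine ⟨v, v + w, fun h => hne ((affine_eq_iff _ _).1 h), Set.ext fun s => ?_⟩
      have := affine_line_shape v (v + w) s hne
      simpa [Set.mem_insert_iff] using this
    · rintro ⟨x, y, hxy, rfl⟩
      have hne : x ≠ y := fun h => hxy ((affine_eq_iff _ _).2 h)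
      refine ⟨x, y - x, sub_ne_zero.2 hne.symm, Set.ext fun s => ?_⟩
      have := affine_line_shape x y s hne
      simp only [Set.mem_setOf_eq, Set.mem_insert_iff, Set.mem_singleton_iff]
      exact this.symm
  idem := by decide
  third := by decide
  distrib := affine_distrib
  fix_symm := by decide

/-- The operation of the dual affine plane of order two. -/
def dualOp (x y : Cfsg.DualAffinePoint) : Cfsg.DualAffinePoint :=
  if h : (x.val \ y.val ∪ y.val \ x.val).card = 2 then ⟨x.val \ y.val ∪ y.val \ x.val, h⟩ else y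

theorem dual_line_exists : ∀ i : Fin 4, ∃ x y : Cfsg.DualAffinePoint, dualOp x y ≠ y ∧
    ∀ s : Cfsg.DualAffinePoint, (i ∉ s.val ↔ (s = x ∨ s = y ∨ s = dualOp x y)) := by decide

theorem dual_line_shape : ∀ x y : Cfsg.DualAffinePoint, dualOp x y ≠ y →
    ∃ i : Fin 4, ∀ s : Cfsg.DualAffinePoint,
      (i ∉ s.val ↔ (s = x ∨ s = y ∨ s = dualOp x y)) := by decide

theorem planeOp_dual : PlaneOp Cfsg.dualAffinePlaneTwo dualOp where
  lines l := by
    constructor
    · rintro ⟨i, rfl⟩
      obtain ⟨x, y, hxy, h⟩ := dual_line_exists i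
      exact ⟨x, y, hxy, Set.ext fun s => by simpa [Set.mem_insert_iff] using h s⟩
    · rintro ⟨x, y, hxy, rfl⟩
      obtain ⟨i, hi⟩ := dual_line_shape x y hxy
      exact ⟨i, Set.ext fun s => by simpa [Set.mem_insert_iff] using (hi s).symm⟩
  idem := by decide
  third := by decide
  distrib := by decide
  fix_symm := by decide

theorem span_le {X : Type*} {L : Set (Set X)} {A T : Set X} (hA : A ⊆ T)
    (hT : Cfsg.LineSystem.IsSubspace L T) : Cfsg.LineSystem.span L A ⊆ T :=
  fun _ hx => hx T ⟨hA, hT⟩

theorem subset_span {X : Type*} (L : Set (Set X)) (A : Set X) :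
    A ⊆ Cfsg.LineSystem.span L A := fun _ hx _ hT => hT.1 hx

theorem isSubspace_span {X : Type*} (L : Set (Set X)) (A : Set X) :
    Cfsg.LineSystem.IsSubspace L (Cfsg.LineSystem.span L A) :=
  fun l hl x hx y hy hne hxl hyl _ hz _ hT => hT.2 l hl x (hx _ hT) y (hy _ hT) hne hxl hyl hz

end Cfsg.Agent.Fischer
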