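import Cfsg.Agent.Lib.Fischer.Structure
import Cfsg.Agent.Lib.Components.Central

set_option autoImplicit false

/-!
The component of a 3-transposition group, and primitivity.
-/

namespace Cfsg.Agent.Fischer

open Subgroup

variable {G : Type*} [Group G] [Finite G] {D : Set G}

omit [Finite G] in
theorem exists_eq_two_pow_three_pow {n : ℕ} (hn : n ≠ 0)
    (h : ∀ p, p.Prime → p ∣ n → p = 2 ∨ p = 3) : ∃ a b, n = 2 ^ a * 3 ^ b := by
  obtain ⟨a, m, hm, rfl⟩ := Nat.exists_eq_pow_mul_and_not_dvd hn 2 (by decide)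
  have hm0 : m ≠ 0 := fun h0 => hn (by rw [h0, mul_zero])
  obtain ⟨b, r, hr, rfl⟩ := Nat.exists_eq_pow_mul_and_not_dvd hm0 3 (by decide)
  refine ⟨a, b, ?_⟩
  have hr1 : r = 1 := by
    by_contra hr1
    obtain ⟨p, hp, hpr⟩ := Nat.exists_prime_and_dvd hr1
    rcases h p hp (dvd_mul_of_dvd_right (dvd_mul_of_dvd_right hpr _) _) with rfl | rfl
    · exact hm (dvd_mul_of_dvd_right hpr _)
    · exact hr hpr
  rw [hr1, mul_one]

/-- Every member of a class of 3-transpositions normalises every component. -/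
theorem component_normalized (hD : IsThreeTranspositionGroup D) {L : Subgroup G}
    (hL : Cfsg.IsComponent L) {d : G} (hd : d ∈ D) :
    L.map (MulAut.conj d).toMonoidHom = L := by
  by_contra hne
  have hM := Components.component_conj hL d
  have hc := Components.components_commute hM hL hne
  have key : ∀ g : L, ((g : G) ^ 2 ∈ L.map (MulAut.conj d).toMonoidHom) ∨
      ((g : G) ^ 3 ∈ L.map (MulAut.conj d).toMonoidHom) := by
    intro g
    have hm : d * g * d⁻¹ ∈ L.map (MulAut.conj d).toMonoidHom := ⟨g, g.2, rfl⟩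
    have hcg : Commute (d * g * d⁻¹) (g : G)⁻¹ := by
      have := Subgroup.commutator_mem_commutator hm (inv_mem g.2)
      rwa [hc, Subgroup.mem_bot, commutatorElement_eq_one_iff_mul_comm] at this
    have hde : d * ((g : G) * d * (g : G)⁻¹) = (d * g * d⁻¹) * (g : G)⁻¹ := by
      rw [TSet.inv hD.1 hd]; group
    refine (hD.1.2 d hd _ (hD.2.1 g d hd)).imp (fun h => ?_) (fun h => ?_) <;>
    · rw [hde, hcg.mul_pow, inv_pow, mul_inv_eq_one] at h
      exact h ▸ pow_mem hm _
  set Z := Subgroup.center L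
  have hcent : ∀ g : L, (g : G) ∈ L.map (MulAut.conj d).toMonoidHom → g ∈ Z := by
    intro g hg
    rw [Subgroup.mem_center_iff]
    intro x
    have := Subgroup.commutator_mem_commutator hg x.2
    rw [hc, Subgroup.mem_bot, commutatorElement_eq_one_iff_mul_comm] at this
    exact Subtype.ext this.symm
  have hexp : ∀ q : L ⧸ Z, q ^ 2 = 1 ∨ q ^ 3 = 1 := by
    intro q
    obtain ⟨g, rfl⟩ := QuotientGroup.mk_surjective q
    refine (key g).imp (fun h => ?_) (fun h => ?_) <;>
    · rw [← QuotientGroup.mk_pow, QuotientGroup.eq_one_iff]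
      exact hcent _ (by simpa using h)
  have hprimes : ∀ p, p.Prime → p ∣ Nat.card (L ⧸ Z) → p = 2 ∨ p = 3 := by
    intro p hp hdvd
    haveI := Fact.mk hp
    obtain ⟨x, hx⟩ := exists_prime_orderOf_dvd_card' p hdvd
    refine (hexp x).imp (fun h => ?_) (fun h => ?_)
    · exact (Nat.prime_dvd_prime_iff_eq hp Nat.prime_two).1 (hx ▸ orderOf_dvd_of_pow_eq_one h)
    · exact (Nat.prime_dvd_prime_iff_eq hp Nat.prime_three).1 (hx ▸ orderOf_dvd_of_pow_eq_one h)
  haveI : Group.IsSolvable (L ⧸ Z) :=
    Char.isSolvable_of_card_pq 2 3 Nat.prime_two Nat.prime_three _ _ rfl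
      (exists_eq_two_pow_three_pow Nat.card_pos.ne' hprimes)
  haveI : Group.IsSolvable Z := Group.isSolvable_of_comm fun x y =>
    Subtype.ext (Subgroup.mem_center_iff.1 y.2 (x : L))
  refine Components.quasisimple_not_solvable hL.2 ?_
  exact Group.isSolvable_of_ker_le_range Z.subtype (QuotientGroup.mk' Z) (by simp)

theorem component_normal (hD : IsThreeTranspositionGroup D) {L : Subgroup G}
    (hL : Cfsg.IsComponent L) : L.Normal := by
  rw [← Subgroup.normalizer_eq_top_iff, eq_top_iff, ← hD.2.2, Subgroup.closure_le]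
  intro d hd
  rw [SetLike.mem_coe, Subgroup.mem_normalizer_iff_map_conj_eq]
  exact component_normalized hD hL hd

theorem TClass.component_unique (hD : IsThreeTranspositionClass D) {L M : Subgroup G}
    (hL : Cfsg.IsComponent L) (hM : Cfsg.IsComponent M) : L = M := by
  by_contra hne
  have hT := TClass.toGroup hD
  obtain ⟨d, hd⟩ : D.Nonempty := ⟨_, hD.2.1.choose_spec.1⟩
  haveI := component_normal hT hL
  haveI := component_normal hT hM
  have hc := Components.components_commute hL hM hne
  obtain ⟨-, g, hg, hgne, hgc⟩ := component_orbit hT hL hd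
    (by rw [Subgroup.normalizer_eq_top]; trivial)
    (TClass.exists_not_commute_mem hD (component_not_le_center hL) hd)
  obtain ⟨⟨h, hh, hhnc⟩, -⟩ := component_orbit hT hM hd
    (by rw [Subgroup.normalizer_eq_top]; trivial)
    (TClass.exists_not_commute_mem hD (component_not_le_center hM) hd)
  have sd := TSet.sq hD.1 hd
  set u := d * (g * d * g⁻¹) with hu
  set v := d * (h * d * h⁻¹) with hv
  have huL : u ∈ L := by
    have := mul_conj_mem (d := d) hg
    rwa [TSet.inv hD.1 hd] at this
  have hvM : v ∈ M := by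
    have := mul_conj_mem (d := d) hh
    rwa [TSet.inv hD.1 hd] at this
  have hcomm : ∀ x ∈ L, ∀ y ∈ M, Commute x y := fun x hx y hy => by
    have := Subgroup.commutator_mem_commutator hx hy
    rwa [hc, Subgroup.mem_bot, commutatorElement_eq_one_iff_mul_comm] at this
  have hu2 : u ^ 2 = 1 :=
    (commute_iff_sq_eq_one sd (TSet.sq hD.1 (hT.2.1 g d hd))).1 hgc
  have hu1 : u ≠ 1 := fun h1 => hgne (by
    rw [hu, mul_eq_one_iff_eq_inv, TSet.inv hD.1 (hT.2.1 g d hd)] at h1
    exact h1.symm)
  have hv3 : v ^ 3 = 1 := TSet.cube hD.1 hd (hT.2.1 h d hd) hhnc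
  have hv2 : v ^ 2 ≠ 1 := fun h2 =>
    hhnc ((commute_iff_sq_eq_one sd (TSet.sq hD.1 (hT.2.1 h d hd))).2 h2)
  have huv : d * ((g * h) * d * (g * h)⁻¹) = u * v := by
    have h1 : (g * h) * d * (g * h)⁻¹ = g * (d * v) * g⁻¹ := by
      rw [hv, ← mul_assoc d d, sd, one_mul]; group
    rw [h1, hu]
    calc d * (g * (d * v) * g⁻¹) = d * g * d * (v * g⁻¹) := by simp only [mul_assoc]
      _ = d * g * d * (g⁻¹ * v) := by rw [(hcomm _ (inv_mem hg) v hvM).eq]
      _ = _ := by simp only [mul_assoc]
  rcases hD.1.2 d hd _ (hT.2.1 (g * h) d hd) with h' | h' <;>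
    rw [huv, (hcomm u huL v hvM).mul_pow] at h'
  · rw [hu2, one_mul] at h'; exact hv2 h'
  · rw [hv3, mul_one, pow_succ, hu2, one_mul] at h'; exact hu1 h'

theorem TClass.exists_component (hD : IsThreeTranspositionClass D)
    (hD2 : ∃ a ∈ D, ∃ b ∈ D, a ≠ b) (h2 : Cfsg.pCore 2 G ≤ Subgroup.center G)
    (h3 : Cfsg.pCore 3 G ≤ Subgroup.center G) : ∃ L : Subgroup G, Cfsg.IsComponent L :=
  exists_component_not_le (TClass.trichotomy_exists hD hD2 h2 h3)

theorem TClass.generalizedFitting_eq (hD : IsThreeTranspositionClass D)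
    (h2 : Cfsg.pCore 2 G ≤ Subgroup.center G) (h3 : Cfsg.pCore 3 G ≤ Subgroup.center G)
    {L : Subgroup G} (hL : Cfsg.IsComponent L) :
    Cfsg.generalizedFittingSubgroup G = L ⊔ Subgroup.center G := by
  have hlayer : Cfsg.layer G = L :=
    le_antisymm (Components.layer_le_iff.2 fun M hM => le_of_eq (TClass.component_unique hD hM hL))
      (Components.component_le_layer hL)
  have hF : Cfsg.fittingSubgroup G = Subgroup.center G :=
    le_antisymm (fitting_le_center (TClass.toGroup hD) h2 h3)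
      (Components.le_fittingSubgroup inferInstance (Components.isNilpotent_of_commutator_le_center
        fun x _ => Subgroup.mem_center_iff.2 fun y =>
          Subtype.ext (Subgroup.mem_center_iff.1 x.2 (y : G))))
  rw [Cfsg.generalizedFittingSubgroup, hlayer, hF]

/-- Modulo a component, commuting members of the class coincide. -/
theorem TClass.component_width_one (hD : IsThreeTranspositionClass D) {L : Subgroup G}
    (hL : Cfsg.IsComponent L) {a b : G} (ha : a ∈ D) (hb : b ∈ D)
    (hab : a * b * a⁻¹ * b⁻¹ ∈ L) : a⁻¹ * b ∈ L := by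
  have hT := TClass.toGroup hD
  haveI := component_normal hT hL
  rw [TSet.inv hD.1 ha, TSet.inv hD.1 hb] at hab
  rw [TSet.inv hD.1 ha]
  by_contra hnot
  have hsq : (a * b) ^ 2 ∈ L := by
    rw [pow_two]; simpa only [mul_assoc] using hab
  set π := QuotientGroup.mk' L
  have hπsq : π (a * b) ^ 2 = 1 := by
    rw [← map_pow]; exact (QuotientGroup.eq_one_iff _).2 hsq
  have key : ∀ x ∈ L, ∀ y ∈ L, Commute (x * a * x⁻¹) (y * b * y⁻¹) := by
    intro x hx y hy
    by_contra hc
    refine hnot ((QuotientGroup.eq_one_iff _).1 ?_)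
    have hi : ∀ z ∈ L, π z = 1 := fun z hz => (QuotientGroup.eq_one_iff z).2 hz
    have h3 : π (a * b) ^ 3 = 1 := by
      have := congrArg π (TSet.cube hD.1 (hT.2.1 x a ha) (hT.2.1 y b hb) hc)
      simpa [map_mul, hi x hx, hi y hy] using this
    show π (a * b) = 1
    rw [pow_succ, hπsq, one_mul] at h3
    exact h3
  obtain ⟨⟨g, hg, hgnc⟩, -⟩ := component_orbit hT hL hb
    (by rw [Subgroup.normalizer_eq_top]; trivial)
    (TClass.exists_not_commute_mem hD (component_not_le_center hL) hb)
  set S : Set G := {z | ∃ y ∈ L, z = y * b * y⁻¹}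
  have hsub : S ⊆ {z | Commute a z} := by
    rintro _ ⟨y, hy, rfl⟩
    simpa using key 1 (one_mem L) y hy
  have hsub2 : ∀ x ∈ L, ∀ z ∈ Subgroup.closure S, Commute (x * a * x⁻¹) z := by
    intro x hx z hz
    have : Subgroup.closure S ≤ Subgroup.centralizer ({x * a * x⁻¹} : Set G) := by
      rw [Subgroup.closure_le]
      rintro _ ⟨y, hy, rfl⟩
      exact Subgroup.mem_centralizer_singleton_iff.2 (key x hx y hy).eq.symm
    exact (Subgroup.mem_centralizer_singleton_iff.1 (this hz)).symm
  -- the part of the closure inside `L` is a normal subgroup of `L` that is not central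
  set K := (Subgroup.closure S).subgroupOf L
  have hn : L ≤ Subgroup.normalizer (Subgroup.closure S : Set G) := by
    intro x hx
    rw [Subgroup.mem_normalizer_iff_map_conj_eq, MonoidHom.map_closure]
    congr 1
    ext z
    constructor
    · rintro ⟨_, ⟨y, hy, rfl⟩, rfl⟩
      exact ⟨x * y, mul_mem hx hy, by show x * (y * b * y⁻¹) * x⁻¹ = _; group⟩
    · rintro ⟨y, hy, rfl⟩
      exact ⟨x⁻¹ * y * b * (x⁻¹ * y)⁻¹, ⟨x⁻¹ * y, mul_mem (inv_mem hx) hy, rfl⟩,
        by show x * (x⁻¹ * y * b * (x⁻¹ * y)⁻¹) * x⁻¹ = _; group⟩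
  haveI : K.Normal := ⟨fun z hz x => (Subgroup.mem_normalizer_iff.1 (hn x.2) z).1 hz⟩
  have hmem : ∀ y, (hy : y ∈ L) → (⟨b * (y * b * y⁻¹), by
      have := mul_conj_mem (d := b) hy
      rwa [TSet.inv hD.1 hb] at this⟩ : L) ∈ K := fun y hy =>
    mul_mem (Subgroup.subset_closure (k := S) ⟨1, one_mem L, by group⟩)
      (Subgroup.subset_closure ⟨y, hy, rfl⟩)
  rcases Components.quasisimple_normal hL.2 K with htop | hcen
  · obtain ⟨h, hh, hha⟩ := TClass.exists_not_commute_mem hD (component_not_le_center hL) ha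
    refine hha ?_
    have := hsub2 1 (one_mem L) h (Subgroup.subgroupOf_eq_top.1 htop hh)
    simpa using this
  · -- then `g ↦ b * g * b⁻¹ * g⁻¹` is a homomorphism into the centre, hence trivial
    haveI := hL.2.1
    have hz : ∀ y : L, ∀ w : L, (b * ((y : G) * b * (y : G)⁻¹)) * w =
        (w : G) * (b * ((y : G) * b * (y : G)⁻¹)) := fun y w =>
      (congrArg Subtype.val (Subgroup.mem_center_iff.1 (hcen (hmem y y.2)) w)).symm
    let φ : L →* Subgroup.center L :=
      MonoidHom.mk' (fun y => ⟨_, hcen (hmem y y.2)⟩) fun y z => by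
        refine Subtype.ext (Subtype.ext ?_)
        show b * ((y : G) * z * b * ((y : G) * z)⁻¹) =
          b * ((y : G) * b * (y : G)⁻¹) * (b * ((z : G) * b * (z : G)⁻¹))
        have h1 := hz z y⁻¹
        have sb := TSet.sq hD.1 hb
        calc b * ((y : G) * z * b * ((y : G) * z)⁻¹)
            = b * ((y : G) * (b * ((b * ((z : G) * b * (z : G)⁻¹)) * (y : G)⁻¹))) := by
              simp only [mul_assoc, mul_inv_rev]
              rw [← mul_assoc b b, sb, one_mul]
          _ = b * ((y : G) * (b * ((y : G)⁻¹ * (b * ((z : G) * b * (z : G)⁻¹))))) := by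
              rw [show ((b * ((z : G) * b * (z : G)⁻¹)) * (y : G)⁻¹) =
                (y : G)⁻¹ * (b * ((z : G) * b * (z : G)⁻¹)) from h1]
          _ = _ := by simp only [mul_assoc]
    have hker : φ.ker = ⊤ := by
      rw [eq_top_iff, ← Group.IsPerfect.commutator_eq_top (G := L)]
      rw [commutator_def, Subgroup.commutator_le]
      intro x _ y _
      rw [MonoidHom.mem_ker, map_commutatorElement, commutatorElement_eq_one_iff_mul_comm]
      exact Subtype.ext (Subgroup.mem_center_iff.1 (φ y).2 (φ x))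
    have h1 : φ ⟨g, hg⟩ = 1 := by rw [← MonoidHom.mem_ker, hker]; trivial
    have h2 : b * (g * b * g⁻¹) = 1 := congrArg (fun w : Subgroup.center L => ((w : L) : G)) h1
    refine hgnc ?_
    rw [mul_eq_one_iff_eq_inv, TSet.inv hD.1 (hT.2.1 g b hb)] at h2
    exact h2 ▸ Commute.refl _

theorem index_le_two_of_forall (hD : IsThreeTranspositionGroup D) {L : Subgroup G} [L.Normal]
    {d : G} (hd : d ∈ D) (h : ∀ b ∈ D, d⁻¹ * b ∈ L) : L.index ≤ 2 := by
  have hsurj : Function.Surjective (fun k : Bool => ((if k then d else 1 : G) : G ⧸ L)) := by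
    intro q
    obtain ⟨x, rfl⟩ := QuotientGroup.mk_surjective q
    have hx : x ∈ Subgroup.closure D := by rw [hD.2.2]; trivial
    have sd : ((d : G ⧸ L)) * (d : G ⧸ L) = 1 := by
      rw [← QuotientGroup.mk_mul, TSet.sq hD.1 hd, QuotientGroup.mk_one]
    induction hx using Subgroup.closure_induction with
    | mem z hz => exact ⟨true, (QuotientGroup.eq).2 (h z hz)⟩
    | one => exact ⟨false, rfl⟩
    | mul u v _ _ hu hv =>
      obtain ⟨i, hi⟩ := hu
      obtain ⟨j, hj⟩ := hv
      refine ⟨xor i j, ?_⟩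
      simp only [QuotientGroup.mk_mul, ← hi, ← hj]
      cases i <;> cases j <;> simp [sd]
    | inv u _ hu =>
      obtain ⟨i, hi⟩ := hu
      refine ⟨i, ?_⟩
      simp only [QuotientGroup.mk_inv, ← hi]
      cases i <;> simp [inv_eq_of_mul_eq_one_right sd]
  rw [Subgroup.index_eq_card]
  exact (Nat.card_le_card_of_surjective _ hsurj).trans (by simp)

theorem TClass.index_le_two_of_connected (hD : IsThreeTranspositionClass D) {L : Subgroup G}
    (hL : Cfsg.IsComponent L) (hconn : (Cfsg.commutingGraph D).Connected) : L.index ≤ 2 := by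
  have hT := TClass.toGroup hD
  haveI := component_normal hT hL
  obtain ⟨d, hd⟩ : D.Nonempty := ⟨_, hD.2.1.choose_spec.1⟩
  have hstep : ∀ x y : D, (Cfsg.commutingGraph D).Adj x y → ((x : G))⁻¹ * y ∈ L := by
    intro x y h
    refine TClass.component_width_one hD hL x.2 y.2 ?_
    have hc : Commute (x : G) y := by
      rw [Cfsg.commutingGraph, SimpleGraph.fromRel_adj] at h
      rcases h.2 with h | h
      exacts [h, h.symm]
    rw [hc.eq, mul_inv_cancel_right, mul_inv_cancel]
    exact one_mem L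
  refine index_le_two_of_forall hT hd fun b hb => ?_
  have key : ∀ x y : D, (Cfsg.commutingGraph D).Walk x y → ((x : G))⁻¹ * y ∈ L := by
    intro x y w
    induction w with
    | nil => simp
    | @cons u v w h _ ih =>
      have := mul_mem (hstep u v h) ih
      rwa [mul_assoc, mul_inv_cancel_left] at this
  obtain ⟨w⟩ := hconn.preconnected ⟨d, hd⟩ ⟨b, hb⟩
  exact key _ _ w

end Cfsg.Agent.Fischer
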