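import Cfsg.Agent.Lib.Fischer.Blocks

set_option autoImplicit false

/-!
Fischer's transitivity theorem for a primitive class of 3-transpositions.
-/

namespace Cfsg.Agent.Fischer

open Subgroup

variable {G : Type*} [Group G] {D : Set G}

theorem toClass (hD : IsThreeTranspositionGroup D) (hprim : Cfsg.IsPrimitiveUnderConj D) :
    IsThreeTranspositionClass D := by
  obtain ⟨ht, ⟨a, ha, -⟩, -⟩ := hprim
  refine ⟨hD.1, ⟨a, ha, Set.ext fun x => ⟨fun hx => ?_, fun hx => ?_⟩⟩, hD.2.2⟩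
  · obtain ⟨g, hg⟩ := ht a ha x hx
    exact isConj_iff.2 ⟨g, hg⟩
  · obtain ⟨g, hg⟩ := isConj_iff.1 (show IsConj a x from hx)
    exact hg ▸ hD.2.1 g a ha

/-- Connected components of an equivariant relation form a block. -/
theorem isConjBlock_component {R : G → G → Prop} (hsymm : ∀ x y, R x y → R y x)
    (hconj : ∀ (g x y : G), R x y → R (g * x * g⁻¹) (g * y * g⁻¹)) (d : G) :
    IsConjBlock {x | Relation.ReflTransGen R d x} := by
  have hs : ∀ x y, Relation.ReflTransGen R x y → Relation.ReflTransGen R y x := by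
    intro x y h
    induction h with
    | refl => exact Relation.ReflTransGen.refl
    | tail _ h2 ih => exact Relation.ReflTransGen.head (hsymm _ _ h2) ih
  have hc : ∀ (g x y : G), Relation.ReflTransGen R x y →
      Relation.ReflTransGen R (g * x * g⁻¹) (g * y * g⁻¹) := fun g x y h => by
    induction h with
    | refl => exact Relation.ReflTransGen.refl
    | tail _ h2 ih => exact ih.tail (hconj g _ _ h2)
  intro g
  by_cases hd : Disjoint (cimg g {x | Relation.ReflTransGen R d x}) {x | Relation.ReflTransGen R d x}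
  · exact Or.inr hd
  left
  obtain ⟨_, ⟨z, hz, rfl⟩, hz2⟩ := Set.not_disjoint_iff.1 hd
  have hgd : Relation.ReflTransGen R d (g * d * g⁻¹) := hz2.trans (hs _ _ (hc g _ _ hz))
  ext x
  constructor
  · rintro ⟨y, hy, rfl⟩
    exact hgd.trans (hc g _ _ hy)
  · intro hx
    refine ⟨g⁻¹ * x * g, ?_, by group⟩
    have h1 := hc g⁻¹ _ _ ((hs _ _ hgd).trans hx)
    rwa [inv_inv, show g⁻¹ * (g * d * g⁻¹) * g = d by group] at h1

theorem component_of_primitive (hD : IsThreeTranspositionGroup D)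
    (hprim : Cfsg.IsPrimitiveUnderConj D) {R : G → G → Prop}
    (hsymm : ∀ x y, R x y → R y x) (hmem : ∀ x y, R x y → y ∈ D)
    (hconj : ∀ (g x y : G), R x y → R (g * x * g⁻¹) (g * y * g⁻¹)) {d c : G} (hd : d ∈ D)
    (hdc : R d c) (hne : c ≠ d) : ∀ x ∈ D, Relation.ReflTransGen R d x := by
  have hsub : {x | Relation.ReflTransGen R d x} ⊆ D := by
    intro x hx
    rcases Relation.ReflTransGen.cases_tail hx with h | ⟨y, -, h⟩
    · exact h ▸ hd
    · exact hmem y x h
  rcases hprim.2.2 _ hsub (isConjBlock_component hsymm hconj d) with h | h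
  · exact absurd (h (Relation.ReflTransGen.single hdc) Relation.ReflTransGen.refl) hne
  · intro x hx
    exact h.ge hx

variable [Finite G]

theorem prim_sameComm_trivial (hD : IsThreeTranspositionGroup D)
    (hprim : Cfsg.IsPrimitiveUnderConj D) {d v : G} (hd : d ∈ D) (h : SameComm D d v) : v = d := by
  by_contra hne
  have hall := component_of_primitive hD hprim (R := fun x y => x ∈ D ∧ SameComm D x y)
    (fun x y h => ⟨h.2.1, h.2.symm h.1⟩) (fun x y h => h.2.1)
    (fun g x y h => ⟨hD.2.1 g x h.1, h.2.conj hD.2.1 g⟩) hd ⟨hd, h⟩ hne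
  have hsame : ∀ x ∈ D, SameComm D d x := by
    intro x hx
    induction hall x hx with
    | refl => exact SameComm.refl hd
    | @tail y z _ h2 ih => exact (ih h2.1).trans h2.2
  have hz : d ∈ Subgroup.center G :=
    mem_center_of_commute_gen hD.2.2 fun s hs => (hsame s hs).commute
  obtain ⟨g, hg⟩ := hprim.1 d hd v h.1
  rw [Subgroup.mem_center_iff.1 hz g, mul_inv_cancel_right] at hg
  exact hne hg.symm

theorem prim_pCore_two (hD : IsThreeTranspositionGroup D)
    (hprim : Cfsg.IsPrimitiveUnderConj D) : Cfsg.pCore 2 G ≤ Subgroup.center G := by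
  haveI : (Cfsg.pCore 2 G).Normal := Cfsg.pCore_normal 2 G
  intro g hg
  refine mem_center_of_commute_gen hD.2.2 fun d hd => ?_
  have h := mul_conj_mem (d := d) hg
  rw [TSet.inv hD.1 hd] at h
  have := prim_sameComm_trivial hD hprim hd ((sameComm_iff hD hd).2 ⟨hD.2.1 g d hd, h⟩)
  exact mul_inv_eq_iff_eq_mul.1 this

theorem prim_sameNbr_trivial (hD : IsThreeTranspositionGroup D)
    (hprim : Cfsg.IsPrimitiveUnderConj D) (hw : ∃ a ∈ D, ∃ b ∈ D, a ≠ b ∧ Commute a b)
    {d w : G} (hd : d ∈ D) (h : SameNbr D d w) : w = d := by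
  by_contra hne
  have hall := component_of_primitive hD hprim (R := fun x y => x ∈ D ∧ SameNbr D x y)
    (fun x y h => ⟨h.2.1, h.2.symm h.1⟩) (fun x y h => h.2.1)
    (fun g x y h => ⟨hD.2.1 g x h.1, h.2.conj hD.2.1 g⟩) hd ⟨hd, h⟩ hne
  have hsame : ∀ x ∈ D, SameNbr D d x := by
    intro x hx
    induction hall x hx with
    | refl => exact SameNbr.refl hd
    | @tail y z _ h2 ih => exact (ih h2.1).trans h2.2
  obtain ⟨a, ha, b, hb, hab, hc⟩ := hw
  exact ((SameNbr.symm hd (hsame a ha)).trans (hsame b hb)).not_commute hab.symm hc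

theorem prim_pCore_three (hD : IsThreeTranspositionGroup D)
    (hprim : Cfsg.IsPrimitiveUnderConj D) (hw : ∃ a ∈ D, ∃ b ∈ D, a ≠ b ∧ Commute a b) :
    Cfsg.pCore 3 G ≤ Subgroup.center G := by
  haveI : (Cfsg.pCore 3 G).Normal := Cfsg.pCore_normal 3 G
  intro g hg
  refine mem_center_of_commute_gen hD.2.2 fun d hd => ?_
  have h := mul_conj_mem (d := d) hg
  rw [TSet.inv hD.1 hd] at h
  have := prim_sameNbr_trivial hD hprim hw hd ((sameNbr_iff hD hd).2 ⟨hD.2.1 g d hd, h⟩)
  exact mul_inv_eq_iff_eq_mul.1 this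

theorem prim_connected (hD : IsThreeTranspositionGroup D)
    (hprim : Cfsg.IsPrimitiveUnderConj D) (hw : ∃ a ∈ D, ∃ b ∈ D, a ≠ b ∧ Commute a b) :
    (Cfsg.commutingGraph D).Connected := by
  obtain ⟨a, ha, b, hb, hab, hc⟩ := hw
  have hall := component_of_primitive hD hprim
    (R := fun x y => x ∈ D ∧ y ∈ D ∧ x ≠ y ∧ Commute x y)
    (fun x y h => ⟨h.2.1, h.1, h.2.2.1.symm, h.2.2.2.symm⟩) (fun x y h => h.2.1)
    (fun g x y h => ⟨hD.2.1 g x h.1, hD.2.1 g y h.2.1, fun e => h.2.2.1 (by simpa using e),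
      (commute_conj_iff g x y).2 h.2.2.2⟩) ha ⟨ha, hb, hab, hc⟩ hab.symm
  haveI : Nonempty D := ⟨⟨a, ha⟩⟩
  have key : ∀ x (hx : x ∈ D), (Cfsg.commutingGraph D).Reachable ⟨a, ha⟩ ⟨x, hx⟩ := by
    intro x hx
    have h := hall x hx
    revert hx
    induction h with
    | refl => intro _; exact SimpleGraph.Reachable.refl _
    | @tail y z _ h2 ih =>
      intro hz
      refine (ih h2.1).trans (SimpleGraph.Adj.reachable ?_)
      rw [Cfsg.commutingGraph, SimpleGraph.fromRel_adj]
      exact ⟨fun e => h2.2.2.1 (congrArg Subtype.val e), Or.inl h2.2.2.2⟩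
  exact ⟨fun x y => (key x x.2).symm.trans (key y y.2)⟩

/-- The subgroup generated by the members commuting with `d`. -/
def commClosure (D : Set G) (d : G) : Subgroup G :=
  Subgroup.closure {y : G | y ∈ D ∧ Commute d y}

/-- Common partners of `d` and `c`. -/
def common (D : Set G) (d c : G) : Set G := {y | y ∈ D ∧ Commute d y ∧ Commute c y}

omit [Finite G] in
theorem commute_of_mem_commClosure {d m : G} (hm : m ∈ commClosure D d) : Commute m d := by
  have : commClosure D d ≤ Subgroup.centralizer ({d} : Set G) := by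
    rw [commClosure, Subgroup.closure_le]
    exact fun y hy => Subgroup.mem_centralizer_singleton_iff.2 hy.2.eq.symm
  exact Subgroup.mem_centralizer_singleton_iff.1 (this hm)

omit [Finite G] in
/-- Commuting members outside the centraliser of `d` are conjugate under `commClosure D d`. -/
theorem exists_move (hD : IsThreeTranspositionGroup D) {d c c' : G} (hd : d ∈ D) (hc : c ∈ D)
    (hc' : c' ∈ D) (hdc : ¬ Commute d c) (hdc' : ¬ Commute d c') (hcc : Commute c c') :
    ∃ m ∈ commClosure D d, m * c * m⁻¹ = c' := by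
  set e := c * c' * d * (c * c')⁻¹ with he
  have heD : e ∈ D := hD.2.1 (c * c') d hd
  have hde : Commute d e := TSet.string_commute hD.1 hc hd hc' hdc hdc' hcc
  refine ⟨d * e, mul_mem (Subgroup.subset_closure ⟨hd, Commute.refl d⟩)
    (Subgroup.subset_closure ⟨heD, hde⟩), ?_⟩
  have sd := TSet.sq hD.1 hd
  have sc := TSet.sq hD.1 hc
  have sc' := TSet.sq hD.1 hc'
  have ece : e * c * e = c' * d * c' := by
    rw [he, mul_inv_rev, TSet.inv hD.1 hc, TSet.inv hD.1 hc']
    calc c * c' * d * (c' * c) * c * (c * c' * d * (c' * c))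
        = c * c' * d * c' * (c * c) * (c * c') * d * (c' * c) := by simp only [mul_assoc]
      _ = c * c' * d * c' * (c' * c) * d * (c' * c) := by rw [sc, mul_one, hcc.eq]
      _ = c * c' * d * (c' * c') * c * d * (c' * c) := by simp only [mul_assoc]
      _ = c * c' * (d * c * d) * (c' * c) := by rw [sc', mul_one]; simp only [mul_assoc]
      _ = c * c' * (c * d * c) * (c' * c) := by rw [TSet.braid hD.1 hd hc hdc]
      _ = (c * c' * c) * d * (c * c' * c) := by simp only [mul_assoc]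
      _ = c' * d * c' := by rw [hcc.eq, mul_assoc c' c c, sc, mul_one]
  rw [mul_inv_rev, TSet.inv hD.1 hd, TSet.inv hD.1 heD]
  calc d * e * c * (e * d) = d * (e * c * e) * d := by simp only [mul_assoc]
    _ = d * (c' * d * c') * d := by rw [ece]
    _ = d * (d * c' * d) * d := by rw [TSet.braid hD.1 hd hc' hdc']
    _ = (d * d) * c' * (d * d) := by simp only [mul_assoc]
    _ = c' := by rw [sd, one_mul, mul_one]

omit [Finite G] in
theorem mem_common_conj (hD : IsThreeTranspositionGroup D) {d c m : G}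
    (hm : m ∈ commClosure D d) {y : G} (hy : y ∈ common D d c) :
    m * y * m⁻¹ ∈ common D d (m * c * m⁻¹) := by
  refine ⟨hD.2.1 m y hy.1, ?_, (commute_conj_iff m c y).2 hy.2.2⟩
  have := (commute_conj_iff m d y).2 hy.2.1
  rwa [conj_eq_self_of_commute (commute_of_mem_commClosure hm)] at this

theorem ncard_common_eq (hD : IsThreeTranspositionGroup D) {d c m : G}
    (hm : m ∈ commClosure D d) :
    (common D d (m * c * m⁻¹)).ncard = (common D d c).ncard := by
  refine le_antisymm ?_ ?_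
  · refine Set.ncard_le_ncard_of_injOn (fun y => m⁻¹ * y * m) (fun y hy => ?_)
      (fun a _ b _ h => by simpa using h) (Set.toFinite _)
    have := mem_common_conj hD (inv_mem hm) hy
    rwa [inv_inv, show m⁻¹ * (m * c * m⁻¹) * m = c by group] at this
  · exact Set.ncard_le_ncard_of_injOn (fun y => m * y * m⁻¹) (fun y hy => mem_common_conj hD hm hy)
      (fun a _ b _ h => by simpa using h) (Set.toFinite _)

omit [Finite G] in
/-- The third point on the line through two members outside the centraliser of `d`. -/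
theorem third_orbit (hD : IsThreeTranspositionGroup D) {d c c' y : G} (hd : d ∈ D) (hc : c ∈ D)
    (hc' : c' ∈ D) (hdc' : ¬ Commute d c') (hcc : ¬ Commute c c') (hy : y ∈ common D d c)
    (hyc' : ¬ Commute c' y) :
    (∃ m ∈ commClosure D d, m * c * m⁻¹ = c') ∨
      (¬ Commute d (c * c' * c) ∧ ∃ m ∈ commClosure D d, m * (c * c' * c) * m⁻¹ = c') := by
  have htD : c * c' * c ∈ D := by
    have := hD.2.1 c c' hc'
    rwa [TSet.inv hD.1 hc] at this
  by_cases hdt : Commute d (c * c' * c)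
  · refine Or.inl ⟨c * c' * c, Subgroup.subset_closure ⟨htD, hdt⟩, ?_⟩
    rw [TSet.inv hD.1 htD]
    have hb := TSet.braid hD.1 hc hc' hcc
    have sc := TSet.sq hD.1 hc
    have sc' := TSet.sq hD.1 hc'
    calc c * c' * c * c * (c * c' * c) = c * c' * (c * c) * (c * c' * c) := by simp only [mul_assoc]
      _ = c * c' * (c' * c * c') := by rw [sc, mul_one, hb]
      _ = c * (c' * c') * c * c' := by simp only [mul_assoc]
      _ = c' := by rw [sc', mul_one, sc, one_mul]
  refine Or.inr ⟨hdt, ?_⟩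
  have hyM : y ∈ commClosure D d := Subgroup.subset_closure ⟨hy.1, hy.2.1⟩
  have heD : y * (c * c' * c) * y⁻¹ ∈ D := hD.2.1 y _ htD
  have hde : ¬ Commute d (y * (c * c' * c) * y⁻¹) := fun h => hdt (by
    rw [← commute_conj_iff y, conj_eq_self_of_commute hy.2.1.symm]
    exact h)
  have hce : Commute c' (y * (c * c' * c) * y⁻¹) := by
    have h1 := TSet.string_commute hD.1 hy.1 hc' hc hyc' (fun h => hcc h.symm) hy.2.2.symm
    rwa [show y * c * c' * (y * c)⁻¹ = y * (c * c' * c) * y⁻¹ by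
      rw [mul_inv_rev, TSet.inv hD.1 hc]; group] at h1
  obtain ⟨m, hm, hme⟩ := exists_move hD hd heD hc' hde hdc' hce.symm
  refine ⟨m * y, mul_mem hm hyM, ?_⟩
  calc m * y * (c * c' * c) * (m * y)⁻¹ = m * (y * (c * c' * c) * y⁻¹) * m⁻¹ := by group
    _ = c' := hme

/-- Fischer: transitivity on the members not commuting with `d`. -/
theorem prim_trans_noncommuting (hD : IsThreeTranspositionGroup D)
    (hprim : Cfsg.IsPrimitiveUnderConj D) (hw : ∃ a ∈ D, ∃ b ∈ D, a ≠ b ∧ Commute a b)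
    {d : G} (hd : d ∈ D) : ∀ c ∈ D, ∀ c' ∈ D, ¬ Commute d c → ¬ Commute d c' →
      ∃ m ∈ commClosure D d, m * c * m⁻¹ = c' := by
  set M := commClosure D d with hM
  have hor : ∀ c c' : G, (∃ m ∈ M, m * c * m⁻¹ = c') → ∃ m ∈ M, m * c' * m⁻¹ = c := by
    rintro c c' ⟨m, hm, rfl⟩
    exact ⟨m⁻¹, inv_mem hm, by group⟩
  have hotr : ∀ c c' c'' : G, (∃ m ∈ M, m * c * m⁻¹ = c') → (∃ m ∈ M, m * c' * m⁻¹ = c'') →
      ∃ m ∈ M, m * c * m⁻¹ = c'' := by
    rintro c c' c'' ⟨m, hm, rfl⟩ ⟨n, hn, rfl⟩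
    exact ⟨n * m, mul_mem hn hm, by group⟩
  have hncard : ∀ c c' : G, (∃ m ∈ M, m * c * m⁻¹ = c') →
      (common D d c').ncard = (common D d c).ncard := by
    rintro c c' ⟨m, hm, rfl⟩
    exact ncard_common_eq hD hm
  have nested : ∀ c ∈ D, ∀ c' ∈ D, ¬ Commute d c → ¬ Commute d c' →
      ¬ (∃ m ∈ M, m * c * m⁻¹ = c') →
      common D d c ⊆ common D d c' ∨ common D d c' ⊆ common D d c := by
    intro c hc c' hc' hdc hdc' hno
    rw [or_iff_not_imp_left]
    intro h
    obtain ⟨y, hy, hyn⟩ := Set.not_subset.1 h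
    intro y' hy'
    by_contra hy'n
    have hcc : ¬ Commute c c' := fun hh => hno (exists_move hD hd hc hc' hdc hdc' hh)
    obtain ⟨-, h1⟩ := (third_orbit hD hd hc hc' hdc' hcc hy
      (fun hh => hyn ⟨hy.1, hy.2.1, hh⟩)).resolve_left hno
    obtain ⟨-, h2⟩ := (third_orbit hD hd hc' hc hdc (fun hh => hcc hh.symm) hy'
      (fun hh => hy'n ⟨hy'.1, hy'.2.1, hh⟩)).resolve_left (fun hh => hno (hor _ _ hh))
    rw [← TSet.braid hD.1 hc hc' hcc] at h2
    exact hno (hotr _ _ _ (hor _ _ h2) h1)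
  intro c₀ hc₀ c₁ hc₁ hdc₀ hdc₁
  by_contra hno₀
  -- all common sets have one size
  obtain ⟨cm, hcm, hmax⟩ := Set.exists_max_image {c : G | c ∈ D ∧ ¬ Commute d c}
    (fun c => (common D d c).ncard) (Set.toFinite _) ⟨c₀, hc₀, hdc₀⟩
  set amax := (common D d cm).ncard with hamax
  set E : Set G := {x | x ∈ D ∧ (Commute d x ∨ (common D d x).ncard = amax)} with hE
  have hEdE : ∀ y ∈ E, d * y * d⁻¹ ∈ E := by
    intro y hy
    refine ⟨hD.2.1 d y hy.1, ?_⟩
    by_cases hdy : Commute d y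
    · exact Or.inl (by rwa [conj_eq_self_of_commute hdy])
    · exact Or.inr ((hncard y _ ⟨d, Subgroup.subset_closure ⟨hd, Commute.refl d⟩, rfl⟩).trans
        (hy.2.resolve_left hdy))
  have hclosed : ∀ x ∈ E, ∀ y ∈ E, x * y * x⁻¹ ∈ E := by
    intro x hx y hy
    have hxy : x * y * x⁻¹ ∈ D := hD.2.1 x y hy.1
    by_cases hc : Commute x y
    · rw [conj_eq_self_of_commute hc]; exact hy
    have hbr : x * y * x⁻¹ = y * x * y⁻¹ := by
      rw [TSet.inv hD.1 hx.1, TSet.inv hD.1 hy.1, TSet.braid hD.1 hx.1 hy.1 hc]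
    by_cases hdx : Commute d x
    · have hxM : x ∈ M := Subgroup.subset_closure ⟨hx.1, hdx⟩
      refine ⟨hxy, ?_⟩
      rcases hy.2 with h | h
      · refine Or.inl ?_
        have := (commute_conj_iff x d y).2 h
        rwa [conj_eq_self_of_commute hdx.symm] at this
      · exact Or.inr ((hncard y _ ⟨x, hxM, rfl⟩).trans h)
    by_cases hdy : Commute d y
    · rw [hbr]
      exact ⟨hD.2.1 y x hx.1,
        Or.inr ((hncard x _ ⟨y, Subgroup.subset_closure ⟨hy.1, hdy⟩, rfl⟩).trans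
          (hx.2.resolve_left hdx))⟩
    refine ⟨hxy, or_iff_not_imp_left.2 fun hdt => ?_⟩
    by_contra hne
    have hax := hx.2.resolve_left hdx
    have hay := hy.2.resolve_left hdy
    have hlt : (common D d (x * y * x⁻¹)).ncard < amax :=
      lt_of_le_of_ne (hmax _ ⟨hxy, hdt⟩) hne
    have hno : ¬ ∃ m ∈ M, m * x * m⁻¹ = x * y * x⁻¹ := fun h => hne ((hncard _ _ h).trans hax)
    have hnsub : ¬ common D d x ⊆ common D d (x * y * x⁻¹) := fun h =>
      absurd (Set.ncard_le_ncard h (Set.toFinite _)) (by omega)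
    obtain ⟨z, hz, hzn⟩ := Set.not_subset.1 hnsub
    have hxt : ¬ Commute x (x * y * x⁻¹) := by
      intro h
      have h' : Commute (x * x * x⁻¹) (x * y * x⁻¹) := by rwa [mul_inv_cancel_right]
      exact hc ((commute_conj_iff x x y).1 h')
    have h3 := ((third_orbit hD hd hx.1 hxy hdt hxt hz
      (fun hh => hzn ⟨hz.1, hz.2.1, hh⟩)).resolve_left hno).2
    rw [show x * (x * y * x⁻¹) * x = y by
      rw [TSet.inv hD.1 hx.1]
      calc x * (x * y * x) * x = (x * x) * y * (x * x) := by simp only [mul_assoc]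
        _ = y := by rw [TSet.sq hD.1 hx.1, one_mul, mul_one]] at h3
    exact hne ((hncard _ _ h3).trans hay)
  -- the relation given by the largest common sets
  set R : G → G → Prop := fun x y => x ∈ D ∧ y ∈ D ∧ ¬ Commute x y ∧ (common D x y).ncard = amax
  have hcsym : ∀ x y, common D x y = common D y x := fun x y =>
    Set.ext fun z => ⟨fun h => ⟨h.1, h.2.2, h.2.1⟩, fun h => ⟨h.1, h.2.2, h.2.1⟩⟩
  have hcconj : ∀ g x y : G, (common D (g * x * g⁻¹) (g * y * g⁻¹)).ncard =
      (common D x y).ncard := by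
    intro g x y
    rw [← Set.ncard_image_of_injective (common D x y) (MulAut.conj g).injective]
    congr 1
    ext z
    constructor
    · rintro ⟨hz, h1, h2⟩
      have hh : g * (g⁻¹ * z * g) * g⁻¹ = z := by group
      refine ⟨g⁻¹ * z * g, ⟨conj_inv_mem hD.2.1 g hz, ?_, ?_⟩, hh⟩
      · rw [← commute_conj_iff g, hh]; exact h1
      · rw [← commute_conj_iff g, hh]; exact h2
    · rintro ⟨w, ⟨hw, h1, h2⟩, rfl⟩
      exact ⟨hD.2.1 g w hw, (commute_conj_iff g x w).2 h1, (commute_conj_iff g y w).2 h2⟩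
  have hcm' : cm ≠ d := fun h => hcm.2 (h ▸ Commute.refl _)
  have hall := component_of_primitive hD hprim (R := R)
    (fun x y h => ⟨h.2.1, h.1, fun hh => h.2.2.1 hh.symm, by rw [hcsym]; exact h.2.2.2⟩)
    (fun x y h => h.2.1)
    (fun g x y h => ⟨hD.2.1 g x h.1, hD.2.1 g y h.2.1,
      fun hh => h.2.2.1 ((commute_conj_iff g x y).1 hh), (hcconj g x y).trans h.2.2.2⟩)
    hd ⟨hd, hcm.1, hcm.2, rfl⟩ hcm'
  have hDE : ∀ x ∈ D, x ∈ E := by
    have key : ∀ x, Relation.ReflTransGen R d x →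
        ∃ g : G, g * d * g⁻¹ = x ∧ (∀ y ∈ E, g * y * g⁻¹ ∈ E) := by
      intro x hx
      induction hx with
      | refl => exact ⟨1, by group, fun y hy => by simpa using hy⟩
      | @tail u v _ huv ih =>
        obtain ⟨g, rfl, hg⟩ := ih
        set v' := g⁻¹ * v * g with hv'
        have hvv : g * v' * g⁻¹ = v := by rw [hv']; group
        have hv'D : v' ∈ D := conj_inv_mem hD.2.1 g huv.2.1
        have hdv' : ¬ Commute d v' := fun h => huv.2.2.1 (by
          rw [← hvv]; exact (commute_conj_iff g d v').2 h)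
        have hv'E : v' ∈ E := ⟨hv'D, Or.inr (by
          rw [← hcconj g, hvv]; exact huv.2.2.2)⟩
        refine ⟨g * (d * v'), ?_, fun y hy => ?_⟩
        · calc g * (d * v') * d * (g * (d * v'))⁻¹ = g * (d * v' * d * (d * v')⁻¹) * g⁻¹ := by group
            _ = g * v' * g⁻¹ := by rw [TSet.conj_swap hD.1 hd hv'D hdv']
            _ = v := hvv
        · have h1 := hg _ (hEdE _ (hclosed v' hv'E y hy))
          rwa [show g * (d * (v' * y * v'⁻¹) * d⁻¹) * g⁻¹ =
            g * (d * v') * y * (g * (d * v'))⁻¹ by group] at h1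
    intro x hx
    obtain ⟨g, rfl, hg⟩ := key x (hall x hx)
    exact hg d ⟨hd, Or.inl (Commute.refl d)⟩
  have hconst : ∀ c ∈ D, ¬ Commute d c → (common D d c).ncard = amax := fun c hc hdc =>
    ((hDE c hc).2).resolve_left hdc
  have hsame : ∀ c ∈ D, ¬ Commute d c → common D d c = common D d c₀ := by
    have key : ∀ c ∈ D, ∀ c' ∈ D, ¬ Commute d c → ¬ Commute d c' →
        ¬ (∃ m ∈ M, m * c * m⁻¹ = c') → common D d c = common D d c' := by
      intro c hc c' hc' hdc hdc' hno
      rcases nested c hc c' hc' hdc hdc' hno with h | h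
      · exact Set.eq_of_subset_of_ncard_le h (by rw [hconst c hc hdc, hconst c' hc' hdc'])
          (Set.toFinite _)
      · exact (Set.eq_of_subset_of_ncard_le h (by rw [hconst c hc hdc, hconst c' hc' hdc'])
          (Set.toFinite _)).symm
    intro c hc hdc
    by_cases h : ∃ m ∈ M, m * c₀ * m⁻¹ = c
    · have h' : ¬ ∃ m ∈ M, m * c * m⁻¹ = c₁ := fun hh => hno₀ (hotr _ _ _ h hh)
      rw [key c hc c₁ hc₁ hdc hdc₁ h', ← key c₀ hc₀ c₁ hc₁ hdc₀ hdc₁ hno₀]
    · exact (key c₀ hc₀ c hc hdc₀ hdc h).symm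
  have hcardC : ∀ x ∈ D,
      {y : G | y ∈ D ∧ Commute x y}.ncard = {y : G | y ∈ D ∧ Commute d y}.ncard := by
    intro x hx
    obtain ⟨g, rfl⟩ := hprim.1 d hd x hx
    rw [← Set.ncard_image_of_injective {y : G | y ∈ D ∧ Commute d y} (MulAut.conj g).injective]
    congr 1
    ext z
    constructor
    · rintro ⟨hz, h1⟩
      have hh : g * (g⁻¹ * z * g) * g⁻¹ = z := by group
      exact ⟨g⁻¹ * z * g, ⟨conj_inv_mem hD.2.1 g hz, by rw [← commute_conj_iff g, hh]; exact h1⟩, hh⟩
    · rintro ⟨w, ⟨hw, h1⟩, rfl⟩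
      exact ⟨hD.2.1 g w hw, (commute_conj_iff g d w).2 h1⟩
  have hall' : ∀ x ∈ D, x ≠ d → Commute d x → Commute c₀ x := by
    intro x hx hxd hdx
    by_contra h
    refine hxd (prim_sameComm_trivial hD hprim hd ⟨hx, ?_⟩)
    have hsub : {y : G | y ∈ D ∧ Commute x y} ⊆ {y : G | y ∈ D ∧ Commute d y} := by
      rintro y ⟨hy, hxy⟩
      refine ⟨hy, by_contra fun hdy => h ?_⟩
      exact ((hsame y hy hdy).subset ⟨hx, hdx, hxy.symm⟩).2.2
    have heq := Set.eq_of_subset_of_ncard_le hsub (hcardC x hx).ge (Set.toFinite _)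
    intro e he
    exact ⟨fun hh => (heq.subset ⟨he, hh⟩).2, fun hh => (heq.ge ⟨he, hh⟩).2⟩
  have hc₀d : c₀ ≠ d := fun h => hdc₀ (h ▸ Commute.refl _)
  refine hc₀d (prim_sameNbr_trivial hD hprim hw hd ⟨hc₀, ?_⟩)
  have hsub : insert c₀ {y : G | y ∈ D ∧ y ≠ d ∧ Commute d y} ⊆
      {y : G | y ∈ D ∧ Commute c₀ y} :=
    Set.insert_subset ⟨hc₀, Commute.refl _⟩ fun y hy => ⟨hy.1, hall' y hy.1 hy.2.1 hy.2.2⟩
  have hins : {y : G | y ∈ D ∧ Commute d y} = insert d {y : G | y ∈ D ∧ y ≠ d ∧ Commute d y} := by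
    ext y
    constructor
    · intro hy
      by_cases hyd : y = d
      · exact Or.inl hyd
      · exact Or.inr ⟨hy.1, hyd, hy.2⟩
    · rintro (rfl | hy)
      · exact ⟨hd, Commute.refl _⟩
      · exact ⟨hy.1, hy.2.2⟩
  have heq := Set.eq_of_subset_of_ncard_le hsub (le_of_eq (by
    rw [hcardC c₀ hc₀, hins, Set.ncard_insert_of_notMem (fun h => h.2.1 rfl) (Set.toFinite _),
      Set.ncard_insert_of_notMem (fun h => hdc₀ h.2.2) (Set.toFinite _)])) (Set.toFinite _)
  intro y hy
  constructor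
  · rintro ⟨hyd, hdy⟩
    exact ⟨fun h => hdc₀ (h ▸ hdy), hall' y hy hyd hdy⟩
  · rintro ⟨hyc, hcy⟩
    rcases heq.ge ⟨hy, hcy⟩ with h | h
    · exact absurd h hyc
    · exact ⟨h.2.1, h.2.2⟩

/-- Fischer: the other members commuting with `d` form one orbit of the group they generate. -/
theorem prim_trans_commuting (hD : IsThreeTranspositionGroup D)
    (hprim : Cfsg.IsPrimitiveUnderConj D) (hwidth : ∃ a ∈ D, ∃ b ∈ D, a ≠ b ∧ Commute a b)
    {d : G} (hd : d ∈ D) : ∀ y ∈ {y : G | y ∈ D ∧ y ≠ d ∧ Commute d y},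
      ∀ y' ∈ {y : G | y ∈ D ∧ y ≠ d ∧ Commute d y},
      ∃ g ∈ Subgroup.closure {y : G | y ∈ D ∧ y ≠ d ∧ Commute d y}, g * y * g⁻¹ = y' := by
  set N : G → Set G := fun x => {y : G | y ∈ D ∧ y ≠ x ∧ Commute x y} with hN
  set R : G → G → G → Prop := fun x u v => u ∈ N x ∧ v ∈ N x ∧ ¬ Commute u v with hR
  suffices hconn : ∀ x ∈ D, ∀ u ∈ N x, ∀ v ∈ N x, Relation.ReflTransGen (R x) u v by
    intro y hy y' hy'
    induction hconn d hd y hy y' hy' with
    | refl => exact ⟨1, one_mem _, by group⟩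
    | @tail u v _ h2 ih =>
      obtain ⟨g, hg, hgy⟩ := ih h2.1
      refine ⟨u * v * g, mul_mem (mul_mem (Subgroup.subset_closure h2.1)
        (Subgroup.subset_closure h2.2.1)) hg, ?_⟩
      calc u * v * g * y * (u * v * g)⁻¹ = u * v * (g * y * g⁻¹) * (u * v)⁻¹ := by group
        _ = v := by rw [hgy, TSet.conj_swap hD.1 h2.1.1 h2.2.1.1 h2.2.2]
  have hRsymm : ∀ x u v, R x u v → R x v u := fun x u v h =>
    ⟨h.2.1, h.1, fun hh => h.2.2 hh.symm⟩
  have hsymm : ∀ x u v, Relation.ReflTransGen (R x) u v → Relation.ReflTransGen (R x) v u := by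
    intro x u v h
    induction h with
    | refl => exact Relation.ReflTransGen.refl
    | tail _ h2 ih => exact Relation.ReflTransGen.head (hRsymm _ _ _ h2) ih
  have hconjR : ∀ g x u v, R x u v → R (g * x * g⁻¹) (g * u * g⁻¹) (g * v * g⁻¹) := by
    rintro g x u v ⟨⟨hu, hux, hxu⟩, ⟨hv, hvx, hxv⟩, huv⟩
    exact ⟨⟨hD.2.1 g u hu, fun h => hux (by simpa using h), (commute_conj_iff g x u).2 hxu⟩,
      ⟨hD.2.1 g v hv, fun h => hvx (by simpa using h), (commute_conj_iff g x v).2 hxv⟩,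
      fun h => huv ((commute_conj_iff g u v).1 h)⟩
  have hconjT : ∀ g x u v, Relation.ReflTransGen (R x) u v →
      Relation.ReflTransGen (R (g * x * g⁻¹)) (g * u * g⁻¹) (g * v * g⁻¹) := fun g x u v h => by
    induction h with
    | refl => exact Relation.ReflTransGen.refl
    | tail _ h2 ih => exact ih.tail (hconjR g _ _ _ h2)
  by_contra hcon
  push Not at hcon
  obtain ⟨x₀, hx₀, u₀, hu₀, v₀, hv₀, hu₀v₀⟩ := hcon
  have hdis : ∀ x ∈ D, ∃ u ∈ N x, ∃ v ∈ N x, ¬ Relation.ReflTransGen (R x) u v := by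
    intro x hx
    obtain ⟨g, rfl⟩ := hprim.1 x₀ hx₀ x hx
    refine ⟨g * u₀ * g⁻¹, ⟨hD.2.1 g _ hu₀.1, fun h => hu₀.2.1 (by simpa using h),
        (commute_conj_iff g _ _).2 hu₀.2.2⟩,
      g * v₀ * g⁻¹, ⟨hD.2.1 g _ hv₀.1, fun h => hv₀.2.1 (by simpa using h),
        (commute_conj_iff g _ _).2 hv₀.2.2⟩, fun h => hu₀v₀ ?_⟩
    have h' := hconjT g⁻¹ _ _ _ h
    simpa [mul_assoc] using h'
  obtain ⟨⟨x, q⟩, ⟨hx, hq⟩, hmin⟩ := Set.exists_min_image
    {p : G × G | p.1 ∈ D ∧ p.2 ∈ N p.1}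
    (fun p => {z | Relation.ReflTransGen (R p.1) p.2 z}.ncard)
    (Set.toFinite _) ⟨(x₀, u₀), hx₀, hu₀⟩
  dsimp only at hx hq
  set Q := {z | Relation.ReflTransGen (R x) q z} with hQ
  have hqx : x ∈ N q := ⟨hx, hq.2.1.symm, hq.2.2.symm⟩
  -- at `q` everything outside `Q` is joined to `x`
  have hjoin : ∀ z, z ∈ N q → ¬ (z ∈ N x ∧ z ∈ Q) → z ≠ x →
      Relation.ReflTransGen (R q) x z := by
    intro z hz hnot hzx
    by_cases hxz : Commute x z
    swap
    · exact Relation.ReflTransGen.single ⟨hqx, hz, hxz⟩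
    have hzN : z ∈ N x := ⟨hz.1, hzx, hxz⟩
    have hzQ : ¬ Relation.ReflTransGen (R x) q z := fun h => hnot ⟨hzN, h⟩
    by_contra hcon2
    -- the component of `z` at `x` commutes with every member joined to `q` but not to `x`
    set P := {w | Relation.ReflTransGen (R x) z w} with hP
    have hPN : ∀ w ∈ P, w ∈ N x ∧ Relation.ReflTransGen (R q) z w := by
      intro w hw
      induction hw with
      | refl => exact ⟨hzN, Relation.ReflTransGen.refl⟩
      | @tail u v hzu h2 ih =>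
        have huq : ∀ w', Relation.ReflTransGen (R x) z w' → w' ∈ N x → w' ∈ N q := by
          intro w' hw' hw'N
          have hcomm : Commute q w' := by
            by_contra hh
            exact hzQ (Relation.ReflTransGen.trans (Relation.ReflTransGen.single
              (⟨hq, hw'N, hh⟩ : R x q w')) (hsymm _ _ _ hw'))
          refine ⟨hw'N.1, ?_, hcomm⟩
          rintro rfl
          exact hzQ (hsymm _ _ _ hw')
        exact ⟨h2.2.1, ih.2.tail ⟨huq u hzu h2.1, huq v (hzu.tail h2) h2.2.1, h2.2.2⟩⟩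
    have hPq : ∀ w ∈ P, w ∈ N q := by
      intro w hw
      rcases Relation.ReflTransGen.cases_tail (hPN w hw).2 with h | ⟨y, -, h⟩
      · exact h ▸ hz
      · exact h.2.1
    have hPr : ∀ r ∈ D, ¬ Commute x r → Commute q r → ∀ w ∈ P, Commute r w := by
      intro r hr hxr hqr w hw
      by_contra hrw
      have hrq : r ∈ N q := ⟨hr, fun h => hxr (h ▸ hq.2.2), hqr⟩
      exact hcon2 (Relation.ReflTransGen.trans (Relation.ReflTransGen.head
        (⟨hqx, hrq, hxr⟩ : R q x r) (Relation.ReflTransGen.single ⟨hrq, hPq w hw, hrw⟩))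
        (hsymm _ _ _ (hPN w hw).2))
    have hPfix : ∀ y, y ∈ D → Commute x y → ∀ w ∈ P, y * w * y⁻¹ ∈ P := by
      intro y hy hxy w hw
      by_cases hyw : Commute y w
      · rwa [conj_eq_self_of_commute hyw]
      have hwN := (hPN w hw).1
      by_cases hyx : y = x
      · exact absurd (hyx ▸ hwN.2.2) hyw
      have ht : y * w * y⁻¹ ∈ N x := by
        refine ⟨hD.2.1 y w hwN.1, fun h => hwN.2.1 ?_, ?_⟩
        · have h5 : w = y⁻¹ * x * y := by rw [← h]; group
          rw [h5, mul_assoc, hxy.eq, inv_mul_cancel_left]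
        · have := (commute_conj_iff y x w).2 hwN.2.2
          rwa [conj_eq_self_of_commute hxy.symm] at this
      refine Relation.ReflTransGen.tail hw ⟨hwN, ht, fun h => hyw ?_⟩
      have h6 : y * w * y⁻¹ = w * y * w⁻¹ := by
        rw [TSet.inv hD.1 hy, TSet.inv hD.1 hwN.1, TSet.braid hD.1 hy hwN.1 hyw]
      rw [h6] at h
      have h' : Commute (w * w * w⁻¹) (w * y * w⁻¹) := by rwa [mul_inv_cancel_right]
      exact ((commute_conj_iff w w y).1 h').symm
    obtain ⟨r, hr, hqr, hxr⟩ : ∃ r ∈ D, Commute q r ∧ ¬ Commute x r := by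
      by_contra h
      push Not at h
      refine hq.2.1 (prim_sameComm_trivial hD hprim hx ⟨hq.1, ?_⟩)
      obtain ⟨g, hg⟩ := hprim.1 x hx q hq.1
      have hsub : {y : G | y ∈ D ∧ Commute q y} ⊆ {y : G | y ∈ D ∧ Commute x y} :=
        fun y hy => ⟨hy.1, h y hy.1 hy.2⟩
      have himg : {y : G | y ∈ D ∧ Commute q y}.ncard = {y : G | y ∈ D ∧ Commute x y}.ncard := by
        rw [← Set.ncard_image_of_injective {y : G | y ∈ D ∧ Commute x y} (MulAut.conj g).injective]
        congr 1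
        ext w
        constructor
        · rintro ⟨hw, h1⟩
          have hh : g * (g⁻¹ * w * g) * g⁻¹ = w := by group
          exact ⟨g⁻¹ * w * g, ⟨conj_inv_mem hD.2.1 g hw,
            by rw [← commute_conj_iff g, hh, hg]; exact h1⟩, hh⟩
        · rintro ⟨w', ⟨hw', h1⟩, rfl⟩
          refine ⟨hD.2.1 g w' hw', ?_⟩
          rw [← hg]
          exact (commute_conj_iff g x w').2 h1
      have heq := Set.eq_of_subset_of_ncard_le hsub himg.ge (Set.toFinite _)
      exact fun e he => ⟨fun hh => (heq.subset ⟨he, hh⟩).2, fun hh => (heq.ge ⟨he, hh⟩).2⟩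
    -- `P` is fixed by the whole group
    have hPall : ∀ y ∈ D, ∀ w ∈ P, y * w * y⁻¹ ∈ P := by
      intro y hy w hw
      by_cases hxy : Commute x y
      · exact hPfix y hy hxy w hw
      obtain ⟨m, hm, hmy⟩ := prim_trans_noncommuting hD hprim hwidth hx r hr y hy hxr hxy
      have hmP : ∀ w ∈ P, m⁻¹ * w * m ∈ P := by
        have hm' := inv_mem hm
        have : ∀ n ∈ commClosure D x, ∀ w ∈ P, n * w * n⁻¹ ∈ P := by
          intro n hn
          have hle : commClosure D x ≤ Subgroup.normalizer P := by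
            rw [commClosure, Subgroup.closure_le]
            intro u hu
            refine Subgroup.mem_set_normalizer_iff.2 fun w => ⟨hPfix u hu.1 hu.2 w, fun h => ?_⟩
            have := hPfix u hu.1 hu.2 _ h
            rwa [TSet.inv hD.1 hu.1, ← mul_assoc, ← mul_assoc, TSet.sq hD.1 hu.1, one_mul,
              mul_assoc, TSet.sq hD.1 hu.1, mul_one] at this
          exact fun w hw => ((Subgroup.mem_set_normalizer_iff.1 (hle hn)) w).1 hw
        intro w hw
        simpa using this m⁻¹ hm' w hw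
      have hc' := (commute_conj_iff m _ _).2 (hPr r hr hxr hqr _ (hmP w hw))
      rw [hmy, show m * (m⁻¹ * w * m) * m⁻¹ = w by group] at hc'
      rwa [conj_eq_self_of_commute hc']
    have hinv : ∀ g : G, ∀ w ∈ P, g * w * g⁻¹ ∈ P := by
      intro g
      have hle : (⊤ : Subgroup G) ≤ Subgroup.normalizer P := by
        rw [← hD.2.2, Subgroup.closure_le]
        intro u hu
        refine Subgroup.mem_set_normalizer_iff.2 fun w => ⟨hPall u hu w, fun h => ?_⟩
        have := hPall u hu _ h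
        rwa [TSet.inv hD.1 hu, ← mul_assoc, ← mul_assoc, TSet.sq hD.1 hu, one_mul,
          mul_assoc, TSet.sq hD.1 hu, mul_one] at this
      exact fun w hw => ((Subgroup.mem_set_normalizer_iff.1 (hle (Subgroup.mem_top g))) w).1 hw
    obtain ⟨g, hg⟩ := hprim.1 z hz.1 x hx
    exact (hPN x (hg ▸ hinv g z Relation.ReflTransGen.refl)).1.2.1 rfl
  obtain ⟨u, hu, v, hv, huv⟩ := hdis q hq.1
  obtain ⟨y, hy, hxy⟩ : ∃ y ∈ N q, ¬ Relation.ReflTransGen (R q) x y := by
    by_cases h : Relation.ReflTransGen (R q) x u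
    · exact ⟨v, hv, fun hh => huv ((hsymm _ _ _ h).trans hh)⟩
    · exact ⟨u, hu, h⟩
  have hsubQ : {z | Relation.ReflTransGen (R q) y z} ⊆ Q \ {q} := by
    intro z hz
    have hzN : z ∈ N q := by
      rcases Relation.ReflTransGen.cases_tail hz with h | ⟨w, -, h⟩
      · exact h ▸ hy
      · exact h.2.1
    have hxz : ¬ Relation.ReflTransGen (R q) x z := fun h => hxy (h.trans (hsymm _ _ _ hz))
    have hzx : z ≠ x := fun h => hxz (h ▸ Relation.ReflTransGen.refl)
    refine ⟨by_contra fun hzQ => hxz (hjoin z hzN (fun hh => hzQ hh.2) hzx), hzN.2.1⟩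
  have h1 := hmin (q, y) ⟨hq.1, hy⟩
  dsimp only at h1
  have h2 : {z | Relation.ReflTransGen (R q) y z}.ncard < Q.ncard :=
    lt_of_le_of_lt (Set.ncard_le_ncard hsubQ (Set.toFinite _))
      (Set.ncard_sdiff_singleton_lt_of_mem Relation.ReflTransGen.refl (Set.toFinite _))
  omega

end Cfsg.Agent.Fischer
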