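import Mathlib
import Cfsg.Agent.Lib.Fischer.Transitive

set_option autoImplicit false

/-!
Products of few pairwise commuting 3-transpositions: a class without twins has no relation of
length four, and relations pass to the central quotient of the group generated by the neighbours.
-/

namespace Cfsg.Agent.Fischer.Factor

open Subgroup

variable {G : Type*} [Group G] {D : Set G}

/-- The members other than `d` commuting with `d`. -/
def Nb (D : Set G) (d : G) : Set G := {y : G | y ∈ D ∧ y ≠ d ∧ Commute d y}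

/-- The group generated by the neighbours, modulo its centre. -/
abbrev Q (D : Set G) (d : G) : Type _ :=
  ↥(Subgroup.closure (Nb D d)) ⧸ Subgroup.center ↥(Subgroup.closure (Nb D d))

/-- The images of the neighbours. -/
def img (D : Set G) (d : G) : Set (Q D d) :=
  (QuotientGroup.mk : ↥(Subgroup.closure (Nb D d)) → _) ''
    {x : ↥(Subgroup.closure (Nb D d)) | (x : G) ∈ Nb D d}

/-- No two members have the same commuting members. -/
def TwinFree (D : Set G) : Prop := ∀ d v : G, d ∈ D → SameComm D d v → v = d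

/-- Conjugation is transitive on the set. -/
def Trans (D : Set G) : Prop := ∀ a ∈ D, ∀ b ∈ D, ∃ g : G, g * a * g⁻¹ = b

/-- No `n` distinct pairwise commuting members have product one. -/
def NoRel (D : Set G) (n : ℕ) : Prop :=
  ∀ l : List G, l.Nodup → l.length = n → (∀ a ∈ l, a ∈ D) →
    (∀ a ∈ l, ∀ b ∈ l, Commute a b) → l.prod = 1 → False

theorem commute_mul3 (hD : IsThreeTranspositionSet D) {a b c e : G} (ha : a ∈ D) (hb : b ∈ D)
    (hc : c ∈ D) (he : e ∈ D) (hab : a ≠ b) (hac : a ≠ c) (hbc : b ≠ c) (cab : Commute a b)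
    (cac : Commute a c) (cbc : Commute b c) (h : Commute e (a * b * c)) :
    Commute e a ∧ Commute e b ∧ Commute e c := by
  by_cases hec : Commute e c
  · have : Commute e (a * b) := by
      have := h.mul_right hec
      rwa [mul_assoc, TSet.sq hD hc, mul_one] at this
    exact ⟨((TSet.commute_mul_iff hD ha hb he hab cab).1 this).1,
      ((TSet.commute_mul_iff hD ha hb he hab cab).1 this).2, hec⟩
  by_cases hea : Commute e a
  · have : Commute e (b * c) := by
      have := hea.mul_right h
      rwa [← mul_assoc, ← mul_assoc, TSet.sq hD ha, one_mul] at this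
    exact ⟨hea, (TSet.commute_mul_iff hD hb hc he hbc cbc).1 this⟩
  by_cases heb : Commute e b
  · have : Commute e (a * c) := by
      have := h.mul_right heb
      rwa [mul_assoc (a * b) c b, ← cbc.eq, ← mul_assoc, mul_assoc a b b, TSet.sq hD hb,
        mul_one] at this
    exact ⟨((TSet.commute_mul_iff hD ha hc he hac cac).1 this).1, heb,
      ((TSet.commute_mul_iff hD ha hc he hac cac).1 this).2⟩
  exfalso
  have h1 : Commute e (a * b * e * (a * b)⁻¹) := TSet.string_commute hD ha he hb hea heb cab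
  have sc := TSet.sq hD hc
  have h2 : a * b * e * (a * b)⁻¹ = c * e * c := by
    have e1 : a * b * c * e * (a * b * c)⁻¹ = e := by rw [← h.eq, mul_inv_cancel_right]
    have e2 : (a * b * c) = c * (a * b) := ((cac.mul_left cbc).eq)
    calc a * b * e * (a * b)⁻¹ = c * (c * (a * b) * e * (c * (a * b))⁻¹) * c := by
          simp only [mul_inv_rev, TSet.inv hD hc, mul_assoc, sc, mul_one]
          rw [← mul_assoc c c, sc, one_mul]
      _ = c * e * c := by rw [← e2, e1]
  rw [h2, TSet.braid hD hc he (fun h' => hec h'.symm)] at h1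
  have h3 := (commute_conj_iff e e (e * c * e)).2 h1
  rw [mul_inv_cancel_right, TSet.inv hD he] at h3
  have : e * (e * c * e) * e = c := by
    rw [show e * (e * c * e) * e = (e * e) * c * (e * e) by simp only [mul_assoc],
      TSet.sq hD he, one_mul, mul_one]
  rw [this] at h3
  exact hec h3

theorem sameComm_of_rel4 (hD : IsThreeTranspositionSet D) {a b c d : G} (ha : a ∈ D) (hb : b ∈ D)
    (hc : c ∈ D) (hd : d ∈ D) (hac : a ≠ c) (had : a ≠ d) (hbc : b ≠ c) (hbd : b ≠ d)
    (hcd : c ≠ d) (cab : Commute a b) (cac : Commute a c) (cad : Commute a d) (cbc : Commute b c)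
    (cbd : Commute b d) (ccd : Commute c d) (h : a * b * c * d = 1) : SameComm D a b := by
  have e1 : b * c * d = a := by
    rw [← TSet.inv hD ha]
    exact eq_inv_of_mul_eq_one_right (by rw [← h]; simp only [mul_assoc])
  have e2 : a * c * d = b := by
    rw [← TSet.inv hD hb]
    refine eq_inv_of_mul_eq_one_right ?_
    rw [← h, cab.eq]; simp only [mul_assoc]
  refine ⟨hb, fun x hx => ⟨fun hxb => ?_, fun hxa => ?_⟩⟩
  · exact ((commute_mul3 hD ha hc hd hx hac had hcd cac cad ccd (e2.symm ▸ hxb.symm)).1).symm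
  · exact ((commute_mul3 hD hb hc hd hx hbc hbd hcd cbc cbd ccd (e1.symm ▸ hxa.symm)).1).symm

theorem noRel_four (hD : IsThreeTranspositionSet D) (hfree : TwinFree D) : NoRel D 4 := by
  intro l hn hlen hmem hcomm hprod
  match l, hlen with
  | [a, b, c, d], _ =>
    simp only [List.nodup_cons, List.mem_cons, List.not_mem_nil, or_false, not_or] at hn
    simp only [List.prod_cons, List.prod_nil, mul_one, ← mul_assoc] at hprod
    refine hn.1.1 (hfree a b (hmem a (by simp)) ?_).symm
    exact sameComm_of_rel4 hD (hmem a (by simp)) (hmem b (by simp)) (hmem c (by simp))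
      (hmem d (by simp)) hn.1.2.1 hn.1.2.2 hn.2.1.1 hn.2.1.2 hn.2.2.1
      (hcomm a (by simp) b (by simp)) (hcomm a (by simp) c (by simp)) (hcomm a (by simp) d (by simp))
      (hcomm b (by simp) c (by simp)) (hcomm b (by simp) d (by simp))
      (hcomm c (by simp) d (by simp)) hprod

/-! ### The quotient at one member -/

theorem nb_subset {d x : G} (hx : x ∈ Nb D d) : x ∈ Subgroup.closure (Nb D d) :=
  Subgroup.subset_closure hx

theorem commute_of_mem_closure_nb {d z : G} (hz : z ∈ Subgroup.closure (Nb D d)) : Commute d z := by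
  have : Subgroup.closure (Nb D d) ≤ Subgroup.centralizer ({d} : Set G) :=
    (Subgroup.closure_le _).2 fun y hy => Subgroup.mem_centralizer_singleton_iff.2 hy.2.2.eq.symm
  exact (Subgroup.mem_centralizer_singleton_iff.1 (this hz)).symm

theorem mk_eq_one_iff {d : G} (z : ↥(Subgroup.closure (Nb D d))) :
    (QuotientGroup.mk z : Q D d) = 1 ↔ ∀ y ∈ Nb D d, Commute (z : G) y := by
  rw [QuotientGroup.eq_one_iff, Subgroup.mem_center_iff]
  refine ⟨fun h y hy => (congrArg Subtype.val (h ⟨y, nb_subset hy⟩)).symm, fun h g => Subtype.ext ?_⟩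
  have : (g : G) ∈ Subgroup.centralizer ({(z : G)} : Set G) :=
    (Subgroup.closure_le _).2 (fun y hy => Subgroup.mem_centralizer_singleton_iff.2 (h y hy).eq.symm)
      g.2
  exact (Subgroup.mem_centralizer_singleton_iff.1 this)

theorem mk_commute_iff (hD : IsThreeTranspositionSet D) {d : G}
    {x y : ↥(Subgroup.closure (Nb D d))} (hx : (x : G) ∈ D) (hy : (y : G) ∈ D) :
    Commute (QuotientGroup.mk x : Q D d) (QuotientGroup.mk y) ↔ Commute (x : G) (y : G) := by
  refine ⟨fun h => ?_, fun h => Commute.map (show Commute x y from Subtype.ext h.eq)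
    (QuotientGroup.mk' (Subgroup.center ↥(Subgroup.closure (Nb D d))))⟩
  by_contra hc
  have hxx : x * x = 1 := Subtype.ext (TSet.sq hD hx)
  have hyy : y * y = 1 := Subtype.ext (TSet.sq hD hy)
  set π := QuotientGroup.mk' (Subgroup.center ↥(Subgroup.closure (Nb D d))) with hπ
  have h2 : (π x * π y) ^ 2 = 1 := by
    refine (commute_iff_sq_eq_one ?_ ?_).1 h <;> rw [← map_mul] <;> simp [hxx, hyy]
  have h3 : (π x * π y) ^ 3 = 1 := by
    rw [← map_mul, ← map_pow, show (x * y) ^ 3 = 1 from Subtype.ext (TSet.cube hD hx hy hc), map_one]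
  rw [pow_succ, h2, one_mul, ← map_mul] at h3
  have hz := Subgroup.mem_center_iff.1 ((QuotientGroup.eq_one_iff _).1 h3) x
  rw [← mul_assoc, hxx, one_mul] at hz
  refine hc (congrArg Subtype.val (show x * y = y * x from ?_))
  calc x * y = x * y * (x * x) := by rw [hxx, mul_one]
    _ = y * x := by rw [← mul_assoc, ← hz]

variable [Finite G]

theorem no_central_nb (hT : IsThreeTranspositionGroup D) (htr : Trans D) (hfree : TwinFree D)
    {d b : G} (hd : d ∈ D) (hb : b ∈ Nb D d) : ¬ ∀ y ∈ Nb D d, Commute b y := by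
  intro hall
  obtain ⟨g, hg⟩ := htr d hd b hb.1
  set S : G → Set G := fun z => {x | x ∈ D ∧ Commute z x} with hS
  have hsub : S d ⊆ S b := fun x hx => ⟨hx.1, by
    by_cases hxd : x = d
    · exact hxd ▸ hb.2.2.symm
    · exact hall x ⟨hx.1, hxd, hx.2⟩⟩
  have hcard : (S b).ncard ≤ (S d).ncard := by
    refine Set.ncard_le_ncard_of_injOn (fun x => g⁻¹ * x * g) (fun x hx => ⟨?_, ?_⟩)
      (fun a _ c _ h => by simpa using h) (Set.toFinite _)
    · simpa using hT.2.1 g⁻¹ x hx.1
    · rw [← commute_conj_iff g, hg, show g * (g⁻¹ * x * g) * g⁻¹ = x by group]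
      exact hx.2
  have heq := Set.eq_of_subset_of_ncard_le hsub hcard (Set.toFinite _)
  refine hb.2.1 (hfree d b hd ⟨hb.1, fun x hx => ?_⟩)
  exact ⟨fun h => (heq.ge ⟨hx, h⟩).2, fun h => (heq.le ⟨hx, h⟩).2⟩

theorem img_ne_one (hT : IsThreeTranspositionGroup D) (htr : Trans D) (hfree : TwinFree D)
    {d : G} (hd : d ∈ D) {x : ↥(Subgroup.closure (Nb D d))} (hx : (x : G) ∈ Nb D d) :
    (QuotientGroup.mk x : Q D d) ≠ 1 :=
  fun h => no_central_nb hT htr hfree hd hx ((mk_eq_one_iff x).1 h)

theorem img_inj (hT : IsThreeTranspositionGroup D) (htr : Trans D) (hfree : TwinFree D)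
    {d : G} (hd : d ∈ D) {x y : ↥(Subgroup.closure (Nb D d))} (hx : (x : G) ∈ Nb D d)
    (hy : (y : G) ∈ Nb D d) (h : (QuotientGroup.mk x : Q D d) = QuotientGroup.mk y) : x = y := by
  by_contra hne
  have hne' : (x : G) ≠ y := fun e => hne (Subtype.ext e)
  have hc : Commute (x : G) y :=
    (mk_commute_iff hT.1 hx.1 hy.1).1 (h ▸ Commute.refl _)
  have h1 : (QuotientGroup.mk (x⁻¹ * y) : Q D d) = 1 := by
    rw [QuotientGroup.mk_mul, QuotientGroup.mk_inv, h, inv_mul_cancel]
  have h2 := (mk_eq_one_iff _).1 h1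
  refine no_central_nb hT htr hfree hd hx fun z hz => ?_
  have := (h2 z hz).symm
  rw [Subgroup.coe_mul, Subgroup.coe_inv, TSet.inv hT.1 hx.1] at this
  exact ((TSet.commute_mul_iff hT.1 hx.1 hy.1 hz.1 hne' hc).1 this).1.symm

omit [Finite G] in
theorem nb_conj (hT : IsThreeTranspositionGroup D) (g : G) {d y : G} (hy : y ∈ Nb D d) :
    g * y * g⁻¹ ∈ Nb D (g * d * g⁻¹) :=
  ⟨hT.2.1 g y hy.1, fun h => hy.2.1 (mul_left_cancel (mul_right_cancel h)),
    (commute_conj_iff g d y).2 hy.2.2⟩

omit [Finite G] in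
theorem img_conj (hT : IsThreeTranspositionGroup D) {d : G} (q : Q D d) {z : Q D d}
    (hz : z ∈ img D d) : q * z * q⁻¹ ∈ img D d := by
  obtain ⟨g, rfl⟩ := QuotientGroup.mk_surjective q
  obtain ⟨x, hx, rfl⟩ := hz
  refine ⟨g * x * g⁻¹, ?_, by simp⟩
  have := nb_conj hT (g : G) hx
  rwa [conj_eq_self_of_commute (commute_of_mem_closure_nb g.2).symm] at this

omit [Finite G] in
theorem img_closure {d : G} : Subgroup.closure (img D d) = ⊤ := by
  have h : Subgroup.closure {x : ↥(Subgroup.closure (Nb D d)) | (x : G) ∈ Nb D d} = ⊤ :=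
    Subgroup.closure_closure_coe_preimage
  rw [img, ← QuotientGroup.coe_mk', ← MonoidHom.map_closure, h,
    Subgroup.map_top_of_surjective _ (QuotientGroup.mk'_surjective _)]

omit [Finite G] in
theorem img_tset (hT : IsThreeTranspositionGroup D) (d : G) :
    IsThreeTranspositionGroup (img D d \ {1}) := by
  refine ⟨⟨?_, ?_⟩, fun g z hz => ⟨img_conj hT g hz.1, ?_⟩, ?_⟩
  · rintro _ ⟨⟨x, hx, rfl⟩, hne⟩
    refine orderOf_eq_prime ?_ hne
    rw [pow_two, ← QuotientGroup.mk_mul, show x * x = 1 from Subtype.ext (TSet.sq hT.1 hx.1),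
      QuotientGroup.mk_one]
  · rintro _ ⟨⟨x, hx, rfl⟩, -⟩ _ ⟨⟨y, hy, rfl⟩, -⟩
    rcases hT.1.2 x hx.1 y hy.1 with h | h
    · left
      rw [← QuotientGroup.mk_mul, ← QuotientGroup.mk_pow, show (x * y) ^ 2 = 1 from Subtype.ext h,
        QuotientGroup.mk_one]
    · right
      rw [← QuotientGroup.mk_mul, ← QuotientGroup.mk_pow, show (x * y) ^ 3 = 1 from Subtype.ext h,
        QuotientGroup.mk_one]
  · intro h
    rw [Set.mem_singleton_iff, conj_eq_one_iff] at h
    exact hz.2 h
  · rw [Subgroup.closure_sdiff_one, img_closure]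

theorem img_group (hT : IsThreeTranspositionGroup D) (htr : Trans D) (hfree : TwinFree D) {d : G}
    (hd : d ∈ D) : IsThreeTranspositionGroup (img D d) := by
  have h : img D d \ {1} = img D d := by
    refine Set.sdiff_singleton_eq_self ?_
    rintro ⟨x, hx, h⟩
    exact img_ne_one hT htr hfree hd hx h
  exact h ▸ img_tset hT d

omit [Finite G] in
theorem img_trans {d : G} (hloc : ∀ y ∈ Nb D d, ∀ y' ∈ Nb D d,
    ∃ g ∈ Subgroup.closure (Nb D d), g * y * g⁻¹ = y') : Trans (img D d) := by
  rintro _ ⟨x, hx, rfl⟩ _ ⟨y, hy, rfl⟩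
  obtain ⟨g, hg, h⟩ := hloc x hx y hy
  refine ⟨QuotientGroup.mk ⟨g, hg⟩, ?_⟩
  rw [← QuotientGroup.mk_inv, ← QuotientGroup.mk_mul, ← QuotientGroup.mk_mul]
  exact congrArg _ (Subtype.ext h)

/-- A relation drops to the quotient at one of its members. -/
theorem noRel_step (hT : IsThreeTranspositionGroup D) (htr : Trans D) (hfree : TwinFree D) {d : G}
    (hd : d ∈ D) {n : ℕ} (h : NoRel (img D d) n) : NoRel D (n + 1) := by
  intro l hnd hlen hmem hcomm hprod
  match l, hlen with
  | a :: t, hlen =>
    obtain ⟨g, hg⟩ := htr a (hmem a (by simp)) d hd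
    set c : G →* G := (MulAut.conj g).toMonoidHom with hc
    have hcd : c a = d := hg
    have hnd' : (c a :: t.map c).Nodup := by
      have := hnd.map (f := c) (MulAut.conj g).injective
      simpa using this
    rw [List.nodup_cons, hcd] at hnd'
    have ht : ∀ y ∈ t.map c, y ∈ Nb D d := by
      intro y hy
      refine ⟨?_, fun e => hnd'.1 (e ▸ hy), ?_⟩
      · obtain ⟨z, hz, rfl⟩ := List.mem_map.1 hy
        exact hT.2.1 g z (hmem z (by simp [hz]))
      · obtain ⟨z, hz, rfl⟩ := List.mem_map.1 hy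
        rw [← hcd]
        exact (hcomm a (by simp) z (by simp [hz])).map c
    set t' : List ↥(Subgroup.closure (Nb D d)) :=
      (t.map c).pmap Subtype.mk (fun y hy => nb_subset (ht y hy)) with ht'
    have hval : t'.map Subtype.val = t.map c := by simp [ht', List.map_pmap]
    have hmem' : ∀ x ∈ t', (x : G) ∈ Nb D d := fun x hx =>
      ht _ (hval ▸ List.mem_map.2 ⟨x, hx, rfl⟩)
    have hnd'' : t'.Nodup := List.Nodup.of_map Subtype.val (hval ▸ hnd'.2)
    refine h (t'.map QuotientGroup.mk) ?_ ?_ ?_ ?_ ?_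
    · exact hnd''.map_on fun x hx y hy e => img_inj hT htr hfree hd (hmem' x hx) (hmem' y hy) e
    · simp [ht'] at hlen ⊢; omega
    · intro q hq
      obtain ⟨x, hx, rfl⟩ := List.mem_map.1 hq
      exact ⟨x, hmem' x hx, rfl⟩
    · intro q hq r hr
      obtain ⟨x, hx, rfl⟩ := List.mem_map.1 hq
      obtain ⟨y, hy, rfl⟩ := List.mem_map.1 hr
      refine (mk_commute_iff hT.1 (hmem' x hx).1 (hmem' y hy).1).2 ?_
      obtain ⟨u, hu, e1⟩ := List.mem_map.1 (hval ▸ List.mem_map.2 ⟨x, hx, rfl⟩)
      obtain ⟨v, hv, e2⟩ := List.mem_map.1 (hval ▸ List.mem_map.2 ⟨y, hy, rfl⟩)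
      rw [← e1, ← e2]
      exact (hcomm u (by simp [hu]) v (by simp [hv])).map c
    · have hp : d * (t'.prod : G) = 1 := by
        rw [Subgroup.val_list_prod, hval, ← hcd, ← map_list_prod, ← map_mul]
        rw [List.prod_cons] at hprod
        rw [hprod, map_one]
      have hp' : (t'.prod : G) = d := (eq_inv_of_mul_eq_one_right hp).trans (TSet.inv hT.1 hd)
      rw [show (t'.map QuotientGroup.mk).prod = (QuotientGroup.mk t'.prod : Q D d) from
        (map_list_prod (QuotientGroup.mk' _) t').symm, mk_eq_one_iff]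
      intro y hy
      rw [hp']
      exact hy.2.2

/-! ### Factorisations of length at most three -/

omit [Finite G] in
theorem cross_commute (hD : IsThreeTranspositionSet D) {l l' : List G} (hlen : l.length ≤ 3)
    (hl : l.Nodup ∧ (∀ a ∈ l, a ∈ D) ∧ (∀ a ∈ l, ∀ b ∈ l, Commute a b))
    (hl' : (∀ a ∈ l', a ∈ D) ∧ (∀ a ∈ l', ∀ b ∈ l', Commute a b)) (hj : l.prod = l'.prod) :
    ∀ x ∈ l', ∀ y ∈ l, Commute x y := by
  intro x hx
  have hxj : Commute x l.prod := hj ▸ Commute.list_prod_right l' x fun b hb => hl'.2 x hx b hb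
  obtain ⟨hn, hm, hc⟩ := hl
  have hxD := hl'.1 x hx
  match l, hlen with
  | [], _ => simp
  | [a], _ => simpa using hxj
  | [a, b], _ =>
    simp only [List.nodup_cons, List.mem_cons, List.not_mem_nil, or_false] at hn
    rw [List.prod_cons, List.prod_cons, List.prod_nil, mul_one] at hxj
    have := (TSet.commute_mul_iff hD (hm a (by simp)) (hm b (by simp)) hxD hn.1
      (hc a (by simp) b (by simp))).1 hxj
    simpa using this
  | [a, b, c], _ =>
    simp only [List.nodup_cons, List.mem_cons, List.not_mem_nil, or_false, not_or] at hn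
    rw [List.prod_cons, List.prod_cons, List.prod_cons, List.prod_nil, mul_one, ← mul_assoc] at hxj
    have := commute_mul3 hD (hm a (by simp)) (hm b (by simp)) (hm c (by simp)) hxD hn.1.1 hn.1.2
      hn.2.1 (hc a (by simp) b (by simp)) (hc a (by simp) c (by simp)) (hc b (by simp) c (by simp))
      hxj
    simpa using this

omit [Finite G] in
theorem prod_sq (hD : IsThreeTranspositionSet D) :
    ∀ l : List G, (∀ a ∈ l, a ∈ D) → (∀ a ∈ l, ∀ b ∈ l, Commute a b) → l.prod * l.prod = 1
  | [], _, _ => by simp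
  | a :: t, hm, hc => by
    have h := Commute.list_prod_right t a fun b hb => hc a (by simp) b (by simp [hb])
    have ih := prod_sq hD t (fun b hb => hm b (by simp [hb]))
      (fun b hb b' hb' => hc b (by simp [hb]) b' (by simp [hb']))
    rw [List.prod_cons, mul_assoc, ← mul_assoc t.prod, ← h.eq, mul_assoc a t.prod, ih, mul_one,
      TSet.sq hD (hm a (by simp))]

omit [Finite G] in
/-- Without relations of length four and six, short factorisations are unique. -/
theorem unique_factor (hD : IsThreeTranspositionSet D) (h4 : NoRel D 4) (h6 : NoRel D 6) :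
    ∀ m ≤ 3, ∀ l l' : List G, l.Nodup → l'.Nodup → l.length = m → l'.length = m →
      (∀ a ∈ l, a ∈ D) → (∀ a ∈ l', a ∈ D) → (∀ a ∈ l, ∀ b ∈ l, Commute a b) →
      (∀ a ∈ l', ∀ b ∈ l', Commute a b) → l.prod = l'.prod → ∀ x : G, x ∈ l ↔ x ∈ l' := by
  intro m
  induction m with
  | zero =>
    intro _ l l' _ _ hl hl' _ _ _ _ _ x
    simp [List.length_eq_zero_iff.1 hl, List.length_eq_zero_iff.1 hl']
  | succ k ih =>
    intro hk l l' hn hn' hl hl' hm hm' hc hc' hj
    classical
    by_cases hex : ∃ z ∈ l, z ∈ l'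
    · obtain ⟨z, hz, hz'⟩ := hex
      have hp := List.perm_cons_erase hz
      have hp' := List.perm_cons_erase hz'
      have e := hp.prod_eq' (List.pairwise_iff_forall_sublist.2
        fun h => hc _ (h.subset (by simp)) _ (h.subset (by simp)))
      have e' := hp'.prod_eq' (List.pairwise_iff_forall_sublist.2
        fun h => hc' _ (h.subset (by simp)) _ (h.subset (by simp)))
      rw [List.prod_cons] at e e'
      have := ih (by omega) (l.erase z) (l'.erase z) (hn.erase z) (hn'.erase z)
        (by rw [List.length_erase_of_mem hz, hl]; rfl) (by rw [List.length_erase_of_mem hz', hl']; rfl)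
        (fun a ha => hm a (List.mem_of_mem_erase ha)) (fun a ha => hm' a (List.mem_of_mem_erase ha))
        (fun a ha b hb => hc a (List.mem_of_mem_erase ha) b (List.mem_of_mem_erase hb))
        (fun a ha b hb => hc' a (List.mem_of_mem_erase ha) b (List.mem_of_mem_erase hb))
        (mul_left_cancel (e.symm.trans (hj.trans e')))
      intro x
      rw [hp.mem_iff, hp'.mem_iff, List.mem_cons, List.mem_cons, this x]
    · exfalso
      push Not at hex
      have hx := cross_commute hD (hl ▸ hk) ⟨hn, hm, hc⟩ ⟨hm', hc'⟩ hj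
      have hnd : (l ++ l').Nodup := List.nodup_append.2 ⟨hn, hn', fun a ha b hb e => hex a ha (e ▸ hb)⟩
      have hD' : ∀ a ∈ l ++ l', a ∈ D := fun a ha => (List.mem_append.1 ha).elim (hm a) (hm' a)
      have hC' : ∀ a ∈ l ++ l', ∀ b ∈ l ++ l', Commute a b := by
        intro a ha b hb
        rcases List.mem_append.1 ha with ha | ha <;> rcases List.mem_append.1 hb with hb | hb
        exacts [hc a ha b hb, (hx b hb a ha).symm, hx a ha b hb, hc' a ha b hb]
      have hP : (l ++ l').prod = 1 := by rw [List.prod_append, ← hj, prod_sq hD l hm hc]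
      have hk2 : k ≤ 2 := by omega
      interval_cases k
      · match l, hl, l', hl' with
        | [a], _, [b], _ => exact hex a (by simp) (by simp at hj; simp [hj])
      · exact h4 _ hnd (by simp [hl, hl']) hD' hC' hP
      · exact h6 _ hnd (by simp [hl, hl']) hD' hC' hP

end Cfsg.Agent.Fischer.Factor
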