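import Mathlib.Tactic.Group
import Mathlib.GroupTheory.OrderOfElement
import Mathlib.Algebra.Group.Subgroup.Lattice
import Mathlib.Data.ZMod.Basic
import Mathlib.Algebra.Group.Commutator

/-!
The group of order 54 generated by nine 3-transpositions, through its presentation: two elements of order three
inverted by an involution, with central commutator.
-/

set_option autoImplicit false
set_option linter.unusedSimpArgs false

namespace Cfsg.Agent.Fischer.Rel54

open scoped commutatorElement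

variable {G : Type*} [Group G]

/-- The relations. -/
structure Rel (u x d : G) : Prop where
  u3 : u ^ 3 = 1
  x3 : x ^ 3 = 1
  d2 : d * d = 1
  cu : ⁅u, x⁆ * u = u * ⁅u, x⁆
  cx : ⁅u, x⁆ * x = x * ⁅u, x⁆
  du : d * u * d = u⁻¹
  dx : d * x * d = x⁻¹

/-- Exponent arithmetic. -/
abbrev Pt := ZMod 3 × ZMod 3 × ZMod 3 × Bool

/-- The sign of a coset. -/
def sgn : Bool → ZMod 3
  | false => 1
  | true => -1

/-- The multiplication on exponents. -/
def mulPt (a b : Pt) : Pt :=
  (a.1 + sgn a.2.2.2 * b.1, a.2.1 + sgn a.2.2.2 * b.2.1,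
    a.2.2.1 + b.2.2.1 - a.2.1 * (sgn a.2.2.2 * b.1), xor a.2.2.2 b.2.2.2)

/-- The powers. -/
def pw (a : G) (i : ZMod 3) : G := a ^ i.val

theorem pw_add {a : G} (ha : a ^ 3 = 1) (i j : ZMod 3) : pw a (i + j) = pw a i * pw a j := by
  rw [pw, pw, pw, ← pow_add, ZMod.val_add, ← pow_mod_of_pow_eq_one ha]
where
  pow_mod_of_pow_eq_one {a : G} (ha : a ^ 3 = 1) {k : ℕ} : a ^ k = a ^ (k % 3) := by
    conv_lhs => rw [← Nat.mod_add_div k 3, pow_add, pow_mul, ha, one_pow, mul_one]

theorem pw_neg {a : G} (ha : a ^ 3 = 1) (i : ZMod 3) : pw a (-i) = (pw a i)⁻¹ := by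
  refine eq_inv_of_mul_eq_one_left ?_
  rw [← pw_add ha, neg_add_cancel, pw, ZMod.val_zero, pow_zero]

theorem pw_natCast {a : G} (ha : a ^ 3 = 1) (n : ℕ) : pw a (n : ZMod 3) = a ^ n := by
  rw [pw, ZMod.val_natCast]
  conv_rhs => rw [← Nat.mod_add_div n 3, pow_add, pow_mul, ha, one_pow, mul_one]

theorem pw_one {a : G} : pw a 1 = a := by
  rw [pw, show ((1 : ZMod 3)).val = 1 from rfl, pow_one]

theorem pw_mul {a : G} (ha : a ^ 3 = 1) (i j : ZMod 3) : pw a (i * j) = pw a i ^ j.val := by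
  rw [pw, pw, ← pow_mul, ZMod.val_mul]
  conv_rhs => rw [← Nat.mod_add_div (i.val * j.val) 3, pow_add, pow_mul, ha, one_pow, mul_one]

/-- The normal form. -/
def θ (u x d : G) (a : Pt) : G :=
  pw u a.1 * pw x a.2.1 * pw ⁅u, x⁆ a.2.2.1 * if a.2.2.2 then d else 1

variable {u x d : G}

namespace Rel

variable (R : Rel u x d)
include R

theorem commute_cu : Commute ⁅u, x⁆ u := R.cu

theorem commute_cx : Commute ⁅u, x⁆ x := R.cx

theorem ux : u * x = ⁅u, x⁆ * x * u := by rw [commutatorElement_def]; group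

theorem u_pow_x (i : ℕ) : u ^ i * x = ⁅u, x⁆ ^ i * x * u ^ i := by
  induction i with
  | zero => simp
  | succ i ih =>
    calc u ^ (i + 1) * x = u * (u ^ i * x) := by rw [pow_succ', mul_assoc]
      _ = u * ⁅u, x⁆ ^ i * x * u ^ i := by rw [ih]; group
      _ = ⁅u, x⁆ ^ i * (u * x) * u ^ i := by rw [(R.commute_cu.pow_left i).eq.symm]; group
      _ = _ := by rw [R.ux, pow_succ, pow_succ']; simp only [mul_assoc]

theorem u_pow_x_pow (i j : ℕ) : u ^ i * x ^ j = ⁅u, x⁆ ^ (i * j) * x ^ j * u ^ i := by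
  induction j with
  | zero => simp
  | succ j ih =>
    calc u ^ i * x ^ (j + 1) = u ^ i * x ^ j * x := by rw [pow_succ, mul_assoc]
      _ = ⁅u, x⁆ ^ (i * j) * x ^ j * (u ^ i * x) := by rw [ih]; group
      _ = ⁅u, x⁆ ^ (i * j) * (x ^ j * ⁅u, x⁆ ^ i) * x * u ^ i := by rw [R.u_pow_x]; group
      _ = _ := by
        rw [((R.commute_cx.pow_left i).pow_right j).eq.symm, Nat.mul_succ, pow_add, pow_succ]
        simp only [mul_assoc]

theorem c3 : ⁅u, x⁆ ^ 3 = 1 := by
  have h := R.u_pow_x 3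
  rw [R.u3, one_mul, mul_one] at h
  exact mul_eq_right.1 h.symm

theorem dd (a : G) : d * (d * a) = a := by rw [← mul_assoc, R.d2, one_mul]

theorem dc : d * ⁅u, x⁆ * d = ⁅u, x⁆ := by
  have h : d * ⁅u, x⁆ * d = ⁅u⁻¹, x⁻¹⁆ := by
    have hdi : d⁻¹ = d := inv_eq_of_mul_eq_one_right R.d2
    have e : ∀ {a : G}, d * a * d = a⁻¹ → d * a⁻¹ * d = a := fun {a} h => by
      have h1 := congrArg (fun t => t⁻¹) h
      simpa only [_root_.mul_inv_rev, hdi, inv_inv, mul_assoc] using h1
    rw [commutatorElement_def, commutatorElement_def, inv_inv, inv_inv]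
    calc d * (u * x * u⁻¹ * x⁻¹) * d = (d * u * d) * (d * x * d) * (d * u⁻¹ * d) * (d * x⁻¹ * d) := by
          simp only [mul_assoc, R.dd]
      _ = _ := by rw [R.du, R.dx, e R.du, e R.dx]
  rw [h, commutatorElement_def u⁻¹, inv_inv, inv_inv]
  calc u⁻¹ * x⁻¹ * u * x = u⁻¹ * x⁻¹ * (u * x) := by group
    _ = u⁻¹ * x⁻¹ * (⁅u, x⁆ * x) * u := by rw [R.ux]; group
    _ = u⁻¹ * (⁅u, x⁆ * u) := by rw [R.commute_cx.eq]; group
    _ = _ := by rw [R.commute_cu.eq]; group

theorem d_pw {a : G} (ha : a ^ 3 = 1) (h : d * a * d = a⁻¹) (i : ZMod 3) : d * pw a i = pw a (-i) * d := by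
  have hs : d * pw a i * d = pw a (-i) := by
    rw [pw_neg ha, pw, ← inv_pow, ← h]
    induction i.val with
    | zero => simp [R.d2]
    | succ k ih => rw [pow_succ, pow_succ, ← ih]; simp only [mul_assoc, R.dd]
  rw [← hs, mul_assoc, R.d2, mul_one]

theorem x_pw_u_pw (i j : ZMod 3) : pw x j * pw u i = pw u i * pw x j * pw ⁅u, x⁆ (-(j * i)) := by
  have hc : ∀ k, Commute (pw ⁅u, x⁆ k) (pw u i * pw x j) := fun k =>
    ((R.commute_cu.pow_left _).pow_right _).mul_right ((R.commute_cx.pow_left _).pow_right _)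
  have h : pw u i * pw x j = pw ⁅u, x⁆ (j * i) * (pw x j * pw u i) := by
    rw [pw, pw, R.u_pow_x_pow, mul_assoc, ← pw_natCast R.c3 (i.val * j.val)]
    congr 2
    rw [Nat.cast_mul, ZMod.natCast_zmod_val, ZMod.natCast_zmod_val, mul_comm]
  rw [← (hc (-(j * i))).eq, h, ← mul_assoc (pw ⁅u, x⁆ (-(j * i))), ← pw_add R.c3, neg_add_cancel,
    show pw ⁅u, x⁆ (0 : ZMod 3) = 1 from pow_zero _, one_mul]

theorem theta_mul (a b : Pt) : θ u x d a * θ u x d b = θ u x d (mulPt a b) := by
  obtain ⟨i, j, k, l⟩ := a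
  obtain ⟨i', j', k', l'⟩ := b
  have hcu : ∀ s t, Commute (pw ⁅u, x⁆ s) (pw u t) := fun s t => (R.commute_cu.pow_left _).pow_right _
  have hcx : ∀ s t, Commute (pw ⁅u, x⁆ s) (pw x t) := fun s t => (R.commute_cx.pow_left _).pow_right _
  have hP : ∀ i j k i' j' k', pw u i * pw x j * pw ⁅u, x⁆ k * (pw u i' * pw x j' * pw ⁅u, x⁆ k') =
      pw u (i + i') * pw x (j + j') * pw ⁅u, x⁆ (k + k' - j * i') := by
    intro i j k i' j' k'
    calc pw u i * pw x j * pw ⁅u, x⁆ k * (pw u i' * pw x j' * pw ⁅u, x⁆ k')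
        = pw u i * pw x j * (pw ⁅u, x⁆ k * (pw u i' * pw x j')) * pw ⁅u, x⁆ k' := by group
      _ = pw u i * (pw x j * pw u i') * pw x j' * (pw ⁅u, x⁆ k * pw ⁅u, x⁆ k') := by
        rw [((hcu k i').mul_right (hcx k j')).eq]; group
      _ = pw u i * pw u i' * pw x j * (pw ⁅u, x⁆ (-(j * i')) * pw x j') * (pw ⁅u, x⁆ k * pw ⁅u, x⁆ k') := by
        rw [R.x_pw_u_pw]; group
      _ = _ := by
        rw [(hcx _ j').eq, ← mul_assoc _ (pw x j'), mul_assoc (pw u i * pw u i'), ← pw_add R.u3, ← pw_add R.x3,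
          ← pw_add R.c3, mul_assoc (pw u (i + i') * pw x (j + j')), ← pw_add R.c3]
        congr 2
        ring
  cases l with
  | false =>
    simp only [θ, mulPt, sgn, one_mul, Bool.false_xor, Bool.false_eq_true, if_false, mul_one]
    rw [← mul_assoc, hP]
  | true =>
    have hd : d * (pw u i' * pw x j' * pw ⁅u, x⁆ k') = pw u (-i') * pw x (-j') * pw ⁅u, x⁆ k' * d := by
      rw [← mul_assoc, ← mul_assoc, R.d_pw R.u3 R.du, mul_assoc (pw u (-i')), R.d_pw R.x3 R.dx, mul_assoc,
        mul_assoc (pw x (-j')) d]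
      have hdc : Commute d ⁅u, x⁆ := by
        show d * ⁅u, x⁆ = ⁅u, x⁆ * d
        calc d * ⁅u, x⁆ = d * ⁅u, x⁆ * d * d := by rw [mul_assoc _ d d, R.d2, mul_one]
          _ = _ := by rw [R.dc]
      rw [show d * pw ⁅u, x⁆ k' = pw ⁅u, x⁆ k' * d from (hdc.pow_right k'.val).eq]
      simp only [mul_assoc]
    simp only [θ, mulPt, sgn, Bool.true_xor, if_true]
    rw [neg_one_mul, neg_one_mul, ← hP]
    calc pw u i * pw x j * pw ⁅u, x⁆ k * d * (pw u i' * pw x j' * pw ⁅u, x⁆ k' * if l' then d else 1)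
        = pw u i * pw x j * pw ⁅u, x⁆ k * (d * (pw u i' * pw x j' * pw ⁅u, x⁆ k')) *
            (if l' then d else 1) := by group
      _ = _ := by
        rw [hd]
        cases l' <;> simp only [Bool.not_true, Bool.not_false, Bool.false_eq_true, if_true, if_false, mul_one]
        · simp only [mul_assoc]
        · simp only [mul_assoc, R.d2, mul_one]

theorem theta_zero : θ u x d (0, 0, 0, false) = 1 := by simp [θ, pw]

theorem theta_u : θ u x d (1, 0, 0, false) = u := by simp [θ, pw, show ((1 : ZMod 3)).val = 1 from rfl]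

theorem theta_x : θ u x d (0, 1, 0, false) = x := by simp [θ, pw, show ((1 : ZMod 3)).val = 1 from rfl]

theorem theta_d : θ u x d (0, 0, 0, true) = d := by simp [θ, pw]

theorem theta_surjective (hgen : Subgroup.closure ({u, x, d} : Set G) = ⊤) :
    Function.Surjective (θ u x d) := by
  let S : Subgroup G :=
    { carrier := Set.range (θ u x d)
      one_mem' := ⟨_, R.theta_zero⟩
      mul_mem' := by
        rintro _ _ ⟨a, rfl⟩ ⟨b, rfl⟩
        exact ⟨_, (R.theta_mul a b).symm⟩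
      inv_mem' := by
        rintro _ ⟨a, rfl⟩
        obtain ⟨b, hb⟩ := (by decide +kernel : ∀ a : Pt, ∃ b, mulPt a b = (0, 0, 0, false)) a
        refine ⟨b, eq_inv_of_mul_eq_one_right ?_⟩
        rw [R.theta_mul, hb, R.theta_zero] }
  intro g
  have h : Subgroup.closure ({u, x, d} : Set G) ≤ S := by
    rw [Subgroup.closure_le]
    rintro _ (rfl | rfl | rfl)
    exacts [⟨_, R.theta_u⟩, ⟨_, R.theta_x⟩, ⟨_, R.theta_d⟩]
  exact h (hgen ▸ Subgroup.mem_top g)

theorem theta_injective (hc : ⁅u, x⁆ ≠ 1) (hd : d ≠ 1) : Function.Injective (θ u x d) := by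
  have hpw : ∀ s : ZMod 3, pw ⁅u, x⁆ s = 1 → s = 0 := by
    intro s hs
    by_contra h0
    rcases (by decide : ∀ s : ZMod 3, s ≠ 0 → s = 1 ∨ s = 2) s h0 with rfl | rfl
    · exact hc (pw_one (a := ⁅u, x⁆) ▸ hs)
    · rw [show (2 : ZMod 3) = -1 from rfl, pw_neg R.c3, pw_one, inv_eq_one] at hs
      exact hc hs
  have key : ∀ a : Pt, θ u x d a = 1 → a = (0, 0, 0, false) := by
    intro a ha
    have hfalse : ∀ i j k, θ u x d (i, j, k, false) = 1 → (i, j, k, false) = ((0, 0, 0, false) : Pt) := by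
      intro i j k h
      have h1 := R.theta_mul (i, j, k, false) (1, 0, 0, false)
      have h2 := R.theta_mul (1, 0, 0, false) (i, j, k, false)
      rw [h, one_mul, R.theta_u] at h1
      rw [h, mul_one, R.theta_u] at h2
      have h3 := R.theta_mul (i, j, k, false) (0, 1, 0, false)
      have h4 := R.theta_mul (0, 1, 0, false) (i, j, k, false)
      rw [h, one_mul, R.theta_x] at h3
      rw [h, mul_one, R.theta_x] at h4
      simp only [mulPt, sgn, θ, Bool.xor_false, Bool.false_eq_true, if_false, mul_one, one_mul, mul_zero, sub_zero,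
        add_zero, zero_add, zero_mul, zero_sub] at h1 h2 h3 h4
      have e1 := h1.symm.trans h2
      rw [add_comm 1 i, mul_left_cancel_iff, sub_eq_add_neg, pw_add R.c3, mul_eq_left] at e1
      have hj := hpw _ e1
      have e2 := h3.symm.trans h4
      rw [add_comm 1 j, mul_left_cancel_iff, sub_eq_add_neg, pw_add R.c3] at e2
      have hi := hpw _ (mul_eq_left.1 e2.symm)
      rw [neg_eq_zero] at hj hi
      subst hi hj
      simp only [θ, Bool.false_eq_true, if_false, mul_one, show pw u (0 : ZMod 3) = 1 from pow_zero u,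
        show pw x (0 : ZMod 3) = 1 from pow_zero x, one_mul] at h
      rw [hpw k h]
    obtain ⟨i, j, k, l⟩ := a
    cases l with
    | false => exact hfalse i j k ha
    | true =>
      exfalso
      obtain ⟨p, hp, hp3⟩ : ∃ p, θ u x d p = d ∧ mulPt (mulPt p p) p = (0, 0, 0, false) := by
        obtain ⟨b, hb, hb3⟩ := (by decide +kernel : ∀ i j k : ZMod 3, ∃ b : Pt,
          mulPt b (i, j, k, true) = (0, 0, 0, true) ∧ mulPt (mulPt b b) b = (0, 0, 0, false)) i j k
        refine ⟨b, ?_, hb3⟩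
        have := R.theta_mul b (i, j, k, true)
        rwa [ha, mul_one, hb, R.theta_d] at this
      have := congrArg (θ u x d) hp3
      rw [← R.theta_mul, ← R.theta_mul, hp, R.d2, one_mul, R.theta_zero] at this
      exact hd this
  intro a b hab
  obtain ⟨a', ha'⟩ := (by decide +kernel : ∀ a : Pt, ∃ a', mulPt a a' = (0, 0, 0, false)) a
  have h : θ u x d (mulPt b a') = 1 := by rw [← R.theta_mul, ← hab, R.theta_mul, ha', R.theta_zero]
  exact (by decide +kernel : ∀ a a' b : Pt, mulPt a a' = (0, 0, 0, false) → mulPt b a' = (0, 0, 0, false) → a = b)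
    a a' b ha' (key _ h)

theorem theta_bijective (hgen : Subgroup.closure ({u, x, d} : Set G) = ⊤) (hc : ⁅u, x⁆ ≠ 1) (hd : d ≠ 1) :
    Function.Bijective (θ u x d) :=
  ⟨R.theta_injective hc hd, R.theta_surjective hgen⟩

end Rel

/-- Two such groups are isomorphic. -/
theorem nonempty_equiv {G' : Type*} [Group G'] {u' x' d' : G'} (R : Rel u x d) (R' : Rel u' x' d')
    (h : Function.Bijective (θ u x d)) (h' : Function.Bijective (θ u' x' d')) : Nonempty (G ≃* G') := by
  refine ⟨MulEquiv.mk' ((Equiv.ofBijective _ h).symm.trans (Equiv.ofBijective _ h')) fun a b => ?_⟩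
  obtain ⟨a, rfl⟩ := (Equiv.ofBijective _ h).surjective a
  obtain ⟨b, rfl⟩ := (Equiv.ofBijective _ h).surjective b
  have e : Equiv.ofBijective _ h a * Equiv.ofBijective _ h b = Equiv.ofBijective _ h (mulPt a b) := R.theta_mul a b
  rw [e, Equiv.trans_apply, Equiv.trans_apply, Equiv.trans_apply, Equiv.symm_apply_apply, Equiv.symm_apply_apply,
    Equiv.symm_apply_apply]
  exact (R'.theta_mul a b).symm

end Cfsg.Agent.Fischer.Rel54
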