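import Cfsg.Agent.Lib.Fischer.Rel54
import Cfsg.Agent.Lib.Fischer.Basic
import Cfsg.Agent.Lib.Fischer.Dihedral

/-!
Three transpositions forming a triangle with all four relevant products of order three generate at most 54
elements; lifting the group of order 54 through a class of 3-transpositions.
-/

set_option autoImplicit false

namespace Cfsg.Agent.Fischer.Rel54

open Subgroup
open scoped commutatorElement Pointwise

variable {G : Type*} [Group G]

theorem natCard_sup_le [Finite G] {H N : Subgroup G} (h : H ≤ normalizer (N : Set G)) :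
    Nat.card ↥(H ⊔ N) ≤ Nat.card H * Nat.card N := by
  have := coe_mul_of_left_le_normalizer_right H N h
  calc Nat.card ↥(H ⊔ N) = Nat.card ((H : Set G) * N : Set G) := by rw [← this]; rfl
    _ ≤ Nat.card (H : Set G) * Nat.card (N : Set G) := Set.natCard_mul_le
    _ = _ := rfl

/-- The bound: the triangle group `Ã₂` with translations of order three. -/
theorem exists_card_le [Finite G] {a b c : G} (ha : orderOf a = 2) (hb : orderOf b = 2) (hc : orderOf c = 2)
    (hab : orderOf (a * b) = 3) (kab : a * b * a = b * a * b) (kac : a * c * a = c * a * c)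
    (kbc : b * c * b = c * b * c) (ht : (a * (b * c * b)) ^ 3 = 1) :
    ∃ K : Subgroup G, Nat.card K ≤ 54 ∧ a ∈ K ∧ b ∈ K ∧ c ∈ K := by
  have a2 := mul_self_of_orderOf_two ha
  have b2 := mul_self_of_orderOf_two hb
  have c2 := mul_self_of_orderOf_two hc
  have ai := inv_eq_self_of_orderOf_two ha
  have bi := inv_eq_self_of_orderOf_two hb
  have ci := inv_eq_self_of_orderOf_two hc
  have aa : ∀ g, a * (a * g) = g := fun g => by rw [← mul_assoc, a2, one_mul]
  have bb : ∀ g, b * (b * g) = g := fun g => by rw [← mul_assoc, b2, one_mul]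
  have cc : ∀ g, c * (c * g) = g := fun g => by rw [← mul_assoc, c2, one_mul]
  have Kab : ∀ g, a * (b * (a * g)) = b * (a * (b * g)) := fun g => by
    simpa only [mul_assoc] using congrArg (· * g) kab
  have Kac : ∀ g, a * (c * (a * g)) = c * (a * (c * g)) := fun g => by
    simpa only [mul_assoc] using congrArg (· * g) kac
  have Kbc : ∀ g, b * (c * (b * g)) = c * (b * (c * g)) := fun g => by
    simpa only [mul_assoc] using congrArg (· * g) kbc
  set t := a * (b * c * b) with htdef
  set r := b * t * b with hrdef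
  have hr3 : r ^ 3 = 1 := by
    have h := map_pow (MulAut.conj b) t 3
    rw [ht, map_one, MulAut.conj_apply, bi] at h
    exact h.symm
  have hcomm : Commute t r := by
    show t * r = r * t
    calc t * r = a * (b * (c * (a * (b * (c * 1))))) := by
          simp only [hrdef, htdef, mul_assoc, bb, b2, mul_one]
      _ = b * (b * (a * (b * (c * (a * (b * c)))))) := by simp only [bb, mul_one]
      _ = b * (a * (b * (a * (c * (a * (b * c)))))) := by rw [← Kab]
      _ = b * (a * (b * (c * (a * (c * (b * c)))))) := by rw [Kac]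
      _ = b * (a * (b * (c * (a * (b * (c * (b * 1))))))) := by rw [Kbc, mul_one]
      _ = r * t := by simp only [hrdef, htdef, mul_assoc, bb, mul_one]
  have hata : a * t * a = t⁻¹ := by
    simp only [htdef, _root_.mul_inv_rev, ai, bi, ci, mul_assoc, aa]
  have hara : a * r * a = r * t⁻¹ := by
    calc a * r * a = a * (b * (a * (b * (c * a)))) := by
          simp only [hrdef, htdef, mul_assoc, bb]
      _ = b * (a * (c * a)) := by rw [Kab, bb]
      _ = b * (a * (c * (b * (b * a)))) := by rw [bb]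
      _ = b * (a * (c * (b * (c * (c * (b * a)))))) := by rw [cc]
      _ = b * (a * (b * (c * (b * (c * (b * a)))))) := by rw [← Kbc]
      _ = r * t⁻¹ := by simp only [hrdef, htdef, _root_.mul_inv_rev, ai, bi, ci, mul_assoc, bb]
  set T := zpowers t ⊔ zpowers r with hT
  have htT : t ∈ T := mem_sup_left (mem_zpowers t)
  have hrT : r ∈ T := mem_sup_right (mem_zpowers r)
  have hnorm : ∀ g : G, g * g = 1 → g * t * g ∈ T → g * r * g ∈ T → g ∈ normalizer (T : Set G) := by
    intro g g2 h1 h2
    have gi := inv_eq_of_mul_eq_one_right g2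
    have hle : T ≤ T.comap (MulAut.conj g).toMonoidHom := by
      rw [hT, sup_le_iff, zpowers_le, zpowers_le]
      constructor <;> (rw [mem_comap, MulEquiv.coe_toMonoidHom, MulAut.conj_apply, gi]; assumption)
    refine mem_normalizer_iff.2 fun x => ⟨fun hx => hle hx, fun hx => ?_⟩
    have h3 := hle hx
    rwa [mem_comap, MulEquiv.coe_toMonoidHom, MulAut.conj_apply, gi,
      show g * (g * x * g) * g = g * g * x * (g * g) by group, g2, one_mul, mul_one] at h3
  have hS : closure ({a, b} : Set G) ≤ normalizer (T : Set G) := by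
    rw [closure_le]
    rintro g (rfl | rfl)
    · exact hnorm g a2 (hata ▸ inv_mem htT) (hara ▸ mul_mem hrT (inv_mem htT))
    · refine hnorm g b2 (by rw [← hrdef]; exact hrT) ?_
      rw [show g * r * g = t by simp only [hrdef, mul_assoc, bb, b2, mul_one]]
      exact htT
  have h9 : Nat.card T ≤ 9 := by
    have h1 : zpowers t ≤ normalizer (zpowers r : Set G) :=
      (zpowers_le.2 (mem_centralizer_iff.2 fun y hy => by
        obtain ⟨i, rfl⟩ := mem_zpowers_iff.1 hy
        exact (hcomm.zpow_right i).symm.eq)).trans (centralizer_le_normalizer _)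
    refine (natCard_sup_le h1).trans ?_
    rw [Nat.card_zpowers, Nat.card_zpowers]
    exact Nat.mul_le_mul (Nat.le_of_dvd (by norm_num) (orderOf_dvd_of_pow_eq_one ht))
      (Nat.le_of_dvd (by norm_num) (orderOf_dvd_of_pow_eq_one hr3))
  obtain ⟨e⟩ := nonempty_mulEquiv_perm_three ha hb hab
  have h6 : Nat.card (closure ({a, b} : Set G)) = 6 := by
    rw [Nat.card_congr e.toEquiv, Nat.card_perm]; simp [Nat.factorial]
  refine ⟨closure {a, b} ⊔ T, (natCard_sup_le hS).trans (by rw [h6]; omega), mem_sup_left (subset_closure (by simp)),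
    mem_sup_left (subset_closure (by simp)), ?_⟩
  have hab' : a ∈ closure ({a, b} : Set G) ∧ b ∈ closure ({a, b} : Set G) :=
    ⟨subset_closure (by simp), subset_closure (by simp)⟩
  have := mul_mem (mul_mem (mem_sup_left (mul_mem hab'.2 hab'.1) : b * a ∈ closure ({a, b} : Set G) ⊔ T)
    (mem_sup_right htT)) (mem_sup_left hab'.2)
  simpa only [htdef, mul_assoc, aa, bb, b2, mul_one] using this

theorem Rel.map {H : Type*} [Group H] (f : G →* H) {u x d : G} (R : Rel u x d) : Rel (f u) (f x) (f d) where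
  u3 := by rw [← map_pow, R.u3, map_one]
  x3 := by rw [← map_pow, R.x3, map_one]
  d2 := by rw [← map_mul, R.d2, map_one]
  cu := by rw [← map_commutatorElement, ← map_mul, R.cu, map_mul]
  cx := by rw [← map_commutatorElement, ← map_mul, R.cx, map_mul]
  du := by rw [← map_mul, ← map_mul, R.du, map_inv]
  dx := by rw [← map_mul, ← map_mul, R.dx, map_inv]

theorem map_theta {H : Type*} [Group H] (f : G →* H) (u x d : G) (a : Pt) :
    f (θ u x d a) = θ (f u) (f x) (f d) a := by
  simp only [θ, pw, map_mul, map_pow, map_commutatorElement]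
  cases a.2.2.2 <;> simp

/-- Lifting: a normal subgroup with quotient of order 54 is complemented. -/
theorem exists_isComplement' [Finite G] {D : Set G} (hD : IsThreeTranspositionClass D) (N : Subgroup G) [N.Normal]
    {u x d : G ⧸ N} (R : Rel u x d) (hb : Function.Bijective (θ u x d)) :
    ∃ K : Subgroup G, N.IsComplement' K := by
  classical
  obtain ⟨hS, ⟨d₀, hd₀, hcl⟩, hgen⟩ := hD
  let π := QuotientGroup.mk' N
  have h54 : Nat.card (G ⧸ N) = 54 := by
    rw [← Nat.card_congr (Equiv.ofBijective _ hb)]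
    simp [Pt]
  have hd₀N : π d₀ ≠ 1 := by
    intro h
    have hall : (⊤ : Subgroup G) ≤ π.ker := by
      rw [← hgen, closure_le, hcl]
      intro s hs
      obtain ⟨g, rfl⟩ := isConj_iff.1 (show IsConj d₀ s from hs)
      simp only [SetLike.mem_coe, MonoidHom.mem_ker, map_mul, map_inv, h, mul_one, mul_inv_cancel]
    have : Subsingleton (G ⧸ N) := ⟨fun p q => by
      obtain ⟨p, rfl⟩ := QuotientGroup.mk'_surjective N p
      obtain ⟨q, rfl⟩ := QuotientGroup.mk'_surjective N q
      exact (hall (mem_top p)).trans (hall (mem_top q)).symm⟩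
    rw [Nat.card_unique] at h54
    omega
  have hd₀2 : π d₀ * π d₀ = 1 := by rw [← map_mul, TSet.sq hS hd₀, map_one]
  have conj : ∀ s, s * s = 1 → s ≠ 1 → ∃ g, g * d * g⁻¹ = s := by
    intro s s2 s1
    obtain ⟨p, rfl⟩ := hb.2 s
    have h2 : mulPt p p = (0, 0, 0, false) := hb.1 (by rw [← R.theta_mul, s2, R.theta_zero])
    have h1 : p ≠ (0, 0, 0, false) := fun h => s1 (by rw [h, R.theta_zero])
    obtain ⟨q, hq⟩ := (by decide +kernel : ∀ p : Pt, mulPt p p = (0, 0, 0, false) → p ≠ (0, 0, 0, false) →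
      ∃ q, mulPt q (0, 0, 0, true) = mulPt p q) p h2 h1
    refine ⟨θ u x d q, ?_⟩
    have := congrArg (θ u x d) hq
    rw [← R.theta_mul, ← R.theta_mul, R.theta_d] at this
    rw [this, mul_inv_cancel_right]
  have lift : ∀ s, s * s = 1 → s ≠ 1 → ∃ e ∈ D, π e = s := by
    intro s s2 s1
    obtain ⟨g, hg⟩ := conj _ hd₀2 hd₀N
    obtain ⟨g', hg'⟩ := conj s s2 s1
    obtain ⟨h, hh⟩ := QuotientGroup.mk'_surjective N (g' * g⁻¹)
    refine ⟨h * d₀ * h⁻¹, by rw [hcl]; exact isConj_iff.2 ⟨h, rfl⟩, ?_⟩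
    rw [map_mul, map_mul, map_inv, show π h = g' * g⁻¹ from hh, ← hg, ← hg']
    group
  have ne : ∀ p q : Pt, p ≠ q → θ u x d p ≠ θ u x d q := fun p q h h' => h (hb.1 h')
  have hD3 : ∀ e ∈ D, ∀ f ∈ D, ∀ p : Pt, π (e * f) = θ u x d p → mulPt p p ≠ (0, 0, 0, false) →
      (e * f) ^ 3 = 1 := by
    intro e he f hf p hp hp2
    refine (hS.2 e he f hf).resolve_left fun h => ne _ _ hp2 ?_
    rw [← R.theta_mul, R.theta_zero, ← hp, ← map_mul, ← pow_two, h, map_one]
  obtain ⟨a, ha, hπa⟩ := lift d R.d2 (by rw [← R.theta_d (u := u) (x := x), ← R.theta_zero]; exact ne _ _ (by decide))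
  obtain ⟨b, hb', hπb⟩ := lift (θ u x d (mulPt (0, 0, 0, true) (1, 0, 0, false)))
    (by rw [R.theta_mul, ← R.theta_zero]; exact congrArg _ (by decide))
    (by rw [← R.theta_zero]; exact ne _ _ (by decide))
  obtain ⟨c, hc, hπc⟩ := lift (θ u x d (mulPt (0, 0, 0, true) (0, 1, 0, false)))
    (by rw [R.theta_mul, ← R.theta_zero]; exact congrArg _ (by decide))
    (by rw [← R.theta_zero]; exact ne _ _ (by decide))
  rw [← R.theta_d (u := u) (x := x)] at hπa
  have nc : ∀ e ∈ D, ∀ f ∈ D, ∀ p : Pt, π (e * f) = θ u x d p → mulPt p p ≠ (0, 0, 0, false) → ¬ Commute e f :=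
    fun e he f hf p hp hp2 h => ne _ _ hp2 (by
      rw [← R.theta_mul, R.theta_zero, ← hp, ← map_mul, ← pow_two,
        (commute_iff_sq_eq_one (TSet.sq hS he) (TSet.sq hS hf)).1 h, map_one])
  have pab : π (a * b) =
      θ u x d (mulPt (0, 0, 0, true) (mulPt (0, 0, 0, true) (1, 0, 0, false))) := by
    rw [map_mul, hπa, hπb, R.theta_mul]
  have pac : π (a * c) =
      θ u x d (mulPt (0, 0, 0, true) (mulPt (0, 0, 0, true) (0, 1, 0, false))) := by
    rw [map_mul, hπa, hπc, R.theta_mul]
  have pbc : π (b * c) =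
      θ u x d (mulPt (mulPt (0, 0, 0, true) (1, 0, 0, false)) (mulPt (0, 0, 0, true) (0, 1, 0, false))) := by
    rw [map_mul, hπb, hπc, R.theta_mul]
  have pabc : π (a * (b * c * b)) =
      θ u x d (mulPt (0, 0, 0, true) (mulPt (mulPt (mulPt (0, 0, 0, true) (1, 0, 0, false))
        (mulPt (0, 0, 0, true) (0, 1, 0, false))) (mulPt (0, 0, 0, true) (1, 0, 0, false)))) := by
    rw [map_mul, map_mul, map_mul, hπa, hπb, hπc, R.theta_mul, R.theta_mul, R.theta_mul]
  have hbcb : b * c * b ∈ D := by
    obtain ⟨g, rfl⟩ := isConj_iff.1 (show IsConj d₀ c by rw [hcl] at hc; exact hc)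
    rw [hcl]
    refine isConj_iff.2 ⟨b * g, ?_⟩
    conv_rhs => rw [show b * (g * d₀ * g⁻¹) * b = b * g * d₀ * (g⁻¹ * b) by group]
    rw [_root_.mul_inv_rev, TSet.inv hS hb']
  obtain ⟨K, hK, haK, hbK, hcK⟩ := exists_card_le (hS.1 a ha) (hS.1 b hb') (hS.1 c hc)
    (TSet.orderOf_mul_eq_three hS ha hb' (nc a ha b hb' _ pab (by decide)))
    (TSet.braid hS ha hb' (nc a ha b hb' _ pab (by decide)))
    (TSet.braid hS ha hc (nc a ha c hc _ pac (by decide)))
    (TSet.braid hS hb' hc (nc b hb' c hc _ pbc (by decide)))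
    (hD3 a ha _ hbcb _ pabc (by decide))
  have hKtop : K.map π = ⊤ := by
    refine eq_top_iff.2 fun q _ => ?_
    have hgd : d ∈ K.map π := ⟨a, haK, by rw [hπa, R.theta_d]⟩
    have hgu : u ∈ K.map π := ⟨a * b, mul_mem haK hbK, by
      rw [pab, show mulPt (0, 0, 0, true) (mulPt (0, 0, 0, true) (1, 0, 0, false)) = ((1, 0, 0, false) : Pt) by
        decide, R.theta_u]⟩
    have hgx : x ∈ K.map π := ⟨a * c, mul_mem haK hcK, by
      rw [pac, show mulPt (0, 0, 0, true) (mulPt (0, 0, 0, true) (0, 1, 0, false)) = ((0, 1, 0, false) : Pt) by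
        decide, R.theta_x]⟩
    obtain ⟨p, rfl⟩ := hb.2 q
    unfold θ pw
    have hcm : ⁅u, x⁆ ∈ K.map π := by
      rw [commutatorElement_def]
      exact mul_mem (mul_mem (mul_mem hgu hgx) (inv_mem hgu)) (inv_mem hgx)
    refine mul_mem (mul_mem (mul_mem (pow_mem hgu _) (pow_mem hgx _)) (pow_mem hcm _)) ?_
    split
    · exact hgd
    · exact one_mem _
  have hsur : Function.Surjective (π.comp K.subtype) := by
    intro q
    obtain ⟨k, hk, rfl⟩ := hKtop ▸ mem_top q
    exact ⟨⟨k, hk⟩, rfl⟩
  have hK54 : Nat.card K = 54 :=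
    le_antisymm hK (h54 ▸ Nat.card_le_card_of_surjective _ hsur)
  have hinj : Function.Injective (π.comp K.subtype) :=
    ((Nat.bijective_iff_surjective_and_card _).2 ⟨hsur, by rw [hK54, h54]⟩).1
  refine ⟨K, isComplement'_of_card_mul_and_disjoint ?_ ?_⟩
  · rw [hK54, ← h54, mul_comm, ← card_eq_card_quotient_mul_card_subgroup]
  · rw [disjoint_def]
    intro g hg hgK
    have h1 : π.comp K.subtype ⟨g, hgK⟩ = π.comp K.subtype 1 := by
      rw [map_one]; exact (QuotientGroup.eq_one_iff g).2 hg
    exact congrArg Subtype.val (hinj h1)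

end Cfsg.Agent.Fischer.Rel54
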