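import Cfsg.Agent.Lib.Fischer.Rel54
import Cfsg.Agent.S0282
import Cfsg.Agent.S0827

/-!
The derived group of SU(3, 2) in terms of the relations of `Rel54`.
-/

set_option autoImplicit false
set_option linter.style.haveILetI false
set_option linter.unusedSimpArgs false

namespace Cfsg.Agent.Fischer.SU3Two

open Matrix
open scoped commutatorElement

variable {F : Type} [Field F] [Fintype F]

theorem exists_omega (hF : Fintype.card F = 4) :
    (2 : F) = 0 ∧ (∀ a : F, a ≠ 0 → a ^ 3 = 1) ∧ ∃ w : F, w * w + w + 1 = 0 := by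
  haveI : Fact (Nat.Prime 2) := ⟨Nat.prime_two⟩
  haveI : CharP F 2 := charP_of_card_eq_prime_pow (show Fintype.card F = 2 ^ 2 by rw [hF]; rfl)
  have hcube : ∀ a : F, a ≠ 0 → a ^ 3 = 1 := fun a ha => by
    have := FiniteField.pow_card_sub_one_eq_one a ha
    rwa [hF] at this
  refine ⟨CharTwo.two_eq_zero, hcube, ?_⟩
  classical
  obtain ⟨u, hu⟩ := Finset.exists_mem_notMem_of_card_lt_card
    (s := ({0, 1} : Finset F)) (t := Finset.univ) (by
      rw [Finset.card_univ, hF]
      exact lt_of_le_of_lt (Finset.card_insert_le _ _) (by simp))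
  simp only [Finset.mem_insert, Finset.mem_singleton, not_or] at hu
  exact ⟨u, (mul_eq_zero.1 (show (u - 1) * (u * u + u + 1) = 0 by
    linear_combination hcube u hu.2.1)).resolve_left (sub_ne_zero.2 hu.2.2)⟩

theorem card_SU (hF : Fintype.card F = 4) : Nat.card (Cfsg.SU 3 F 2) = 216 := by
  have hF' : Fintype.card F = 2 ^ 2 := by rw [hF]; norm_num
  obtain ⟨σ, hσ, hne, hinv, hq, hq2⟩ := HermStd.exists_sigma hF'
  have h := HermSU.card_SU_mul hne hinv hσ (n := 3) (by norm_num) hq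
  rw [HermStd.card_GU hne hinv hσ 3 hq, Finset.prod_range_succ, Finset.prod_range_succ,
    Finset.prod_range_succ, Finset.prod_range_zero, if_pos (by decide), if_neg (by decide),
    if_pos (by decide)] at h
  norm_num at h
  omega

theorem card_commutator_le (hF : Fintype.card F = 4) :
    Nat.card ↥(commutator ↥(Cfsg.SU 3 F 2)) ≤ 54 := by
  obtain ⟨N, hN, hN9, -, ⟨e⟩⟩ := S0827.result hF
  haveI := hN
  let f : ↥(Cfsg.SU 3 F 2) →* QuaternionGroup 2 :=
    e.toMonoidHom.comp ((QuotientGroup.mk' N).comp (QuotientGroup.mk' (Subgroup.center _)))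
  have hf : Function.Surjective f := e.surjective.comp
    ((QuotientGroup.mk'_surjective N).comp (QuotientGroup.mk'_surjective _))
  let Z : Subgroup (QuaternionGroup 2) :=
    { carrier := {g | g = 1 ∨ g = QuaternionGroup.a 2}
      one_mem' := Or.inl rfl
      mul_mem' := fun {a b} ha hb => by rcases ha with rfl | rfl <;> rcases hb with rfl | rfl <;> decide
      inv_mem' := fun {a} ha => by rcases ha with rfl | rfl <;> decide }
  have hc : ∀ a b : QuaternionGroup 2, a * b * a⁻¹ * b⁻¹ = 1 ∨ a * b * a⁻¹ * b⁻¹ = QuaternionGroup.a 2 := by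
    decide
  have hle : commutator ↥(Cfsg.SU 3 F 2) ≤ Z.comap f := by
    rw [commutator_def, Subgroup.commutator_le]
    intro a _ b _
    show f ⁅a, b⁆ ∈ Z
    rw [map_commutatorElement, commutatorElement_def]
    exact hc (f a) (f b)
  have h2 : Nat.card (Z.comap f) ≤ 54 := by
    have h := Subgroup.card_mul_index (Z.comap f)
    rw [Subgroup.index_comap_of_surjective _ hf, card_SU hF] at h
    have hZ := Z.card_mul_index
    have hZ2 : Nat.card Z = 2 := by
      have : Set.ncard ({(1 : QuaternionGroup 2), QuaternionGroup.a 2}) = 2 := Set.ncard_pair (by decide)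
      refine Eq.trans ?_ this
      rw [← Nat.card_coe_set_eq]
      exact Nat.card_congr (Equiv.setCongr (by ext g; simp [Z]))
    rw [hZ2, Nat.card_eq_fintype_card, QuaternionGroup.card] at hZ
    have h4 : Z.index = 4 := by omega
    rw [h4] at h
    omega
  exact (Subgroup.card_le_of_le hle).trans h2

theorem exists_rel (hF : Fintype.card F = 4) :
    ∃ u x d : ↥(commutator ↥(Cfsg.SU 3 F 2)), Rel54.Rel u x d ∧ Function.Bijective (Rel54.θ u x d) := by
  classical
  obtain ⟨h2, hcube, w, hw⟩ := exists_omega hF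
  have hw3 : w * w * w = 1 := by linear_combination (w - 1) * hw
  have mk : ∀ A : Matrix (Fin 3) (Fin 3) F, A.det = 1 →
      (∀ u v, Cfsg.hermForm 3 F 2 (A *ᵥ u) (A *ᵥ v) = Cfsg.hermForm 3 F 2 u v) →
      ∃ g : ↥(Cfsg.SU 3 F 2), g.1.1 = A := fun A h1 h2 => ⟨⟨⟨A, h1⟩, h2⟩, rfl⟩
  obtain ⟨U, hU⟩ := mk !![1, 0, 0; 0, w, 0; 0, 0, w * w]
    (by simp [Matrix.det_fin_three]; linear_combination hw3)
    (fun a b => by
      simp [Cfsg.hermForm, Matrix.mulVec, dotProduct, Fin.sum_univ_three]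
      linear_combination (a 1 * b 1 ^ 2 + a 2 * b 2 ^ 2 * (w * w * w + 1)) * hw3)
  obtain ⟨X, hX⟩ := mk !![0, 1, 0; 0, 0, 1; 1, 0, 0]
    (by simp [Matrix.det_fin_three])
    (fun a b => by simp [Cfsg.hermForm, Matrix.mulVec, dotProduct, Fin.sum_univ_three]; ring)
  obtain ⟨D, hD⟩ := mk !![1, 0, 0; 0, 0, 1; 0, 1, 0]
    (by simp [Matrix.det_fin_three]; linear_combination -h2)
    (fun a b => by simp [Cfsg.hermForm, Matrix.mulVec, dotProduct, Fin.sum_univ_three]; ring)
  obtain ⟨A, hA⟩ := mk !![1, 1, 1; 1, w, w * w; 1, w * w, w]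
    (by simp [Matrix.det_fin_three]; grind)
    (fun a b => by
      simp [Cfsg.hermForm, Matrix.mulVec, dotProduct, Fin.sum_univ_three]
      grind)
  obtain ⟨B, hB⟩ := mk !![1, w * w, w * w; w, w, w * w; w, w * w, w]
    (by simp [Matrix.det_fin_three]; grind)
    (fun a b => by
      simp [Cfsg.hermForm, Matrix.mulVec, dotProduct, Fin.sum_univ_three]
      grind)
  have ext' : ∀ {g h : ↥(Cfsg.SU 3 F 2)}, g.1.1 = h.1.1 → g = h := fun e => Subtype.ext (Subtype.ext e)
  have hm : ∀ g h : ↥(Cfsg.SU 3 F 2), (g * h).1.1 = g.1.1 * h.1.1 := fun _ _ => rfl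
  have h1 : (1 : ↥(Cfsg.SU 3 F 2)).1.1 = 1 := rfl
  have hU3 : U ^ 3 = 1 := ext' (by
    rw [pow_succ, pow_two, hm, hm, hU, h1, Matrix.one_fin_three]
    ext i j; fin_cases i <;> fin_cases j <;> simp [Matrix.mul_apply, Fin.sum_univ_three] <;> grind)
  have hX3 : X ^ 3 = 1 := ext' (by
    rw [pow_succ, pow_two, hm, hm, hX, h1, Matrix.one_fin_three]
    ext i j; fin_cases i <;> fin_cases j <;> simp [Matrix.mul_apply, Fin.sum_univ_three])
  have hD2 : D * D = 1 := ext' (by
    rw [hm, hD, h1, Matrix.one_fin_three]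
    ext i j; fin_cases i <;> fin_cases j <;> simp [Matrix.mul_apply, Fin.sum_univ_three])
  have hUi : U⁻¹ = U * U := inv_eq_of_mul_eq_one_right (by rw [← mul_assoc, ← pow_two, ← pow_succ, hU3])
  have hXi : X⁻¹ = X * X := inv_eq_of_mul_eq_one_right (by rw [← mul_assoc, ← pow_two, ← pow_succ, hX3])
  have hC : ⁅U, X⁆.1.1 = (w * w) • (1 : Matrix (Fin 3) (Fin 3) F) := by
    rw [commutatorElement_def, hUi, hXi, hm, hm, hm, hm, hm, hU, hX, Matrix.one_fin_three]
    ext i j; fin_cases i <;> fin_cases j <;> simp [Matrix.mul_apply, Fin.sum_univ_three] <;> grind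
  have hR : Rel54.Rel U X D := by
    refine ⟨hU3, hX3, hD2, ext' ?_, ext' ?_, ext' ?_, ext' ?_⟩
    · rw [hm, hm, hC, smul_mul_assoc, mul_smul_comm, one_mul, mul_one]
    · rw [hm, hm, hC, smul_mul_assoc, mul_smul_comm, one_mul, mul_one]
    · rw [hUi, hm, hm, hm, hU, hD]
      ext i j; fin_cases i <;> fin_cases j <;> simp [Matrix.mul_apply, Fin.sum_univ_three] <;> grind
    · rw [hXi, hm, hm, hm, hX, hD]
      ext i j; fin_cases i <;> fin_cases j <;> simp [Matrix.mul_apply, Fin.sum_univ_three]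
  have hDi : D⁻¹ = D := inv_eq_of_mul_eq_one_right hD2
  have hDA : ⁅A, B⁆ = D := by
    rw [commutatorElement_def, mul_inv_eq_iff_eq_mul, mul_inv_eq_iff_eq_mul]
    refine ext' ?_
    rw [hm, hm, hm, hA, hB, hD]
    ext i j; fin_cases i <;> fin_cases j <;> simp [Matrix.mul_apply, Fin.sum_univ_three] <;> grind
  have hDU : ⁅D, U⁆ = U := by
    rw [commutatorElement_def, hDi, hR.du, hUi, ← mul_assoc]
    calc U * U * U * U = U ^ 3 * U := by rw [pow_succ, pow_two]
      _ = U := by rw [hU3, one_mul]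
  have hDX : ⁅D, X⁆ = X := by
    rw [commutatorElement_def, hDi, hR.dx, hXi, ← mul_assoc]
    calc X * X * X * X = X ^ 3 * X := by rw [pow_succ, pow_two]
      _ = X := by rw [hX3, one_mul]
  have hmem : ∀ a b : ↥(Cfsg.SU 3 F 2), ⁅a, b⁆ ∈ commutator ↥(Cfsg.SU 3 F 2) := fun a b =>
    Subgroup.commutator_mem_commutator (Subgroup.mem_top a) (Subgroup.mem_top b)
  let u : ↥(commutator ↥(Cfsg.SU 3 F 2)) := ⟨U, hDU ▸ hmem D U⟩
  let x : ↥(commutator ↥(Cfsg.SU 3 F 2)) := ⟨X, hDX ▸ hmem D X⟩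
  let d : ↥(commutator ↥(Cfsg.SU 3 F 2)) := ⟨D, hDA ▸ hmem A B⟩
  have R : Rel54.Rel u x d := ⟨Subtype.ext hR.u3, Subtype.ext hR.x3, Subtype.ext hR.d2,
    Subtype.ext hR.cu, Subtype.ext hR.cx, Subtype.ext hR.du, Subtype.ext hR.dx⟩
  refine ⟨u, x, d, R, ?_⟩
  have hinj : Function.Injective (Rel54.θ u x d) := by
    refine R.theta_injective (fun e => ?_) (fun e => ?_)
    · have e1 : ⁅U, X⁆.1.1 = 1 := by rw [show ⁅U, X⁆ = 1 from congrArg Subtype.val e, h1]
      rw [hC] at e1
      have := congrFun (congrFun e1 0) 0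
      simp at this
      grind
    · have e1 : D.1.1 = 1 := by rw [show D = 1 from congrArg Subtype.val e, h1]
      rw [hD] at e1
      simpa using congrFun (congrFun e1 1) 1
  haveI : Fintype ↥(commutator ↥(Cfsg.SU 3 F 2)) := Fintype.ofFinite _
  refine (Fintype.bijective_iff_injective_and_card _).2 ⟨hinj, le_antisymm (Fintype.card_le_of_injective _ hinj) ?_⟩
  rw [← Nat.card_eq_fintype_card]
  exact (card_commutator_le hF).trans (le_of_eq rfl)

end Cfsg.Agent.Fischer.SU3Two
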