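import Cfsg.Agent.Lib.Fischer.UnitaryPerp

/-!
Five-dimensional unitary geometry over the field of four elements: frames, the unipotent group of a point,
scalar-type elements, and fixed flags of 2-groups.
-/

set_option autoImplicit false
set_option linter.unusedSectionVars false

namespace Cfsg.Agent.Fischer.UnitaryFive

open scoped Matrix
open Matrix Cfsg.Agent.Transvec Cfsg.Agent.Transvec.Herm Cfsg.Agent.Fischer.UnitaryPerp

variable {ι : Type} [Fintype ι] [DecidableEq ι] {F : Type*} [Field F] [Finite F]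
variable {σ : F ≃+* F} {f : (ι → F) → (ι → F) → F} (hf : Geo.IsUnitaryForm σ f)

local notation "SS" => preserving (Units.coeHom (Matrix ι ι F)) f ⊓ Geo.specialLinear ι F

variable (f) in
/-- A hyperbolic plane. -/
structure IsPlane (p d : ι → F) : Prop where
  pp : f p p = 0
  dd : f d d = 0
  pd : f p d = 1

variable (f) in
/-- The orthogonal space of a plane, as a predicate. -/
def InY (p d w : ι → F) : Prop := f p w = 0 ∧ f d w = 0

variable (f) in
/-- A plane, an orthogonal plane, and a vector of norm one orthogonal to both. -/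
structure IsFrame (p d y y' a : ι → F) : Prop where
  P : IsPlane f p d
  Q : IsPlane f y y'
  hy : InY f p d y
  hy' : InY f p d y'
  ha : InY f p d a
  ya : f y a = 0
  y'a : f y' a = 0
  aa : f a a = 1

variable (h2 : (2 : F) = 0) (hfix : ∀ a : F, σ a = a → a = 0 ∨ a = 1)

include hf h2 hfix

theorem IsPlane.ne_zero {p d : ι → F} (h : IsPlane f p d) : p ≠ 0 := fun h0 => by
  have := h.pd
  rw [h0, zero_left hf] at this
  exact zero_ne_one this

theorem IsPlane.dp {p d : ι → F} (h : IsPlane f p d) : f d p = 1 := by rw [hf.herm, h.pd, map_one]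

theorem IsPlane.symm {p d : ι → F} (h : IsPlane f p d) : IsPlane f d p :=
  ⟨h.dd, h.pp, h.dp hf h2 hfix⟩

theorem self_eq_one {x : ι → F} (h : f x x ≠ 0) : f x x = 1 :=
  (hfix _ (self_fixed hf x)).resolve_left h

theorem isFrame_swap {p d y y' a : ι → F} (h : IsFrame f p d y y' a) : IsFrame f y y' p d a := by
  obtain ⟨P, Q, hy, hy', ha, ya, y'a, aa⟩ := h
  exact ⟨Q, P, ⟨(f_eq_zero_comm hf).1 hy.1, (f_eq_zero_comm hf).1 hy'.1⟩,
    ⟨(f_eq_zero_comm hf).1 hy.2, (f_eq_zero_comm hf).1 hy'.2⟩, ⟨ya, y'a⟩, ha.1, ha.2, aa⟩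

variable (hn : Fintype.card ι = 5)

include hn

theorem finrank_Y {p d : ι → F} (h : IsPlane f p d) :
    Module.finrank F ↥(orth hf (Submodule.span F ({p, d} : Set (ι → F)))) = 3 := by
  obtain ⟨hP, hP2⟩ := nondeg_pair hf h.pp h.dd h.pd
  have : 2 + Module.finrank F ↥(orth hf (Submodule.span F ({p, d} : Set (ι → F)))) = 5 :=
    (congrArg (· + _) hP2.symm).trans ((finrank_orth_add hf hP).trans ((Module.finrank_pi F).trans hn))
  omega

omit hn in
theorem mem_Y {p d w : ι → F} : w ∈ orth hf (Submodule.span F ({p, d} : Set (ι → F))) ↔ InY f p d w := by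
  refine ⟨fun h => ⟨h p (Submodule.subset_span (Set.mem_insert _ _)),
    h d (Submodule.subset_span (Set.mem_insert_of_mem _ rfl))⟩, fun h u hu => ?_⟩
  obtain ⟨a, b, rfl⟩ := Submodule.mem_span_pair.1 hu
  rw [hf.add_left, hf.smul_left, hf.smul_left, h.1, h.2, mul_zero, mul_zero, add_zero]

theorem frame_decomp {p d y y' a : ι → F} (h : IsFrame f p d y y' a) (x : ι → F) :
    x = f x d • p + f x p • d + f x y' • y + f x y • y' + f x a • a := by
  set U := Submodule.span F ({p, d} : Set (ι → F)) ⊔ Submodule.span F ({y, y'} : Set (ι → F)) with hU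
  obtain ⟨hN, hdim⟩ := nondeg_sup hf (nondeg_pair hf h.P.pp h.P.dd h.P.pd).1
    (nondeg_pair hf h.Q.pp h.Q.dd h.Q.pd).1 (Submodule.span_le.2 (by
      rintro v (rfl | rfl)
      · exact (mem_Y hf h2 hfix).2 h.hy
      · exact (mem_Y hf h2 hfix).2 h.hy'))
  rw [(nondeg_pair hf h.P.pp h.P.dd h.P.pd).2, (nondeg_pair hf h.Q.pp h.Q.dd h.Q.pd).2] at hdim
  have h1 : Module.finrank F ↥(orth hf U) = 1 := by
    have : (2 + 2) + Module.finrank F ↥(orth hf U) = 5 :=
      (congrArg (· + _) hdim.symm).trans ((finrank_orth_add hf hN).trans ((Module.finrank_pi F).trans hn))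
    omega
  have horth : ∀ z, f p z = 0 → f d z = 0 → f y z = 0 → f y' z = 0 → z ∈ orth hf U := by
    intro z e1 e2 e3 e4 u hu
    obtain ⟨u1, hu1, u2, hu2, rfl⟩ := Submodule.mem_sup.1 hu
    rw [hf.add_left, (mem_Y hf h2 hfix).2 ⟨e1, e2⟩ u1 hu1, (mem_Y hf h2 hfix).2 ⟨e3, e4⟩ u2 hu2, add_zero]
  have haU : a ∈ orth hf U := horth a h.ha.1 h.ha.2 h.ya h.y'a
  have ha0 : a ≠ 0 := fun e => by have := h.aa; rw [e, zero_left hf] at this; exact zero_ne_one this
  have hspan : Submodule.span F {a} = orth hf U :=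
    Submodule.eq_of_le_of_finrank_eq ((Submodule.span_singleton_le_iff_mem _ _).2 haU)
      (by rw [finrank_span_singleton ha0, h1])
  set r := x - (f x d • p + f x p • d + f x y' • y + f x y • y' + f x a • a) with hr
  have c : ∀ {u v : ι → F}, f u v = 0 → f v u = 0 := fun e => (f_eq_zero_comm hf).1 e
  have hdp := h.P.dp hf h2 hfix
  have hy'y := h.Q.dp hf h2 hfix
  have hr' : f p r = 0 ∧ f d r = 0 ∧ f y r = 0 ∧ f y' r = 0 ∧ f a r = 0 := by
    simp only [hr, sub_right hf, add_right hf, smul_right hf, h.P.pp, h.P.dd, h.P.pd, hdp, h.Q.pp, h.Q.dd,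
      h.Q.pd, hy'y, h.hy.1, h.hy.2, h.hy'.1, h.hy'.2, h.ha.1, h.ha.2, h.ya, h.y'a, h.aa, c h.hy.1, c h.hy.2,
      c h.hy'.1, c h.hy'.2, c h.ha.1, c h.ha.2, c h.ya, c h.y'a, mul_one, mul_zero, add_zero, zero_add,
      ← hf.herm, sub_self, and_self]
  obtain ⟨k, hk⟩ := Submodule.mem_span_singleton.1
    (hspan.ge (horth r hr'.1 hr'.2.1 hr'.2.2.1 hr'.2.2.2.1))
  have hk0 : k = 0 := by
    have e := hr'.2.2.2.2
    rw [← hk, smul_right hf, h.aa, mul_one] at e
    exact (map_eq_zero_iff σ σ.injective).1 e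
  rw [hk0, zero_smul] at hk
  exact sub_eq_zero.1 hk.symm

/-- Two isotropic vectors of Y have a common orthogonal vector of norm one, inside a frame. -/
theorem exists_frame {p d y : ι → F} (hP : IsPlane f p d) (hy : InY f p d y) (hy0 : y ≠ 0)
    (hyy : f y y = 0) : ∃ y' a, IsFrame f p d y y' a := by
  set Y := orth hf (Submodule.span F ({p, d} : Set (ι → F))) with hYdef
  have hY : Nondeg hf Y := nondeg_orth hf (nondeg_pair hf hP.pp hP.dd hP.pd).1
  obtain ⟨y', hy'Y, hyy', hy'y'⟩ := exists_partner hf hY ((mem_Y hf h2 hfix).2 hy) hy0 hyy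
  obtain ⟨hQ, hQ2⟩ := nondeg_pair hf hyy hy'y' hyy'
  have hle : Submodule.span F ({y, y'} : Set (ι → F)) ≤ Y := Submodule.span_le.2 (by
    rintro v (rfl | rfl)
    · exact (mem_Y hf h2 hfix).2 hy
    · exact hy'Y)
  set X := Y ⊓ orth hf (Submodule.span F ({y, y'} : Set (ι → F))) with hX
  have hX1 : Module.finrank F X = 1 := by
    have h : 2 + Module.finrank F X = Module.finrank F Y :=
      (congrArg (· + _) hQ2.symm).trans (finrank_inf_orth_add hf hQ hle)
    exact Nat.add_left_cancel (h.trans (finrank_Y hf h2 hfix hn hP))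
  obtain ⟨a, ha, haa⟩ := exists_anisotropic hf (nondeg_inf_orth hf hQ hY hle)
    (fun h => by rw [hX, h, finrank_bot] at hX1; exact zero_ne_one hX1)
  exact ⟨y', a, hP, ⟨hyy, hy'y', hyy'⟩, hy, (mem_Y hf h2 hfix).1 hy'Y, (mem_Y hf h2 hfix).1 ha.1,
    ha.2 y (Submodule.subset_span (Set.mem_insert _ _)),
    ha.2 y' (Submodule.subset_span (Set.mem_insert_of_mem _ rfl)), self_eq_one hf h2 hfix haa⟩

theorem exists_Y_isotropic {p d : ι → F} (hP : IsPlane f p d) :
    ∃ y, InY f p d y ∧ y ≠ 0 ∧ f y y = 0 := by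
  obtain ⟨y, hy, hy0, hyy⟩ := exists_isotropic hf (nondeg_orth hf (nondeg_pair hf hP.pp hP.dd hP.pd).1)
    (by rw [finrank_Y hf h2 hfix hn hP]; norm_num)
  exact ⟨y, (mem_Y hf h2 hfix).1 hy, hy0, hyy⟩

theorem exists_unit_orth {p d y₁ y₂ : ι → F} (hP : IsPlane f p d) (h₁ : InY f p d y₁) (h₂ : InY f p d y₂)
    (e₁ : f y₁ y₁ = 0) (e₂ : f y₂ y₂ = 0) :
    ∃ a, InY f p d a ∧ f a a = 1 ∧ f a y₁ = 0 ∧ f a y₂ = 0 := by
  by_cases hy : f y₁ y₂ = 0
  · -- both lie on one line
    obtain ⟨y, hyY, hy0, hyy, k, l, hk, hl⟩ : ∃ y, InY f p d y ∧ y ≠ 0 ∧ f y y = 0 ∧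
        ∃ k l : F, y₁ = k • y ∧ y₂ = l • y := by
      by_cases h10 : y₁ = 0
      · by_cases h20 : y₂ = 0
        · obtain ⟨y, hyY, hy0, hyy⟩ := exists_Y_isotropic hf h2 hfix hn hP
          exact ⟨y, hyY, hy0, hyy, 0, 0, by simp [h10], by simp [h20]⟩
        · exact ⟨y₂, h₂, h20, e₂, 0, 1, by simp [h10], (one_smul _ _).symm⟩
      obtain ⟨y', a, hF⟩ := exists_frame hf h2 hfix hn hP h₁ h10 e₁
      refine ⟨y₁, h₁, h10, e₁, 1, f y₂ y', (one_smul _ _).symm, ?_⟩
      have hdec := frame_decomp hf h2 hfix hn hF y₂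
      rw [(f_eq_zero_comm hf).1 h₂.1, (f_eq_zero_comm hf).1 h₂.2, (f_eq_zero_comm hf).1 hy] at hdec
      simp only [zero_smul, zero_add, add_zero] at hdec
      have h0 : f y₂ a = 0 := by
        have hay : f a y₁ = 0 := (f_eq_zero_comm hf).1 hF.ya
        have := e₂
        rw [hdec] at this
        simp only [hf.add_left, add_right hf, hf.smul_left, smul_right hf, hF.Q.pp, hF.ya, hay, hF.aa,
          mul_zero, mul_one, add_zero, zero_add] at this
        rcases mul_eq_zero.1 this with h | h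
        · exact h
        · exact (map_eq_zero_iff σ σ.injective).1 h
      rw [h0, zero_smul, add_zero] at hdec
      exact hdec
    obtain ⟨y', a, hF⟩ := exists_frame hf h2 hfix hn hP hyY hy0 hyy
    have hay : f a y = 0 := (f_eq_zero_comm hf).1 hF.ya
    exact ⟨a, hF.ha, hF.aa, by rw [hk, smul_right hf, hay, mul_zero],
      by rw [hl, smul_right hf, hay, mul_zero]⟩
  · set k := σ (f y₁ y₂)⁻¹ with hk
    have hk0 : k ≠ 0 := fun h => inv_ne_zero hy ((map_eq_zero_iff σ σ.injective).1 h)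
    set y' := k • y₂ with hy'
    have hQ : IsPlane f y₁ y' := ⟨e₁, by rw [hy', hf.smul_left, smul_right hf, e₂, mul_zero, mul_zero],
      by rw [hy', smul_right hf, hk, hf.involutive, inv_mul_cancel₀ hy]⟩
    have hy'Y : InY f p d y' :=
      ⟨by rw [hy', smul_right hf, h₂.1, mul_zero], by rw [hy', smul_right hf, h₂.2, mul_zero]⟩
    obtain ⟨hU, hU2⟩ := nondeg_pair hf hQ.pp hQ.dd hQ.pd
    set Y := orth hf (Submodule.span F ({p, d} : Set (ι → F))) with hYdef
    have hY : Nondeg hf Y := nondeg_orth hf (nondeg_pair hf hP.pp hP.dd hP.pd).1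
    have hle : Submodule.span F ({y₁, y'} : Set (ι → F)) ≤ Y := Submodule.span_le.2 (by
      rintro v (rfl | rfl)
      · exact (mem_Y hf h2 hfix).2 h₁
      · exact (mem_Y hf h2 hfix).2 hy'Y)
    have hX1 : Module.finrank F ↥(Y ⊓ orth hf (Submodule.span F ({y₁, y'} : Set (ι → F)))) = 1 := by
      have h : 2 + Module.finrank F ↥(Y ⊓ orth hf (Submodule.span F ({y₁, y'} : Set (ι → F)))) =
          Module.finrank F Y := (congrArg (· + _) hU2.symm).trans (finrank_inf_orth_add hf hU hle)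
      exact Nat.add_left_cancel (h.trans (finrank_Y hf h2 hfix hn hP))
    obtain ⟨a, ha, haa⟩ := exists_anisotropic hf (nondeg_inf_orth hf hU hY hle)
      (fun h => by rw [h, finrank_bot] at hX1; exact zero_ne_one hX1)
    have hy'a : f y' a = 0 := ha.2 y' (Submodule.subset_span (Set.mem_insert_of_mem _ rfl))
    refine ⟨a, (mem_Y hf h2 hfix).1 ha.1, self_eq_one hf h2 hfix haa,
      (f_eq_zero_comm hf).1 (ha.2 y₁ (Submodule.subset_span (Set.mem_insert _ _))), ?_⟩
    refine (f_eq_zero_comm hf).1 ?_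
    rw [hy', hf.smul_left] at hy'a
    exact (mul_eq_zero.1 hy'a).resolve_left hk0

/-- The component in Y of a vector orthogonal to p. -/
def pr (_hf : Geo.IsUnitaryForm σ f) (p d x : ι → F) : ι → F := x + f x d • p

omit hn in
theorem pr_mem {p d x : ι → F} (hP : IsPlane f p d) (hx : f p x = 0) : InY f p d (pr hf p d x) :=
  ⟨by rw [pr, add_right hf, smul_right hf, hP.pp, hx, mul_zero, add_zero],
    by rw [pr, add_right hf, smul_right hf, hP.dp hf h2 hfix, ← hf.herm, mul_one,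
      add_self hf h2 hfix]⟩

omit hn in
theorem pr_self {p d v : ι → F} (hP : IsPlane f p d) (hv : f p v = 0) (hvv : f v v = 0) :
    f (pr hf p d v) (pr hf p d v) = 0 := by
  have hvp : f v p = 0 := (f_eq_zero_comm hf).1 hv
  simp only [pr, hf.add_left, add_right hf, hf.smul_left, smul_right hf, hP.pp, hv, hvp, hvv, mul_zero,
    add_zero]

omit hn in
theorem pr_eq {p d w : ι → F} (hP : IsPlane f p d) (hw : InY f p d w) (c : F) :
    pr hf p d (c • p + w) = w := by
  rw [pr, hf.add_left, hf.smul_left, hP.pd, mul_one, (f_eq_zero_comm hf).1 hw.2, add_zero]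
  rw [add_comm (c • p) w, add_assoc, vadd_self hf h2 hfix, add_zero]

/-- The unipotent group of a point. -/
def UU (_hf : Geo.IsUnitaryForm σ f) (p : ι → F) : Subgroup (GL ι F) where
  carrier := {g | g ∈ SS ∧ mv g p = p ∧ ∀ x, f p x = 0 → ∃ c : F, mv g x = x + c • p}
  one_mem' := ⟨Subgroup.one_mem _, mv_one p, fun x _ => ⟨0, by rw [mv_one, zero_smul, add_zero]⟩⟩
  mul_mem' := fun {g h} hg hh => ⟨Subgroup.mul_mem _ hg.1 hh.1, by rw [mv_mul, hh.2.1, hg.2.1], fun x hx => by
    obtain ⟨c, hc⟩ := hh.2.2 x hx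
    obtain ⟨c', hc'⟩ := hg.2.2 x hx
    exact ⟨c' + c, by rw [mv_mul, hc, mv_add, mv_smul, hg.2.1, hc', add_smul, add_assoc]⟩⟩
  inv_mem' := fun {g} hg => ⟨Subgroup.inv_mem _ hg.1, ((mv_eq_iff g).1 hg.2.1).symm, fun x hx => by
    obtain ⟨c, hc⟩ := hg.2.2 x hx
    refine ⟨-c, ?_⟩
    have h1 : mv g⁻¹ (mv g x) = mv g⁻¹ (x + c • p) := by rw [hc]
    rw [mv_inv_mv, mv_add, mv_smul, ← (mv_eq_iff g).1 hg.2.1] at h1
    rw [neg_smul, ← sub_eq_add_neg, eq_sub_iff_add_eq]
    exact h1.symm⟩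

omit hn in
theorem tau_mem_UU {p : ι → F} (hp : f p p = 0) : htv hf p hp 1 ∈ UU hf p :=
  ⟨tau_mem hf h2 hfix p hp, htv_fix hf p hp 1 hp, fun x _ => ⟨1 * f x p, mv_htv hf p hp 1 x⟩⟩

omit hn in
theorem shift_mem_UU {p w : ι → F} (hp : f p p = 0) (hw : f w w = 0) (hpw : f p w = 0)
    (h : f (p + w) (p + w) = 0) : htv hf (p + w) h 1 * htv hf w hw 1 ∈ UU hf p := by
  have hwp : f w p = 0 := (f_eq_zero_comm hf).1 hpw
  refine ⟨Subgroup.mul_mem _ (tau_mem hf h2 hfix _ h) (tau_mem hf h2 hfix _ hw), ?_, fun x hx => ⟨f x w, ?_⟩⟩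
  · rw [mv_mul, htv_fix hf w hw 1 hpw, htv_fix hf _ h 1 (by rw [add_right hf, hp, hpw, add_zero])]
  · have hxp : f x p = 0 := (f_eq_zero_comm hf).1 hx
    simp only [mv_mul, mv_htv, one_mul, hf.add_left, add_right hf, hf.smul_left, hwp, hw, hxp, mul_zero,
      zero_add, add_zero, smul_add]
    linear_combination (norm := module) vadd_self hf h2 hfix (f x w • w)

omit hn in
theorem UU_eq_one {p d : ι → F} (hP : IsPlane f p d) {g : GL ι F} (hg : g ∈ UU hf p) (hgd : mv g d = d) :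
    g = 1 := by
  refine ext_mv fun x => ?_
  rw [mv_one]
  set w := x + f x d • p + f x p • d with hw
  have hwY : InY f p d w := by
    refine ⟨?_, ?_⟩ <;>
      simp only [hw, add_right hf, smul_right hf, hP.pp, hP.dd, hP.pd, hP.dp hf h2 hfix, ← hf.herm,
        mul_one, mul_zero, add_zero, zero_add, add_self hf h2 hfix]
  obtain ⟨c, hc⟩ := hg.2.2 w hwY.1
  have hc0 : c = 0 := by
    have h1 := hg.1.1 w d
    change f (mv g w) (mv g d) = f w d at h1
    rw [hgd, hc, hf.add_left, hf.smul_left, hP.pd, mul_one, add_eq_left] at h1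
    exact h1
  rw [hc0, zero_smul, add_zero] at hc
  have hx : x = f x d • p + f x p • d + w := by
    rw [hw]
    linear_combination (norm := module) -(vadd_self hf h2 hfix (f x d • p + f x p • d))
  conv_lhs => rw [hx, mv_add, mv_add, mv_smul, mv_smul, hg.2.1, hgd, hc]
  exact hx.symm

omit hn in
/-- An element of the unipotent group fixing Y is the transvection of p. -/
theorem UU_trivial_on_Y {p d : ι → F} (hP : IsPlane f p d) {g : GL ι F} (hg : g ∈ UU hf p)
    (hY : ∀ w, InY f p d w → mv g w = w) : g = 1 ∨ g = htv hf p hP.pp 1 := by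
  have hgf : ∀ u v, f (mv g u) (mv g v) = f u v := fun u v => hg.1.1 u v
  set δ := mv g d + d with hδ
  have hgd : mv g d = d + δ := by rw [hδ, ← add_assoc, add_comm d, add_assoc, vadd_self hf h2 hfix, add_zero]
  have hpgd : f p (mv g d) = 1 := by
    have := hgf p d
    rwa [hg.2.1, hP.pd] at this
  -- the image of d differs from d by a multiple of p
  have hδ' : δ = f δ d • p := by
    set w := δ + f δ d • p with hw
    have hwY : InY f p d w := by
      refine ⟨?_, ?_⟩
      · rw [hw, add_right hf, smul_right hf, hP.pp, mul_zero, add_zero, hδ, add_right hf, hpgd, hP.pd,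
          add_self hf h2 hfix]
      · rw [hw, add_right hf, smul_right hf, hP.dp hf h2 hfix, mul_one, ← hf.herm, add_self hf h2 hfix]
    by_contra hne
    have hw0 : w ≠ 0 := fun h0 => hne (by
      have := congrArg (· + f δ d • p) h0
      simpa [hw, add_assoc, vadd_self hf h2 hfix] using this)
    obtain ⟨z, hz⟩ := (hf.nondegenerate w hw0).1
    set z' := z + f z d • p + f z p • d with hz'
    have hz'Y : InY f p d z' := by
      refine ⟨?_, ?_⟩ <;>
        simp only [hz', add_right hf, smul_right hf, hP.pp, hP.dd, hP.pd, hP.dp hf h2 hfix, ← hf.herm,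
          mul_one, mul_zero, add_zero, zero_add, add_self hf h2 hfix]
    have hz'w : f z' w = f z w := by
      rw [hz', hf.add_left, hf.add_left, hf.smul_left, hf.smul_left, hwY.1, hwY.2, mul_zero, mul_zero,
        add_zero, add_zero]
    have h1 := hgf z' d
    rw [hY z' hz'Y, hgd, add_right hf, add_eq_left] at h1
    refine hz (hz'w ▸ ?_)
    rw [hw, add_right hf, smul_right hf, (f_eq_zero_comm hf).1 hz'Y.1, mul_zero, add_zero, h1]
  set l := f δ d
  have hl : σ l = l := by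
    have h1 := hgf d d
    rw [hgd, hδ', hP.dd] at h1
    simp only [hf.add_left, add_right hf, hf.smul_left, smul_right hf, hP.dd, hP.pd, hP.pp,
      hP.dp hf h2 hfix, mul_one, mul_zero, add_zero, zero_add] at h1
    linear_combination h1 - l * h2
  rcases hfix l hl with h0 | h1
  · exact Or.inl (UU_eq_one hf h2 hfix hP hg (by rw [hgd, hδ', h0, zero_smul, add_zero]))
  · right
    have := UU_eq_one hf h2 hfix hP
      (Subgroup.mul_mem _ (Subgroup.inv_mem _ (tau_mem_UU hf h2 hfix hP.pp)) hg) (by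
        rw [mv_mul, hgd, hδ', h1, one_smul]
        refine ((mv_eq_iff _).1 ?_).symm
        rw [mv_htv, hP.dp hf h2 hfix, one_mul, one_smul])
    exact (inv_mul_eq_one.1 this).symm

variable {H : Subgroup (GL ι F)}

/-- The shifts move a partner anywhere. -/
theorem exists_shift {p d : ι → F} (hP : IsPlane f p d) (hHp : htv hf p hP.pp 1 ∈ H)
    (hHs : ∀ w (hw : f w w = 0) (h : f (p + w) (p + w) = 0), InY f p d w →
      htv hf (p + w) h 1 * htv hf w hw 1 ∈ H) {d' : ι → F} (hd' : IsPlane f p d') :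
    ∃ u ∈ H ⊓ UU hf p, mv u d = d' := by
  have hdp := hP.dp hf h2 hfix
  have s : ∀ w, InY f p d w → f w w = 0 → ∀ x, f x w = 0 → f x p = 1 →
      ∃ u ∈ H ⊓ UU hf p, mv u x = x + (p + w) := by
    intro w hw hww x hxw hxp
    have hpw := hw.1
    have hwp : f w p = 0 := (f_eq_zero_comm hf).1 hpw
    have h : f (p + w) (p + w) = 0 := by
      rw [hf.add_left, add_right hf, add_right hf, hP.pp, hpw, hwp, hww, add_zero, add_zero]
    refine ⟨_, ⟨hHs w hww h hw, shift_mem_UU hf h2 hfix hP.pp hww hpw h⟩, ?_⟩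
    rw [mv_mul, htv_fix hf w hww 1 hxw, mv_htv, add_right hf, hxp, hxw, add_zero, one_mul, one_smul]
  have hT : htv hf p hP.pp 1 ∈ H ⊓ UU hf p := ⟨hHp, tau_mem_UU hf h2 hfix hP.pp⟩
  -- it is enough to reach d' up to a multiple of p
  suffices H' : ∃ u ∈ H ⊓ UU hf p, ∃ c : F, mv u d = d' + c • p by
    obtain ⟨u, hu, c, hc⟩ := H'
    have hiso : f (mv u d) (mv u d) = 0 := (hu.2.1.1 d d).trans hP.dd
    rw [hc] at hiso
    simp only [hf.add_left, add_right hf, hf.smul_left, smul_right hf, hd'.dd, hd'.pp, hd'.pd,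
      hd'.dp hf h2 hfix, mul_one, mul_zero, add_zero, zero_add] at hiso
    rcases hfix c (by linear_combination hiso - c * h2) with h0 | h1
    · exact ⟨u, hu, by rw [hc, h0, zero_smul, add_zero]⟩
    · refine ⟨_, Subgroup.mul_mem _ hT hu, ?_⟩
      rw [mv_mul, hc, h1, one_smul, mv_htv, hf.add_left, hd'.dp hf h2 hfix, hP.pp, add_zero, one_mul, one_smul,
        add_assoc, vadd_self hf h2 hfix, add_zero]
  set w := d' + d + f d' d • p with hw
  have hwY : InY f p d w := by
    refine ⟨?_, ?_⟩ <;>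
      simp only [hw, add_right hf, smul_right hf, hP.pp, hP.dd, hP.pd, hd'.pd, hdp, ← hf.herm,
        mul_one, mul_zero, add_zero, zero_add, add_self hf h2 hfix]
  have hd'eq : d' = d + w + f d' d • p := by
    rw [hw]
    linear_combination (norm := module) -(vadd_self hf h2 hfix (d + f d' d • p))
  by_cases hww : f w w = 0
  · by_cases hw0 : w = 0
    · exact ⟨1, Subgroup.one_mem _, f d' d, by
        rw [mv_one]; rw [hw0, add_zero] at hd'eq
        linear_combination (norm := module) -hd'eq - vadd_self hf h2 hfix (f d' d • p)⟩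
    obtain ⟨u, hu, hud⟩ := s w hwY hww d hwY.2 hdp
    refine ⟨u, hu, f d' d + 1, ?_⟩
    rw [hud]
    linear_combination (norm := module) -hd'eq - vadd_self hf h2 hfix (f d' d • p)
  -- split w into two isotropic vectors
  obtain ⟨e₁, he₁, he₁e₁, he₁w⟩ := exists_isotropic_not_orth hf
    (nondeg_orth hf (nondeg_pair hf hP.pp hP.dd hP.pd).1) (by rw [finrank_Y hf h2 hfix hn hP]; norm_num)
    ((mem_Y hf h2 hfix).2 hwY) (fun h => hww (by rw [h, zero_left hf]))
  obtain ⟨b, hb⟩ := exists_trace hf.ne_refl hf.involutive 1 (map_one σ)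
  set w₁ := (b / f e₁ w) • e₁ with hw₁
  have hw₁Y : InY f p d w₁ := by
    have := (mem_Y hf h2 hfix).1 he₁
    exact ⟨by rw [hw₁, smul_right hf, this.1, mul_zero], by rw [hw₁, smul_right hf, this.2, mul_zero]⟩
  have hw₁w₁ : f w₁ w₁ = 0 := by rw [hw₁, hf.smul_left, smul_right hf, he₁e₁, mul_zero, mul_zero]
  have hw₁w : f w₁ w = b := by rw [hw₁, hf.smul_left, div_mul_cancel₀ _ he₁w]
  clear_value w
  set w₂ := w + w₁ with hw₂
  have hw₂Y : InY f p d w₂ := ⟨by rw [hw₂, add_right hf, hwY.1, hw₁Y.1, add_zero],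
    by rw [hw₂, add_right hf, hwY.2, hw₁Y.2, add_zero]⟩
  have hw₂w₂ : f w₂ w₂ = 0 := by
    rw [hw₂, hf.add_left, add_right hf, add_right hf, hw₁w₁, hf.herm w w₁, hw₁w,
      self_eq_one hf h2 hfix hww, add_zero]
    linear_combination hb + h2
  obtain ⟨u₁, hu₁, hu₁d⟩ := s w₁ hw₁Y hw₁w₁ d hw₁Y.2 hdp
  obtain ⟨u₂, hu₂, hu₂d⟩ := s w₂ hw₂Y hw₂w₂ d hw₂Y.2 hdp
  obtain ⟨c, hc⟩ := hu₂.2.2.2 w₁ hw₁Y.1
  refine ⟨u₂ * u₁, Subgroup.mul_mem _ hu₂ hu₁, f d' d + c, ?_⟩
  rw [mv_mul, hu₁d, mv_add, mv_add, hu₂.2.2.1, hu₂d, hc, hw₂]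
  linear_combination (norm := module)
    vadd_self hf h2 hfix (p + w₁) - hd'eq - vadd_self hf h2 hfix (f d' d • p)

/-- The shifts generate the unipotent group. -/
theorem UU_le {p d : ι → F} (hP : IsPlane f p d) (hHp : htv hf p hP.pp 1 ∈ H)
    (hHs : ∀ w (hw : f w w = 0) (h : f (p + w) (p + w) = 0), InY f p d w →
      htv hf (p + w) h 1 * htv hf w hw 1 ∈ H) : UU hf p ≤ H := by
  intro g hg
  have hgd : IsPlane f p (mv g d) := ⟨hP.pp, (hg.1.1 d d).trans hP.dd, by
    have h1 := hg.1.1 p d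
    change f (mv g p) (mv g d) = f p d at h1
    rwa [hg.2.1, hP.pd] at h1⟩
  obtain ⟨u, hu, hud⟩ := exists_shift hf h2 hfix hn hP hHp hHs hgd
  have := UU_eq_one hf h2 hfix hP (Subgroup.mul_mem _ (Subgroup.inv_mem _ hu.2) hg)
    (by rw [mv_mul]; exact ((mv_eq_iff u).1 hud).symm)
  rw [inv_mul_eq_one] at this
  exact this ▸ hu.1

variable (f) in
/-- The elements fixing a flag pointwise inside Y. -/
def IsR (p d y a : ι → F) (g : GL ι F) : Prop :=
  g ∈ SS ∧ mv g p = p ∧ mv g d = d ∧ mv g y = y ∧ ∃ b : F, mv g a = a + b • y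

/-- The group of such elements. -/
def RR (_hf : Geo.IsUnitaryForm σ f) (p d y a : ι → F) : Subgroup (GL ι F) where
  carrier := {g | IsR f p d y a g}
  one_mem' := ⟨Subgroup.one_mem _, mv_one _, mv_one _, mv_one _, 0, by rw [mv_one, zero_smul, add_zero]⟩
  mul_mem' := fun {g h} hg hh => by
    obtain ⟨b, hb⟩ := hg.2.2.2.2
    obtain ⟨b', hb'⟩ := hh.2.2.2.2
    exact ⟨Subgroup.mul_mem _ hg.1 hh.1, by rw [mv_mul, hh.2.1, hg.2.1], by rw [mv_mul, hh.2.2.1, hg.2.2.1],
      by rw [mv_mul, hh.2.2.2.1, hg.2.2.2.1], b + b',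
      by rw [mv_mul, hb', mv_add, mv_smul, hg.2.2.2.1, hb, add_smul, add_assoc]⟩
  inv_mem' := fun {g} hg => by
    obtain ⟨b, hb⟩ := hg.2.2.2.2
    refine ⟨Subgroup.inv_mem _ hg.1, ((mv_eq_iff g).1 hg.2.1).symm, ((mv_eq_iff g).1 hg.2.2.1).symm,
      ((mv_eq_iff g).1 hg.2.2.2.1).symm, -b, ?_⟩
    have h1 : mv g⁻¹ (mv g a) = mv g⁻¹ (a + b • y) := by rw [hb]
    rw [mv_inv_mv, mv_add, mv_smul, ← (mv_eq_iff g).1 hg.2.2.2.1] at h1
    rw [neg_smul, ← sub_eq_add_neg, eq_sub_iff_add_eq]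
    exact h1.symm

theorem RR_le_UU {p d y y' a : ι → F} (h : IsFrame f p d y y' a) : RR hf p d y a ≤ UU hf y := by
  intro g hg
  obtain ⟨b, hb⟩ := hg.2.2.2.2
  refine ⟨hg.1, hg.2.2.2.1, fun x hx => ⟨f x a * b, ?_⟩⟩
  have hdec := frame_decomp hf h2 hfix hn h x
  rw [(f_eq_zero_comm hf).1 hx, zero_smul, add_zero] at hdec
  conv_lhs => rw [hdec]
  simp only [mv_add, mv_smul, hg.2.1, hg.2.2.1, hg.2.2.2.1, hb]
  linear_combination (norm := module) -hdec

omit hn in
theorem RR_inY {p d y a : ι → F} {g : GL ι F} (hg : g ∈ RR hf p d y a) {w : ι → F} (hw : InY f p d w) :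
    InY f p d (mv g w) := by
  have h1 := hg.1.1 p w
  have h1' := hg.1.1 d w
  change f (mv g p) (mv g w) = f p w at h1
  change f (mv g d) (mv g w) = f d w at h1'
  rw [hg.2.1] at h1
  rw [hg.2.2.1] at h1'
  exact ⟨h1.trans hw.1, h1'.trans hw.2⟩

omit hn in
theorem UU_inter_RR {p d y a : ι → F} (hP : IsPlane f p d) {g : GL ι F} (hU : g ∈ UU hf p)
    (hR : g ∈ RR hf p d y a) : g = 1 :=
  UU_eq_one hf h2 hfix hP hU hR.2.2.1

omit hn in
theorem RR_normalizes {p d y a : ι → F} {g u : GL ι F} (hg : g ∈ RR hf p d y a) (hu : u ∈ UU hf p) :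
    g * u * g⁻¹ ∈ UU hf p := by
  have hgp := hg.2.1
  have hgi : mv g⁻¹ p = p := ((mv_eq_iff g).1 hgp).symm
  refine ⟨Subgroup.mul_mem _ (Subgroup.mul_mem _ hg.1 hu.1) (Subgroup.inv_mem _ hg.1),
    by rw [mv_mul, mv_mul, hgi, hu.2.1, hgp], fun x hx => ?_⟩
  have hx' : f p (mv g⁻¹ x) = 0 := by
    have h1 := (Subgroup.inv_mem _ hg.1 : g⁻¹ ∈ SS).1 p x
    change f (mv g⁻¹ p) (mv g⁻¹ x) = f p x at h1
    rwa [hgi, hx] at h1
  obtain ⟨c, hc⟩ := hu.2.2 _ hx'
  exact ⟨c, by rw [mv_mul, mv_mul, hc, mv_add, mv_smul, hgp, mv_mv_inv]⟩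

omit hn in
theorem exists_fixed_vector {K : Subgroup (GL ι F)} (hK : IsPGroup 2 K)
    (A : GL ι F → (ι → F) → (ι → F)) {X : Submodule F (ι → F)} (hX : X ≠ ⊥)
    (h1 : ∀ x ∈ X, A 1 x = x) (hmul : ∀ g ∈ K, ∀ h ∈ K, ∀ x ∈ X, A (g * h) x = A g (A h x))
    (hmem : ∀ g ∈ K, ∀ x ∈ X, A g x ∈ X) (hzero : ∀ g ∈ K, A g 0 = 0) :
    ∃ v ∈ X, v ≠ 0 ∧ ∀ g ∈ K, A g v = v := by
  letI : MulAction K X :=
    { smul := fun g x => ⟨A g x, hmem g g.2 x x.2⟩
      one_smul := fun x => Subtype.ext (h1 x x.2)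
      mul_smul := fun g h x => Subtype.ext (hmul g g.2 h h.2 x x.2) }
  have hdvd : 2 ∣ Nat.card X := by
    obtain ⟨x, hx, hx0⟩ := X.ne_bot_iff.1 hX
    have ho : addOrderOf (⟨x, hx⟩ : X) = 2 :=
      addOrderOf_eq_prime (Subtype.ext (by
        rw [two_nsmul, Submodule.coe_add]; exact vadd_self hf h2 hfix x)) (fun h => hx0 (congrArg Subtype.val h))
    exact ho ▸ addOrderOf_dvd_natCard _
  have h0 : (0 : X) ∈ MulAction.fixedPoints K X := fun g => Subtype.ext (hzero g g.2)
  obtain ⟨v, hv, hv0⟩ := hK.exists_fixed_point_of_prime_dvd_card_of_fixed_point X hdvd h0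
  exact ⟨v, v.2, fun h => hv0 (Subtype.ext h.symm), fun g hg => congrArg Subtype.val (hv ⟨g, hg⟩)⟩

omit hn in
theorem exists_fixed_isotropic {K : Subgroup (GL ι F)} (hK : IsPGroup 2 K)
    (A : GL ι F → (ι → F) → (ι → F)) {X : Submodule F (ι → F)} (hX : Nondeg hf X)
    (hdim : 2 ≤ Module.finrank F X)
    (h1 : ∀ x ∈ X, A 1 x = x) (hmul : ∀ g ∈ K, ∀ h ∈ K, ∀ x ∈ X, A (g * h) x = A g (A h x))
    (hmem : ∀ g ∈ K, ∀ x ∈ X, A g x ∈ X)
    (hadd : ∀ g ∈ K, ∀ x ∈ X, ∀ y ∈ X, A g (x + y) = A g x + A g y)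
    (hiso : ∀ g ∈ K, ∀ x ∈ X, ∀ y ∈ X, f (A g x) (A g y) = f x y) :
    ∃ v ∈ X, v ≠ 0 ∧ f v v = 0 ∧ ∀ g ∈ K, A g v = v := by
  have hz : ∀ g ∈ K, A g 0 = 0 := fun g hg => by
    have := hadd g hg 0 X.zero_mem 0 X.zero_mem
    rwa [add_zero, vadd_self hf h2 hfix] at this
  obtain ⟨v, hv, hv0, hvK⟩ := exists_fixed_vector hf h2 hfix hK A
    (fun h => by rw [h, finrank_bot] at hdim; omega) h1 hmul hmem hz
  by_cases hvv : f v v = 0
  · exact ⟨v, hv, hv0, hvv, hvK⟩
  have hle : Submodule.span F {v} ≤ X := (Submodule.span_singleton_le_iff_mem _ _).2 hv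
  have hsum := finrank_inf_orth_add hf (nondeg_span_single hf hvv) hle
  rw [finrank_span_single hf hvv] at hsum
  set X' := X ⊓ orth hf (Submodule.span F {v}) with hX'
  obtain ⟨w, hw, hw0, hwK⟩ := exists_fixed_vector hf h2 hfix hK A (X := X')
    (fun h => by rw [h, finrank_bot] at hsum; omega) (fun x hx => h1 x hx.1)
    (fun g hg h hh x hx => hmul g hg h hh x hx.1)
    (fun g hg x hx => ⟨hmem g hg x hx.1, (orth_span_single_mem hf).2 (by
      have h3 := hiso g hg v hv x hx.1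
      rw [hvK g hg] at h3
      exact h3.trans ((orth_span_single_mem hf).1 hx.2))⟩) hz
  by_cases hww : f w w = 0
  · exact ⟨w, hw.1, hw0, hww, hwK⟩
  have hvw : f v w = 0 := (orth_span_single_mem hf).1 hw.2
  refine ⟨v + w, X.add_mem hv hw.1, fun h => ?_, ?_, fun g hg => by rw [hadd g hg v hv w hw.1, hvK g hg, hwK g hg]⟩
  · have := congrArg (fun x => f x v) h
    simp only [hf.add_left, (f_eq_zero_comm hf).1 hvw, zero_left hf, add_zero] at this
    exact hvv this
  · simp only [hf.add_left, add_right hf, hvw, (f_eq_zero_comm hf).1 hvw, self_eq_one hf h2 hfix hvv,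
      self_eq_one hf h2 hfix hww, add_zero, zero_add, add_self hf h2 hfix]

/-- A 2-subgroup lies in the product of a unipotent group with the pointwise stabiliser of a flag. -/
theorem exists_flag {K : Subgroup (GL ι F)} (hK : IsPGroup 2 K) (hKS : K ≤ SS) :
    ∃ p d y y' a, IsFrame f p d y y' a ∧ ∀ g ∈ K, ∃ u ∈ UU hf p, u⁻¹ * g ∈ RR hf p d y a := by
  obtain ⟨p, -, hp0, hpp, hpK⟩ := exists_fixed_isotropic hf h2 hfix hK (fun g x => mv g x) (nondeg_top hf)
    (by rw [finrank_top, Module.finrank_pi, hn]; norm_num) (fun x _ => mv_one x)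
    (fun g _ h _ x _ => mv_mul g h x) (fun _ _ _ _ => Submodule.mem_top) (fun g _ x _ y _ => mv_add g x y)
    (fun g hg x _ y _ => (hKS hg).1 x y)
  obtain ⟨d, -, hpd, hdd⟩ := exists_partner hf (nondeg_top hf) (Submodule.mem_top (x := p)) hp0 hpp
  have hP : IsPlane f p d := ⟨hpp, hdd, hpd⟩
  set Y := orth hf (Submodule.span F ({p, d} : Set (ι → F))) with hY
  have hgp : ∀ g ∈ K, ∀ x, f p x = 0 → f p (mv g x) = 0 := fun g hg x hx => by
    have h1 := (hKS hg).1 p x
    change f (mv g p) (mv g x) = f p x at h1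
    rwa [hpK g hg, hx] at h1
  have hprp : ∀ (c : F) x, pr hf p d (x + c • p) = pr hf p d x := fun c x => by
    simp only [pr, hf.add_left, hf.smul_left, hpd, mul_one]
    linear_combination (norm := module) vadd_self hf h2 hfix (c • p)
  set A : GL ι F → (ι → F) → (ι → F) := fun g x => pr hf p d (mv g x) with hA
  have hprg : ∀ g ∈ K, ∀ x, A g (pr hf p d x) = A g x := fun g hg x => by
    show pr hf p d (mv g (x + f x d • p)) = pr hf p d (mv g x)
    rw [mv_add, mv_smul, hpK g hg, hprp]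
  obtain ⟨y, hyY, hy0, hyy, hyK⟩ := exists_fixed_isotropic hf h2 hfix hK A
    (nondeg_orth hf (nondeg_pair hf hpp hdd hpd).1) (by rw [finrank_Y hf h2 hfix hn hP]; norm_num)
    (fun x hx => by
      show pr hf p d (mv (1 : GL ι F) x) = x
      rw [mv_one, pr, (f_eq_zero_comm hf).1 ((mem_Y hf h2 hfix).1 hx).2, zero_smul, add_zero])
    (fun g hg h hh x hx => by
      show pr hf p d (mv (g * h) x) = A g (pr hf p d (mv h x))
      rw [hprg g hg, mv_mul])
    (fun g hg x hx => (mem_Y hf h2 hfix).2 (pr_mem hf h2 hfix hP (hgp g hg x ((mem_Y hf h2 hfix).1 hx).1)))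
    (fun g hg x hx z hz => by
      simp only [hA, pr, mv_add, hf.add_left]
      module)
    (fun g hg x hx z hz => by
      have e1 := hgp g hg x ((mem_Y hf h2 hfix).1 hx).1
      have e2 := hgp g hg z ((mem_Y hf h2 hfix).1 hz).1
      simp only [hA, pr, hf.add_left, add_right hf, hf.smul_left, smul_right hf, hpp, e2,
        (f_eq_zero_comm hf).1 e1, mul_zero, add_zero]
      exact (hKS hg).1 x z)
  have hyY' := (mem_Y hf h2 hfix).1 hyY
  obtain ⟨y', a, hF⟩ := exists_frame hf h2 hfix hn hP hyY' hy0 hyy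
  refine ⟨p, d, y, y', a, hF, fun g hg => ?_⟩
  have hgd : IsPlane f p (mv g d) := ⟨hpp, ((hKS hg).1 d d).trans hdd, by
    have h1 := (hKS hg).1 p d
    change f (mv g p) (mv g d) = f p d at h1
    rwa [hpK g hg, hpd] at h1⟩
  obtain ⟨u, hu, hud⟩ := exists_shift hf h2 hfix hn hP (H := ⊤) (Subgroup.mem_top _)
    (fun _ _ _ _ => Subgroup.mem_top _) hgd
  refine ⟨u, hu.2, ?_⟩
  -- the multiplier at a
  have key : ∀ h ∈ K, ∃ β : F, A h a = f (mv h a) a • a + β • y := by
    intro h hh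
    have e1 : InY f p d (A h a) := pr_mem hf h2 hfix hP (hgp h hh a hF.ha.1)
    have e2 : f (A h a) y = 0 := by
      have e3 : f (mv h a) (mv h y) = 0 := ((hKS hh).1 a y).trans ((f_eq_zero_comm hf).1 hF.ya)
      have e4 : mv h y = y + f (mv h y) d • p := by
        have := hyK h hh
        simp only [hA, pr] at this
        linear_combination (norm := module) this - vadd_self hf h2 hfix (f (mv h y) d • p)
      simp only [hA, pr, hf.add_left, hf.smul_left, hyY'.1, mul_zero, add_zero]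
      rw [e4, add_right hf, smul_right hf, (f_eq_zero_comm hf).1 (hgp h hh a hF.ha.1), mul_zero, add_zero] at e3
      exact e3
    refine ⟨f (A h a) y', ?_⟩
    have hdec := frame_decomp hf h2 hfix hn hF (A h a)
    rw [(f_eq_zero_comm hf).1 e1.1, (f_eq_zero_comm hf).1 e1.2, e2] at hdec
    have e5 : f (A h a) a = f (mv h a) a := by
      simp only [hA, pr, hf.add_left, hf.smul_left, hF.ha.1, mul_zero, add_zero]
    rw [e5] at hdec
    simp only [zero_smul, zero_add, add_zero] at hdec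
    linear_combination (norm := module) hdec
  set α : GL ι F → F := fun h => f (mv h a) a with hα
  have hαmul : ∀ h ∈ K, ∀ k ∈ K, α (h * k) = α k * α h := by
    intro h hh k hk
    obtain ⟨β, hβ⟩ := key k hk
    have e : A (h * k) a = α k • A h a + β • y := by
      have e1 : A (h * k) a = A h (A k a) := by
        show pr hf p d (mv (h * k) a) = A h (pr hf p d (mv k a))
        rw [hprg h hh, mv_mul]
      rw [e1, hβ]
      simp only [hA, pr, mv_add, mv_smul, hf.add_left, hf.smul_left, ← hα]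
      have := hyK h hh
      simp only [hA, pr] at this
      conv_rhs => rw [← this]
      module
    have h' := congrArg (fun x => f x a) e
    simp only [hA, pr, hf.add_left, hf.smul_left, hF.ha.1, hF.ya, mul_zero, add_zero] at h'
    exact h'
  have hα0 : ∀ h ∈ K, α h ≠ 0 := by
    intro h hh h0
    obtain ⟨β, hβ⟩ := key h hh
    rw [show f (mv h a) a = 0 from h0, zero_smul, zero_add] at hβ
    have h1 : f (A h a) (A h a) = 0 := by rw [hβ, hf.smul_left, smul_right hf, hyy, mul_zero, mul_zero]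
    have e2 := hgp h hh a hF.ha.1
    simp only [hA, pr, hf.add_left, add_right hf, hf.smul_left, smul_right hf, hpp, e2,
      (f_eq_zero_comm hf).1 e2, mul_zero, add_zero] at h1
    rw [show f (mv h a) (mv h a) = 1 from ((hKS hh).1 a a).trans hF.aa] at h1
    exact one_ne_zero h1
  have hαpow : ∀ h ∈ K, ∀ m : ℕ, α (h ^ m) = α h ^ m := by
    intro h hh m
    induction m with
    | zero => simp only [pow_zero, hα, mv_one, hF.aa]
    | succ m ih => rw [pow_succ, hαmul _ (Subgroup.pow_mem _ hh m) h hh, ih, pow_succ', mul_comm]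
  have hα1 : α g = 1 := by
    obtain ⟨m, hm⟩ := hK ⟨g, hg⟩
    have h1 : g ^ 2 ^ m = 1 := congrArg Subtype.val hm
    have h2' : α g ^ 2 ^ m = 1 := by
      rw [← hαpow g hg, h1]
      simp only [hα, mv_one, hF.aa]
    have : CharP F 2 := CharTwo.of_one_ne_zero_of_two_eq_zero one_ne_zero h2
    have h3 : (α g + 1) ^ 2 ^ m = 0 := by rw [add_pow_char_pow, h2', one_pow, add_self hf h2 hfix]
    have h4 := pow_eq_zero_iff (n := 2 ^ m) (by positivity) |>.1 h3
    linear_combination h4 - h2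
  set g' := u⁻¹ * g with hg'
  have hu' := hu.2
  have hui : u⁻¹ ∈ UU hf p := Subgroup.inv_mem _ hu'
  have hg'd : mv g' d = d := by rw [hg', mv_mul]; exact ((mv_eq_iff u).1 hud).symm
  have hg'p : mv g' p = p := by rw [hg', mv_mul, hpK g hg, hui.2.1]
  have hg'S : g' ∈ SS := Subgroup.mul_mem _ hui.1 (hKS hg)
  have hA' : ∀ x, f p x = 0 → InY f p d x → mv g' x = A g x := by
    intro x hx hxY
    obtain ⟨c, hc⟩ := hui.2.2 _ (hgp g hg x hx)
    have e : InY f p d (mv g' x) := by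
      have h1 := hg'S.1 p x
      have h1' := hg'S.1 d x
      change f (mv g' p) (mv g' x) = f p x at h1
      change f (mv g' d) (mv g' x) = f d x at h1'
      rw [hg'p] at h1
      rw [hg'd] at h1'
      exact ⟨h1.trans hxY.1, h1'.trans hxY.2⟩
    rw [hg', mv_mul, hc] at e ⊢
    have hc' : c = f (mv g x) d := by
      have := (f_eq_zero_comm hf).1 e.2
      rw [hf.add_left, hf.smul_left, hpd, mul_one] at this
      linear_combination this - (f (mv g x) d) * h2
    rw [hc']; rfl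
  refine ⟨hg'S, hg'p, hg'd, ?_, ?_⟩
  · rw [hA' y hyY'.1 hyY']; exact hyK g hg
  · obtain ⟨β, hβ⟩ := key g hg
    refine ⟨β, ?_⟩
    rw [hA' a hF.ha.1 hF.ha, hβ, show f (mv g a) a = 1 from hα1, one_smul]

variable {om : F}

omit hn in
/-- Two transvections rotating an orthonormal pair. -/
theorem exists_rot (hw : om * om + om + 1 = 0) {n m : ι → F} (hnn : f n n = 1) (hmm : f m m = 1)
    (hnm : f n m = 0)
    (hH : ∀ v (hv : f v v = 0), (∀ x, f x n = 0 → f x m = 0 → f x v = 0) → htv hf v hv 1 ∈ H) :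
    ∃ g ∈ H, g ∈ SS ∧ mv g n = om • n ∧ mv g m = (om + 1) • m ∧
      ∀ x, f x n = 0 → f x m = 0 → mv g x = x := by
  have hmn : f m n = 0 := (f_eq_zero_comm hf).1 hnm
  have hom0 : om ≠ 0 := fun h => by simp [h] at hw
  have hσ : σ om = om + 1 := by
    refine mul_left_cancel₀ hom0 ((norm_one hf h2 hfix hom0).trans ?_)
    linear_combination -hw + h2
  have h₁ : f (n + m) (n + m) = 0 := by
    simp only [hf.add_left, add_right hf, hnn, hmm, hnm, hmn, add_zero, zero_add, add_self hf h2 hfix]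
  have h₂ : f (n + om • m) (n + om • m) = 0 := by
    simp only [hf.add_left, add_right hf, hf.smul_left, smul_right hf, hnn, hmm, hnm, hmn, mul_zero,
      mul_one, add_zero, zero_add, norm_one hf h2 hfix hom0, add_self hf h2 hfix]
  have hf₁ : ∀ x, f x n = 0 → f x m = 0 → f x (n + m) = 0 := fun x a b => by
    rw [add_right hf, a, b, add_zero]
  have hf₂ : ∀ x, f x n = 0 → f x m = 0 → f x (n + om • m) = 0 := fun x a b => by
    rw [add_right hf, smul_right hf, a, b, mul_zero, add_zero]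
  refine ⟨_, H.mul_mem (hH _ h₁ hf₁) (hH _ h₂ hf₂),
    Subgroup.mul_mem _ (tau_mem hf h2 hfix _ h₁) (tau_mem hf h2 hfix _ h₂), ?_, ?_,
    fun x a b => by rw [mv_mul, htv_fix hf _ h₂ 1 (hf₂ x a b), htv_fix hf _ h₁ 1 (hf₁ x a b)]⟩
  · funext i
    simp only [mv_mul, mv_htv, hf.add_left, add_right hf, hf.smul_left, smul_right hf, hnn, hmm, hnm, hmn,
      mul_zero, mul_one, one_mul, add_zero, zero_add, Pi.add_apply, Pi.smul_apply, smul_eq_mul, one_smul,
      smul_add]
    linear_combination (n i + m i + om * m i) * h2 + n i * h2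
  · funext i
    simp only [mv_mul, mv_htv, hf.add_left, add_right hf, hf.smul_left, smul_right hf, hnn, hmm, hnm, hmn,
      mul_zero, mul_one, one_mul, add_zero, zero_add, hσ, Pi.add_apply, Pi.smul_apply, smul_eq_mul, one_smul,
      smul_add]
    linear_combination (m i) * hw + (n i + om * n i + om * om * m i + m i) * h2 + (n i - m i) * hw + m i * om * h2

variable (f) in
/-- A scalar on Y which fixes the plane. -/
def IsZ (om : F) (p d : ι → F) (z : GL ι F) : Prop :=
  z ∈ SS ∧ mv z p = p ∧ mv z d = d ∧ ∀ w, InY f p d w → mv z w = om • w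

variable (f) in
/-- A scalar on the orthogonal of a, with the other scalar at a. -/
def IsZeta (om : F) (a : ι → F) (g : GL ι F) : Prop :=
  g ∈ SS ∧ mv g a = (om + 1) • a ∧ ∀ x, f x a = 0 → mv g x = om • x

theorem exists_Z (hw : om * om + om + 1 = 0) {p d : ι → F} (hP : IsPlane f p d)
    (hH : ∀ v (hv : f v v = 0), InY f p d v → htv hf v hv 1 ∈ H) :
    ∃ z ∈ H, IsZ f om p d z := by
  obtain ⟨y, hy, hy0, hyy⟩ := exists_Y_isotropic hf h2 hfix hn hP
  obtain ⟨y', a, hF⟩ := exists_frame hf h2 hfix hn hP hy hy0 hyy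
  have hom0 : om ≠ 0 := fun h => by simp [h] at hw
  have hσ : σ om = om + 1 := by
    refine mul_left_cancel₀ hom0 ((norm_one hf h2 hfix hom0).trans ?_)
    linear_combination -hw + h2
  have hσ' : σ (om + 1) = om := by rw [map_add, map_one, hσ]; linear_combination h2
  have hy'y := hF.Q.dp hf h2 hfix
  have hay : f a y = 0 := (f_eq_zero_comm hf).1 hF.ya
  have hay' : f a y' = 0 := (f_eq_zero_comm hf).1 hF.y'a
  set n₂ := y + om • y' with hn₂
  set n₃ := y + (om + 1) • y' with hn₃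
  have e22 : f n₂ n₂ = 1 := by
    simp only [hn₂, hf.add_left, add_right hf, hf.smul_left, smul_right hf, hF.Q.pp, hF.Q.dd, hF.Q.pd, hy'y,
      hσ, mul_zero, mul_one, add_zero, zero_add]
    linear_combination om * h2
  have e33 : f n₃ n₃ = 1 := by
    simp only [hn₃, hf.add_left, add_right hf, hf.smul_left, smul_right hf, hF.Q.pp, hF.Q.dd, hF.Q.pd, hy'y,
      hσ', mul_zero, mul_one, add_zero, zero_add]
    linear_combination om * h2
  have e23 : f n₂ n₃ = 0 := by
    simp only [hn₂, hn₃, hf.add_left, add_right hf, hf.smul_left, smul_right hf, hF.Q.pp, hF.Q.dd, hF.Q.pd,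
      hy'y, hσ', mul_zero, mul_one, add_zero, zero_add]
    linear_combination om * h2
  have ea2 : f a n₂ = 0 := by rw [hn₂, add_right hf, smul_right hf, hay, hay', mul_zero, add_zero]
  have ea3 : f a n₃ = 0 := by rw [hn₃, add_right hf, smul_right hf, hay, hay', mul_zero, add_zero]
  have hpn : ∀ (c : F), InY f p d (y + c • y') := fun c =>
    ⟨by rw [add_right hf, smul_right hf, hF.hy.1, hF.hy'.1, mul_zero, add_zero],
      by rw [add_right hf, smul_right hf, hF.hy.2, hF.hy'.2, mul_zero, add_zero]⟩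
  have hH' : ∀ n m, InY f p d n → InY f p d m → ∀ v (hv : f v v = 0),
      (∀ x, f x n = 0 → f x m = 0 → f x v = 0) → htv hf v hv 1 ∈ H := fun n m hn hm v hv h =>
    hH v hv ⟨h p hn.1 hm.1, h d hn.2 hm.2⟩
  obtain ⟨r₁, hr₁, hr₁S, r1a, r12, r1x⟩ := exists_rot hf h2 hfix hw hF.aa e22 ea2
    (hH' a n₂ hF.ha (hpn om))
  obtain ⟨r₂, hr₂, hr₂S, r22, r23, r2x⟩ := exists_rot hf h2 hfix hw e22 e33 e23
    (hH' n₂ n₃ (hpn om) (hpn _))
  have homsq : om * om = om + 1 := by linear_combination hw - (om + 1) * h2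
  have hom1sq : (om + 1) * (om + 1) = om := by linear_combination homsq + (om + 1) * h2 - 0 * hw
  refine ⟨r₁ * (r₂ * r₂), H.mul_mem hr₁ (H.mul_mem hr₂ hr₂),
    Subgroup.mul_mem _ hr₁S (Subgroup.mul_mem _ hr₂S hr₂S), ?_, ?_, fun w hwY => ?_⟩
  · rw [mv_mul, mv_mul, r2x p (hpn om).1 (hpn _).1, r2x p (hpn om).1 (hpn _).1, r1x p hF.ha.1 (hpn om).1]
  · rw [mv_mul, mv_mul, r2x d (hpn om).2 (hpn _).2, r2x d (hpn om).2 (hpn _).2, r1x d hF.ha.2 (hpn om).2]
  · have za : mv (r₁ * (r₂ * r₂)) a = om • a := by rw [mv_mul, mv_mul, r2x a ea2 ea3, r2x a ea2 ea3, r1a]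
    have z2 : mv (r₁ * (r₂ * r₂)) n₂ = om • n₂ := by
      rw [mv_mul, mv_mul, r22, mv_smul, r22, mv_smul, mv_smul, r12, smul_smul, smul_smul]
      congr 1
      linear_combination (om + 1) * homsq + hom1sq
    have z3 : mv (r₁ * (r₂ * r₂)) n₃ = om • n₃ := by
      rw [mv_mul, mv_mul, r23, mv_smul, r23, mv_smul, mv_smul, r1x n₃ ((f_eq_zero_comm hf).1 ea3)
        ((f_eq_zero_comm hf).1 e23), smul_smul, hom1sq]
    have hy_eq : y = (om + 1) • n₂ + om • n₃ := by
      funext i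
      simp only [hn₂, hn₃, Pi.add_apply, Pi.smul_apply, smul_eq_mul]
      linear_combination -(om * y i + om * om * y' i + om * y' i) * h2
    have hy'_eq : y' = n₂ + n₃ := by
      funext i
      simp only [hn₂, hn₃, Pi.add_apply, Pi.smul_apply, smul_eq_mul]
      linear_combination -(y i + om * y' i) * h2
    have zy : mv (r₁ * (r₂ * r₂)) y = om • y := by
      conv_lhs => rw [hy_eq]
      rw [mv_add, mv_smul, mv_smul, z2, z3]
      conv_rhs => rw [hy_eq]
      module
    have zy' : mv (r₁ * (r₂ * r₂)) y' = om • y' := by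
      conv_lhs => rw [hy'_eq]
      rw [mv_add, z2, z3]
      conv_rhs => rw [hy'_eq]
      module
    have hdec := frame_decomp hf h2 hfix hn hF w
    rw [(f_eq_zero_comm hf).1 hwY.1, (f_eq_zero_comm hf).1 hwY.2] at hdec
    simp only [zero_smul, zero_add] at hdec
    conv_lhs => rw [hdec]
    simp only [mv_add, mv_smul, zy, zy', za]
    conv_rhs => rw [hdec]
    module

theorem Z_mul_eq_zeta (hw : om * om + om + 1 = 0) {p d y y' a : ι → F} (hF : IsFrame f p d y y' a)
    {z z' : GL ι F} (hz : IsZ f om p d z) (hz' : IsZ f om y y' z') : IsZeta f om a (z * z') := by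
  have hF' := isFrame_swap hf h2 hfix hF
  refine ⟨Subgroup.mul_mem _ hz.1 hz'.1, ?_, fun x hx => ?_⟩
  · rw [mv_mul, hz'.2.2.2 a hF'.ha, mv_smul, hz.2.2.2 a hF.ha, smul_smul,
      show om * om = om + 1 by linear_combination hw - (om + 1) * h2]
  · have hdec := frame_decomp hf h2 hfix hn hF x
    rw [hx, zero_smul, add_zero] at hdec
    have e1 : mv (z * z') p = om • p := by rw [mv_mul, hz'.2.2.2 p hF'.hy, mv_smul, hz.2.1]
    have e2 : mv (z * z') d = om • d := by rw [mv_mul, hz'.2.2.2 d hF'.hy', mv_smul, hz.2.2.1]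
    have e3 : mv (z * z') y = om • y := by rw [mv_mul, hz'.2.1, hz.2.2.2 y hF.hy]
    have e4 : mv (z * z') y' = om • y' := by rw [mv_mul, hz'.2.2.1, hz.2.2.2 y' hF.hy']
    conv_lhs => rw [hdec]
    simp only [mv_add, mv_smul, e1, e2, e3, e4]
    conv_rhs => rw [hdec]
    module

omit hn in
theorem IsZeta.unique {a : ι → F} (haa : f a a = 1) {g h : GL ι F} (hg : IsZeta f om a g)
    (hh : IsZeta f om a h) : g = h := by
  refine ext_mv fun x => ?_
  set x' := x + f x a • a with hx'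
  have h0 : f x' a = 0 := by rw [hx', hf.add_left, hf.smul_left, haa, mul_one, add_self hf h2 hfix]
  have hx : x = x' + f x a • a := by rw [hx', add_assoc, vadd_self hf h2 hfix, add_zero]
  clear_value x'
  rw [hx, mv_add, mv_add, mv_smul, mv_smul, hg.2.1, hh.2.1, hg.2.2 x' h0, hh.2.2 x' h0]

theorem IsZ.unique {p d : ι → F} (hP : IsPlane f p d) {g h : GL ι F} (hg : IsZ f om p d g)
    (hh : IsZ f om p d h) : g = h := by
  refine ext_mv fun x => ?_
  set w := x + f x d • p + f x p • d with hw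
  have hwY : InY f p d w := by
    refine ⟨?_, ?_⟩ <;>
      simp only [hw, add_right hf, smul_right hf, hP.pp, hP.dd, hP.pd, hP.dp hf h2 hfix, ← hf.herm,
        mul_one, mul_zero, add_zero, zero_add, add_self hf h2 hfix]
  have hx : x = f x d • p + f x p • d + w := by
    rw [hw]
    linear_combination (norm := module) -(vadd_self hf h2 hfix (f x d • p + f x p • d))
  rw [hx]
  simp only [mv_add, mv_smul, hg.2.1, hh.2.1, hg.2.2.1, hh.2.2.1, hg.2.2.2 w hwY, hh.2.2.2 w hwY]

/-- A frame through a given unit vector and a given isotropic vector orthogonal to it. -/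
theorem frame_of_unit {a v : ι → F} (haa : f a a = 1) (hvv : f v v = 0) (hv0 : v ≠ 0) (hav : f a v = 0) :
    ∃ d y y', IsFrame f v d y y' a := by
  have haa' : f a a ≠ 0 := by rw [haa]; exact one_ne_zero
  set X := orth hf (Submodule.span F {a}) with hXdef
  have hX : Nondeg hf X := nondeg_orth hf (nondeg_span_single hf haa')
  have hvX : v ∈ X := (orth_span_single_mem hf).2 hav
  obtain ⟨d, hdX, hvd, hdd⟩ := exists_partner hf hX hvX hv0 hvv
  obtain ⟨hP, hP2⟩ := nondeg_pair hf hvv hdd hvd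
  have hle : Submodule.span F ({v, d} : Set (ι → F)) ≤ X := Submodule.span_le.2 (by
    rintro w (rfl | rfl) <;> assumption)
  set Y := X ⊓ orth hf (Submodule.span F ({v, d} : Set (ι → F))) with hY
  have hX4 : 1 + Module.finrank F X = 5 :=
    (congrArg (· + _) (finrank_span_single hf haa').symm).trans
      ((finrank_orth_add hf (nondeg_span_single hf haa')).trans ((Module.finrank_pi F).trans hn))
  have hY2 : 2 + Module.finrank F Y = Module.finrank F X :=
    (congrArg (· + _) hP2.symm).trans (finrank_inf_orth_add hf hP hle)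
  have hYn : Nondeg hf Y := nondeg_inf_orth hf hP hX hle
  obtain ⟨y, hy, hy0, hyy⟩ := exists_isotropic hf hYn (by linarith)
  obtain ⟨y', hy', hyy', hy'y'⟩ := exists_partner hf hYn hy hy0 hyy
  exact ⟨d, y, y', ⟨hvv, hdd, hvd⟩, ⟨hyy, hy'y', hyy'⟩, (mem_Y hf h2 hfix).1 hy.2, (mem_Y hf h2 hfix).1 hy'.2,
    ⟨(f_eq_zero_comm hf).1 hav, (f_eq_zero_comm hf).1 ((orth_span_single_mem hf).1 hdX)⟩,
    (f_eq_zero_comm hf).1 ((orth_span_single_mem hf).1 hy.1),
    (f_eq_zero_comm hf).1 ((orth_span_single_mem hf).1 hy'.1), haa⟩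

/-- Scalar-type elements of a plane are obtained from those of a vector. -/
theorem exists_Z_twist (hw : om * om + om + 1 = 0) {p d y y' a : ι → F} (hF : IsFrame f p d y y' a)
    {ζ : GL ι F} (hζ : IsZeta f om a ζ) (hH : ∀ v (hv : f v v = 0), f a v = 0 → htv hf v hv 1 ∈ H) :
    ∃ g ∈ H, IsZ f om p d (g * ζ * (g * ζ)) := by
  have hom0 : om ≠ 0 := fun h => by simp [h] at hw
  have hσ : σ om = om + 1 := by
    refine mul_left_cancel₀ hom0 ((norm_one hf h2 hfix hom0).trans ?_)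
    linear_combination -hw + h2
  have hσ' : σ (om + 1) = om := by rw [map_add, map_one, hσ]; linear_combination h2
  have hF' := isFrame_swap hf h2 hfix hF
  have hdp := hF.P.dp hf h2 hfix
  have hy'y := hF.Q.dp hf h2 hfix
  have nn : ∀ {x x' : ι → F}, IsPlane f x x' → f (x + om • x') (x + om • x') = 1 ∧
      f (x + (om + 1) • x') (x + (om + 1) • x') = 1 ∧ f (x + om • x') (x + (om + 1) • x') = 0 := by
    intro x x' h
    have := h.dp hf h2 hfix
    refine ⟨?_, ?_, ?_⟩ <;>
      simp only [hf.add_left, add_right hf, hf.smul_left, smul_right hf, h.pp, h.dd, h.pd, this, hσ, hσ',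
        mul_zero, mul_one, add_zero, zero_add] <;>
      linear_combination om * h2
  set n₁ := p + om • d with hn₁
  set n₂ := p + (om + 1) • d with hn₂
  set n₄ := y + om • y' with hn₄
  set n₅ := y + (om + 1) • y' with hn₅
  obtain ⟨e11, e22, e12⟩ := nn hF.P
  obtain ⟨e44, e55, e45⟩ := nn hF.Q
  have hYP : ∀ {w}, InY f p d w → ∀ c : F, f w (p + c • d) = 0 := fun {w} hw c => by
    rw [add_right hf, smul_right hf, (f_eq_zero_comm hf).1 hw.1, (f_eq_zero_comm hf).1 hw.2, mul_zero, add_zero]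
  have hY4 : ∀ c : F, InY f p d (y + c • y') := fun c =>
    ⟨by rw [add_right hf, smul_right hf, hF.hy.1, hF.hy'.1, mul_zero, add_zero],
      by rw [add_right hf, smul_right hf, hF.hy.2, hF.hy'.2, mul_zero, add_zero]⟩
  have haP : ∀ c : F, f a (p + c • d) = 0 := hYP hF.ha
  have haQ : ∀ c : F, f a (y + c • y') = 0 := fun c => by
    rw [add_right hf, smul_right hf, (f_eq_zero_comm hf).1 hF.ya, (f_eq_zero_comm hf).1 hF.y'a, mul_zero,
      add_zero]
  have hH' : ∀ n m, f a n = 0 → f a m = 0 → ∀ v (hv : f v v = 0),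
      (∀ x, f x n = 0 → f x m = 0 → f x v = 0) → htv hf v hv 1 ∈ H := fun n m h1 h1' v hv h =>
    hH v hv (h a h1 h1')
  obtain ⟨r₁, hr₁, hr₁S, r14, r11, r1x⟩ := exists_rot hf h2 hfix hw e44 e11 (hYP (hY4 om) om)
    (hH' n₄ n₁ (haQ om) (haP om))
  obtain ⟨r₂, hr₂, hr₂S, r25, r22, r2x⟩ := exists_rot hf h2 hfix hw e55 e22 (hYP (hY4 _) _)
    (hH' n₅ n₂ (haQ _) (haP _))
  have c : ∀ {u v : ι → F}, f u v = 0 → f v u = 0 := fun e => (f_eq_zero_comm hf).1 e
  have homsq : om * om = om + 1 := by linear_combination hw - (om + 1) * h2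
  set g := r₁ * r₂ with hg
  refine ⟨g, H.mul_mem hr₁ hr₂, ?_⟩
  have hgS : g ∈ SS := Subgroup.mul_mem _ hr₁S hr₂S
  set k := g * ζ with hk
  have hζn : ∀ x, f a x = 0 → mv ζ x = om • x := fun x h => hζ.2.2 x (c h)
  have k1 : mv k n₁ = n₁ := by
    rw [hk, mv_mul, hζn n₁ (haP om), mv_smul, hg, mv_mul,
      r2x n₁ (c (hYP (hY4 _) om)) e12, r11, smul_smul,
      show om * (om + 1) = 1 by linear_combination hw - h2, one_smul]
  have k2 : mv k n₂ = n₂ := by
    rw [hk, mv_mul, hζn n₂ (haP _), mv_smul, hg, mv_mul, r22, mv_smul,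
      r1x n₂ (c (hYP (hY4 _) _)) (c e12), smul_smul,
      show om * (om + 1) = 1 by linear_combination hw - h2, one_smul]
  have k4 : mv k n₄ = (om + 1) • n₄ := by
    rw [hk, mv_mul, hζn n₄ (haQ om), mv_smul, hg, mv_mul, r2x n₄ e45 (hYP (hY4 om) _), r14, smul_smul, homsq]
  have k5 : mv k n₅ = (om + 1) • n₅ := by
    rw [hk, mv_mul, hζn n₅ (haQ _), mv_smul, hg, mv_mul, r25, mv_smul,
      r1x n₅ (c e45) (hYP (hY4 _) om), smul_smul, homsq]
  have ka : mv k a = (om + 1) • a := by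
    rw [hk, mv_mul, hζ.2.1, mv_smul, hg, mv_mul, r2x a (haQ _) (haP _), r1x a (haQ _) (haP _)]
  have kp : mv k p = p := by
    have hp_eq : p = (om + 1) • n₁ + om • n₂ := by
      funext i
      simp only [hn₁, hn₂, Pi.add_apply, Pi.smul_apply, smul_eq_mul]
      linear_combination -(om * p i + om * om * d i + om * d i) * h2
    conv_lhs => rw [hp_eq]
    rw [mv_add, mv_smul, mv_smul, k1, k2, ← hp_eq]
  have kd : mv k d = d := by
    have hd_eq : d = n₁ + n₂ := by
      funext i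
      simp only [hn₁, hn₂, Pi.add_apply, Pi.smul_apply, smul_eq_mul]
      linear_combination -(p i + om * d i) * h2
    conv_lhs => rw [hd_eq]
    rw [mv_add, k1, k2, ← hd_eq]
  have ky : mv k y = (om + 1) • y := by
    have hy_eq : y = (om + 1) • n₄ + om • n₅ := by
      funext i
      simp only [hn₄, hn₅, Pi.add_apply, Pi.smul_apply, smul_eq_mul]
      linear_combination -(om * y i + om * om * y' i + om * y' i) * h2
    conv_lhs => rw [hy_eq]
    rw [mv_add, mv_smul, mv_smul, k4, k5]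
    conv_rhs => rw [hy_eq]
    module
  have ky' : mv k y' = (om + 1) • y' := by
    have hy'_eq : y' = n₄ + n₅ := by
      funext i
      simp only [hn₄, hn₅, Pi.add_apply, Pi.smul_apply, smul_eq_mul]
      linear_combination -(y i + om * y' i) * h2
    conv_lhs => rw [hy'_eq]
    rw [mv_add, k4, k5]
    conv_rhs => rw [hy'_eq]
    module
  refine ⟨Subgroup.mul_mem _ (Subgroup.mul_mem _ hgS hζ.1) (Subgroup.mul_mem _ hgS hζ.1),
    by rw [mv_mul, kp, kp], by rw [mv_mul, kd, kd], fun w hwY => ?_⟩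
  have hdec := frame_decomp hf h2 hfix hn hF w
  rw [(f_eq_zero_comm hf).1 hwY.1, (f_eq_zero_comm hf).1 hwY.2] at hdec
  simp only [zero_smul, zero_add] at hdec
  have kk : ∀ z, mv k z = (om + 1) • z → mv (k * k) z = om • z := fun z hz => by
    rw [mv_mul, hz, mv_smul, hz, smul_smul,
      show (om + 1) * (om + 1) = om by linear_combination homsq + (om + 1) * h2]
  conv_lhs => rw [hdec]
  rw [mv_add, mv_add, mv_smul, mv_smul, mv_smul, kk y ky, kk y' ky', kk a ka]
  conv_rhs => rw [hdec]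
  module

end Cfsg.Agent.Fischer.UnitaryFive
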