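import Cfsg.Agent.Lib.Fischer.CoverAction
import Cfsg.Agent.Lib.Fischer.UnitaryFive
import Cfsg.Agent.Lib.Solvable.Gaschutz

/-!
Three-transposition groups mapping onto SU₅(2) with 2-group kernel.
-/

set_option autoImplicit false
set_option linter.unusedSectionVars false

namespace Cfsg.Agent.Fischer.SUFiveCover

open scoped Matrix
open Matrix Cfsg.Agent.Transvec Cfsg.Agent.Transvec.Herm Cfsg.Agent.Fischer.UnitaryPerp
  Cfsg.Agent.Fischer.UnitaryFive Cfsg.Agent.Fischer.CoverAction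

variable {G : Type*} [Group G] [Finite G]
variable {ι : Type} [Fintype ι] [DecidableEq ι] {F : Type*} [Field F] [Finite F]

/-- The data of a cover of SU₅(2). -/
structure Setup (σ : F ≃+* F) (f : (ι → F) → (ι → F) → F) (om : F) (π : G →* GL ι F)
    (D : Set G) (W : Subgroup G) : Prop where
  hf : Geo.IsUnitaryForm σ f
  h2 : (2 : F) = 0
  hfix : ∀ a : F, σ a = a → a = 0 ∨ a = 1
  hw : om * om + om + 1 = 0
  hn : Fintype.card ι = 5
  hD : IsThreeTranspositionClass D
  hZ : Subgroup.center G = ⊥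
  hWn : W.Normal
  hW : IsPGroup 2 W
  hker : π.ker = W
  hrange : π.range = preserving (Units.coeHom (Matrix ι ι F)) f ⊓ Geo.specialLinear ι F

variable {σ : F ≃+* F} {f : (ι → F) → (ι → F) → F} {om : F} {π : G →* GL ι F} {D : Set G} {W : Subgroup G}
variable (S : Setup σ f om π D W)

local notation "SS" => preserving (Units.coeHom (Matrix ι ι F)) f ⊓ Geo.specialLinear ι F

include S

theorem mem_W {x : G} : π x = 1 ↔ x ∈ W := by rw [← S.hker]; rfl

theorem mem_S (x : G) : π x ∈ SS := S.hrange.le ⟨x, rfl⟩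

theorem surj {k : GL ι F} (hk : k ∈ SS) : ∃ x, π x = k := S.hrange.ge hk

theorem four_le : 4 ≤ Module.finrank F (⊤ : Submodule F (ι → F)) := by
  rw [finrank_top, Module.finrank_pi, S.hn]; norm_num

theorem ne_one {d : G} (hd : d ∈ D) : π d ≠ 1 := by
  intro h
  have hDW : D ⊆ W := fun a ha => by
    obtain ⟨c, rfl⟩ := TClass.transitive S.hD d hd a ha
    exact S.hWn.conj_mem _ ((mem_W S).1 h) c
  have h4 := four_le S
  obtain ⟨v, -, hv0, hvv⟩ := exists_isotropic S.hf (nondeg_top S.hf) (by omega)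
  obtain ⟨x, hx⟩ := surj S (tau_mem S.hf S.h2 S.hfix v hvv)
  have hxW : x ∈ W := (Subgroup.closure_le _).2 hDW (S.hD.2.2 ▸ Subgroup.mem_top x)
  exact tau_ne_one S.hf S.h2 S.hfix hvv hv0 (hx.symm.trans ((mem_W S).2 hxW))

theorem exists_vec {d : G} (hd : d ∈ D) :
    ∃ (v : ι → F) (hv : f v v = 0), v ≠ 0 ∧ π d = htv S.hf v hv 1 := by
  refine eq_tau S.hf S.h2 S.hfix (mem_S S d) (by rw [← map_mul, TSet.sq S.hD.1 hd, map_one]) (ne_one S hd) ?_
  intro k hk
  obtain ⟨x, rfl⟩ := surj S hk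
  rw [← map_inv, ← map_mul, ← map_mul, ← map_mul, ← map_pow, ← map_pow]
  rcases S.hD.1.2 d hd _ (TClass.conjInv S.hD x d hd) with h | h
  · exact Or.inl (by rw [h, map_one])
  · exact Or.inr (by rw [h, map_one])

theorem exists_lift {v : ι → F} (hv : f v v = 0) (hv0 : v ≠ 0) :
    ∃ d ∈ D, π d = htv S.hf v hv 1 := by
  obtain ⟨d, hd, -⟩ := S.hD.2.1
  obtain ⟨u, hu, hu0, hdu⟩ := exists_vec S hd
  obtain ⟨k, hk, hku, -⟩ := exists_move S.hf (nondeg_top S.hf) (four_le S) (K := SS)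
    (fun x _ hx c hc => tau_eq_of_mem S.hf S.h2 S.hfix x hx hc (tau_mem S.hf S.h2 S.hfix x hx))
    (Submodule.mem_top (x := u)) (Submodule.mem_top (x := v)) hu0 hv0 hu hv
  obtain ⟨x, rfl⟩ := surj S hk
  exact ⟨x * d * x⁻¹, TClass.conjInv S.hD x d hd, by
    rw [map_mul, map_mul, map_inv, hdu, tau_conj S.hf S.h2 S.hfix hk hku]⟩

theorem commute_of_image {a b : G} (ha : a ∈ D) (hb : b ∈ D) (h : Commute (π a) (π b)) : Commute a b := by
  have hab : (a * b) ^ 2 ∈ W := (mem_W S).1 (by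
    rw [map_pow, map_mul, h.mul_pow, pow_two, pow_two, ← map_mul, ← map_mul, TSet.sq S.hD.1 ha,
      TSet.sq S.hD.1 hb, map_one, one_mul])
  obtain ⟨k, hk⟩ := S.hW ⟨_, hab⟩
  refine TSet.commute_of_two_pow S.hD.1 ha hb (k := k + 1) ?_
  rw [pow_succ', pow_mul]
  exact congrArg Subtype.val hk

theorem perp_comm {a b : G} (ha : a ∈ D) (hb : b ∈ D) {v w : ι → F} {hv : f v v = 0} {hw : f w w = 0}
    (hav : π a = htv S.hf v hv 1) (hbw : π b = htv S.hf w hw 1) (h : f w v = 0) : Commute a b :=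
  commute_of_image S ha hb (by rw [hav, hbw]; exact tau_comm S.hf S.h2 S.hfix hv hw h)

theorem not_comm {a b : G} {v w : ι → F} {hv : f v v = 0} {hw : f w w = 0}
    (hav : π a = htv S.hf v hv 1) (hbw : π b = htv S.hf w hw 1) (h : f v w ≠ 0) : ¬ Commute a b := by
  intro hc
  have h1 := congrArg (fun g => mv g v) (hc.map π).eq
  rw [hav, hbw] at h1
  simp only [mv_mul, mv_htv, hv, one_mul, zero_smul, mul_zero, add_zero, S.hf.add_left, S.hf.smul_left,
    zero_add] at h1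
  have h3 : (f v w * f w v) • v = 0 := by
    linear_combination (norm := module) h1
  rcases smul_eq_zero.1 h3 with h4 | h4
  · rcases mul_eq_zero.1 h4 with h5 | h5
    · exact h h5
    · exact h ((f_eq_zero_comm S.hf).1 h5)
  · exact h (by rw [h4, zero_left S.hf])

theorem perp_generates {e g : G} (he : e ∈ D) (hg : g ∈ D) (heg : ¬ Commute e g) :
    Subgroup.closure ({d ∈ D | Commute d e} ∪ {d ∈ D | Commute d g}) ⊔ W = ⊤ := by
  obtain ⟨p, hp, -, hep⟩ := exists_vec S he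
  obtain ⟨q, hq, -, hgq⟩ := exists_vec S hg
  have hpq : f p q ≠ 0 := fun h => heg (perp_comm S he hg hep hgq ((f_eq_zero_comm S.hf).1 h))
  set K := Subgroup.closure ({d ∈ D | Commute d e} ∪ {d ∈ D | Commute d g}) ⊔ W with hK
  have key : ∀ {x : G} {u : ι → F} (hu : f u u = 0), x ∈ D → π x = htv S.hf u hu 1 →
      {d ∈ D | Commute d x} ⊆ {d ∈ D | Commute d e} ∪ {d ∈ D | Commute d g} →
      ∀ v (hv : f v v = 0), f u v = 0 → htv S.hf v hv 1 ∈ K.map π := by
    intro x u hu hx hxu hsub v hv huv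
    rcases eq_or_ne v 0 with rfl | hv0
    · have : htv S.hf (0 : ι → F) hv 1 = 1 := ext_mv fun z => by rw [mv_htv, mv_one, smul_zero, add_zero]
      rw [this]
      exact Subgroup.one_mem _
    obtain ⟨d, hd, hdv⟩ := exists_lift S hv hv0
    exact ⟨d, (le_sup_left : _ ≤ K) (Subgroup.subset_closure (hsub ⟨hd, perp_comm S hd hx hdv hxu huv⟩)),
      hdv⟩
  have hn4 : 4 ≤ Fintype.card ι := by rw [S.hn]; norm_num
  have hM := perp_union S.hf S.h2 S.hfix (H := K.map π) hn4 hp hq hpq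
    (key hp he hep Set.subset_union_left) (key hq hg hgq Set.subset_union_right)
    (S.hrange ▸ Subgroup.map_le_range π K)
  have hS : SS ≤ K.map π :=
    su_le S.hf (fun v hv c hc => tau_eq_of_mem S.hf S.h2 S.hfix v hv hc (hM v hv)) (Or.inr hn4)
  refine top_le_iff.1 fun x _ => ?_
  obtain ⟨y, hy, hyx⟩ := hS (mem_S S x)
  have hm : y⁻¹ * x ∈ W := (mem_W S).1 (by rw [map_mul, map_inv, hyx, inv_mul_cancel])
  have := K.mul_mem hy ((le_sup_right : W ≤ K) hm)
  rwa [mul_inv_cancel_left] at this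

theorem UU_lifted {p d : ι → F} (hP : IsPlane f p d) {e : G} (he : e ∈ D)
    (hep : π e = htv S.hf p hP.pp 1) :
    UU S.hf p ≤ (Subgroup.closure {x ∈ D | Commute x e} ⊓ (UU S.hf p).comap π).map π := by
  refine UU_le S.hf S.h2 S.hfix S.hn hP ?_ ?_
  · exact ⟨e, ⟨Subgroup.subset_closure ⟨he, Commute.refl e⟩,
      show π e ∈ UU S.hf p by rw [hep]; exact tau_mem_UU S.hf S.h2 S.hfix hP.pp⟩, hep⟩
  · intro w hw h hwY
    rcases eq_or_ne w 0 with rfl | hw0
    · refine ⟨e, ⟨Subgroup.subset_closure ⟨he, Commute.refl e⟩,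
        show π e ∈ UU S.hf p by rw [hep]; exact tau_mem_UU S.hf S.h2 S.hfix hP.pp⟩, ?_⟩
      refine hep.trans (ext_mv fun z => ?_)
      simp [mv_mul, mv_htv]
    have hpw0 : p + w ≠ 0 := fun h0 => by
      have := congrArg (fun x => f x d) h0
      simp only [S.hf.add_left, hP.pd, (f_eq_zero_comm S.hf).1 hwY.2, add_zero, zero_left S.hf] at this
      exact one_ne_zero this
    obtain ⟨a, ha, hav⟩ := exists_lift S h hpw0
    obtain ⟨b, hb, hbv⟩ := exists_lift S hw hw0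
    have hmap : π (a * b) = htv S.hf (p + w) h 1 * htv S.hf w hw 1 := by rw [map_mul, hav, hbv]
    refine ⟨a * b, ⟨Subgroup.mul_mem _ (Subgroup.subset_closure ⟨ha, perp_comm S ha he hav hep ?_⟩)
      (Subgroup.subset_closure ⟨hb, perp_comm S hb he hbv hep hwY.1⟩), ?_⟩, hmap⟩
    · rw [add_right S.hf, hP.pp, hwY.1, add_zero]
    · show π (a * b) ∈ UU S.hf p
      rw [hmap]
      exact shift_mem_UU S.hf S.h2 S.hfix hP.pp hw hwY.1 h

/-- The kernel is elementary abelian. -/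
theorem elementary : (∀ x ∈ W, ∀ y ∈ W, x * y = y * x) ∧ ∀ x ∈ W, x ^ 2 = 1 := by
  haveI : Fact (Nat.Prime 2) := ⟨Nat.prime_two⟩
  refine PerpGen.elementaryAbelian' S.hD S.hZ S.hWn S.hW (fun e he g hg heg => perp_generates S he hg heg) ?_ ?_
  · obtain ⟨P⟩ : Nonempty (Sylow 2 G) := inferInstance
    obtain ⟨p, d, y, y', a, hF, hP⟩ := exists_flag S.hf S.h2 S.hfix S.hn
      (K := (P : Subgroup G).map π) (P.isPGroup'.map π) (S.hrange ▸ Subgroup.map_le_range π _)
    have hF' := isFrame_swap S.hf S.h2 S.hfix hF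
    obtain ⟨e, he, hep⟩ := exists_lift S hF.P.pp (hF.P.ne_zero S.hf S.h2 S.hfix)
    obtain ⟨g, hg, hgy⟩ := exists_lift S hF.Q.pp (hF.Q.ne_zero S.hf S.h2 S.hfix)
    set U := Subgroup.closure {x ∈ D | Commute x e} ⊓ (UU S.hf p).comap π with hU
    set R := Subgroup.closure {x ∈ D | Commute x g} ⊓ (RR S.hf p d y a).comap π with hR
    have hRU : R ≤ Subgroup.normalizer (U : Set G) := by
      have key : ∀ r ∈ R, ∀ z ∈ U, r * z * r⁻¹ ∈ U := by
        intro r hr z hz
        have hr' : π r ∈ RR S.hf p d y a := hr.2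
        refine ⟨?_, ?_⟩
        · suffices Subgroup.closure {x ∈ D | Commute x e} ≤
              (Subgroup.closure {x ∈ D | Commute x e}).comap (MulAut.conj r).toMonoidHom from this hz.1
          rw [Subgroup.closure_le]
          rintro x ⟨hx, hxe⟩
          refine Subgroup.subset_closure ⟨TClass.conjInv S.hD r x hx,
            commute_of_image S (TClass.conjInv S.hD r x hx) he ?_⟩
          have h1 := (hxe.map π).map (MulAut.conj (π r))
          simp only [MulAut.conj_apply] at h1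
          rw [hep, tau_conj S.hf S.h2 S.hfix (mem_S S r) (hw := hF.P.pp) hr'.2.1, ← hep] at h1
          show Commute (π (r * x * r⁻¹)) (π e)
          rwa [map_mul, map_mul, map_inv]
        · show π (r * z * r⁻¹) ∈ UU S.hf p
          rw [map_mul, map_mul, map_inv]
          exact RR_normalizes S.hf S.h2 S.hfix hr' hz.2
      intro r hr
      rw [Subgroup.mem_normalizer_iff]
      refine fun z => ⟨fun hz => key r hr z hz, fun hz => ?_⟩
      have := key r⁻¹ (R.inv_mem hr) _ hz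
      simpa [mul_assoc] using this
    refine ⟨U ⊔ R, ?_, ?_⟩
    · have hPM : (P : Subgroup G) ≤ (U ⊔ R) ⊔ W := by
        intro x hx
        obtain ⟨u, hu, hur⟩ := hP (π x) ⟨x, hx, rfl⟩
        obtain ⟨u', hu', hu'u⟩ := UU_lifted S hF.P he hep hu
        obtain ⟨r', hr', hr'r⟩ := UU_lifted S hF.Q hg hgy (RR_le_UU S.hf S.h2 S.hfix S.hn hF hur)
        have hr'R : r' ∈ R := ⟨hr'.1, show π r' ∈ RR S.hf p d y a by rw [hr'r]; exact hur⟩
        have hm : (u' * r')⁻¹ * x ∈ W := (mem_W S).1 (by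
          rw [map_mul, map_inv, map_mul, hu'u, hr'r, mul_inv_cancel_left, inv_mul_cancel])
        have := ((U ⊔ R) ⊔ W).mul_mem
          ((le_sup_left : U ⊔ R ≤ _) ((U ⊔ R).mul_mem ((le_sup_left : U ≤ _) hu') ((le_sup_right : R ≤ _) hr'R)))
          ((le_sup_right : W ≤ _) hm)
        rwa [mul_inv_cancel_left] at this
      have h1 : Odd (P : Subgroup G).index := by
        rw [← Nat.not_even_iff_odd, even_iff_two_dvd]
        exact P.not_dvd_index
      exact Odd.of_dvd_nat h1 (Subgroup.index_dvd_of_le hPM)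
    · rintro x ⟨hx, hxW⟩
      obtain ⟨u, hu, r, hr, rfl⟩ := (SolvBasic.mem_sup_iff_of_le_normalizer hRU).1 hx
      have h1 : π u * π r = 1 := by rw [← map_mul]; exact (mem_W S).2 hxW
      have hu1 : π u = 1 := UU_inter_RR S.hf S.h2 S.hfix hF.P hu.2 (y := y) (a := a)
        (by rw [eq_inv_of_mul_eq_one_left h1]; exact Subgroup.inv_mem _ hr.2)
      rw [hu1, one_mul] at h1
      refine Subgroup.mul_mem _
        (Subgroup.mem_iSup_of_mem e (Subgroup.mem_iSup_of_mem he ⟨hu.1, (mem_W S).1 hu1⟩))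
        (Subgroup.mem_iSup_of_mem g (Subgroup.mem_iSup_of_mem hg ⟨hr.1, (mem_W S).1 h1⟩))
  · intro e he
    obtain ⟨p, hp, hp0, hep⟩ := exists_vec S he
    obtain ⟨d, -, hpd, hdd⟩ := exists_partner S.hf (nondeg_top S.hf) (Submodule.mem_top (x := p)) hp0 hp
    obtain ⟨z, hz, hz0, hzz⟩ := exists_Y_isotropic S.hf S.h2 S.hfix S.hn (⟨hp, hdd, hpd⟩ : IsPlane f p d)
    obtain ⟨h₁, h₂, h₃, hfive⟩ := five S.hf S.h2 S.hfix hp hzz hz.1 S.hw
    have hperp' : ∀ (a : F), f p (p + a • z) = 0 ∧ p + a • z ≠ 0 := fun a => by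
      refine ⟨by rw [add_right S.hf, smul_right S.hf, hp, hz.1, mul_zero, add_zero], fun h => ?_⟩
      have := congrArg (fun v => f v d) h
      simp only [S.hf.add_left, S.hf.smul_left, hpd, (f_eq_zero_comm S.hf).1 hz.2, mul_zero, add_zero,
        zero_left S.hf] at this
      exact one_ne_zero this
    have pick : ∀ v (hv : f v v = 0), v ≠ 0 → f p v = 0 →
        ∃ b, (b ∈ D ∧ Commute b e) ∧ π b = htv S.hf v hv 1 := by
      intro v hv hv0 hpv
      obtain ⟨b, hb, hbv⟩ := exists_lift S hv hv0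
      exact ⟨b, ⟨hb, perp_comm S hb he hbv hep hpv⟩, hbv⟩
    obtain ⟨b₁, hb₁, e₁⟩ := pick p hp hp0 hp
    obtain ⟨b₂, hb₂, e₂⟩ := pick z hzz hz0 hz.1
    obtain ⟨b₃, hb₃, e₃⟩ := pick _ h₁ (by simpa using (hperp' 1).2) (by simpa using (hperp' 1).1)
    obtain ⟨b₄, hb₄, e₄⟩ := pick _ h₂ (hperp' om).2 (hperp' om).1
    obtain ⟨b₅, hb₅, e₅⟩ := pick _ h₃ (hperp' (om + 1)).2 (hperp' (om + 1)).1
    refine ⟨[b₁, b₂, b₃, b₄, b₅], ⟨2, rfl⟩, ?_, (mem_W S).1 ?_⟩
    · intro a ha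
      simp only [List.mem_cons, List.not_mem_nil, or_false] at ha
      rcases ha with rfl | rfl | rfl | rfl | rfl <;> assumption
    · simp only [List.prod_cons, List.prod_nil, mul_one, map_mul, e₁, e₂, e₃, e₄, e₅, ← mul_assoc]
      exact hfive

theorem cover : Cover D W :=
  ⟨S.hD, S.hZ, S.hWn, (elementary S).1, fun x hx => by rw [← pow_two]; exact (elementary S).2 x hx,
    fun _ he _ hg heg => perp_generates S he hg heg⟩

theorem phi_img {a b x : G} (ha : a ∈ D) (hb : b ∈ D) (hab : π a = π b) (hx : x ∈ W) :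
    phi a x = phi b x :=
  (cover S).phi_congr hb ha ((mem_W S).1 (by rw [map_mul, hab, ← map_mul, TSet.sq S.hD.1 hb, map_one])) hx

/-- The elements commuting with x map to a group containing every transvection whose lift fixes x. -/
theorem commute_of_mem_map {K : Subgroup G} {x g : G} (hxW : x ∈ W) (hK : ∀ k ∈ K, Commute x k)
    (hg : π g ∈ K.map π) : Commute x g := by
  obtain ⟨k, hk, hkg⟩ := hg
  have hm : k⁻¹ * g ∈ W := (mem_W S).1 (by rw [map_mul, map_inv, hkg, inv_mul_cancel])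
  have := (hK k hk).mul_right ((elementary S).1 x hxW _ hm)
  rwa [mul_inv_cancel_left] at this

theorem tau_mem_centralizer {x : G} (hxW : x ∈ W) {v : ι → F} (hv : f v v = 0)
    (h : v ≠ 0 → ∀ b ∈ D, π b = htv S.hf v hv 1 → phi b x = 1) :
    htv S.hf v hv 1 ∈ (Subgroup.centralizer ({x} : Set G)).map π := by
  rcases eq_or_ne v 0 with rfl | hv0
  · have : htv S.hf (0 : ι → F) hv 1 = 1 := ext_mv fun z => by rw [mv_htv, mv_one, smul_zero, add_zero]
    rw [this]
    exact Subgroup.one_mem _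
  obtain ⟨b, hb, hbv⟩ := exists_lift S hv hv0
  exact ⟨b, Subgroup.mem_centralizer_singleton_iff.2
    (((cover S).phi_eq_one_iff hb).1 (h hv0 b hb hbv)).eq.symm, hbv⟩

theorem conj_phi {x₀ b b' x : G} {v w : ι → F} {hv : f v v = 0} {hw : f w w = 0} (hb : b ∈ D) (hb' : b' ∈ D)
    (hbv : π b = htv S.hf v hv 1) (hb'w : π b' = htv S.hf w hw 1) (hx₀ : mv (π x₀) v = w) (hx : x ∈ W) :
    x₀ * phi b x * x₀⁻¹ = phi b' (x₀ * x * x₀⁻¹) := by
  rw [phi_conj]
  refine phi_img S (TClass.conjInv S.hD x₀ b hb) hb' ?_ (S.hWn.conj_mem x hx x₀)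
  rw [map_mul, map_mul, map_inv, hbv, hb'w, tau_conj S.hf S.h2 S.hfix (mem_S S x₀) hx₀]

theorem line_isotropic {p d y : ι → F} (hP : IsPlane f p d) (hy : InY f p d y) (hyy : f y y = 0) (c : F) :
    f (c • p + y) (c • p + y) = 0 ∧ f p (c • p + y) = 0 ∧ f (c • p + y) d = c := by
  have hyp : f y p = 0 := (f_eq_zero_comm S.hf).1 hy.1
  have hyd : f y d = 0 := (f_eq_zero_comm S.hf).1 hy.2
  refine ⟨?_, ?_, ?_⟩ <;>
    simp only [S.hf.add_left, add_right S.hf, S.hf.smul_left, smul_right S.hf, hP.pp, hP.pd, hy.1, hyp,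
      hyy, hyd, mul_zero, mul_one, add_zero]

/-- The relation of a singular line through p. -/
theorem line_relation {p d y : ι → F} (hP : IsPlane f p d) (hy : InY f p d y) (hy0 : y ≠ 0)
    (hyy : f y y = 0) {e qy : G} (he : e ∈ D) (hqy : qy ∈ D) (hep : π e = htv S.hf p hP.pp 1)
    (hqyv : π qy = htv S.hf y hyy 1) {q₁ q₂ q₃ : G} (h₁ : q₁ ∈ D) (h₂ : q₂ ∈ D) (h₃ : q₃ ∈ D)
    (e₁ : π q₁ = htv S.hf _ (line_isotropic S hP hy hyy 1).1 1)
    (e₂ : π q₂ = htv S.hf _ (line_isotropic S hP hy hyy om).1 1)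
    (e₃ : π q₃ = htv S.hf _ (line_isotropic S hP hy hyy (om + 1)).1 1) :
    qy * e * q₁ * q₂ * q₃ ∈ W := by
  obtain ⟨g₁, g₂, g₃, hfive⟩ := five S.hf S.h2 S.hfix hP.pp hyy hy.1 S.hw
  have hom0 : om ≠ 0 := fun h => by have := S.hw; simp [h] at this
  have hom1 : om + 1 ≠ 0 := fun h => by
    have := S.hw
    rw [eq_neg_of_add_eq_zero_left h] at this
    norm_num at this
  have key : ∀ {c b : F}, c ≠ 0 → c * b = 1 → ∀ (hh : f (p + b • y) (p + b • y) = 0),
      htv S.hf (c • p + y) (line_isotropic S hP hy hyy c).1 1 = htv S.hf _ hh 1 := by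
    intro c b hc hcb hh
    obtain ⟨h', e'⟩ := tau_smul S.hf S.h2 S.hfix hh hc
    rw [← e']
    exact tau_congr S.hf S.h2 S.hfix (by rw [smul_add, smul_smul, hcb, one_smul])
  have k₁ : htv S.hf ((1 : F) • p + y) (line_isotropic S hP hy hyy 1).1 1 = htv S.hf _ g₁ 1 :=
    tau_congr S.hf S.h2 S.hfix (by rw [one_smul])
  have k₂ := key hom0 (b := om + 1) (by linear_combination S.hw - S.h2) g₃
  have k₃ := key hom1 (b := om) (by linear_combination S.hw - S.h2) g₂
  refine (mem_W S).1 ?_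
  rw [map_mul, map_mul, map_mul, map_mul, hqyv, hep, e₁, e₂, e₃, k₁, k₂, k₃]
  rw [(tau_comm S.hf S.h2 S.hfix hyy hP.pp hy.1).eq]
  have hzp : f y p = 0 := (f_eq_zero_comm S.hf).1 hy.1
  have c23 : Commute (htv S.hf _ g₃ 1) (htv S.hf _ g₂ 1) := by
    refine tau_comm S.hf S.h2 S.hfix g₃ g₂ ?_
    simp only [S.hf.add_left, add_right S.hf, S.hf.smul_left, smul_right S.hf, hP.pp, hy.1, hzp, hyy,
      mul_zero, add_zero]
  rw [mul_assoc _ (htv S.hf _ g₃ 1) (htv S.hf _ g₂ 1), c23.eq, ← mul_assoc]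
  exact hfive

/-- Fixed points of a scalar on Y which commute with the plane vector p commute with all perpendicular
transvections. -/
theorem z_fixed_perp {p d : ι → F} (hP : IsPlane f p d) {x₀ : G} (hx₀ : IsZ f om p d (π x₀)) {x : G}
    (hxW : x ∈ W) (hxz : Commute x x₀) (hxp : ∀ b ∈ D, π b = htv S.hf p hP.pp 1 → phi b x = 1)
    {v : ι → F} (hv : f v v = 0) (hv0 : v ≠ 0) (hpv : f p v = 0) {b : G} (hb : b ∈ D)
    (hbv : π b = htv S.hf v hv 1) : phi b x = 1 := by
  have C := cover S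
  obtain ⟨e, he, hep⟩ := exists_lift S hP.pp (hP.ne_zero S.hf S.h2 S.hfix)
  obtain ⟨d₀, hd₀, hd₀d⟩ := exists_lift S hP.dd (hP.symm S.hf S.h2 S.hfix |>.ne_zero S.hf S.h2 S.hfix)
  set y := pr S.hf p d v with hydef
  have hyY := pr_mem S.hf S.h2 S.hfix hP hpv
  have hyy := pr_self S.hf S.h2 S.hfix hP hpv hv
  have hvc : v = f v d • p + y := by
    rw [hydef, pr]
    linear_combination (norm := module) -(vadd_self S.hf S.h2 S.hfix (f v d • p))
  by_cases hy0 : y = 0
  · -- a multiple of p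
    have hc : f v d ≠ 0 := fun h => hv0 (by rw [hvc, h, hy0, zero_smul, add_zero])
    obtain ⟨h', e'⟩ := tau_smul S.hf S.h2 S.hfix hP.pp hc
    refine hxp b hb (hbv.trans ((tau_congr S.hf S.h2 S.hfix (hw := h') ?_).trans e'))
    conv_lhs => rw [hvc, hy0, add_zero]
  obtain ⟨qy, hqy, hqyv⟩ := exists_lift S hyy hy0
  have hq : ∀ c : F, ∃ q ∈ D, π q = htv S.hf _ (line_isotropic S hP hyY hyy c).1 1 := fun c =>
    exists_lift S _ fun h => by
      have h1 := congrArg (fun u => f u y) h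
      obtain ⟨y', a, hF⟩ := exists_frame S.hf S.h2 S.hfix S.hn hP hyY hy0 hyy
      have h2' := congrArg (fun u => f u y') h
      simp only [S.hf.add_left, S.hf.smul_left, hF.Q.pd, hF.hy'.1, mul_zero, zero_add,
        zero_left S.hf] at h2'
      exact one_ne_zero h2'
  choose q hqD hqv using hq
  have hom0 : om ≠ 0 := fun h => by have := S.hw; simp [h] at this
  have homsq : om * om = om + 1 := by linear_combination S.hw - (om + 1) * S.h2
  have hom3 : om * (om + 1) = 1 := by linear_combination S.hw - S.h2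
  have hzy : mv (π x₀) y = om • y := hx₀.2.2.2 y hyY
  have hyp : f y p = 0 := (f_eq_zero_comm S.hf).1 hyY.1
  -- the scalar permutes the line
  have hperm : ∀ {c c' : F}, c = om * c' → x₀ * phi (q c) x * x₀⁻¹ = phi (q c') x := by
    intro c c' hcc
    obtain ⟨h', e'⟩ := tau_smul S.hf S.h2 S.hfix (line_isotropic S hP hyY hyy c').1 hom0
    rw [conj_phi S (hqD c) (hqD c') (hqv c) (hw := h') ((hqv c').trans e'.symm) ?_ hxW,
      show x₀ * x * x₀⁻¹ = x by rw [← hxz.eq, mul_inv_cancel_right]]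
    rw [mv_add, mv_smul, hx₀.2.1, hzy, smul_add, smul_smul, ← hcc]
  -- and fixes the image of d
  have hcentral : ∀ z ∈ W, Commute (phi d₀ z) x₀ := by
    intro z hz
    set z' := phi d₀ z
    have hz' : z' ∈ W := C.phi_mem hd₀ hz
    refine commute_of_mem_map S hz' (K := Subgroup.centralizer ({z'} : Set G))
      (fun k hk => (Subgroup.mem_centralizer_singleton_iff.1 hk).symm) ?_
    obtain ⟨g, hg, hgZ⟩ := exists_Z S.hf S.h2 S.hfix S.hn S.hw hP
      (H := (Subgroup.centralizer ({z'} : Set G)).map π) (fun u hu huY => by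
        refine tau_mem_centralizer S hz' hu fun hu0 c hc hcu => ?_
        exact C.phi_comm hc hd₀ (perp_comm S hc hd₀ hcu hd₀d huY.2) hz)
    rwa [IsZ.unique S.hf S.h2 S.hfix S.hn hP hx₀ hgZ]
  have hdperm : ∀ {c c' : F}, c = om * c' → phi d₀ (phi (q c) x) = phi d₀ (phi (q c') x) := by
    intro c c' hcc
    have h1 := hperm hcc
    rw [← h1, ← mul_inv_eq_iff_eq_mul.2 (hcentral _ (C.phi_mem (hqD c) hxW)).eq.symm]
    exact conj_phi S hd₀ hd₀ hd₀d (hw := hP.dd) hd₀d hx₀.2.2.1 (C.phi_mem (hqD c) hxW)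
  set s := phi d₀ (phi (q 1) x) with hs
  have s2 : phi d₀ (phi (q om) x) = s := hdperm (by rw [mul_one])
  have s3 : phi d₀ (phi (q (om + 1)) x) = s := by rw [hdperm homsq.symm, s2]
  -- the relation on x
  have hm := line_relation S hP hyY hy0 hyy he hqy hep hqyv (hqD 1) (hqD om) (hqD (om + 1)) (hqv 1)
    (hqv om) (hqv (om + 1))
  have hperp : ∀ c c', Commute (q c) (q c') ∧ Commute qy (q c) ∧ Commute e (q c) := fun c c' => by
    refine ⟨perp_comm S (hqD c) (hqD c') (hqv c) (hqv c') ?_, perp_comm S hqy (hqD c) hqyv (hqv c) ?_,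
      perp_comm S he (hqD c) hep (hqv c) ?_⟩ <;>
      simp only [S.hf.add_left, add_right S.hf, S.hf.smul_left, smul_right S.hf, hP.pp, hyY.1, hyp, hyy,
        show f (pr S.hf p d v) p = 0 from hyp, show f p (pr S.hf p d v) = 0 from hyY.1,
        show f (pr S.hf p d v) (pr S.hf p d v) = 0 from hyy, mul_zero, add_zero, zero_add]
  have hrel : phi qy x * (phi (q 1) x * (phi (q om) x * phi (q (om + 1)) x)) = 1 := by
    have m1 := C.phi_mem (hqD 1) hxW
    have m2 := C.phi_mem (hqD om) hxW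
    have m3 := C.phi_mem (hqD (om + 1)) hxW
    have my := C.phi_mem hqy hxW
    have m23 := W.mul_mem m2 m3
    have m123 := W.mul_mem m1 m23
    have h1 : qy * e * q 1 * q om * q (om + 1) * x * (qy * e * q 1 * q om * q (om + 1))⁻¹ = x := by
      rw [(elementary S).1 _ hm x hxW, mul_inv_cancel_right]
    simp only [_root_.mul_inv_rev, TSet.inv S.hD.1 hqy, TSet.inv S.hD.1 he, TSet.inv S.hD.1 (hqD 1),
      TSet.inv S.hD.1 (hqD om), TSet.inv S.hD.1 (hqD (om + 1))] at h1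
    have h1' : qy * (e * (q 1 * (q om * (q (om + 1) * x * q (om + 1)) * q om) * q 1) * e) * qy = x := by
      simpa only [mul_assoc] using h1
    rw [C.conj_eq hxW, C.conj_eq (W.mul_mem hxW m3), C.phi_mul (hqD om) hxW m3,
      C.phi_comm (hqD om) (hqD (om + 1)) (hperp om (om + 1)).1 hxW, mul_one,
      C.conj_eq (W.mul_mem (W.mul_mem hxW m3) m2), C.phi_mul (hqD 1) (W.mul_mem hxW m3) m2,
      C.phi_mul (hqD 1) hxW m3,
      C.phi_comm (hqD 1) (hqD (om + 1)) (hperp 1 (om + 1)).1 hxW,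
      C.phi_comm (hqD 1) (hqD om) (hperp 1 om).1 hxW, mul_one, mul_one] at h1'
    have mall := W.mul_mem (W.mul_mem (W.mul_mem hxW m3) m2) m1
    rw [C.conj_eq mall, C.phi_mul he (W.mul_mem (W.mul_mem hxW m3) m2) m1,
      C.phi_mul he (W.mul_mem hxW m3) m2, C.phi_mul he hxW m3, hxp e he hep,
      C.phi_comm he (hqD (om + 1)) (hperp (om + 1) 1).2.2 hxW,
      C.phi_comm he (hqD om) (hperp om 1).2.2 hxW, C.phi_comm he (hqD 1) (hperp 1 1).2.2 hxW,
      mul_one, mul_one, mul_one, mul_one] at h1'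
    rw [C.conj_eq mall, C.phi_mul hqy (W.mul_mem (W.mul_mem hxW m3) m2) m1,
      C.phi_mul hqy (W.mul_mem hxW m3) m2, C.phi_mul hqy hxW m3,
      C.phi_comm hqy (hqD (om + 1)) (hperp (om + 1) 1).2.1 hxW,
      C.phi_comm hqy (hqD om) (hperp om 1).2.1 hxW, C.phi_comm hqy (hqD 1) (hperp 1 1).2.1 hxW,
      mul_one, mul_one, mul_one] at h1'
    have h2' : x * (phi (q (om + 1)) x * phi (q om) x * phi (q 1) x * phi qy x) = x * 1 := by
      simpa only [mul_assoc, mul_one] using h1'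
    have h3' := mul_left_cancel h2'
    rw [C.hab _ my _ m123]
    rw [C.hab _ (W.mul_mem m3 m2) _ m1, C.hab _ m3 _ m2] at h3'
    simpa only [mul_assoc] using h3'
  have hqyd : phi d₀ (phi qy x) = 1 := C.phi_comm hd₀ hqy (perp_comm S hd₀ hqy hd₀d hqyv
    ((f_eq_zero_comm S.hf).1 hyY.2)) hxW
  have m1 := C.phi_mem (hqD 1) hxW
  have m2 := C.phi_mem (hqD om) hxW
  have m3 := C.phi_mem (hqD (om + 1)) hxW
  have my := C.phi_mem hqy hxW
  have hs1 : s = 1 := by
    have h := congrArg (phi d₀) hrel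
    rw [C.phi_mul hd₀ my (W.mul_mem m1 (W.mul_mem m2 m3)), C.phi_mul hd₀ m1 (W.mul_mem m2 m3),
      C.phi_mul hd₀ m2 m3, hqyd, s2, s3, ← hs, one_mul, C.phi_one hd₀,
      C.hsq s (C.phi_mem hd₀ m1), mul_one] at h
    exact h
  have hline : ∀ c : F, c ≠ 0 → phi (q c) x = 1 := by
    intro c hc
    have hnc : ¬ Commute (q c) d₀ :=
      not_comm S (hqv c) hd₀d (by rw [(line_isotropic S hP hyY hyy c).2.2]; exact hc)
    have hc3 : c = 1 ∨ c = om ∨ c = om + 1 := by
      have hc1 := norm_one S.hf S.h2 S.hfix hc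
      rcases S.hfix (c + σ c) (by rw [map_add, S.hf.involutive, add_comm]) with h0 | h0
      · have hsig : σ c = c := by linear_combination h0 - c * S.h2
        rcases S.hfix c hsig with h | h
        · exact absurd h hc
        · exact Or.inl h
      · right
        have : (c + om) * (c + (om + 1)) = 0 := by
          linear_combination -hc1 + c * h0 + S.hw + (om * c) * S.h2 + (c - 1) * S.h2
        rcases mul_eq_zero.1 this with h | h
        · exact Or.inl (by linear_combination h - om * S.h2)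
        · exact Or.inr (by linear_combination h - (om + 1) * S.h2)
    have hsc : phi d₀ (phi (q c) x) = 1 := by
      rcases hc3 with h | h | h <;> subst h
      · exact hs1
      · exact s2.trans hs1
      · exact s3.trans hs1
    rw [← C.phi_braid (hqD c) hd₀ hnc hxW, hsc, C.phi_one (hqD c)]
  have hom1 : om + 1 ≠ 0 := fun h => by rw [h, mul_zero] at hom3; exact zero_ne_one hom3
  have hy1 : phi qy x = 1 := by
    rw [hline 1 one_ne_zero, hline om hom0, hline _ hom1, mul_one, mul_one, mul_one] at hrel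
    exact hrel
  by_cases hc : f v d = 0
  · rw [← hy1]
    refine phi_img S hb hqy (hbv.trans ((tau_congr S.hf S.h2 S.hfix ?_).trans hqyv.symm)) hxW
    conv_lhs => rw [hvc, hc, zero_smul, zero_add]
  · rw [← hline _ hc]
    exact phi_img S hb (hqD _) (hbv.trans ((tau_congr S.hf S.h2 S.hfix hvc).trans (hqv _).symm)) hxW

/-- The scalar on Y fixes nothing centralised by the plane. -/
theorem z_fpf {p d : ι → F} (hP : IsPlane f p d) {x₀ : G} (hx₀ : IsZ f om p d (π x₀)) {x : G}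
    (hxW : x ∈ W) (hxz : Commute x x₀) (hxp : ∀ b ∈ D, π b = htv S.hf p hP.pp 1 → phi b x = 1)
    (hxd : ∀ b ∈ D, π b = htv S.hf d hP.dd 1 → phi b x = 1) : x = 1 := by
  have C := cover S
  have hP' := hP.symm S.hf S.h2 S.hfix
  have hx₀' : IsZ f om d p (π x₀) := ⟨hx₀.1, hx₀.2.2.1, hx₀.2.1, fun w hw => hx₀.2.2.2 w ⟨hw.2, hw.1⟩⟩
  obtain ⟨e, he, hep⟩ := exists_lift S hP.pp (hP.ne_zero S.hf S.h2 S.hfix)
  obtain ⟨g, hg, hgd⟩ := exists_lift S hP.dd (hP'.ne_zero S.hf S.h2 S.hfix)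
  refine C.eq_one_of_fixed he hg (not_comm S hep hgd (by rw [hP.pd]; exact one_ne_zero)) hxW ?_ ?_ <;>
    intro b hb hbc <;> obtain ⟨v, hv, hv0, hbv⟩ := exists_vec S hb
  · refine (C.phi_eq_one_iff hb).1 (z_fixed_perp S hP hx₀ hxW hxz hxp hv hv0 ?_ hb hbv)
    by_contra h
    exact not_comm S hep hbv h hbc.symm
  · refine (C.phi_eq_one_iff hb).1 (z_fixed_perp S hP' hx₀' hxW hxz hxd hv hv0 ?_ hb hbv)
    by_contra h
    exact not_comm S hgd hbv h hbc.symm

/-- The scalar on Y fixes nothing in the image of a member of Y. -/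
theorem z_fpf_image {p d y y' a : ι → F} (hF : IsFrame f p d y y' a) {x₀ b x : G}
    (hx₀ : IsZ f om p d (π x₀)) (hb : b ∈ D) (hby : π b = htv S.hf y hF.Q.pp 1) (hxW : x ∈ W)
    (hxz : Commute (phi b x) x₀) : phi b x = 1 := by
  have C := cover S
  obtain ⟨c, hc, hcy⟩ := exists_lift S hF.Q.dd ((hF.Q.symm S.hf S.h2 S.hfix).ne_zero S.hf S.h2 S.hfix)
  have h1 : phi c (phi b x) = 1 := by
    refine z_fixed_perp S hF.P hx₀ (C.phi_mem hb hxW) hxz (fun e he hep => ?_) hF.Q.dd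
      ((hF.Q.symm S.hf S.h2 S.hfix).ne_zero S.hf S.h2 S.hfix) hF.hy'.1 hc hcy
    exact C.phi_comm he hb (perp_comm S he hb hep hby ((f_eq_zero_comm S.hf).1 hF.hy.1)) hxW
  rw [← C.phi_braid hb hc (not_comm S hby hcy (by rw [hF.Q.pd]; exact one_ne_zero)) hxW, h1, C.phi_one hb]

/-- The scalar attached to a unit vector fixes nothing. -/
theorem zeta_fpf {a : ι → F} (haa : f a a = 1) {x₀ : G} (hx₀ : IsZeta f om a (π x₀)) {x : G}
    (hxW : x ∈ W) (hxz : Commute x x₀) : x = 1 := by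
  have C := cover S
  have hom0 : om ≠ 0 := fun h => by have := S.hw; simp [h] at this
  -- x is fixed by every transvection orthogonal to a
  have hperp : ∀ v (hv : f v v = 0), v ≠ 0 → f a v = 0 → ∀ b ∈ D, π b = htv S.hf v hv 1 → phi b x = 1 := by
    intro v hv hv0 hav b hb hbv
    set x' := phi b x with hx'
    have hx'W : x' ∈ W := C.phi_mem hb hxW
    have hx'z : Commute x' x₀ := by
      obtain ⟨h', e'⟩ := tau_smul S.hf S.h2 S.hfix hv hom0
      have h1 : x₀ * x' * x₀⁻¹ = x' := by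
        rw [hx', conj_phi S hb hb hbv (hw := h') (hbv.trans e'.symm)
          (hx₀.2.2 v ((f_eq_zero_comm S.hf).1 hav)) hxW, show x₀ * x * x₀⁻¹ = x by
            rw [← hxz.eq, mul_inv_cancel_right]]
      exact (mul_inv_eq_iff_eq_mul.1 h1).symm
    obtain ⟨d, y, y', hF⟩ := frame_of_unit S.hf S.h2 S.hfix S.hn haa hv hv0 hav
    have hF' := isFrame_swap S.hf S.h2 S.hfix hF
    -- the scalar of the plane through v fixes the image
    obtain ⟨g, hg, hgZ⟩ := exists_Z S.hf S.h2 S.hfix S.hn S.hw hF.P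
      (H := (Subgroup.centralizer ({x'} : Set G)).map π) (fun u hu huY =>
        tau_mem_centralizer S hx'W hu fun _ c hc hcu =>
          C.phi_comm hc hb (perp_comm S hc hb hcu hbv huY.1) hxW)
    obtain ⟨k, hk, hkg⟩ := hg
    obtain ⟨z, -, hzZ⟩ := exists_Z S.hf S.h2 S.hfix S.hn S.hw hF'.P (H := ⊤) fun _ _ _ => Subgroup.mem_top _
    obtain ⟨z₀, hz₀⟩ := surj S hzZ.1
    have hζ : π x₀ = z * g := IsZeta.unique S.hf S.h2 S.hfix haa hx₀
      (Z_mul_eq_zeta S.hf S.h2 S.hfix S.hn S.hw hF' hzZ hgZ)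
    have hkc : Commute x' k := (Subgroup.mem_centralizer_singleton_iff.1 hk).symm
    have hm : z₀⁻¹ * (x₀ * k⁻¹) ∈ W := (mem_W S).1 (by
      rw [map_mul, map_inv, map_mul, map_inv, hz₀, hkg, hζ, mul_inv_cancel_right, inv_mul_cancel])
    have h2' := (hx'z.mul_right hkc.inv_right).mul_right ((C.hab x' hx'W _ (W.inv_mem hm)))
    have hz₀c : Commute x' z₀ := by
      rw [show x₀ * k⁻¹ * (z₀⁻¹ * (x₀ * k⁻¹))⁻¹ = z₀ by group] at h2'
      exact h2'
    exact z_fpf_image S hF' (hz₀ ▸ hzZ) hb hbv hxW hz₀c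
  -- hence by a scalar of a plane
  obtain ⟨v, hv0, hvv, hav⟩ : ∃ v, v ≠ 0 ∧ f v v = 0 ∧ f a v = 0 := by
    have haa' : f a a ≠ 0 := by rw [haa]; exact one_ne_zero
    have hX4 : 1 + Module.finrank F ↥(orth S.hf (Submodule.span F {a})) = 5 :=
      (congrArg (· + _) (finrank_span_single S.hf haa').symm).trans
        ((finrank_orth_add S.hf (nondeg_span_single S.hf haa')).trans ((Module.finrank_pi F).trans S.hn))
    obtain ⟨v, hv, hv0, hvv⟩ :=
      exists_isotropic S.hf (nondeg_orth S.hf (nondeg_span_single S.hf haa')) (by omega)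
    exact ⟨v, hv0, hvv, (orth_span_single_mem S.hf).1 hv⟩
  obtain ⟨d, y, y', hF⟩ := frame_of_unit S.hf S.h2 S.hfix S.hn haa hvv hv0 hav
  obtain ⟨g, hg, hgZ⟩ := exists_Z_twist S.hf S.h2 S.hfix S.hn S.hw hF hx₀
    (H := (Subgroup.centralizer ({x} : Set G)).map π) (fun u hu hau =>
      tau_mem_centralizer S hxW hu fun hu0 c hc hcu => hperp u hu hu0 hau c hc hcu)
  obtain ⟨k, hk, hkg⟩ := hg
  have hkc : Commute x k := (Subgroup.mem_centralizer_singleton_iff.1 hk).symm
  refine z_fpf S hF.P (x₀ := k * x₀ * (k * x₀)) (by rwa [map_mul, map_mul, hkg]) hxW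
    ((hkc.mul_right hxz).mul_right (hkc.mul_right hxz)) ?_ ?_
  · exact fun b hb hbv => hperp v hvv hv0 hav b hb hbv
  · exact fun b hb hbd => hperp d hF.P.dd ((hF.P.symm S.hf S.h2 S.hfix).ne_zero S.hf S.h2 S.hfix)
      ((f_eq_zero_comm S.hf).1 hF.ha.2) b hb hbd

end Cfsg.Agent.Fischer.SUFiveCover
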