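import Cfsg.Agent.Lib.Fischer.SUFiveCover

/-!
The elementary abelian kernel of a cover of SU₅(2) has a complement.
-/

set_option autoImplicit false
set_option linter.unusedSectionVars false

namespace Cfsg.Agent.Fischer.SUFiveCover

open scoped Matrix
open Matrix Cfsg.Agent.Transvec Cfsg.Agent.Transvec.Herm Cfsg.Agent.Fischer.UnitaryPerp
  Cfsg.Agent.Fischer.UnitaryFive Cfsg.Agent.Fischer.CoverAction

variable {G : Type*} [Group G] [Finite G]
variable {ι : Type} [Fintype ι] [DecidableEq ι] {F : Type*} [Field F] [Finite F]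
variable {σ : F ≃+* F} {f : (ι → F) → (ι → F) → F} {om : F} {π : G →* GL ι F} {D : Set G} {W : Subgroup G}
variable (S : Setup σ f om π D W)

local notation "SS" => preserving (Units.coeHom (Matrix ι ι F)) f ⊓ Geo.specialLinear ι F

/-- The setting: two lifts of a plane and a lift of its scalar commuting with both. -/
structure Base (S : Setup σ f om π D W) (p d : ι → F) (e d₀ x₀ : G) : Prop where
  hP : IsPlane f p d
  he : e ∈ D
  hd : d₀ ∈ D
  hep : π e = htv S.hf p hP.pp 1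
  hdd : π d₀ = htv S.hf d hP.dd 1
  hz : IsZ f om p d (π x₀)
  hze : Commute x₀ e
  hzd : Commute x₀ d₀

/-- The elements commuting with the base. -/
def InL (e d₀ x₀ x : G) : Prop := Commute x e ∧ Commute x d₀ ∧ Commute x x₀

/-- A lift of a perpendicular transvection centralised by the lifted scalar of a unit vector. -/
def IsQ (S : Setup σ f om π D W) (p d : ι → F) (e d₀ x₀ : G) (v : ι → F) (q : G) : Prop :=
  ∃ hv : f v v = 0, v ≠ 0 ∧ f p v = 0 ∧ q ∈ D ∧ π q = htv S.hf v hv 1 ∧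
    ∃ a, InY f p d a ∧ f a a = 1 ∧ f a (pr S.hf p d v) = 0 ∧
      ∃ x, InL e d₀ x₀ x ∧ IsZeta f om a (π x) ∧ Commute q x

include S

/-- An element of W moving one lift and fixing a non-commuting one. -/
theorem lift_pair {p d : ι → F} (hP : IsPlane f p d) {e d₀ : G} (he : e ∈ D) (hd : d₀ ∈ D)
    (hep : π e = htv S.hf p hP.pp 1) (hdd : π d₀ = htv S.hf d hP.dd 1) {g : GL ι F} (hg : g ∈ SS)
    (h1 : g * htv S.hf p hP.pp 1 * g⁻¹ = htv S.hf p hP.pp 1)
    (h2 : g * htv S.hf d hP.dd 1 * g⁻¹ = htv S.hf d hP.dd 1) :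
    ∃ x, π x = g ∧ Commute x e ∧ Commute x d₀ := by
  have C := cover S
  have hed : ¬ Commute e d₀ := not_comm S hep hdd (by rw [hP.pd]; exact one_ne_zero)
  obtain ⟨x, hx⟩ := surj S hg
  have hde : ¬ Commute d₀ e := fun h => hed h.symm
  have himg : ∀ {a : G}, a ∈ D → π (x * a * x⁻¹) = π a → x * a * x⁻¹ * a ∈ W := fun {a} ha h =>
    (mem_W S).1 (by rw [map_mul, h, ← map_mul, TSet.sq S.hD.1 ha, map_one])
  obtain ⟨u, hu, hue⟩ := C.fibre he (TClass.conjInv S.hD x e he) hd hde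
    (himg he (by rw [map_mul, map_mul, map_inv, hx, hep, h1]))
  have huW : π u = 1 := (mem_W S).2 hu
  set x₁ := u⁻¹ * x with hx₁
  have hx₁π : π x₁ = g := by rw [hx₁, map_mul, map_inv, huW, inv_one, one_mul, hx]
  have hx₁e : Commute x₁ e := by
    refine mul_inv_eq_iff_eq_mul.1 ?_
    rw [hx₁, show u⁻¹ * x * e * (u⁻¹ * x)⁻¹ = u⁻¹ * (x * e * x⁻¹) * u by group, hue]
    group
  obtain ⟨w, hw, hwd⟩ := C.fibre hd (TClass.conjInv S.hD x₁ d₀ hd) he hed ((mem_W S).1 (by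
    rw [map_mul, map_mul, map_mul, map_inv, hx₁π, hdd, h2, ← hdd, ← map_mul, TSet.sq S.hD.1 hd, map_one]))
  -- adjust w to centralise e
  set w' := phi e (phi d₀ w) with hw'def
  have hdw := C.phi_mem hd hw
  have hw' : w' ∈ W := C.phi_mem he hdw
  have hw'e : Commute w' e := (C.phi_eq_one_iff he).1 (C.phi_self_phi he hdw)
  have hw'd : phi d₀ w' = phi d₀ w := C.phi_braid hd he hde hw
  have hconj : w * d₀ * w⁻¹ = w' * d₀ * w'⁻¹ := mul_right_cancel hw'd.symm
  refine ⟨w'⁻¹ * x₁, by rw [map_mul, map_inv, (mem_W S).2 hw', inv_one, one_mul, hx₁π],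
    hw'e.inv_left.mul_left hx₁e, mul_inv_eq_iff_eq_mul.1 ?_⟩
  rw [show w'⁻¹ * x₁ * d₀ * (w'⁻¹ * x₁)⁻¹ = w'⁻¹ * (x₁ * d₀ * x₁⁻¹) * w' by group, hwd, hconj]
  group

theorem exists_base {p d : ι → F} (hP : IsPlane f p d) : ∃ e d₀ x₀, Base S p d e d₀ x₀ := by
  obtain ⟨e, he, hep⟩ := exists_lift S hP.pp (hP.ne_zero S.hf S.h2 S.hfix)
  obtain ⟨d₀, hd, hdd⟩ := exists_lift S hP.dd ((hP.symm S.hf S.h2 S.hfix).ne_zero S.hf S.h2 S.hfix)
  obtain ⟨z, -, hz⟩ := exists_Z S.hf S.h2 S.hfix S.hn S.hw hP (H := ⊤) fun _ _ _ => Subgroup.mem_top _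
  obtain ⟨x₀, hx₀, h1, h2⟩ := lift_pair S hP he hd hep hdd hz.1
    (tau_conj S.hf S.h2 S.hfix hz.1 hz.2.1) (tau_conj S.hf S.h2 S.hfix hz.1 hz.2.2.1)
  exact ⟨e, d₀, x₀, hP, he, hd, hep, hdd, hx₀ ▸ hz, h1, h2⟩

variable {p d : ι → F} {e d₀ x₀ : G} (B : Base S p d e d₀ x₀)

include B

theorem L_inter {x : G} (hx : InL e d₀ x₀ x) (hxW : x ∈ W) : x = 1 := by
  have C := cover S
  refine z_fpf S B.hP B.hz hxW hx.2.2 (fun b hb hbp => ?_) fun b hb hbd => ?_
  · rw [phi_img S hb B.he (hbp.trans B.hep.symm) hxW]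
    exact (C.phi_eq_one_iff B.he).2 hx.1
  · rw [phi_img S hb B.hd (hbd.trans B.hdd.symm) hxW]
    exact (C.phi_eq_one_iff B.hd).2 hx.2.1

omit B in
theorem L_mul {x y : G} (hx : InL e d₀ x₀ x) (hy : InL e d₀ x₀ y) : InL e d₀ x₀ (x * y) :=
  ⟨hx.1.mul_left hy.1, hx.2.1.mul_left hy.2.1, hx.2.2.mul_left hy.2.2⟩

omit B in
theorem L_inv {x : G} (hx : InL e d₀ x₀ x) : InL e d₀ x₀ x⁻¹ :=
  ⟨hx.1.inv_left, hx.2.1.inv_left, hx.2.2.inv_left⟩

theorem L_eq {x y : G} (hx : InL e d₀ x₀ x) (hy : InL e d₀ x₀ y) (h : π x = π y) : x = y :=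
  (inv_mul_eq_one.1 (L_inter S B (L_mul S (L_inv S hy) hx)
    ((mem_W S).1 (by rw [map_mul, map_inv, h, inv_mul_cancel])))).symm

theorem L_surj {g : GL ι F} (hg : g ∈ SS)
    (h1 : g * htv S.hf p B.hP.pp 1 * g⁻¹ = htv S.hf p B.hP.pp 1)
    (h2 : g * htv S.hf d B.hP.dd 1 * g⁻¹ = htv S.hf d B.hP.dd 1)
    (h3 : g * π x₀ = π x₀ * g) : ∃ x, π x = g ∧ InL e d₀ x₀ x := by
  have C := cover S
  obtain ⟨x, hx, hxe, hxd⟩ := lift_pair S B.hP B.he B.hd B.hep B.hdd hg h1 h2
  set WY := W ⊓ Subgroup.centralizer ({e, d₀} : Set G) with hWY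
  have memY : ∀ {u : G}, u ∈ WY ↔ u ∈ W ∧ Commute u e ∧ Commute u d₀ := by
    intro u
    constructor
    · intro hu
      have := Subgroup.mem_centralizer_iff.1 (show u ∈ Subgroup.centralizer ({e, d₀} : Set G) from hu.2)
      exact ⟨hu.1, (this e (Set.mem_insert _ _)).symm, (this d₀ (Set.mem_insert_of_mem _ rfl)).symm⟩
    · rintro ⟨h1, h1', h2'⟩
      refine ⟨h1, Subgroup.mem_centralizer_iff.2 fun z hz => ?_⟩
      rcases hz with rfl | rfl
      · exact h1'.eq.symm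
      · exact h2'.eq.symm
  set w := x * x₀ * x⁻¹ * x₀⁻¹ with hwdef
  have hwY : w ∈ WY := memY.2 ⟨(mem_W S).1 (by
      rw [hwdef, map_mul, map_mul, map_mul, map_inv, map_inv, hx, h3, mul_inv_cancel_right, mul_inv_cancel]),
    ((hxe.mul_left B.hze).mul_left hxe.inv_left).mul_left B.hze.inv_left,
    ((hxd.mul_left B.hzd).mul_left hxd.inv_left).mul_left B.hzd.inv_left⟩
  obtain ⟨u, hu, huw⟩ := exists_preimage (S := WY) (fun u => u * x₀ * u⁻¹ * x₀⁻¹)
    (fun u hu => memY.2 ⟨by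
        have := W.mul_mem (memY.1 hu).1 (S.hWn.conj_mem _ (W.inv_mem (memY.1 hu).1) x₀)
        rwa [← mul_assoc, ← mul_assoc] at this,
      (((memY.1 hu).2.1.mul_left B.hze).mul_left (memY.1 hu).2.1.inv_left).mul_left B.hze.inv_left,
      (((memY.1 hu).2.2.mul_left B.hzd).mul_left (memY.1 hu).2.2.inv_left).mul_left B.hzd.inv_left⟩)
    (fun u hu v hv => by
      have hm : x₀ * v⁻¹ * x₀⁻¹ ∈ W := S.hWn.conj_mem _ (W.inv_mem (memY.1 hv).1) x₀
      have hv' : v * (x₀ * v⁻¹ * x₀⁻¹) ∈ W := W.mul_mem (memY.1 hv).1 hm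
      have hu' : x₀ * u⁻¹ * x₀⁻¹ ∈ W := S.hWn.conj_mem _ (W.inv_mem (memY.1 hu).1) x₀
      calc u * v * x₀ * (u * v)⁻¹ * x₀⁻¹
          = u * ((v * (x₀ * v⁻¹ * x₀⁻¹)) * (x₀ * u⁻¹ * x₀⁻¹)) := by group
        _ = u * ((x₀ * u⁻¹ * x₀⁻¹) * (v * (x₀ * v⁻¹ * x₀⁻¹))) := by rw [C.hab _ hv' _ hu']
        _ = u * x₀ * u⁻¹ * x₀⁻¹ * (v * x₀ * v⁻¹ * x₀⁻¹) := by group)
    (fun u hu h => L_inter S B ⟨(memY.1 hu).2.1, (memY.1 hu).2.2,
      mul_inv_eq_iff_eq_mul.1 (mul_inv_eq_one.1 h)⟩ (memY.1 hu).1)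
    hwY
  refine ⟨u⁻¹ * x, by rw [map_mul, map_inv, (mem_W S).2 (memY.1 hu).1, inv_one, one_mul, hx],
    (memY.1 hu).2.1.inv_left.mul_left hxe, (memY.1 hu).2.2.inv_left.mul_left hxd, ?_⟩
  have e1 : x * x₀ * x⁻¹ = u * x₀ * u⁻¹ := mul_right_cancel huw.symm
  refine mul_inv_eq_iff_eq_mul.1 ?_
  rw [show u⁻¹ * x * x₀ * (u⁻¹ * x)⁻¹ = u⁻¹ * (x * x₀ * x⁻¹) * u by group, e1]
  group

omit B in
theorem fix_lift {a : ι → F} (haa : f a a = 1) {xa : G} (hxa : IsZeta f om a (π xa)) {v : ι → F}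
    (hv : f v v = 0) (hv0 : v ≠ 0) (hva : f v a = 0) :
    ∃ q ∈ D, π q = htv S.hf v hv 1 ∧ Commute q xa := by
  have C := cover S
  have hom0 : om ≠ 0 := fun h => by have := S.hw; simp [h] at this
  obtain ⟨b, hb, hbv⟩ := exists_lift S hv hv0
  obtain ⟨d, y, y', hF⟩ :=
    frame_of_unit S.hf S.h2 S.hfix S.hn haa hv hv0 ((f_eq_zero_comm S.hf).1 hva)
  obtain ⟨c, hc, hcd⟩ :=
    exists_lift S hF.P.dd ((hF.P.symm S.hf S.h2 S.hfix).ne_zero S.hf S.h2 S.hfix)
  have hcb : ¬ Commute c b := not_comm S hcd hbv (by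
    rw [hF.P.dp S.hf S.h2 S.hfix]; exact one_ne_zero)
  obtain ⟨h', e'⟩ := tau_smul S.hf S.h2 S.hfix hv hom0
  have himg : π (xa * b * xa⁻¹) = π b := by
    rw [map_mul, map_mul, map_inv, hbv,
      tau_conj S.hf S.h2 S.hfix (mem_S S xa) (hw := h') (hxa.2.2 v hva), e']
  obtain ⟨u, hu, hub⟩ := C.fibre hb (TClass.conjInv S.hD xa b hb) hc hcb
    ((mem_W S).1 (by rw [map_mul, himg, ← map_mul, TSet.sq S.hD.1 hb, map_one]))
  have hcm : ∀ {x}, x ∈ W → xa * x * xa⁻¹ ∈ W := fun {x} hx => S.hWn.conj_mem x hx xa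
  -- solve for the translation
  obtain ⟨t, ht, htu⟩ := exists_preimage (S := W) (fun t => xa * t * xa⁻¹ * t)
    (fun t ht => W.mul_mem (hcm ht) ht)
    (fun t ht s hs => by
      calc xa * (t * s) * xa⁻¹ * (t * s) = (xa * t * xa⁻¹) * ((xa * s * xa⁻¹) * t) * s := by group
        _ = (xa * t * xa⁻¹) * (t * (xa * s * xa⁻¹)) * s := by rw [C.hab _ (hcm hs) t ht]
        _ = xa * t * xa⁻¹ * t * (xa * s * xa⁻¹ * s) := by group)
    (fun t ht h => zeta_fpf S haa hxa ht (by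
      have h1 := eq_inv_of_mul_eq_one_left h
      rw [C.inv ht] at h1
      exact (mul_inv_eq_iff_eq_mul.1 h1).symm))
    (y := u) hu
  refine ⟨t * b * t⁻¹, TClass.conjInv S.hD t b hb, by
    rw [map_mul, map_mul, map_inv, (mem_W S).2 ht, inv_one, one_mul, mul_one, hbv], ?_⟩
  have e1 : xa * (t * b * t⁻¹) * xa⁻¹ = (xa * t * xa⁻¹) * (xa * b * xa⁻¹) * (xa * t * xa⁻¹)⁻¹ := by group
  have e2 : xa * t * xa⁻¹ = u * t := by
    rw [← htu, mul_assoc (xa * t * xa⁻¹), C.hsq t ht, mul_one]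
  refine (mul_inv_eq_iff_eq_mul.1 (?_ : xa * (t * b * t⁻¹) * xa⁻¹ = t * b * t⁻¹)).symm
  have hut : u * t * u = t := by rw [C.hab u hu t ht, mul_assoc, C.hsq u hu, mul_one]
  rw [e1, hub, e2]
  calc u * t * (u * b * u⁻¹) * (u * t)⁻¹ = (u * t * u) * b * (u * t * u)⁻¹ := by group
    _ = t * b * t⁻¹ := by rw [hut]

omit B in
theorem zeta_unique_lift {a : ι → F} (haa : f a a = 1) {xa q q' : G} (hxa : IsZeta f om a (π xa))
    (h : π q = π q') (hq : Commute q xa) (hq' : Commute q' xa) : q = q' :=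
  (inv_mul_eq_one.1 (zeta_fpf S haa hxa ((mem_W S).1 (by rw [map_mul, map_inv, h, inv_mul_cancel]))
    (hq.inv_left.mul_left hq'))).trans rfl

theorem exists_zeta_L {a : ι → F} (ha : InY f p d a) (haa : f a a = 1) :
    ∃ x, InL e d₀ x₀ x ∧ IsZeta f om a (π x) := by
  have hap : f a p = 0 := (f_eq_zero_comm S.hf).1 ha.1
  have had : f a d = 0 := (f_eq_zero_comm S.hf).1 ha.2
  obtain ⟨w, y, y', hF⟩ :=
    frame_of_unit S.hf S.h2 S.hfix S.hn haa B.hP.pp (B.hP.ne_zero S.hf S.h2 S.hfix) hap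
  obtain ⟨z, -, hz⟩ := exists_Z S.hf S.h2 S.hfix S.hn S.hw hF.P (H := ⊤) fun _ _ _ => Subgroup.mem_top _
  obtain ⟨z', -, hz'⟩ := exists_Z S.hf S.h2 S.hfix S.hn S.hw hF.Q (H := ⊤) fun _ _ _ => Subgroup.mem_top _
  have hζ := Z_mul_eq_zeta S.hf S.h2 S.hfix S.hn S.hw hF hz hz'
  set ζ := z * z'
  have hom0 : om ≠ 0 := fun h => by have := S.hw; simp [h] at this
  have hfixt : ∀ u (hu : f u u = 0), f u a = 0 →
      ζ * htv S.hf u hu 1 * ζ⁻¹ = htv S.hf u hu 1 := fun u hu hua => by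
    obtain ⟨h', e'⟩ := tau_smul S.hf S.h2 S.hfix hu hom0
    rw [tau_conj S.hf S.h2 S.hfix hζ.1 (hw := h') (hζ.2.2 u hua), e']
  obtain ⟨x, hx, hxL⟩ := L_surj S B hζ.1 (hfixt p B.hP.pp ((f_eq_zero_comm S.hf).1 hap))
    (hfixt d B.hP.dd ((f_eq_zero_comm S.hf).1 had)) (by
      refine ext_mv fun t => ?_
      set t' := t + f t a • a with ht'
      have h0 : f t' a = 0 := by
        rw [ht', S.hf.add_left, S.hf.smul_left, haa, mul_one, add_self S.hf S.h2 S.hfix]
      have htt : t = t' + f t a • a := by rw [ht', add_assoc, vadd_self S.hf S.h2 S.hfix, add_zero]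
      have hza : mv (π x₀) a = om • a := B.hz.2.2.2 a ha
      have h0' : f (mv (π x₀) t') a = 0 := by
        have h1 := B.hz.1.1 t' a
        change f (mv (π x₀) t') (mv (π x₀) a) = f t' a at h1
        rw [h0, hza, smul_right S.hf] at h1
        exact (mul_eq_zero.1 h1).resolve_left fun h => hom0 ((map_eq_zero_iff σ σ.injective).1 h)
      clear_value t'
      rw [htt]
      simp only [mv_mul, mv_add, mv_smul, hζ.2.1, hza, hζ.2.2 t' h0, hζ.2.2 _ h0']
      module)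
  exact ⟨x, hxL, hx ▸ hζ⟩

theorem isQ_exists {v : ι → F} (hv : f v v = 0) (hv0 : v ≠ 0) (hpv : f p v = 0) {a : ι → F}
    (ha : InY f p d a) (haa : f a a = 1) (hay : f a (pr S.hf p d v) = 0) :
    ∃ q, IsQ S p d e d₀ x₀ v q := by
  obtain ⟨x, hxL, hxa⟩ := exists_zeta_L S B ha haa
  obtain ⟨q, hq, hqv, hqx⟩ := fix_lift S haa hxa hv hv0 (by
    refine (f_eq_zero_comm S.hf).1 ?_
    rwa [pr, add_right S.hf, smul_right S.hf, (f_eq_zero_comm S.hf).1 ha.1, mul_zero, add_zero] at hay)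
  exact ⟨q, hv, hv0, hpv, hq, hqv, a, ha, haa, hay, x, hxL, hxa, hqx⟩

theorem isQ_e : IsQ S p d e d₀ x₀ p e := by
  obtain ⟨y, hy, hy0, hyy⟩ := exists_Y_isotropic S.hf S.h2 S.hfix S.hn B.hP
  obtain ⟨y', a, hF⟩ := exists_frame S.hf S.h2 S.hfix S.hn B.hP hy hy0 hyy
  obtain ⟨x, hxL, hxa⟩ := exists_zeta_L S B hF.ha hF.aa
  refine ⟨B.hP.pp, B.hP.ne_zero S.hf S.h2 S.hfix, B.hP.pp, B.he, B.hep, a, hF.ha, hF.aa, ?_, x, hxL, hxa,
    hxL.1.symm⟩
  rw [pr, B.hP.pd, one_smul, vadd_self S.hf S.h2 S.hfix, zero_right S.hf]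

/-- Lifts fixed by scalars lying in Y are in the centraliser of the base. -/
theorem isQ_inY {y : ι → F} {q : G} (hy : InY f p d y) (hq : IsQ S p d e d₀ x₀ y q) :
    InL e d₀ x₀ q := by
  obtain ⟨hv, hv0, -, hqD, hqv, a, ha, haa, hay, x, hxL, hxa, hqx⟩ := hq
  refine ⟨perp_comm S hqD B.he hqv B.hep hy.1, perp_comm S hqD B.hd hqv B.hdd hy.2, ?_⟩
  have hom0 : om ≠ 0 := fun h => by have := S.hw; simp [h] at this
  obtain ⟨h', e'⟩ := tau_smul S.hf S.h2 S.hfix hv hom0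
  have h1 : x₀ * q * x₀⁻¹ = q := by
    refine zeta_unique_lift S haa hxa ?_ ?_ hqx
    · rw [map_mul, map_mul, map_inv, hqv,
        tau_conj S.hf S.h2 S.hfix (mem_S S x₀) (hw := h') (B.hz.2.2.2 y hy), e']
    · exact ((hxL.2.2.symm).mul_left hqx).mul_left hxL.2.2.symm.inv_left
  exact (mul_inv_eq_iff_eq_mul.1 h1).symm

theorem L_zeta_commute {y : ι → F} (hy : InY f p d y) {q : G} (hq : IsQ S p d e d₀ x₀ y q) {a' : ι → F}
    (hay' : f a' y = 0) {x' : G} (hx'L : InL e d₀ x₀ x') (hx'a : IsZeta f om a' (π x')) : Commute q x' := by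
  have hqL := isQ_inY S B hy hq
  obtain ⟨hv, -, -, -, hqv, -⟩ := hq
  have hom0 : om ≠ 0 := fun h => by have := S.hw; simp [h] at this
  obtain ⟨h', e'⟩ := tau_smul S.hf S.h2 S.hfix hv hom0
  have h1 : x' * q * x'⁻¹ = q := by
    refine L_eq S B (L_mul S (L_mul S hx'L hqL) (L_inv S hx'L)) hqL ?_
    rw [map_mul, map_mul, map_inv, hqv,
      tau_conj S.hf S.h2 S.hfix (mem_S S x') (hw := h') (hx'a.2.2 y ((f_eq_zero_comm S.hf).1 hay')), e']
  exact (mul_inv_eq_iff_eq_mul.1 h1).symm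

/-- A lift fixed by the scalar of one unit vector is fixed by all of them. -/
theorem isQ_indep {v : ι → F} {q : G} (hq : IsQ S p d e d₀ x₀ v q) {a' : ι → F} (ha' : InY f p d a')
    (ha'a' : f a' a' = 1) (hay' : f a' (pr S.hf p d v) = 0) {x' : G} (hx'L : InL e d₀ x₀ x')
    (hx'a : IsZeta f om a' (π x')) : Commute q x' := by
  have C := cover S
  have hq₀ := hq
  obtain ⟨hv, hv0, hpv, hqD, hqv, a, ha, haa, hay, x, hxL, hxa, hqx⟩ := hq
  set y := pr S.hf p d v with hydef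
  have hyY : InY f p d y := pr_mem S.hf S.h2 S.hfix B.hP hpv
  have hyy : f y y = 0 := pr_self S.hf S.h2 S.hfix B.hP hpv hv
  have hvc : v = f v d • p + y := by
    rw [hydef, pr]
    linear_combination (norm := module) -(vadd_self S.hf S.h2 S.hfix (f v d • p))
  clear_value y
  by_cases hy0 : y = 0
  · -- the point p itself
    have hc : f v d ≠ 0 := fun h => hv0 (by rw [hvc, h, hy0, zero_smul, add_zero])
    obtain ⟨h', e'⟩ := tau_smul S.hf S.h2 S.hfix B.hP.pp hc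
    have hqe : q = e := by
      refine zeta_unique_lift S haa hxa ?_ hqx hxL.1.symm
      rw [hqv, B.hep]
      refine (tau_congr S.hf S.h2 S.hfix (hw := h') ?_).trans e'
      conv_lhs => rw [hvc, hy0, add_zero]
    exact hqe ▸ hx'L.1.symm
  by_cases hc : f v d = 0
  · have hvy : v = y := hvc.trans (by rw [hc, zero_smul, zero_add])
    subst hvy
    exact L_zeta_commute S B hyY hq₀ hay' hx'L hx'a
  -- the lifts along the line
  have hyp : f y p = 0 := (f_eq_zero_comm S.hf).1 hyY.1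
  have hap : f a p = 0 := (f_eq_zero_comm S.hf).1 ha.1
  have ha'p : f a' p = 0 := (f_eq_zero_comm S.hf).1 ha'.1
  have horth : ∀ {b : ι → F}, f b p = 0 → f b y = 0 → ∀ c : F, f (c • p + y) b = 0 := fun hb1 hb2 c => by
    rw [S.hf.add_left, S.hf.smul_left, (f_eq_zero_comm S.hf).1 hb1, (f_eq_zero_comm S.hf).1 hb2, mul_zero,
      add_zero]
  have hne : ∀ c : F, c • p + y ≠ 0 := fun c h => by
    obtain ⟨y', b, hF⟩ := exists_frame S.hf S.h2 S.hfix S.hn B.hP hyY hy0 hyy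
    have h2' := congrArg (fun u => f u y') h
    simp only [S.hf.add_left, S.hf.smul_left, hF.Q.pd, hF.hy'.1, mul_zero, zero_add, zero_left S.hf] at h2'
    exact one_ne_zero h2'
  have liso := fun c => line_isotropic S B.hP hyY hyy c
  choose Q hQD hQv hQx using fun c => fix_lift S haa hxa (liso c).1 (hne c) (horth hap hay c)
  choose Q' hQ'D hQ'v hQ'x using fun c => fix_lift S ha'a' hx'a (liso c).1 (hne c) (horth ha'p hay' c)
  obtain ⟨qy, hqyD, hqyv, hqyx⟩ := fix_lift S haa hxa hyy hy0 ((f_eq_zero_comm S.hf).1 hay)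
  have hpry : pr S.hf p d y = y := by
    rw [pr, (f_eq_zero_comm S.hf).1 hyY.2, zero_smul, add_zero]
  have hqyQ : IsQ S p d e d₀ x₀ y qy :=
    ⟨hyy, hy0, hyY.1, hqyD, hqyv, a, ha, haa, hpry.symm ▸ hay, x, hxL, hxa, hqyx⟩
  have hqyx' : Commute qy x' := L_zeta_commute S B hyY hqyQ hay' hx'L hx'a
  have prodQ : ∀ {a : ι → F} {x : G} (P : F → G), f a a = 1 → IsZeta f om a (π x) → InL e d₀ x₀ x →
      Commute qy x → (∀ c, P c ∈ D) → (∀ c, π (P c) = htv S.hf _ (liso c).1 1) →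
      (∀ c, Commute (P c) x) → qy * e * P 1 * P om * P (om + 1) = 1 := by
    intro a x P haa hxa hxL hqx hPD hPv hPx
    refine zeta_fpf S haa hxa (line_relation S B.hP hyY hy0 hyy B.he hqyD B.hep hqyv (hPD 1) (hPD om)
      (hPD (om + 1)) (hPv 1) (hPv om) (hPv (om + 1))) ?_
    exact (((hqx.mul_left hxL.1.symm).mul_left (hPx 1)).mul_left (hPx om)).mul_left (hPx (om + 1))
  set τ : F → G := fun c => Q' c * Q c with hτ
  have hτW : ∀ c, τ c ∈ W := fun c => (mem_W S).1 (by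
    rw [hτ, map_mul, hQ'v, ← hQv, ← map_mul, TSet.sq S.hD.1 (hQD c), map_one])
  have hQ'eq : ∀ c, Q' c = τ c * Q c := fun c => by
    rw [hτ]; simp only [mul_assoc]; rw [TSet.sq S.hD.1 (hQD c), mul_one]
  obtain ⟨d₁, hd₁, hd₁v⟩ := exists_lift S B.hP.dd ((B.hP.symm S.hf S.h2 S.hfix).ne_zero S.hf S.h2 S.hfix)
  -- images lie in the commutator images
  have hτimg : ∀ c, c ≠ 0 → ∃ w ∈ W, τ c = phi (Q c) w := by
    intro c hc
    obtain ⟨w, hw, hwq⟩ := C.fibre (hQD c) (hQ'D c) hd₁ (fun h => by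
      exact not_comm S (hQv c) hd₁v (by rw [(liso c).2.2]; exact hc) h.symm) (hτW c)
    exact ⟨w, hw, by show Q' c * Q c = _; rw [hwq]; rfl⟩
  have hsum : τ 1 * τ om * τ (om + 1) = 1 := by
    have h1 := prodQ Q haa hxa hxL hqyx hQD hQv hQx
    have h1' := prodQ Q' ha'a' hx'a hx'L hqyx' hQ'D hQ'v hQ'x
    have hcm : ∀ c c', c' ≠ 0 → Commute (Q c) (τ c') := by
      intro c c' hc'
      obtain ⟨w, hw, hwτ⟩ := hτimg c' hc'
      rw [hwτ]
      refine ((C.phi_eq_one_iff (hQD c)).1 (C.phi_comm (hQD c) (hQD c') ?_ hw)).symm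
      refine perp_comm S (hQD c) (hQD c') (hQv c) (hQv c') ?_
      simp only [S.hf.add_left, add_right S.hf, S.hf.smul_left, smul_right S.hf, B.hP.pp, hyY.1, hyp, hyy,
        mul_zero, add_zero]
    have hom0 : om ≠ 0 := fun h => by have := S.hw; simp [h] at this
    have hom1 : om + 1 ≠ 0 := fun h => by
      have := S.hw
      rw [eq_neg_of_add_eq_zero_left h] at this
      norm_num at this
    rw [← h1, hQ'eq, hQ'eq, hQ'eq] at h1'
    simp only [mul_assoc] at h1'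
    have h1'' := mul_left_cancel (mul_left_cancel h1')
    rw [← mul_assoc (Q 1) (τ om), (hcm 1 om hom0).eq, mul_assoc (τ om) (Q 1),
      ← mul_assoc (Q om) (τ (om + 1)), (hcm om _ hom1).eq, mul_assoc (τ (om + 1)) (Q om),
      ← mul_assoc (Q 1) (τ (om + 1)), (hcm 1 _ hom1).eq, mul_assoc (τ (om + 1)) (Q 1),
      ← mul_assoc (τ om), ← mul_assoc (τ 1)] at h1''
    have h3 := mul_eq_right.1 h1''
    rwa [← mul_assoc] at h3
  have hom0 : om ≠ 0 := fun h => by have := S.hw; simp [h] at this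
  have hperm : ∀ {c c' : F}, c = om * c' → phi d₁ (τ c) = phi d₁ (τ c') := by
    intro c c' hcc
    obtain ⟨h', e'⟩ := tau_smul S.hf S.h2 S.hfix (liso c').1 hom0
    have hz : mv (π x₀) (c • p + y) = om • (c' • p + y) := by
      rw [mv_add, mv_smul, B.hz.2.1, B.hz.2.2.2 y hyY, smul_add, smul_smul, ← hcc]
    have key : ∀ {b : ι → F} {x : G} (P : F → G), f b b = 1 → IsZeta f om b (π x) → InL e d₀ x₀ x →
        (∀ k, π (P k) = htv S.hf _ (liso k).1 1) → (∀ k, Commute (P k) x) →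
        x₀ * P c * x₀⁻¹ = P c' := by
      intro b x P hbb hxb hxL hPv hPx
      refine zeta_unique_lift S hbb hxb ?_ ?_ (hPx c')
      · rw [map_mul, map_mul, map_inv, hPv, hPv, tau_conj S.hf S.h2 S.hfix (mem_S S x₀) (hw := h') hz, e']
      · exact ((hxL.2.2.symm).mul_left (hPx c)).mul_left hxL.2.2.symm.inv_left
    have hconj : x₀ * τ c * x₀⁻¹ = τ c' := by
      calc x₀ * (Q' c * Q c) * x₀⁻¹ = (x₀ * Q' c * x₀⁻¹) * (x₀ * Q c * x₀⁻¹) := by group
        _ = Q' c' * Q c' := by rw [key Q' ha'a' hx'a hx'L hQ'v hQ'x, key Q haa hxa hxL hQv hQx]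
    set z' := phi d₁ (τ c)
    have hz' : z' ∈ W := C.phi_mem hd₁ (hτW c)
    have hcm : Commute z' x₀ := by
      refine commute_of_mem_map S hz' (K := Subgroup.centralizer ({z'} : Set G))
        (fun k hk => (Subgroup.mem_centralizer_singleton_iff.1 hk).symm) ?_
      obtain ⟨g, hg, hgZ⟩ := exists_Z S.hf S.h2 S.hfix S.hn S.hw B.hP
        (H := (Subgroup.centralizer ({z'} : Set G)).map π) (fun u hu huY => by
          refine tau_mem_centralizer S hz' hu fun _ k hk hku => ?_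
          exact C.phi_comm hk hd₁ (perp_comm S hk hd₁ hku hd₁v huY.2) (hτW c))
      rwa [IsZ.unique S.hf S.h2 S.hfix S.hn B.hP B.hz hgZ]
    calc z' = x₀ * z' * x₀⁻¹ := by rw [← hcm.eq, mul_inv_cancel_right]
      _ = phi d₁ (x₀ * τ c * x₀⁻¹) :=
          conj_phi S hd₁ hd₁ hd₁v (hw := B.hP.dd) hd₁v B.hz.2.2.1 (hτW c)
      _ = phi d₁ (τ c') := by rw [hconj]
  have hs : phi d₁ (τ 1) = 1 := by
    have homsq : om * om = om + 1 := by linear_combination S.hw - (om + 1) * S.h2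
    have h := congrArg (phi d₁) hsum
    rw [C.phi_mul hd₁ (W.mul_mem (hτW _) (hτW _)) (hτW _), C.phi_mul hd₁ (hτW _) (hτW _), C.phi_one hd₁,
      hperm homsq.symm, hperm (c := om) (c' := 1) (by rw [mul_one]), C.hsq _ (C.phi_mem hd₁ (hτW _)),
      one_mul] at h
    exact h
  have hτ1 : ∀ c, c ≠ 0 → phi d₁ (τ c) = 1 → τ c = 1 := by
    intro c hc h
    obtain ⟨w, hw, hwτ⟩ := hτimg c hc
    rw [hwτ] at h ⊢
    rw [← C.phi_braid (hQD c) hd₁ (not_comm S (hQv c) hd₁v (by rw [(liso c).2.2]; exact hc)) hw, h,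
      C.phi_one (hQD c)]
  have hQeq : Q' (f v d) = Q (f v d) := by
    have hcases : phi d₁ (τ (f v d)) = 1 := by
      have homsq : om * om = om + 1 := by linear_combination S.hw - (om + 1) * S.h2
      have h2' : phi d₁ (τ om) = 1 := (hperm (c := om) (c' := 1) (by rw [mul_one])).trans hs
      have h3' : phi d₁ (τ (om + 1)) = 1 := (hperm homsq.symm).trans h2'
      have hc1 := norm_one S.hf S.h2 S.hfix hc
      rcases S.hfix (f v d + σ (f v d)) (by rw [map_add, S.hf.involutive, add_comm]) with h0 | h0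
      · have hsig : σ (f v d) = f v d := by linear_combination h0 - f v d * S.h2
        rcases S.hfix (f v d) hsig with h | h
        · exact absurd h hc
        · rw [h]; exact hs
      · have : (f v d + om) * (f v d + (om + 1)) = 0 := by
          linear_combination -hc1 + f v d * h0 + S.hw + (om * f v d) * S.h2 + (f v d - 1) * S.h2
        rcases mul_eq_zero.1 this with h | h
        · rw [show f v d = om by linear_combination h - om * S.h2]; exact h2'
        · rw [show f v d = om + 1 by linear_combination h - (om + 1) * S.h2]; exact h3'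
    rw [hQ'eq, hτ1 _ hc hcases, one_mul]
  have hqQ : q = Q (f v d) := zeta_unique_lift S haa hxa
    (hqv.trans ((tau_congr S.hf S.h2 S.hfix hvc).trans (hQv _).symm)) hqx (hQx _)
  rw [hqQ, ← hQeq]
  exact hQ'x _

/-- Two elements centralised by the scalar of a unit vector and equal modulo W. -/
theorem eq_of_zeta {a : ι → F} (haa : f a a = 1) {xa g g' : G} (hxa : IsZeta f om a (π xa))
    (hg : Commute g xa) (hg' : Commute g' xa) (h : π g = π g') : g = g' :=
  zeta_unique_lift S haa hxa h hg hg'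

/-- The generators. -/
def gens (p d : ι → F) (e d₀ x₀ : G) : Set G :=
  {g | g = e ∨ ∃ v q q', IsQ S p d e d₀ x₀ v q ∧ IsQ S p d e d₀ x₀ (pr S.hf p d v) q' ∧ g = q * q'}

omit B in
theorem pr_pr {v : ι → F} (hP : IsPlane f p d) (hpv : f p v = 0) :
    pr S.hf p d (pr S.hf p d v) = pr S.hf p d v := by
  conv_lhs => rw [pr]
  rw [(f_eq_zero_comm S.hf).1 (pr_mem S.hf S.h2 S.hfix hP hpv).2, zero_smul, add_zero]

theorem gen_spec {g : G} (hg : g ∈ gens S p d e d₀ x₀) :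
    π g ∈ UU S.hf p ∧ ∃ y, InY f p d y ∧ f y y = 0 ∧ ∀ a x, InY f p d a → f a a = 1 → f a y = 0 →
      InL e d₀ x₀ x → IsZeta f om a (π x) → Commute g x := by
  rcases hg with rfl | ⟨v, q, q', hq, hq', rfl⟩
  · refine ⟨B.hep ▸ tau_mem_UU S.hf S.h2 S.hfix B.hP.pp, ?_⟩
    obtain ⟨y, hy, -, hyy⟩ := exists_Y_isotropic S.hf S.h2 S.hfix S.hn B.hP
    exact ⟨y, hy, hyy, fun a x _ _ _ hxL _ => hxL.1.symm⟩
  · have hq₀ := hq
    have hq'₀ := hq'
    obtain ⟨hv, hv0, hpv, -, hqv, -⟩ := hq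
    obtain ⟨hy, hy0, -, -, hq'v, -⟩ := hq'
    set y := pr S.hf p d v with hydef
    have hyY : InY f p d y := pr_mem S.hf S.h2 S.hfix B.hP hpv
    have hvc : v = f v d • p + y := by
      rw [hydef, pr]
      linear_combination (norm := module) -(vadd_self S.hf S.h2 S.hfix (f v d • p))
    refine ⟨?_, y, hyY, hy, fun a x ha haa hay hxL hxa =>
      (isQ_indep S B hq₀ ha haa hay hxL hxa).mul_left (isQ_indep S B hq'₀ ha haa
        (by rw [hydef, pr_pr S B.hP hpv]; exact hay) hxL hxa)⟩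
    rw [map_mul, hqv, hq'v]
    by_cases hc : f v d = 0
    · have : htv S.hf v hv 1 = htv S.hf y hy 1 :=
        tau_congr S.hf S.h2 S.hfix (hvc.trans (by rw [hc, zero_smul, zero_add]))
      rw [this, tau_sq S.hf S.h2 S.hfix]
      exact Subgroup.one_mem _
    · -- scale to a shift
      set b := (f v d)⁻¹ with hb
      have hb0 : b ≠ 0 := inv_ne_zero hc
      obtain ⟨h₁, e₁⟩ := tau_smul S.hf S.h2 S.hfix hv hb0
      obtain ⟨h₂, e₂⟩ := tau_smul S.hf S.h2 S.hfix hy hb0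
      have hbv : b • v = p + b • y := by
        conv_lhs => rw [hvc]
        rw [smul_add, smul_smul, hb, inv_mul_cancel₀ hc, one_smul]
      have h₁' : f (p + b • y) (p + b • y) = 0 := hbv ▸ h₁
      rw [← e₁, ← e₂, tau_congr S.hf S.h2 S.hfix (hw := h₁') hbv]
      exact shift_mem_UU S.hf S.h2 S.hfix B.hP.pp h₂ (by rw [smul_right S.hf, hyY.1, mul_zero]) h₁'

theorem UU_le_gens : UU S.hf p ≤ (Subgroup.closure (gens S p d e d₀ x₀)).map π := by
  refine UU_le S.hf S.h2 S.hfix S.hn B.hP ⟨e, Subgroup.subset_closure (Or.inl rfl), B.hep⟩ ?_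
  intro w hw h hwY
  rcases eq_or_ne w 0 with rfl | hw0
  · refine ⟨e, Subgroup.subset_closure (Or.inl rfl), ?_⟩
    refine B.hep.trans (ext_mv fun z => ?_)
    simp [mv_mul, mv_htv]
  obtain ⟨y', a, hF⟩ := exists_frame S.hf S.h2 S.hfix S.hn B.hP hwY hw0 hw
  have haw : f a w = 0 := (f_eq_zero_comm S.hf).1 hF.ya
  have hwd : f w d = 0 := (f_eq_zero_comm S.hf).1 hwY.2
  have hpr : pr S.hf p d (p + w) = w := by
    conv_rhs => rw [← pr_eq S.hf S.h2 S.hfix B.hP hwY 1, one_smul]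
  have hpw0 : p + w ≠ 0 := fun h0 => by
    have := congrArg (fun x => f x d) h0
    simp only [S.hf.add_left, B.hP.pd, hwd, add_zero, zero_left S.hf] at this
    exact one_ne_zero this
  obtain ⟨q, hq⟩ := isQ_exists S B h hpw0 (by rw [add_right S.hf, B.hP.pp, hwY.1, add_zero]) hF.ha hF.aa
    (by rw [hpr, haw])
  obtain ⟨q', hq'⟩ := isQ_exists S B hw hw0 hwY.1 hF.ha hF.aa
    (by rw [pr, hwd, zero_smul, add_zero, haw])
  refine ⟨q * q', Subgroup.subset_closure (Or.inr ⟨p + w, q, q', hq, hpr.symm ▸ hq', rfl⟩), ?_⟩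
  obtain ⟨_, -, -, -, hqv, -⟩ := hq
  obtain ⟨_, -, -, -, hq'v, -⟩ := hq'
  rw [map_mul, hqv, hq'v]

/-- The lifted unipotent group meets W trivially. -/
theorem gens_inter {n : G} (hn : n ∈ Subgroup.closure (gens S p d e d₀ x₀)) (hnW : n ∈ W) : n = 1 := by
  have C := cover S
  set T := Subgroup.zpowers e
  have hee : e * e = 1 := TSet.sq S.hD.1 B.he
  have hT : ∀ t ∈ T, t = 1 ∨ t = e := by
    intro t ht
    obtain ⟨k, rfl⟩ := Subgroup.mem_zpowers_iff.1 ht
    rcases Int.even_or_odd k with ⟨m, rfl⟩ | ⟨m, rfl⟩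
    · left
      rw [← two_mul, _root_.zpow_mul, zpow_two, hee, _root_.one_zpow]
    · right
      rw [_root_.zpow_add, _root_.zpow_mul, zpow_two, hee, _root_.one_zpow, one_mul, zpow_one]
  -- equal to 1 or e when centralised by a common scalar and acting trivially on Y
  have small : ∀ {a : ι → F} {x g : G}, f a a = 1 → IsZeta f om a (π x) → Commute g x → InL e d₀ x₀ x →
      π g ∈ UU S.hf p → (∀ w, InY f p d w → mv (π g) w = w) → g ∈ T := by
    intro a x g haa hxa hgx hxL hgU hgY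
    rcases UU_trivial_on_Y S.hf S.h2 S.hfix B.hP hgU hgY with h | h
    · have : g = 1 := eq_of_zeta S B haa hxa hgx (Commute.one_left x) (h.trans (map_one π).symm)
      rw [this]; exact T.one_mem
    · rw [eq_of_zeta S B haa hxa hgx hxL.1.symm (h.trans B.hep.symm)]
      exact Subgroup.mem_zpowers e
  set U₀ := Subgroup.closure (gens S p d e d₀ x₀)
  have heU : ∀ u ∈ U₀, Commute u e := by
    intro u hu
    induction hu using Subgroup.closure_induction with
    | mem g hg =>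
      rcases hg with rfl | ⟨v, q, q', hq, hq', rfl⟩
      · exact Commute.refl _
      · obtain ⟨hv, -, hpv, hqD, hqv, -⟩ := hq
        obtain ⟨hy, -, hpy, hq'D, hq'v, -⟩ := hq'
        exact (perp_comm S hqD B.he hqv B.hep hpv).mul_left (perp_comm S hq'D B.he hq'v B.hep hpy)
    | one => exact Commute.one_left e
    | mul u v _ _ iu iv => exact iu.mul_left iv
    | inv u _ iu => exact iu.inv_left
  have hTc : ∀ t ∈ T, ∀ u ∈ U₀, Commute u t := fun t ht u hu => by
    rcases hT t ht with rfl | rfl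
    · exact Commute.one_right u
    · exact heU u hu
  have hUU : ∀ u ∈ U₀, π u ∈ UU S.hf p := by
    intro u hu
    have : U₀ ≤ (UU S.hf p).comap π := (Subgroup.closure_le _).2 fun g hg => (gen_spec S B hg).1
    exact this hu
  have hlin : ∀ {g : GL ι F}, g ∈ UU S.hf p → ∀ w, InY f p d w → ∃ c : F, mv g w = w + c • p :=
    fun hg w hw => hg.2.2 w hw.1
  -- generators commute modulo T
  have gcomm : ∀ g ∈ gens S p d e d₀ x₀, ∀ k ∈ gens S p d e d₀ x₀, g * k * g⁻¹ * k⁻¹ ∈ T := by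
    intro g hg k hk
    obtain ⟨hgU, y, hy, hyy, hgc⟩ := gen_spec S B hg
    obtain ⟨hkU, z, hz, hzz, hkc⟩ := gen_spec S B hk
    obtain ⟨a, ha, haa, hay, haz⟩ := exists_unit_orth S.hf S.h2 S.hfix S.hn B.hP hy hz hyy hzz
    obtain ⟨x, hxL, hxa⟩ := exists_zeta_L S B ha haa
    have cg := hgc a x ha haa hay hxL hxa
    have ck := hkc a x ha haa haz hxL hxa
    refine small haa hxa (((cg.mul_left ck).mul_left cg.inv_left).mul_left ck.inv_left) hxL ?_ fun w hw => ?_
    · rw [map_mul, map_mul, map_mul, map_inv, map_inv]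
      exact Subgroup.mul_mem _ (Subgroup.mul_mem _ (Subgroup.mul_mem _ hgU hkU) (Subgroup.inv_mem _ hgU))
        (Subgroup.inv_mem _ hkU)
    · obtain ⟨c₁, hc₁⟩ := hlin (Subgroup.inv_mem _ hkU) w hw
      obtain ⟨c₂, hc₂⟩ := hlin (Subgroup.inv_mem _ hgU) w hw
      obtain ⟨c₃, hc₃⟩ := hlin hkU w hw
      obtain ⟨c₄, hc₄⟩ := hlin hgU w hw
      have gp := hgU.2.1
      have kp := hkU.2.1
      have gip : mv (π g)⁻¹ p = p := ((mv_eq_iff _).1 gp).symm
      have kip : mv (π k)⁻¹ p = p := ((mv_eq_iff _).1 kp).symm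
      rw [map_mul, map_mul, map_mul, map_inv, map_inv, mv_mul, mv_mul, mv_mul, hc₁]
      simp only [mv_add, mv_smul, hc₂, hc₃, hc₄, gp, kp, gip, kip]
      have e1 := mv_mv_inv (π k) w
      rw [hc₁, mv_add, mv_smul, hc₃, kp] at e1
      have e2 := mv_mv_inv (π g) w
      rw [hc₂, mv_add, mv_smul, hc₄, gp] at e2
      linear_combination (norm := module) e1 + e2
  have comm_all : ∀ u ∈ U₀, ∀ v ∈ U₀, u * v * u⁻¹ * v⁻¹ ∈ T := by
    have one_side : ∀ u ∈ U₀, ∀ k ∈ gens S p d e d₀ x₀, u * k * u⁻¹ * k⁻¹ ∈ T := by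
      intro u hu k hk
      have hkU : k ∈ U₀ := Subgroup.subset_closure hk
      induction hu using Subgroup.closure_induction with
      | mem g hg => exact gcomm g hg k hk
      | one => simp
      | mul u v hu hv iu iv =>
        have e1 : u * v * k * (u * v)⁻¹ * k⁻¹ = u * (v * k * v⁻¹ * k⁻¹) * u⁻¹ * (u * k * u⁻¹ * k⁻¹) := by group
        rw [e1, (hTc _ iv u hu).eq, mul_inv_cancel_right]
        exact T.mul_mem iv iu
      | inv u hu iu =>
        have e1 : u⁻¹ * k * u⁻¹⁻¹ * k⁻¹ = u⁻¹ * (u * k * u⁻¹ * k⁻¹)⁻¹ * u := by group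
        rw [e1, ((hTc _ (T.inv_mem iu) u hu).inv_left).eq, inv_mul_cancel_right]
        exact T.inv_mem iu
    intro u hu v hv
    induction hv using Subgroup.closure_induction with
    | mem g hg => exact one_side u hu g hg
    | one => simp
    | mul a b ha hb ia ib =>
      have e1 : u * (a * b) * u⁻¹ * (a * b)⁻¹ = (u * a * u⁻¹ * a⁻¹) * (a * (u * b * u⁻¹ * b⁻¹) * a⁻¹) := by
        group
      rw [e1, (hTc _ ib a ha).eq, mul_inv_cancel_right]
      exact T.mul_mem ia ib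
    | inv a ha ia =>
      have e1 : u * a⁻¹ * u⁻¹ * a⁻¹⁻¹ = a⁻¹ * (u * a * u⁻¹ * a⁻¹)⁻¹ * a := by group
      rw [e1, ((hTc _ (T.inv_mem ia) a ha).inv_left).eq, inv_mul_cancel_right]
      exact T.inv_mem ia
  -- conjugation by the scalar
  set c : G → G := fun u => x₀ * u * x₀⁻¹ with hc
  have hcgen : ∀ g ∈ gens S p d e d₀ x₀, c g ∈ gens S p d e d₀ x₀ := by
    intro g hg
    rcases hg with rfl | ⟨v, q, q', hq, hq', rfl⟩
    · exact Or.inl (by rw [hc]; simp only [B.hze.eq, mul_inv_cancel_right])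
    · refine Or.inr ⟨mv (π x₀) v, c q, c q', ?_, ?_, by simp only [hc]; group⟩
      all_goals
        have key : ∀ {v : ι → F} {q : G}, IsQ S p d e d₀ x₀ v q →
            IsQ S p d e d₀ x₀ (mv (π x₀) v) (c q) := by
          rintro v q ⟨hv, hv0, hpv, hqD, hqv, a, ha, haa, hay, x, hxL, hxa, hqx⟩
          have hv' : f (mv (π x₀) v) (mv (π x₀) v) = 0 := by
            have h1 := B.hz.1.1 v v
            change f (mv (π x₀) v) (mv (π x₀) v) = f v v at h1
            rw [h1, hv]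
          refine ⟨hv', fun h => hv0 (mv_inj _ (h.trans (mv_zero _).symm)), ?_,
            TClass.conjInv S.hD x₀ q hqD, ?_, a, ha, haa, ?_, x, hxL, hxa,
            ((hxL.2.2.symm).mul_left hqx).mul_left hxL.2.2.symm.inv_left⟩
          · have h1 := B.hz.1.1 p v
            change f (mv (π x₀) p) (mv (π x₀) v) = f p v at h1
            rwa [B.hz.2.1, hpv] at h1
          · rw [hc, map_mul, map_mul, map_inv, hqv, tau_conj S.hf S.h2 S.hfix (mem_S S x₀) rfl]
          · have hY := pr_mem S.hf S.h2 S.hfix B.hP hpv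
            have hvc : v = f v d • p + pr S.hf p d v := by
              rw [pr]
              linear_combination (norm := module) -(vadd_self S.hf S.h2 S.hfix (f v d • p))
            have hzY : InY f p d (om • pr S.hf p d v) :=
              ⟨by rw [smul_right S.hf, hY.1, mul_zero], by rw [smul_right S.hf, hY.2, mul_zero]⟩
            rw [hvc, mv_add, mv_smul, B.hz.2.1, B.hz.2.2.2 _ hY, pr_eq S.hf S.h2 S.hfix B.hP hzY,
              smul_right S.hf, hay, mul_zero]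
      · exact key hq
      · have hpv : f p v = 0 := hq.2.2.1
        have hY := pr_mem S.hf S.h2 S.hfix B.hP hpv
        have hvc : v = f v d • p + pr S.hf p d v := by
          rw [pr]
          linear_combination (norm := module) -(vadd_self S.hf S.h2 S.hfix (f v d • p))
        have hzY : InY f p d (om • pr S.hf p d v) :=
          ⟨by rw [smul_right S.hf, hY.1, mul_zero], by rw [smul_right S.hf, hY.2, mul_zero]⟩
        have : pr S.hf p d (mv (π x₀) v) = mv (π x₀) (pr S.hf p d v) := by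
          conv_lhs => rw [hvc, mv_add, mv_smul, B.hz.2.1, B.hz.2.2.2 _ hY,
            pr_eq S.hf S.h2 S.hfix B.hP hzY]
          rw [B.hz.2.2.2 _ hY]
        exact this ▸ key hq'
  have hcU : ∀ u ∈ U₀, c u ∈ U₀ := by
    intro u hu
    suffices U₀ ≤ U₀.comap (MulAut.conj x₀).toMonoidHom from this hu
    rw [Subgroup.closure_le]
    exact fun g hg => Subgroup.subset_closure (hcgen g hg)
  set N : G → G := fun u => u * c u * c (c u) with hN
  have hcT : ∀ t ∈ T, c t = t := fun t ht => by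
    rcases hT t ht with rfl | rfl
    · simp [hc]
    · simp only [hc, B.hze.eq, mul_inv_cancel_right]
  have hcmul : ∀ u v, c (u * v) = c u * c v := fun u v => by simp only [hc]; group
  have hcinv : ∀ u, c u⁻¹ = (c u)⁻¹ := fun u => by simp only [hc]; group
  have hNgen : ∀ g ∈ gens S p d e d₀ x₀, N g ∈ T := by
    intro g hg
    obtain ⟨hgU, y, hy, hyy, hgc⟩ := gen_spec S B hg
    obtain ⟨a, ha, haa, hay, -⟩ := exists_unit_orth S.hf S.h2 S.hfix S.hn B.hP hy hy hyy hyy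
    obtain ⟨x, hxL, hxa⟩ := exists_zeta_L S B ha haa
    have cg := hgc a x ha haa hay hxL hxa
    have cc : ∀ {u : G}, Commute u x → Commute (c u) x := fun hu =>
      ((hxL.2.2.symm).mul_left hu).mul_left hxL.2.2.symm.inv_left
    refine small haa hxa ((cg.mul_left (cc cg)).mul_left (cc (cc cg))) hxL
      (hUU _ (U₀.mul_mem (U₀.mul_mem (Subgroup.subset_closure hg) (hcU _ (Subgroup.subset_closure hg)))
        (hcU _ (hcU _ (Subgroup.subset_closure hg))))) fun w hw => ?_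
    obtain ⟨l, hl⟩ := hlin hgU w hw
    have hhom : om ≠ 0 := fun h => by have := S.hw; simp [h] at this
    have hzw : mv (π x₀)⁻¹ w = (om + 1) • w := by
      refine ((mv_eq_iff _).1 ?_).symm
      rw [mv_smul, B.hz.2.2.2 w hw, smul_smul]
      rw [show (om + 1) * om = 1 by linear_combination S.hw - S.h2, one_smul]
    have hzp : mv (π x₀)⁻¹ p = p := ((mv_eq_iff _).1 B.hz.2.1).symm
    have hzw' : mv (π x₀) w = om • w := B.hz.2.2.2 w hw
    simp only [hN, hc, map_mul, map_inv, mv_mul, mv_add, mv_smul, hzw, hzp, hl, B.hz.2.1, hzw', hgU.2.1,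
      smul_smul, smul_add]
    have hw3 : (om + 1) * (om + 1) = om := by linear_combination S.hw + 0 * S.h2
    funext i
    simp only [Pi.add_apply, Pi.smul_apply, smul_eq_mul]
    linear_combination (w i * (1 - om + 2 * om ^ 3 + om ^ 4)) * S.hw - w i * S.h2 +
      (l * p i * (1 - om + 2 * om ^ 2 + 3 * om ^ 3 + om ^ 4)) * S.hw + (l * p i * om) * S.h2
  have hNall : ∀ u ∈ U₀, N u ∈ T := by
    intro u hu
    induction hu using Subgroup.closure_induction with
    | mem g hg => exact hNgen g hg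
    | one => simp [hN, hc]
    | mul a b ha hb ia ib =>
      have hb' := hcU b hb
      have hca := hcU a ha
      have hcca := hcU _ hca
      have t1 := comm_all b hb (c a) hca
      have t2 := comm_all (b * c b) (U₀.mul_mem hb hb') (c (c a)) hcca
      set s1 := b * c a * b⁻¹ * (c a)⁻¹ with hs1
      set s2 := b * c b * c (c a) * (b * c b)⁻¹ * (c (c a))⁻¹ with hs2
      have e1 : N (a * b) = a * (s1 * c a) * ((s2 * c (c a)) * (b * c b * c (c b))) := by
        simp only [hN, hcmul, hs1, hs2]; group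
      have e2 : a * (s1 * c a) * ((s2 * c (c a)) * (b * c b * c (c b))) = s1 * s2 * (N a * N b) := by
        have c1 : a * s1 = s1 * a := (hTc _ t1 a ha).eq
        have c2 : (a * c a) * s2 = s2 * (a * c a) := (hTc _ t2 _ (U₀.mul_mem ha hca)).eq
        calc a * (s1 * c a) * ((s2 * c (c a)) * (b * c b * c (c b)))
            = (a * s1) * c a * s2 * c (c a) * (b * c b * c (c b)) := by group
          _ = s1 * ((a * c a) * s2) * c (c a) * (b * c b * c (c b)) := by rw [c1]; group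
          _ = s1 * s2 * (N a * N b) := by rw [c2, hN]; group
      rw [e1, e2]
      exact T.mul_mem (T.mul_mem t1 t2) (T.mul_mem ia ib)
    | inv a ha ia =>
      have hca := hcU a ha
      have hcca := hcU _ hca
      have t1 := comm_all a ha (c a) hca
      have t2 := comm_all (a * c a) (U₀.mul_mem ha hca) (c (c a)) hcca
      set s1 := a * c a * a⁻¹ * (c a)⁻¹ with hs1
      set s2 := a * c a * c (c a) * (a * c a)⁻¹ * (c (c a))⁻¹ with hs2
      have e1 : (N a⁻¹)⁻¹ = c (c a) * (c a * a) := by simp only [hN, hcinv]; group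
      have e2 : c (c a) * (c a * a) = s1⁻¹ * s2⁻¹ * N a := by
        have c1 : c (c a) * s1⁻¹ = s1⁻¹ * c (c a) := ((hTc _ (T.inv_mem t1) _ hcca)).eq
        calc c (c a) * (c a * a) = c (c a) * s1⁻¹ * (a * c a) := by rw [hs1]; group
          _ = s1⁻¹ * s2⁻¹ * N a := by rw [c1, hs2, hN]; group
      have h3 : (N a⁻¹)⁻¹ ∈ T := by
        rw [e1, e2]
        exact T.mul_mem (T.mul_mem (T.inv_mem t1) (T.inv_mem t2)) ia
      simpa using T.inv_mem h3
  -- the conclusion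
  have hTW : ∀ t ∈ T, t ∈ W → t = 1 := fun t ht htW => by
    rcases hT t ht with h | h
    · exact h
    · exfalso
      have h1 := (mem_W S).2 htW
      rw [h] at h1
      exact ne_one S B.he h1
  have hnc : ∀ u ∈ U₀, Commute n u := by
    intro u hu
    have h1 : n * u * n⁻¹ * u⁻¹ = 1 := hTW _ (comm_all n hn u hu) (by
      have := W.mul_mem hnW (S.hWn.conj_mem _ (W.inv_mem hnW) u)
      simpa [mul_assoc] using this)
    exact mul_inv_eq_iff_eq_mul.1 (mul_inv_eq_one.1 h1)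
  -- n commutes with every perpendicular transvection
  have hperp : ∀ v (hv : f v v = 0), v ≠ 0 → InY f p d v → ∀ b ∈ D, π b = htv S.hf v hv 1 → phi b n = 1 := by
    intro v hv hv0 hvY b hb hbv
    obtain ⟨y', a, hF⟩ := exists_frame S.hf S.h2 S.hfix S.hn B.hP hvY hv0 hv
    have hav : f a v = 0 := (f_eq_zero_comm S.hf).1 hF.ya
    have hvd : f v d = 0 := (f_eq_zero_comm S.hf).1 hvY.2
    have hvp : f v p = 0 := (f_eq_zero_comm S.hf).1 hvY.1
    obtain ⟨hiso, hp', hd'⟩ := line_isotropic S B.hP hvY hv 1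
    have hne : (1 : F) • p + v ≠ 0 := fun h0 => by
      rw [h0, zero_left S.hf] at hd'; exact zero_ne_one hd'
    have hpr : pr S.hf p d ((1 : F) • p + v) = v := pr_eq S.hf S.h2 S.hfix B.hP hvY 1
    obtain ⟨q, hq⟩ := isQ_exists S B hiso hne hp' hF.ha hF.aa (by rw [hpr, hav])
    obtain ⟨q', hq'⟩ := isQ_exists S B hv hv0 hvY.1 hF.ha hF.aa (by rw [pr, hvd, zero_smul, add_zero, hav])
    have hmem : q * q' ∈ U₀ := Subgroup.subset_closure (Or.inr ⟨_, q, q', hq, hpr.symm ▸ hq', rfl⟩)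
    have hcqq := hnc _ hmem
    obtain ⟨_, -, -, hqD, hqv, -⟩ := hq
    obtain ⟨_, -, -, hq'D, hq'v, -⟩ := hq'
    have hperp' : Commute q q' := perp_comm S hqD hq'D hqv hq'v (by
      rw [add_right S.hf, smul_right S.hf, hvp, hv, mul_zero, add_zero])
    have heq : phi q n = phi q' n := by
      have h1 : q * q' * n * (q * q')⁻¹ = n := by rw [← hcqq.eq, mul_inv_cancel_right]
      rw [_root_.mul_inv_rev, TSet.inv S.hD.1 hqD, TSet.inv S.hD.1 hq'D] at h1
      have h1' : q * (q' * n * q') * q = n := by simpa only [mul_assoc] using h1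
      rw [C.conj_eq hnW, C.conj_eq (W.mul_mem hnW (C.phi_mem hq'D hnW)),
        C.phi_mul hqD hnW (C.phi_mem hq'D hnW), C.phi_comm hqD hq'D hperp' hnW, mul_one, mul_assoc] at h1'
      exact (eq_inv_of_mul_eq_one_right (mul_eq_left.1 h1')).trans (C.inv (C.phi_mem hq'D hnW))
    have hdq' : phi d₀ (phi q' n) = 1 :=
      C.phi_comm B.hd hq'D (perp_comm S B.hd hq'D B.hdd hq'v hvd) hnW
    have hq1 : phi q n = 1 := by
      rw [← C.phi_braid hqD B.hd (not_comm S hqv B.hdd (by rw [hd']; exact one_ne_zero)) hnW, heq, hdq',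
        C.phi_one hqD]
    rw [← hq1, heq]
    exact phi_img S hb hq'D (hbv.trans hq'v.symm) hnW
  have hnz : Commute n x₀ := by
    refine commute_of_mem_map S hnW (K := Subgroup.centralizer ({n} : Set G))
      (fun k hk => (Subgroup.mem_centralizer_singleton_iff.1 hk).symm) ?_
    obtain ⟨g, hg, hgZ⟩ := exists_Z S.hf S.h2 S.hfix S.hn S.hw B.hP
      (H := (Subgroup.centralizer ({n} : Set G)).map π) (fun u hu huY =>
        tau_mem_centralizer S hnW hu fun hu0 b hb hbu => hperp u hu hu0 huY b hb hbu)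
    rwa [IsZ.unique S.hf S.h2 S.hfix S.hn B.hP B.hz hgZ]
  have hcn : c n = n := by simp only [hc, ← hnz.eq, mul_inv_cancel_right]
  have h3 : N n = n := by simp only [hN, hcn, C.hsq n hnW, one_mul]
  exact hTW n (h3 ▸ hNall n hn) hnW

/-- A subgroup meeting W trivially over a flag product. -/
theorem exists_partial {y y' a : ι → F} (hF : IsFrame f p d y y' a) :
    ∃ X : Subgroup G, X ⊓ W = ⊥ ∧ ∀ u ∈ UU S.hf p, ∀ r ∈ RR S.hf p d y a, ∃ x ∈ X, π x = u * r := by
  set U₀ := Subgroup.closure (gens S p d e d₀ x₀)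
  set R₀ := (Subgroup.centralizer ({e, d₀, x₀} : Set G)) ⊓ (RR S.hf p d y a).comap π
  have memL : ∀ {x : G}, x ∈ Subgroup.centralizer ({e, d₀, x₀} : Set G) ↔ InL e d₀ x₀ x := fun {x} => by
    rw [Subgroup.mem_centralizer_iff]
    simp only [Set.mem_insert_iff, Set.mem_singleton_iff, forall_eq_or_imp, forall_eq]
    exact ⟨fun h => ⟨h.1.symm, h.2.1.symm, h.2.2.symm⟩, fun h => ⟨h.1.eq.symm, h.2.1.eq.symm, h.2.2.eq.symm⟩⟩
  have key : ∀ r ∈ R₀, ∀ z ∈ U₀, r * z * r⁻¹ ∈ U₀ := by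
    intro r hr z hz
    have hrL := memL.1 hr.1
    have hrR : π r ∈ RR S.hf p d y a := hr.2
    suffices U₀ ≤ U₀.comap (MulAut.conj r).toMonoidHom from this hz
    rw [Subgroup.closure_le]
    intro g hg
    refine Subgroup.subset_closure ?_
    show r * g * r⁻¹ ∈ gens S p d e d₀ x₀
    rcases hg with rfl | ⟨v, q, q', hq, hq', rfl⟩
    · exact Or.inl (by rw [hrL.1.eq, mul_inv_cancel_right])
    have hmv : ∀ w, pr S.hf p d (mv (π r) w) = mv (π r) (pr S.hf p d w) := fun w => by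
      have h1 := hrR.1.1 w d
      change f (mv (π r) w) (mv (π r) d) = f w d at h1
      rw [hrR.2.2.1] at h1
      rw [pr, pr, h1, mv_add, mv_smul, hrR.2.1]
    have step : ∀ {v : ι → F} {q : G}, IsQ S p d e d₀ x₀ v q →
        IsQ S p d e d₀ x₀ (mv (π r) v) (r * q * r⁻¹) := by
      rintro v q ⟨hv, hv0, hpv, hqD, hqv, b, hb, hbb, hby, x, hxL, hxb, hqx⟩
      have hv' : f (mv (π r) v) (mv (π r) v) = 0 := by
        have h1 := hrR.1.1 v v
        change f (mv (π r) v) (mv (π r) v) = f v v at h1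
        rw [h1, hv]
      refine ⟨hv', fun h => hv0 (mv_inj _ (h.trans (mv_zero _).symm)), ?_,
        TClass.conjInv S.hD r q hqD, ?_, mv (π r) b, RR_inY S.hf S.h2 S.hfix hrR hb,
        (hrR.1.1 b b).trans hbb, ?_, r * x * r⁻¹, L_mul S (L_mul S hrL hxL) (L_inv S hrL), ?_, ?_⟩
      · have h1 := hrR.1.1 p v
        change f (mv (π r) p) (mv (π r) v) = f p v at h1
        rwa [hrR.2.1, hpv] at h1
      · rw [map_mul, map_mul, map_inv, hqv, tau_conj S.hf S.h2 S.hfix (mem_S S r) rfl]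
      · rw [hmv]
        exact (hrR.1.1 b _).trans hby
      · refine ⟨mem_S S _, ?_, fun w hw => ?_⟩
        · rw [map_mul, map_mul, map_inv, mv_mul, mv_mul, mv_inv_mv, hxb.2.1, mv_smul]
        · have h1 : f (mv (π r)⁻¹ w) b = 0 := by
            have h2' := hrR.1.1 (mv (π r)⁻¹ w) b
            change f (mv (π r) (mv (π r)⁻¹ w)) (mv (π r) b) = f (mv (π r)⁻¹ w) b at h2'
            rw [mv_mv_inv, hw] at h2'
            exact h2'.symm
          rw [map_mul, map_mul, map_inv, mv_mul, mv_mul, hxb.2.2 _ h1, mv_smul, mv_mv_inv]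
      · exact mul_inv_eq_iff_eq_mul.1 (by
          rw [show r * q * r⁻¹ * (r * x * r⁻¹) * (r * q * r⁻¹)⁻¹ = r * (q * x * q⁻¹) * r⁻¹ by group,
            hqx.eq, mul_inv_cancel_right])
    exact Or.inr ⟨mv (π r) v, r * q * r⁻¹, r * q' * r⁻¹, step hq, (hmv v).symm ▸ step hq', by group⟩
  have hRn : R₀ ≤ Subgroup.normalizer (U₀ : Set G) := by
    intro r hr
    rw [Subgroup.mem_normalizer_iff]
    refine fun z => ⟨fun hz => key r hr z hz, fun hz => ?_⟩
    have := key r⁻¹ (R₀.inv_mem hr) _ hz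
    simpa [mul_assoc] using this
  refine ⟨U₀ ⊔ R₀, ?_, ?_⟩
  · rw [eq_bot_iff]
    rintro x ⟨hx, hxW⟩
    obtain ⟨u, hu, r, hr, rfl⟩ := (SolvBasic.mem_sup_iff_of_le_normalizer hRn).1 hx
    have h1 : π u * π r = 1 := by rw [← map_mul]; exact (mem_W S).2 hxW
    have hUU : π u ∈ UU S.hf p :=
      (Subgroup.closure_le ((UU S.hf p).comap π)).2 (fun g hg => (gen_spec S B hg).1) hu
    have hu1 : π u = 1 := UU_inter_RR S.hf S.h2 S.hfix B.hP hUU (y := y) (a := a)
      (by rw [eq_inv_of_mul_eq_one_left h1]; exact Subgroup.inv_mem _ hr.2)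
    rw [hu1, one_mul] at h1
    rw [gens_inter S B hu ((mem_W S).1 hu1), L_inter S B (memL.1 hr.1) ((mem_W S).1 h1), mul_one]
    exact Subgroup.one_mem _
  · intro u hu r hr
    obtain ⟨u', hu', hu'u⟩ := UU_le_gens S B hu
    have hzr : r * π x₀ = π x₀ * r := by
      refine ext_mv fun t => ?_
      obtain ⟨b, hb⟩ := hr.2.2.2.2
      have hdec := frame_decomp S.hf S.h2 S.hfix S.hn hF t
      set w := f t y' • y + f t y • y' + f t a • a with hwdef
      have hwY : InY f p d w := by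
        refine ⟨?_, ?_⟩ <;>
          simp only [hwdef, add_right S.hf, smul_right S.hf, hF.hy.1, hF.hy.2, hF.hy'.1, hF.hy'.2, hF.ha.1,
            hF.ha.2, mul_zero, add_zero]
      have ht : t = f t d • p + f t p • d + w := by
        rw [hwdef]
        linear_combination (norm := module) hdec
      clear_value w
      rw [ht]
      simp only [mv_mul, mv_add, mv_smul, B.hz.2.1, B.hz.2.2.1, hr.2.1, hr.2.2.1, B.hz.2.2.2 w hwY,
        B.hz.2.2.2 _ (RR_inY S.hf S.h2 S.hfix hr hwY)]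
    obtain ⟨r', hr', hr'L⟩ := L_surj S B hr.1 (tau_conj S.hf S.h2 S.hfix hr.1 hr.2.1)
      (tau_conj S.hf S.h2 S.hfix hr.1 hr.2.2.1) hzr
    refine ⟨u' * r', (U₀ ⊔ R₀).mul_mem ((le_sup_left : U₀ ≤ _) hu') ((le_sup_right : R₀ ≤ _) ⟨memL.2 hr'L, ?_⟩),
      by rw [map_mul, hu'u, hr']⟩
    show π r' ∈ RR S.hf p d y a
    rw [hr']; exact hr

omit B in
/-- The kernel is complemented. -/
theorem complement : ∃ K : Subgroup G, W.IsComplement' K := by
  haveI : Fact (Nat.Prime 2) := ⟨Nat.prime_two⟩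
  haveI := S.hWn
  haveI : IsMulCommutative W := ⟨⟨fun a b => Subtype.ext ((elementary S).1 a a.2 b b.2)⟩⟩
  obtain ⟨P⟩ : Nonempty (Sylow 2 G) := inferInstance
  obtain ⟨p, d, y, y', a, hF, hP⟩ := exists_flag S.hf S.h2 S.hfix S.hn
    (K := (P : Subgroup G).map π) (P.isPGroup'.map π) (S.hrange ▸ Subgroup.map_le_range π _)
  obtain ⟨e, d₀, x₀, B⟩ := exists_base S hF.P
  obtain ⟨X, hX, hXπ⟩ := exists_partial S B hF
  have hWP : W ≤ (P : Subgroup G) := by
    obtain ⟨Q, hQ⟩ := S.hW.exists_le_sylow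
    obtain ⟨g, hg⟩ := MulAction.exists_smul_eq G Q P
    intro x hx
    rw [← hg, Sylow.coe_subgroup_smul]
    exact ⟨g⁻¹ * x * g, hQ (by simpa using S.hWn.conj_mem x hx g⁻¹), by simp [mul_assoc]⟩
  refine SolvGaschutz.existence hWP ?_ (A := X ⊓ P) inf_le_right ?_ ?_
  · obtain ⟨k, hk⟩ := IsPGroup.iff_card.1 S.hW
    rw [hk]
    exact Nat.Coprime.pow_left k ((Nat.prime_two.coprime_iff_not_dvd).2 P.not_dvd_index)
  · rw [eq_bot_iff, ← hX]
    exact inf_le_inf_right W inf_le_left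
  · refine le_antisymm (sup_le hWP inf_le_right) fun g hg => ?_
    obtain ⟨u, hu, hur⟩ := hP (π g) ⟨g, hg, rfl⟩
    obtain ⟨x, hx, hxg⟩ := hXπ u hu _ hur
    rw [mul_inv_cancel_left] at hxg
    have hm : g * x⁻¹ ∈ W := (mem_W S).1 (by rw [map_mul, map_inv, hxg, mul_inv_cancel])
    have hxP : x ∈ (P : Subgroup G) := by
      have := (P : Subgroup G).mul_mem ((P : Subgroup G).inv_mem (hWP hm)) hg
      rwa [show (g * x⁻¹)⁻¹ * g = x by group] at this
    rw [show g = g * x⁻¹ * x by group]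
    exact Subgroup.mul_mem _ (Subgroup.mem_sup_left hm) (Subgroup.mem_sup_right ⟨hx, hxP⟩)

end Cfsg.Agent.Fischer.SUFiveCover
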