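import Cfsg.Agent.Lib.Transvec.HermStab

/-!
Transvections over the field of four elements: they form the only possible class of 3-transpositions,
perpendicular ones generate point stabilisers, and five on a singular line multiply to the identity.
-/

set_option autoImplicit false
set_option linter.unusedSectionVars false

namespace Cfsg.Agent.Fischer.UnitaryPerp

open scoped Matrix
open Matrix Cfsg.Agent.Transvec Cfsg.Agent.Transvec.Herm

variable {ι : Type} [Fintype ι] [DecidableEq ι] {F : Type*} [Field F] [Finite F]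
variable {σ : F ≃+* F} {f : (ι → F) → (ι → F) → F} (hf : Geo.IsUnitaryForm σ f)
variable (h2 : (2 : F) = 0) (hfix : ∀ a : F, σ a = a → a = 0 ∨ a = 1)

local notation "SS" => preserving (Units.coeHom (Matrix ι ι F)) f ⊓ Geo.specialLinear ι F

include hf h2 hfix

theorem add_self (a : F) : a + a = 0 := by linear_combination a * h2

theorem neg_eq (a : F) : -a = a := by linear_combination -a * h2

theorem vadd_self (v : ι → F) : v + v = 0 := funext fun i => add_self hf h2 hfix (v i)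

theorem sigma_one : σ (1 : F) = -1 := by rw [map_one, neg_eq hf h2 hfix]

theorem norm_one {a : F} (ha : a ≠ 0) : a * σ a = 1 :=
  (hfix _ (by rw [map_mul, hf.involutive, mul_comm])).resolve_left
    (mul_ne_zero ha fun h => ha ((map_eq_zero_iff σ σ.injective).1 h))

theorem tau_mem (v : ι → F) (hv : f v v = 0) : htv hf v hv 1 ∈ SS :=
  ⟨htv_mem hf v hv (sigma_one hf h2 hfix), htv_mem_specialLinear hf v hv 1⟩

theorem tau_congr {v w : ι → F} {hv : f v v = 0} {hw : f w w = 0} (h : v = w) :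
    htv hf v hv 1 = htv hf w hw 1 := by subst h; rfl

theorem tau_smul {v : ι → F} (hv : f v v = 0) {a : F} (ha : a ≠ 0) :
    ∃ h : f (a • v) (a • v) = 0, htv hf (a • v) h 1 = htv hf v hv 1 :=
  ⟨by rw [hf.smul_left, smul_right hf, hv, mul_zero, mul_zero],
    (htv_smul hf v hv a 1).trans (by rw [norm_one hf h2 hfix ha, one_mul])⟩

theorem tau_eq_of_mem (v : ι → F) (hv : f v v = 0) {c : F} (hc : σ c = -c) {M : Subgroup (GL ι F)}
    (h : htv hf v hv 1 ∈ M) : htv hf v hv c ∈ M := by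
  rw [neg_eq hf h2 hfix] at hc
  rcases hfix c hc with rfl | rfl
  · rw [htv_zero]; exact M.one_mem
  · exact h

theorem tau_sq (v : ι → F) (hv : f v v = 0) : htv hf v hv 1 * htv hf v hv 1 = 1 := by
  rw [htv_add, add_self hf h2 hfix, htv_zero]

theorem tau_conj {k : GL ι F} (hk : k ∈ SS) {v w : ι → F} {hv : f v v = 0} {hw : f w w = 0}
    (h : mv k v = w) : k * htv hf v hv 1 * k⁻¹ = htv hf w hw 1 :=
  (htv_conj hf (fun x y => hk.1 x y) v hv 1).trans (tau_congr hf h2 hfix h)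

theorem tau_comm {v w : ι → F} (hv : f v v = 0) (hw : f w w = 0) (h : f w v = 0) :
    Commute (htv hf v hv 1) (htv hf w hw 1) := by
  have := tau_conj hf h2 hfix (tau_mem hf h2 hfix v hv) (hv := hw) (hw := hw) (htv_fix hf v hv 1 h)
  exact mul_inv_eq_iff_eq_mul.1 this

theorem tau_ne_one {v : ι → F} (hv : f v v = 0) (hv0 : v ≠ 0) : htv hf v hv 1 ≠ 1 := by
  intro h
  obtain ⟨d, -, hvd, -⟩ := exists_partner hf (nondeg_top hf) (Submodule.mem_top (x := v)) hv0 hv
  have := congrArg (fun g => mv g d) h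
  simp only [mv_htv, mv_one, one_mul, add_eq_left, smul_eq_zero] at this
  rcases this with h | h
  · rw [hf.herm v d, h, map_zero] at hvd; exact zero_ne_one hvd
  · exact hv0 h

/-- A symmetric linear map has a vector of value one unless it vanishes. -/
theorem exists_diag (N : (ι → F) →ₗ[F] (ι → F)) (hs : ∀ x y, f (N x) y = f x (N y)) (hN : N ≠ 0) :
    ∃ x, f x (N x) = 1 := by
  by_contra h
  push Not at h
  have hq : ∀ x, f x (N x) = 0 := fun x =>
    (hfix _ (by rw [← hf.herm, hs])).resolve_right (h x)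
  refine hN (LinearMap.ext fun y => ?_)
  by_contra hy
  obtain ⟨x, hx⟩ := (hf.nondegenerate _ hy).1
  obtain ⟨b, hb⟩ := exists_trace hf.ne_refl hf.involutive 1 (map_one σ)
  have h1 := hq ((b / f x (N y)) • x + y)
  rw [map_add, map_smul, hf.add_left, add_right hf, add_right hf, hf.smul_left, hf.smul_left,
    smul_right hf, smul_right hf, hq x, hq y, ← hs y x, hf.herm (N y) x, ← map_mul,
    div_mul_cancel₀ _ hx, mul_zero, mul_zero, zero_add, add_zero, hb] at h1
  exact one_ne_zero h1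

/-- An involution forming 3-transpositions with all its conjugates is a transvection. -/
theorem eq_tau {g : GL ι F} (hg : g ∈ SS) (hgg : g * g = 1) (hg1 : g ≠ 1)
    (h3 : ∀ k ∈ SS, (g * (k * g * k⁻¹)) ^ 2 = 1 ∨ (g * (k * g * k⁻¹)) ^ 3 = 1) :
    ∃ (v : ι → F) (hv : f v v = 0), v ≠ 0 ∧ g = htv hf v hv 1 := by
  have hadd := add_self hf h2 hfix
  have hvadd := vadd_self hf h2 hfix
  set N : (ι → F) →ₗ[F] (ι → F) := mvLin g + LinearMap.id with hNdef
  have hN : ∀ z, N z = mv g z + z := fun z => by simp [hNdef, Matrix.toLin'_apply]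
  have hgz : ∀ z, mv g (mv g z) = z := fun z => by rw [← mv_mul, hgg, mv_one]
  have hgN : ∀ z, mv g z = z + N z := fun z => by
    rw [hN, ← add_assoc, add_comm z, add_assoc, hvadd, add_zero]
  have hNN : ∀ z, N (N z) = 0 := fun z => by
    rw [hN (N z), hN z, mv_add, hgz, add_comm z, hvadd]
  have hgf : ∀ x y, f (mv g x) (mv g y) = f x y := fun x y => hg.1 x y
  have hs : ∀ x y, f (N x) y = f x (N y) := fun x y => by
    rw [hN, hN, hf.add_left, add_right hf, ← hgf x (mv g y), hgz]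
  have hN0 : N ≠ 0 := fun h => hg1 (ext_mv fun z => by
    rw [mv_one, hgN, h, LinearMap.zero_apply, add_zero])
  have hUU : ∀ x y, f (N x) (N y) = 0 := fun x y => by rw [hs, hNN, zero_right hf]
  obtain ⟨x₀, hx₀⟩ := exists_diag hf h2 hfix N hs hN0
  set u₁ := N x₀ with hu₁
  obtain ⟨b, hb⟩ := exists_trace hf.ne_refl hf.involutive (f x₀ x₀) (self_fixed hf _)
  have hux₀ : f u₁ x₀ = 1 := by rw [hs]; exact hx₀
  set x₁ := x₀ + b • u₁ with hx₁
  have hNx₁ : N x₁ = u₁ := by rw [hx₁, map_add, map_smul, hu₁, hNN, smul_zero, add_zero]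
  have hu₁u₁ : f u₁ u₁ = 0 := hUU _ _
  have hx₁u₁ : f x₁ u₁ = 1 := by rw [hx₁, hf.add_left, hf.smul_left, hu₁u₁, hx₀, mul_zero, add_zero]
  have hu₁x₁ : f u₁ x₁ = 1 := by rw [hf.herm, hx₁u₁, map_one]
  have hx₁x₁ : f x₁ x₁ = 0 := by
    rw [hx₁]
    simp only [hf.add_left, add_right hf, hf.smul_left, smul_right hf, hu₁u₁, hux₀, hx₀, mul_zero,
      mul_one, add_zero]
    rw [← hb]
    linear_combination (b + σ b) * h2
  set N₁ : (ι → F) →ₗ[F] (ι → F) := N + (formH hf u₁).smulRight u₁ with hN₁def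
  have hN₁ : ∀ z, N₁ z = N z + f z u₁ • u₁ := fun z => rfl
  by_cases hN₁0 : N₁ = 0
  · refine ⟨u₁, hu₁u₁, fun h => ?_, ext_mv fun z => ?_⟩
    · rw [h, zero_left hf] at hux₀; exact zero_ne_one hux₀
    · have := hN₁ z
      rw [hN₁0, LinearMap.zero_apply] at this
      rw [hgN, mv_htv, one_mul, add_right_inj]
      have h' := congrArg (· + f z u₁ • u₁) this
      simpa [add_assoc, hvadd] using h'.symm
  exfalso
  have hs₁ : ∀ x y, f (N₁ x) y = f x (N₁ y) := fun x y => by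
    rw [hN₁, hN₁, hf.add_left, add_right hf, hs, hf.smul_left, smul_right hf, ← hf.herm, mul_comm]
  obtain ⟨z, hz⟩ := exists_diag hf h2 hfix N₁ hs₁ hN₁0
  have hN₁x₁ : N₁ x₁ = 0 := by rw [hN₁, hNx₁, hx₁u₁, one_smul, hvadd]
  set y₂ := z + f z u₁ • x₁ with hy₂
  set u₂ := N y₂ with hu₂
  have hu₂' : u₂ = N₁ z := by rw [hu₂, hy₂, map_add, map_smul, hNx₁, hN₁]
  have hy₂u₁ : f y₂ u₁ = 0 := by rw [hy₂, hf.add_left, hf.smul_left, hx₁u₁, mul_one, hadd]
  have hx₁u₂ : f x₁ u₂ = 0 := by rw [hu₂', ← hs₁, hN₁x₁, zero_left hf]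
  have hy₂u₂ : f y₂ u₂ = 1 := by
    rw [hy₂, hf.add_left, hf.smul_left, hx₁u₂, mul_zero, add_zero, hu₂', hz]
  have hu₁u₂ : f u₁ u₂ = 0 := hUU _ _
  have hu₂u₁ : f u₂ u₁ = 0 := hUU _ _
  have hu₂u₂ : f u₂ u₂ = 0 := hUU _ _
  have hu₁y₂ : f u₁ y₂ = 0 := (f_eq_zero_comm hf).1 hy₂u₁
  have hu₂y₂ : f u₂ y₂ = 1 := by rw [hf.herm, hy₂u₂, map_one]
  have hu₂x₁ : f u₂ x₁ = 0 := (f_eq_zero_comm hf).1 hx₁u₂
  obtain ⟨c, hc⟩ := exists_trace hf.ne_refl hf.involutive (f y₂ y₂) (self_fixed hf _)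
  set d := σ (f x₁ y₂) with hd
  set x₂ := y₂ + d • u₁ + c • u₂ with hx₂
  have hNx₂ : N x₂ = u₂ := by
    rw [hx₂, map_add, map_add, map_smul, map_smul, hu₁, hu₂, hNN, hNN, smul_zero, smul_zero, add_zero,
      add_zero]
  have hx₁x₂ : f x₁ x₂ = 0 := by
    simp only [hx₂, add_right hf, smul_right hf, hx₁u₁, hx₁u₂, hd, hf.involutive, mul_one, mul_zero,
      add_zero, hadd]
  have hx₂x₁ : f x₂ x₁ = 0 := (f_eq_zero_comm hf).1 hx₁x₂
  have hx₂u₁ : f x₂ u₁ = 0 := by
    simp only [hx₂, hf.add_left, hf.smul_left, hy₂u₁, hu₁u₁, hu₂u₁, mul_zero, add_zero]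
  have hu₁x₂ : f u₁ x₂ = 0 := (f_eq_zero_comm hf).1 hx₂u₁
  have hx₂u₂ : f x₂ u₂ = 1 := by
    simp only [hx₂, hf.add_left, hf.smul_left, hy₂u₂, hu₁u₂, hu₂u₂, mul_zero, add_zero]
  have hu₂x₂ : f u₂ x₂ = 1 := by rw [hf.herm, hx₂u₂, map_one]
  have hx₂x₂ : f x₂ x₂ = 0 := by
    simp only [hx₂, hf.add_left, add_right hf, hf.smul_left, smul_right hf, hy₂u₁, hu₁y₂, hy₂u₂, hu₂y₂,
      hu₁u₁, hu₁u₂, hu₂u₁, hu₂u₂, mul_zero, mul_one, zero_add, add_zero]
    rw [← hc]
    linear_combination (c + σ c) * h2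
  clear_value x₁ x₂
  have hgu₁ : mv g u₁ = u₁ := by rw [hgN, hu₁, hNN, add_zero]
  have hgu₂ : mv g u₂ = u₂ := by rw [hgN, hu₂, hNN, add_zero]
  have hgx₁ : mv g x₁ = x₁ + u₁ := by rw [hgN, hNx₁]
  have hgx₂ : mv g x₂ = x₂ + u₂ := by rw [hgN, hNx₂]
  -- the conjugate
  have haa : f (u₁ + x₁) (u₁ + x₁) = 0 := by
    simp only [hf.add_left, add_right hf, hu₁u₁, hu₁x₁, hx₁u₁, hx₁x₁, zero_add, add_zero, hadd]
  obtain ⟨k₂, hk₂, hk₂z⟩ := exists_eichler hf (u := x₁) (y := x₂) (l := 0) hx₁x₁ hx₂x₁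
    (by rw [map_zero, hx₂x₂, add_zero, add_zero])
  set k := k₂ * htv hf _ haa 1
  have hk : k ∈ SS := Subgroup.mul_mem _ hk₂ (tau_mem hf h2 hfix _ haa)
  set h := k * g * k⁻¹ with hh
  have hh' : ∀ y, mv h (mv k y) = mv k (mv g y) := fun y => by
    rw [hh, mv_mul, mv_mul, mv_inv_mv]
  have hka : ∀ y, mv k y = mv k₂ (y + f y (u₁ + x₁) • (u₁ + x₁)) := fun y => by
    rw [mv_mul, mv_htv, one_mul]
  have hk₂x₁ : mv k₂ x₁ = x₁ := by simp [hk₂z, hx₁x₁, hx₁x₂]
  have hk₂x₂ : mv k₂ x₂ = x₂ := by simp [hk₂z, hx₂x₁, hx₂x₂]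
  have hk₂u₁ : mv k₂ u₁ = u₁ + x₂ := by simp [hk₂z, hu₁x₁, hu₁x₂]
  have hk₂u₂ : mv k₂ u₂ = u₂ + x₁ := by simp [hk₂z, hu₂x₁, hu₂x₂, neg_eq hf h2 hfix]
  have hku₁ : mv k u₁ = x₁ := by
    rw [hka, add_right hf, hu₁u₁, hu₁x₁, zero_add, one_smul, ← add_assoc, hvadd, zero_add, hk₂x₁]
  have hkx₁ : mv k x₁ = u₁ + x₂ := by
    rw [hka, add_right hf, hx₁u₁, hx₁x₁, add_zero, one_smul, add_comm u₁ x₁, ← add_assoc, hvadd, zero_add,
      hk₂u₁]
  have hku₂ : mv k u₂ = u₂ + x₁ := by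
    rw [hka, add_right hf, hu₂u₁, hu₂x₁, add_zero, zero_smul, add_zero, hk₂u₂]
  have hkx₂ : mv k x₂ = x₂ := by
    rw [hka, add_right hf, hx₂u₁, hx₂x₁, add_zero, zero_smul, add_zero, hk₂x₂]
  have hhx₁ : mv h x₁ = x₁ := by
    have := hh' u₁
    rwa [hgu₁, hku₁] at this
  have hhx₂ : mv h x₂ = x₂ + u₂ + x₁ := by
    have := hh' x₂
    rwa [hgx₂, mv_add, hkx₂, hku₂, ← add_assoc] at this
  have hhu₂ : mv h u₂ = u₂ := by
    have := hh' u₂
    rw [hgu₂, hku₂, mv_add, hhx₁] at this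
    exact add_right_cancel this
  have hhu₁ : mv h u₁ = u₁ + u₂ := by
    have := hh' x₁
    rw [hgx₁, mv_add k, hkx₁, hku₁, mv_add, hhx₂] at this
    refine add_right_cancel (b := x₂ + u₂ + x₁) (this.trans ?_)
    linear_combination (norm := module) -(hvadd u₂)
  have hhh : h * h = 1 := by
    rw [hh, show k * g * k⁻¹ * (k * g * k⁻¹) = k * (g * g) * k⁻¹ by group, hgg, mul_one, mul_inv_cancel]
  clear_value h
  rcases h3 k hk with hcase | hcase
  · -- they do not commute
    rw [← hh, pow_two] at hcase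
    have hc' : g * h = h * g := by
      have := eq_inv_of_mul_eq_one_left hcase
      rwa [_root_.mul_inv_rev, inv_eq_of_mul_eq_one_right hgg, inv_eq_of_mul_eq_one_right hhh] at this
    have := congrArg (fun a => f (mv a x₂) x₁) hc'
    simp only [mv_mul, mv_add, hhx₂, hgx₂, hgx₁, hgu₂, hhu₂, hf.add_left, hx₂x₁, hu₂x₁, hx₁x₁, hu₁x₁,
      add_zero, zero_add] at this
    exact one_ne_zero this
  · -- nor braid
    rw [← hh] at hcase
    have hb : g * h * g = h * g * h := by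
      rw [show (g * h) ^ 3 = g * h * g * (h * g * h) by simp only [pow_succ, pow_zero, one_mul, mul_assoc]]
        at hcase
      have := eq_inv_of_mul_eq_one_left hcase
      rwa [_root_.mul_inv_rev, _root_.mul_inv_rev, inv_eq_of_mul_eq_one_right hgg, inv_eq_of_mul_eq_one_right hhh,
        ← mul_assoc] at this
    have := congrArg (fun a => f (mv a x₂) u₁) hb
    simp only [mv_mul, mv_add, hhx₂, hgx₂, hgx₁, hgu₂, hgu₁, hhu₂, hhu₁, hhx₁, hf.add_left, hx₂u₁, hu₂u₁,
      hx₁u₁, hu₁u₁, add_zero, zero_add] at this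
    simp [hadd] at this

variable {H : Subgroup (GL ι F)}

/-- Transitivity on partners by transvections fixing e. -/
theorem partner_move (hn : 4 ≤ Fintype.card ι) {e : ι → F} (hee : f e e = 0)
    (hH : ∀ v (hv : f v v = 0), f e v = 0 → htv hf v hv 1 ∈ H) {d d' : ι → F} (hdd : f d d = 0)
    (hdd' : f d' d' = 0) (hed : f e d = 1) (hed' : f e d' = 1) :
    ∃ g ∈ H, mv g e = e ∧ mv g d = d' := by
  have hadd := add_self hf h2 hfix
  have step : ∀ a b : ι → F, f a a = 0 → f b b = 0 → f e a = 1 → f e b = 1 → f a b = 1 →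
      ∃ g ∈ H, mv g e = e ∧ mv g a = b := by
    intro a b haa hbb hea heb hab
    obtain ⟨hv, -, hm⟩ := htv_map hf haa hbb (hab ▸ one_ne_zero) (by rw [hab, sigma_one hf h2 hfix])
    have he : f e (b - a) = 0 := by rw [sub_right hf, hea, heb, sub_self]
    simp only [hab, inv_one] at hm
    exact ⟨_, hH _ hv he, htv_fix hf _ hv 1 he, hm⟩
  have two : ∀ a z b : ι → F, f a a = 0 → f z z = 0 → f b b = 0 → f e a = 1 → f e z = 1 → f e b = 1 →
      f a z = 1 → f z b = 1 → ∃ g ∈ H, mv g e = e ∧ mv g a = b := by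
    intro a z b haa hzz hbb hea hez heb haz hzb
    obtain ⟨g, hg, hge, hga⟩ := step a z haa hzz hea hez haz
    obtain ⟨k, hk, hke, hkz⟩ := step z b hzz hbb hez heb hzb
    exact ⟨k * g, H.mul_mem hk hg, by rw [mv_mul, hge, hke], by rw [mv_mul, hga, hkz]⟩
  have hde : f d e = 1 := by rw [hf.herm, hed, map_one]
  set s := f d d' with hs
  by_cases hst : σ s = s
  · rcases hfix s hst with h0 | h1
    · refine two d (d + e) d' hdd ?_ hdd' hed ?_ hed' ?_ ?_
      · simp only [hf.add_left, add_right hf, hdd, hde, hed, hee, zero_add, add_zero, hadd]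
      · rw [add_right hf, hed, hee, add_zero]
      · rw [add_right hf, hdd, hde, zero_add]
      · rw [hf.add_left, ← hs, h0, hed', zero_add]
    · exact step d d' hdd hdd' hed hed' (hs.symm.trans h1)
  -- an isotropic shift off the plane
  have hs0 : s ≠ 0 := fun h => hst (by rw [h, map_zero])
  set P := Submodule.span F ({e, d} : Set (ι → F)) with hP
  obtain ⟨hPn, hP2⟩ := nondeg_pair hf hee hdd hed
  have hmem : ∀ {w}, f e w = 0 → f d w = 0 → w ∈ orth hf P := by
    intro w h1 h1' u hu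
    obtain ⟨a, b, rfl⟩ := Submodule.mem_span_pair.1 hu
    rw [hf.add_left, hf.smul_left, hf.smul_left, h1, h1', mul_zero, mul_zero, add_zero]
  set w := d' + d + σ s • e with hw
  have hew : f e w = 0 := by
    simp only [hw, add_right hf, smul_right hf, hed', hed, hee, mul_zero, add_zero, hadd]
  have hdw : f d w = 0 := by
    simp only [hw, add_right hf, smul_right hf, ← hs, hdd, hde, hf.involutive, mul_one, add_zero, hadd]
  have hw0 : w ≠ 0 := by
    intro h
    apply hst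
    have h1 : f d' w = 0 := by rw [h, zero_right hf]
    have hd'e : f d' e = 1 := by rw [hf.herm, hed', map_one]
    simp only [hw, add_right hf, smul_right hf, hdd', hd'e, hf.involutive, mul_one, zero_add] at h1
    rw [hf.herm d' d, ← hs] at h1
    linear_combination h1 - s * h2
  have hY2 : 2 ≤ Module.finrank F ↥(orth hf P) := by
    have h : 2 + Module.finrank F ↥(orth hf P) = Fintype.card ι := by
      rw [← hP2]; exact (finrank_orth_add hf hPn).trans (Module.finrank_pi F)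
    omega
  obtain ⟨e₁, he₁, he₁e₁, he₁w⟩ :=
    exists_isotropic_not_orth hf (nondeg_orth hf hPn) hY2 (hmem hew hdw) hw0
  set w₁ := (s / f e₁ w) • e₁ with hw₁
  have hw₁P : ∀ u ∈ P, f u w₁ = 0 := fun u hu => by rw [hw₁, smul_right hf, he₁ u hu, mul_zero]
  have me : e ∈ P := Submodule.subset_span (Set.mem_insert _ _)
  have md : d ∈ P := Submodule.subset_span (Set.mem_insert_of_mem _ rfl)
  have hew₁ : f e w₁ = 0 := hw₁P e me
  have hdw₁ : f d w₁ = 0 := hw₁P d md
  have hw₁e : f w₁ e = 0 := (f_eq_zero_comm hf).1 hew₁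
  have hw₁d : f w₁ d = 0 := (f_eq_zero_comm hf).1 hdw₁
  have hw₁w₁ : f w₁ w₁ = 0 := by rw [hw₁, hf.smul_left, smul_right hf, he₁e₁, mul_zero, mul_zero]
  have hw₁d' : f w₁ d' = s := by
    have h1 : f w₁ w = s := by rw [hw₁, hf.smul_left, div_mul_cancel₀ _ he₁w]
    simpa only [hw, add_right hf, smul_right hf, hw₁d, hw₁e, mul_zero, add_zero] using h1
  refine two d (d + e + w₁) d' hdd ?_ hdd' hed ?_ hed' ?_ ?_
  · simp only [hf.add_left, add_right hf, hdd, hde, hed, hee, hew₁, hdw₁, hw₁e, hw₁d, hw₁w₁, zero_add,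
      add_zero, hadd]
  · rw [add_right hf, add_right hf, hed, hee, hew₁, add_zero, add_zero]
  · rw [add_right hf, add_right hf, hdd, hde, hdw₁, zero_add, add_zero]
  · rw [hf.add_left, hf.add_left, hw₁d', hed', ← hs]
    linear_combination s * h2

/-- A plane: the isometries fixing its complement lie in a group with all its transvections. -/
theorem plane_le {U : Submodule F (ι → F)} (hU : Nondeg hf U)
    (hX2 : Module.finrank F ↥(orth hf U) = 2)
    (hH : ∀ v (hv : f v v = 0), v ∈ orth hf U → htv hf v hv 1 ∈ H) (hHS : H ≤ SS) {g : GL ι F}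
    (hg : g ∈ SS) (hfixU : ∀ u ∈ U, mv g u = u) : g ∈ H := by
  set X := orth hf U with hXdef
  have hX : Nondeg hf X := nondeg_orth hf hU
  obtain ⟨e, he, he0, hee⟩ := exists_isotropic hf hX (by omega)
  obtain ⟨d, hd, hed, hdd⟩ := exists_partner hf hX he he0 hee
  have hde : f d e = 1 := by rw [hf.herm, hed, map_one]
  have hXP : Submodule.span F ({e, d} : Set (ι → F)) = X :=
    Submodule.eq_of_le_of_finrank_eq (Submodule.span_le.2 (by rintro v (rfl | rfl) <;> assumption))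
      (by rw [(nondeg_pair hf hee hdd hed).2, hX2])
  have horth : ∀ k ∈ SS, (∀ u ∈ U, mv k u = u) → ∀ x ∈ X, mv k x ∈ X := fun k hk hkU x hx u hu => by
    have h1 := hk.1 u x
    change f (mv k u) (mv k x) = f u x at h1
    rwa [hkU u hu, hx u hu] at h1
  -- first send g e to a multiple of e
  obtain ⟨h₁, hh₁, hh₁U, lam, hh₁e⟩ : ∃ h ∈ H, (∀ u ∈ U, mv h u = u) ∧
      ∃ lam : F, mv h (mv g e) = lam • e := by
    obtain ⟨α, β, hαβ⟩ := Submodule.mem_span_pair.1 (hXP ▸ horth g hg hfixU e he)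
    by_cases hβ : β = 0
    · exact ⟨1, one_mem _, fun u _ => mv_one u, α, by rw [mv_one, ← hαβ, hβ, zero_smul, add_zero]⟩
    set k := σ β⁻¹ with hk
    have hge : f (mv g e) (mv g e) = 0 := (hg.1 e e).trans hee
    have hke : f (k • e) (k • e) = 0 := by rw [hf.smul_left, smul_right hf, hee, mul_zero, mul_zero]
    have e1 : f (mv g e) (k • e) = 1 := by
      rw [smul_right hf, ← hαβ, hf.add_left, hf.smul_left, hf.smul_left, hee, hde, mul_zero, zero_add,
        mul_one, hk, hf.involutive, inv_mul_cancel₀ hβ]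
    obtain ⟨hv, -, hm⟩ := htv_map hf hge hke (e1 ▸ one_ne_zero) (by rw [e1, sigma_one hf h2 hfix])
    simp only [e1, inv_one] at hm
    have hmem := X.sub_mem (X.smul_mem k he) (horth g hg hfixU e he)
    exact ⟨_, hH _ hv hmem, fun u hu => htv_fix hf _ hv 1 (hmem u hu), k, hm⟩
  set g₁ := h₁ * g with hg₁
  have hg₁S : g₁ ∈ SS := Subgroup.mul_mem _ (hHS hh₁) hg
  have hg₁U : ∀ u ∈ U, mv g₁ u = u := fun u hu => by rw [hg₁, mv_mul, hfixU u hu, hh₁U u hu]
  have hg₁e : mv g₁ e = lam • e := by rw [hg₁, mv_mul, hh₁e]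
  obtain ⟨ν, μ, hνμ⟩ := Submodule.mem_span_pair.1 (hXP ▸ horth g₁ hg₁S hg₁U d hd)
  have hlm : lam * σ μ = 1 := by
    have h1 := hg₁S.1 e d
    change f (mv g₁ e) (mv g₁ d) = f e d at h1
    rw [hg₁e, ← hνμ, hf.smul_left, add_right hf, smul_right hf, smul_right hf, hee, hed] at h1
    linear_combination h1
  have hμ0 : μ ≠ 0 := fun h => by rw [h, map_zero, mul_zero] at hlm; exact zero_ne_one hlm
  obtain ⟨ν', rfl⟩ : ∃ ν', ν = ν' * μ := ⟨ν / μ, (div_mul_cancel₀ _ hμ0).symm⟩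
  have hdet : lam * μ = 1 := by
    have hmat : (g₁ : Matrix ι ι F) =
        tvMat e (ν' • formH hf e) * (tvMat e ((lam - 1) • formH hf d) * tvMat d ((μ - 1) • formH hf e)) := by
      refine Matrix.ext_of_mulVec_single fun i => ?_
      obtain ⟨u, hu, y, hy, hxy⟩ := Submodule.mem_sup.1
        ((sup_orth hf hU).symm ▸ Submodule.mem_top : (Pi.single i 1 : ι → F) ∈ U ⊔ orth hf U)
      obtain ⟨a, b, rfl⟩ := Submodule.mem_span_pair.1
        (show y ∈ Submodule.span F ({e, d} : Set (ι → F)) by rw [hXP]; exact hy)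
      rw [← hxy, ← Matrix.mulVec_mulVec, ← Matrix.mulVec_mulVec, tvMat_mulVec, tvMat_mulVec, tvMat_mulVec]
      show mv g₁ _ = _
      simp only [mv_add, mv_smul]
      rw [hg₁U u hu, hg₁e, ← hνμ]
      simp only [LinearMap.smul_apply, formH_apply, smul_eq_mul, hf.add_left, hf.smul_left, hee, hdd, hed,
        hde, he u hu, hd u hu, mul_zero, mul_one, zero_add, add_zero]
      module
    have h1 : (g₁ : Matrix ι ι F).det = 1 := by
      rw [← Matrix.GeneralLinearGroup.val_det_apply, MonoidHom.mem_ker.1 hg₁S.2]; rfl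
    rw [hmat, Matrix.det_mul, Matrix.det_mul, det_tvMat, det_tvMat, det_tvMat, LinearMap.smul_apply,
      LinearMap.smul_apply, LinearMap.smul_apply, formH_apply, formH_apply, formH_apply, hee, hed, hde] at h1
    simpa using h1
  have hlam0 : lam ≠ 0 := fun h => by rw [h, zero_mul] at hdet; exact zero_ne_one hdet
  have hμ1 : μ = 1 :=
    (hfix μ (mul_left_cancel₀ hlam0 (hlm.trans hdet.symm))).resolve_left hμ0
  have hlam1 : lam = 1 := by rw [hμ1, mul_one] at hdet; exact hdet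
  rw [hμ1, one_smul, mul_one] at hνμ
  rw [hlam1, one_smul] at hg₁e
  have hν : σ ν' = -ν' := by
    have h1 := hg₁S.1 d d
    change f (mv g₁ d) (mv g₁ d) = f d d at h1
    rw [← hνμ] at h1
    simp only [hf.add_left, add_right hf, hf.smul_left, smul_right hf, hee, hdd, hed, hde, mul_one,
      mul_zero, add_zero, zero_add] at h1
    linear_combination h1
  have heq : g₁ = htv hf e hee ν' := by
    refine ext_mv fun z => ?_
    obtain ⟨u, hu, y, hy, rfl⟩ := Submodule.mem_sup.1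
      ((sup_orth hf hU).symm ▸ Submodule.mem_top : z ∈ U ⊔ orth hf U)
    obtain ⟨a, b, rfl⟩ := Submodule.mem_span_pair.1
      (show y ∈ Submodule.span F ({e, d} : Set (ι → F)) by rw [hXP]; exact hy)
    rw [mv_htv]
    simp only [mv_add, mv_smul, hg₁U u hu, hg₁e, ← hνμ, hf.add_left, hf.smul_left, he u hu, hee, hde,
      mul_zero, mul_one, zero_add]
    module
  have := H.mul_mem (H.inv_mem hh₁) (tau_eq_of_mem hf h2 hfix e hee hν (hH e hee he) : htv hf e hee ν' ∈ H)
  rwa [← heq, hg₁, inv_mul_cancel_left] at this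

/-- The stabiliser of an isotropic vector is generated by the transvections commuting with it. -/
theorem stab_le (hn : Fintype.card ι = 7) {e : ι → F} (hee : f e e = 0) (he0 : e ≠ 0)
    (hH : ∀ v (hv : f v v = 0), f e v = 0 → htv hf v hv 1 ∈ H) (hHS : H ≤ SS) {g : GL ι F}
    (hg : g ∈ SS) (hge : mv g e = e) : g ∈ H := by
  obtain ⟨d, -, hed, hdd⟩ := exists_partner hf (nondeg_top hf) (Submodule.mem_top (x := e)) he0 hee
  have hgd : f (mv g d) (mv g d) = 0 := (hg.1 d d).trans hdd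
  have hegd : f e (mv g d) = 1 := by
    have h1 := hg.1 e d
    change f (mv g e) (mv g d) = f e d at h1
    rwa [hge, hed] at h1
  obtain ⟨k, hk, hke, hkd⟩ := partner_move hf h2 hfix (by omega) hee hH hgd hdd hegd hed
  have red : k * g ∈ H → g ∈ H := fun h => by
    have := H.mul_mem (H.inv_mem hk) h
    rwa [inv_mul_cancel_left] at this
  apply red
  set g₁ := k * g with hg₁
  have hg₁S : g₁ ∈ SS := Subgroup.mul_mem _ (hHS hk) hg
  set P := Submodule.span F ({e, d} : Set (ι → F)) with hP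
  obtain ⟨hPn, hP2⟩ := nondeg_pair hf hee hdd hed
  have hn' : Module.finrank F (ι → F) = 7 := by rw [Module.finrank_pi, hn]
  have me : e ∈ P := Submodule.subset_span (Set.mem_insert _ _)
  -- a chain of non-degenerate fixed spaces
  have hXc : ∀ {U : Submodule F (ι → F)}, P ≤ U → ∀ v (hv : f v v = 0), v ∈ orth hf U → ∀ c, σ c = -c →
      htv hf v hv c ∈ H := fun hPU v hv hvU c hc =>
    tau_eq_of_mem hf h2 hfix v hv hc (hH v hv (hvU e (hPU me)))
  have key : ∀ (U : Submodule F (ι → F)) (g : GL ι F), P ≤ U → Nondeg hf U → g ∈ SS →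
      (∀ u ∈ U, mv g u = u) → Module.finrank F U = 3 → g ∈ H := by
    intro U g hPU hU hg hfixU hU3
    set X := orth hf U with hXdef
    have hX : Nondeg hf X := nondeg_orth hf hU
    have hX4 : Module.finrank F X = 4 := by
      have := finrank_orth_add hf hU
      rw [hU3, hn'] at this
      change 3 + Module.finrank F X = 7 at this
      omega
    obtain ⟨a, ha, ha0, haa⟩ := exists_isotropic hf hX (by omega)
    obtain ⟨b, hb, hab, hbb⟩ := exists_partner hf hX ha ha0 haa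
    have horth : ∀ x ∈ X, mv g x ∈ X := fun x hx u hu => by
      have h1 := hg.1 u x
      change f (mv g u) (mv g x) = f u x at h1
      rwa [hfixU u hu, hx u hu] at h1
    obtain ⟨k₁, hk₁, hk₁a, hk₁f⟩ := exists_move hf hX (by omega) (K := H)
      (fun v hv hv0 c hc => hXc hPU v hv0 hv c hc) (horth a ha) ha
      (fun h => ha0 (mv_inj g (h.trans (mv_zero g).symm))) ha0 ((hg.1 a a).trans haa) haa
    have hfixk : ∀ u ∈ U, mv k₁ u = u := fun u hu => hk₁f u fun x hx => hx u hu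
    have hk₁S := hHS hk₁
    have hb₁X : mv k₁ (mv g b) ∈ X := fun u hu => by
      have h1 := hk₁S.1 u (mv g b)
      change f (mv k₁ u) (mv k₁ (mv g b)) = f u (mv g b) at h1
      rwa [hfixk u hu, horth b hb u hu] at h1
    have hab₁ : f a (mv k₁ (mv g b)) = 1 := by
      have h1 := hk₁S.1 (mv g a) (mv g b)
      change f (mv k₁ (mv g a)) (mv k₁ (mv g b)) = f (mv g a) (mv g b) at h1
      rw [hk₁a] at h1
      exact h1.trans ((hg.1 a b).trans hab)
    obtain ⟨k₂, hk₂, hk₂a, hk₂b, hk₂f⟩ := exists_move_partner hf hX (by omega) (K := H)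
      (fun v hv hv0 c hc => hXc hPU v hv0 hv c hc) (fun x hx => (hHS hx).1) ha hb₁X hb haa
      (show f (mv k₁ (mv g b)) (mv k₁ (mv g b)) = 0 from
        (hk₁S.1 _ _).trans ((hg.1 b b).trans hbb)) hbb hab₁ hab
    obtain ⟨hN, hNdim⟩ := nondeg_sup hf hU (nondeg_pair hf haa hbb hab).1
      (Submodule.span_le.2 (by rintro v (rfl | rfl) <;> assumption))
    rw [(nondeg_pair hf haa hbb hab).2, hU3] at hNdim
    set U₅ := U ⊔ Submodule.span F ({a, b} : Set (ι → F)) with hU₅
    have := plane_le hf h2 hfix (H := H) hN (by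
        have := finrank_orth_add hf hN
        rw [hNdim, hn'] at this
        omega)
      (fun v hv hvU => hH v hv (hvU e (Submodule.mem_sup_left (hPU me)))) hHS
      (g := k₂ * (k₁ * g)) (Subgroup.mul_mem _ (hHS hk₂) (Subgroup.mul_mem _ hk₁S hg)) ?_
    · have h' := H.mul_mem (H.inv_mem hk₁) (H.mul_mem (H.inv_mem hk₂) this)
      rwa [inv_mul_cancel_left, inv_mul_cancel_left] at h'
    · intro x hx
      obtain ⟨u, hu, y, hy, rfl⟩ := Submodule.mem_sup.1 hx
      obtain ⟨r, s, rfl⟩ := Submodule.mem_span_pair.1 hy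
      simp only [mv_mul, mv_add, mv_smul]
      rw [hfixU u hu, hfixk u hu, hk₂f u (fun x hx => hx u hu), hk₁a, hk₂a, hk₂b]
  have hXn : Nondeg hf (orth hf P) := nondeg_orth hf hPn
  have hX5 : Module.finrank F ↥(orth hf P) = 5 := by
    have : 2 + Module.finrank F ↥(orth hf P) = 7 := by
      rw [← hP2]; exact (finrank_orth_add hf hPn).trans hn'
    omega
  obtain ⟨v, hv, hvv⟩ := exists_anisotropic hf hXn (fun h => by rw [h, finrank_bot] at hX5; omega)
  have hg₁P : ∀ u ∈ P, mv g₁ u = u := fun u hu => by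
    obtain ⟨r, s, rfl⟩ := Submodule.mem_span_pair.1 hu
    rw [mv_add, mv_smul, mv_smul, hg₁, mv_mul, mv_mul, hge, hke, hkd]
  have hgvX : mv g₁ v ∈ orth hf P := fun u hu => by
    have h1 := hg₁S.1 u v
    change f (mv g₁ u) (mv g₁ v) = f u v at h1
    rwa [hg₁P u hu, hv u hu] at h1
  obtain ⟨k₃, hk₃, hk₃v, hk₃f⟩ := exists_move_norm hf hXn (by omega) (K := H)
    (fun w hw hw0 c hc => hXc le_rfl w hw0 hw c hc) (fun x hx => (hHS hx).1) hgvX hv
    (fun h => hvv (by rw [mv_inj g₁ (h.trans (mv_zero g₁).symm), zero_left hf]))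
    (fun h => hvv (by rw [h, zero_left hf])) (hg₁S.1 v v)
  obtain ⟨hN, hNdim⟩ := nondeg_sup hf hPn (nondeg_span_single hf hvv)
    ((Submodule.span_singleton_le_iff_mem _ _).2 hv)
  rw [hP2, finrank_span_single hf hvv] at hNdim
  have := key _ (k₃ * g₁) le_sup_left hN (Subgroup.mul_mem _ (hHS hk₃) hg₁S) (fun x hx => by
    obtain ⟨u, hu, y, hy, rfl⟩ := Submodule.mem_sup.1 hx
    obtain ⟨r, rfl⟩ := Submodule.mem_span_singleton.1 hy
    rw [mv_mul, mv_add, mv_smul, hg₁P u hu, mv_add, mv_smul, hk₃v, hk₃f u fun x hx => hx u hu]) hNdim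
  have h' := H.mul_mem (H.inv_mem hk₃) this
  rwa [inv_mul_cancel_left] at h'

/-- Two non-perpendicular points see every transvection. -/
theorem perp_union (hn : 4 ≤ Fintype.card ι) {p q : ι → F} (hp : f p p = 0) (hq : f q q = 0)
    (hpq : f p q ≠ 0) (hHp : ∀ v (hv : f v v = 0), f p v = 0 → htv hf v hv 1 ∈ H)
    (hHq : ∀ v (hv : f v v = 0), f q v = 0 → htv hf v hv 1 ∈ H) (hHS : H ≤ SS) :
    ∀ v (hv : f v v = 0), htv hf v hv 1 ∈ H := by
  intro v hv
  by_cases hpv : f p v = 0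
  · exact hHp v hv hpv
  have hσ : ∀ {x : F}, x ≠ 0 → σ x⁻¹ ≠ 0 := fun hx h => inv_ne_zero hx ((map_eq_zero_iff σ σ.injective).1 h)
  obtain ⟨hq', eq'⟩ := tau_smul hf h2 hfix hq (hσ hpq)
  obtain ⟨hv', ev'⟩ := tau_smul hf h2 hfix hv (hσ hpv)
  obtain ⟨k, hk, -, hkq⟩ := partner_move hf h2 hfix hn hp hHp hq' hv'
    (by rw [smul_right hf, hf.involutive, inv_mul_cancel₀ hpq])
    (by rw [smul_right hf, hf.involutive, inv_mul_cancel₀ hpv])
  have hmem : htv hf (σ (f p q)⁻¹ • q) hq' 1 ∈ H := eq' ▸ hHq q hq hq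
  rw [← ev', ← tau_conj hf h2 hfix (hHS hk) (hv := hq') (hw := hv') hkq]
  exact H.mul_mem (H.mul_mem hk hmem) (H.inv_mem hk)

/-- Five transvections on a totally singular line multiply to one. -/
theorem five {u z : ι → F} (hu : f u u = 0) (hz : f z z = 0) (huz : f u z = 0) {w : F}
    (hw : w * w + w + 1 = 0) :
    ∃ (h₁ : f (u + z) (u + z) = 0) (h₂ : f (u + w • z) (u + w • z) = 0)
      (h₃ : f (u + (w + 1) • z) (u + (w + 1) • z) = 0),
      htv hf u hu 1 * htv hf z hz 1 * htv hf _ h₁ 1 * htv hf _ h₂ 1 * htv hf _ h₃ 1 = 1 := by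
  have hzu : f z u = 0 := (f_eq_zero_comm hf).1 huz
  have hiso : ∀ a : F, f (u + a • z) (u + a • z) = 0 := fun a => by
    simp only [hf.add_left, add_right hf, hf.smul_left, smul_right hf, hu, hz, huz, hzu, mul_zero, add_zero]
  refine ⟨by simpa using hiso 1, hiso w, hiso (w + 1), ext_mv fun x => ?_⟩
  have hw0 : w ≠ 0 := fun h => by simp [h] at hw
  have hw1 : w + 1 ≠ 0 := fun h => by
    have hr : w = -1 := eq_neg_of_add_eq_zero_left h
    rw [hr] at hw
    norm_num at hw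
  have n1 := norm_one hf h2 hfix hw0
  have n2 := norm_one hf h2 hfix hw1
  have hnw : σ w = w + 1 := mul_left_cancel₀ hw0 (n1.trans (by linear_combination -hw + h2 * (0 : F) + 1 * h2))
  rw [map_add, map_one, hnw] at n2
  simp only [mv_mul, mv_htv, mv_one, hf.add_left, add_right hf, hf.smul_left, smul_right hf, hu, hz, huz,
    hzu, one_mul, mul_zero, add_zero, map_add, map_one, hnw]
  funext i
  simp only [Pi.add_apply, Pi.smul_apply, smul_eq_mul]
  linear_combination (f x u * u i + f x z * z i) * h2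
    + (f x u * u i + f x z * z i + (f x u * z i + f x z * u i)) * h2
    + (f x u * w * z i + w * f x z * u i + 2 * w * f x z * z i + w ^ 2 * f x z * z i + f x z * u i) * h2

end Cfsg.Agent.Fischer.UnitaryPerp
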