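import Cfsg.Agent.Lib.Fischer.PerpGen
import Cfsg.Agent.Lib.Fischer.UnitaryPerp
import Cfsg.Agent.Lib.Transvec.HermStd
import Cfsg.Agent.Lib.Transfer.Basic
import Cfsg.Prelude.Def_Classical
import Cfsg.Prelude.Def_Transfer

/-!
Three-transposition groups mapping onto SU₇(2) with 2-group kernel.
-/

set_option autoImplicit false
set_option linter.unusedSectionVars false

namespace Cfsg.Agent.Fischer.UnitaryPerp

open scoped Matrix
open Matrix Cfsg.Agent.Transvec Cfsg.Agent.Transvec.Herm

variable {F : Type} [Field F]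

local notation "hh" => hermForm 7 F 2

/-- The isotropic non-zero vectors are odd in number. -/
theorem odd_card_isotropic [Fintype F] (h2 : (2 : F) = 0) :
    Odd {v : Fin 7 → F | v ≠ 0 ∧ hh v v = 0}.ncard := by
  classical
  set s : Finset (Fin 7 → F) := Finset.univ.filter fun v => hh v v = 0 with hs
  have heven : ((s.card : ℕ) : ZMod 2) = 0 := by
    rw [Finset.card_eq_sum_ones, Nat.cast_sum]
    simp only [Nat.cast_one]
    refine Finset.sum_involution
      (fun v _ => if v 0 = v 1 then Function.update (Function.update v 0 (v 0 + 1)) 1 (v 0 + 1)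
        else Function.update (Function.update v 0 (v 1)) 1 (v 0)) (fun v _ => by decide) ?_ ?_ ?_
    · intro v _ _ h
      split_ifs at h with hv
      · have := congrFun h 0
        rw [Function.update_of_ne (by decide), Function.update_self, add_eq_left] at this
        exact one_ne_zero this
      · have := congrFun h 0
        rw [Function.update_of_ne (by decide), Function.update_self] at this
        exact hv this.symm
    · intro v hv
      rw [hs, Finset.mem_filter] at hv ⊢
      refine ⟨Finset.mem_univ _, ?_⟩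
      have e := hv.2
      simp only [hermForm, Fin.sum_univ_seven] at e ⊢
      split_ifs with h
      · simp only [Function.update_self, ne_eq, Fin.reduceEq, not_false_eq_true, Function.update_of_ne]
        rw [← h] at e
        linear_combination e + (((v 0 + 1) * (v 0 + 1) ^ 2) - v 0 * v 0 ^ 2) * h2
      · simp only [Function.update_self, ne_eq, Fin.reduceEq, not_false_eq_true, Function.update_of_ne]
        linear_combination e
    · intro v _
      funext i
      by_cases h : v 0 = v 1
      · simp only [if_pos h, Function.update_self, ne_eq, Fin.reduceEq, not_false_eq_true,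
          Function.update_of_ne, if_true]
        have e : v 0 + 1 + 1 = v 0 := by linear_combination h2
        by_cases h1 : i = 1
        · subst h1; simp only [Function.update_self, h]; linear_combination h2
        by_cases h0 : i = 0
        · subst h0; simp only [Function.update_of_ne h1, Function.update_self, e]
        simp only [Function.update_of_ne h1, Function.update_of_ne h0]
      · simp only [if_neg h, Function.update_self, ne_eq, Fin.reduceEq, not_false_eq_true,
          Function.update_of_ne, if_neg (Ne.symm h)]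
        by_cases h1 : i = 1
        · subst h1; simp only [Function.update_self]
        by_cases h0 : i = 0
        · subst h0; simp only [Function.update_of_ne h1, Function.update_self]
        simp only [Function.update_of_ne h1, Function.update_of_ne h0]
  have hset : {v : Fin 7 → F | v ≠ 0 ∧ hh v v = 0} = ↑(s.erase 0) := by
    ext v; simp [hs, and_comm]
  have h0 : (0 : Fin 7 → F) ∈ s := Finset.mem_filter.2 ⟨Finset.mem_univ _, by simp [hermForm]⟩
  rw [hset, Set.ncard_coe_finset]
  have hev : Even s.card := (ZMod.natCast_eq_zero_iff_even).1 heven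
  have := Finset.card_erase_add_one h0
  obtain ⟨r, hr⟩ := hev
  exact ⟨r - 1, by omega⟩

variable {G : Type*} [Group G] [Finite G] {D : Set G}

theorem two_radical_seven [Fintype F] (hF : Fintype.card F = 4) (hD : IsThreeTranspositionClass D)
    (hZ : Subgroup.center G = ⊥) {W : Subgroup G} (hWn : W.Normal) (hW : IsPGroup 2 W)
    (π : G →* GL (Fin 7) F) (hker : π.ker = W)
    (hrange : π.range = preserving (Units.coeHom (Matrix (Fin 7) (Fin 7) F)) hh ⊓
      Geo.specialLinear (Fin 7) F) :
    (∀ x ∈ W, ∀ y ∈ W, x * y = y * x) ∧ ∀ x ∈ W, x ^ 2 = 1 := by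
  classical
  obtain ⟨σ, hσ, -, hf⟩ := exists_unitary_std (n := 7) (q := 2) (F := F) (by rw [hF]; rfl) (by norm_num)
  have : CharP F 2 := charP_of_card_eq_prime_pow (show Fintype.card F = 2 ^ 2 by rw [hF]; rfl)
  have h2 : (2 : F) = 0 := CharTwo.two_eq_zero
  have hfix : ∀ a : F, σ a = a → a = 0 ∨ a = 1 := fun a ha => by
    rw [hσ] at ha
    rcases eq_or_ne a 0 with h | h
    · exact Or.inl h
    · exact Or.inr (mul_left_cancel₀ h (by linear_combination ha))
  obtain ⟨w, hw⟩ : ∃ w : F, w * w + w + 1 = 0 := by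
    obtain ⟨u, -, hu⟩ := Finset.exists_mem_notMem_of_card_lt_card
      (s := ({0, 1} : Finset F)) (t := Finset.univ) (by
        rw [Finset.card_univ, hF]
        exact lt_of_le_of_lt (Finset.card_insert_le _ _) (by simp))
    simp only [Finset.mem_insert, Finset.mem_singleton, not_or] at hu
    have h3 : u ^ 3 = 1 := by
      have := FiniteField.pow_card_sub_one_eq_one u hu.1
      rwa [hF] at this
    exact ⟨u, (mul_eq_zero.1 (show (u - 1) * (u * u + u + 1) = 0 by
      linear_combination h3)).resolve_left (sub_ne_zero.2 hu.2)⟩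
  set SS := preserving (Units.coeHom (Matrix (Fin 7) (Fin 7) F)) hh ⊓ Geo.specialLinear (Fin 7) F with hSS
  have hmemS : ∀ x, π x ∈ SS := fun x => hrange.le ⟨x, rfl⟩
  have hsurj : ∀ k ∈ SS, ∃ x, π x = k := fun k hk => hrange.ge hk
  have hW' : ∀ {x}, π x = 1 ↔ x ∈ W := fun {x} => by rw [← hker]; rfl
  have htop := nondeg_top hf
  have hcard : Fintype.card (Fin 7) = 7 := Fintype.card_fin 7
  have h4 : 4 ≤ Module.finrank F (⊤ : Submodule F (Fin 7 → F)) := by
    rw [finrank_top, Module.finrank_pi, hcard]; norm_num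
  have h1ne : ∀ d ∈ D, π d ≠ 1 := by
    intro d hd h
    have hDW : D ⊆ W := fun a ha => by
      obtain ⟨c, rfl⟩ := TClass.transitive hD d hd a ha
      exact hWn.conj_mem _ (hW'.1 h) c
    obtain ⟨v, -, hv0, hvv⟩ := exists_isotropic hf htop (by omega)
    obtain ⟨x, hx⟩ := hsurj _ (tau_mem hf h2 hfix v hvv)
    have hxW : x ∈ W := (Subgroup.closure_le _).2 hDW (hD.2.2 ▸ Subgroup.mem_top x)
    exact tau_ne_one hf h2 hfix hvv hv0 (hx.symm.trans (hW'.2 hxW))
  have htau : ∀ d ∈ D, ∃ (v : Fin 7 → F) (hv : hh v v = 0), v ≠ 0 ∧ π d = htv hf v hv 1 := by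
    intro d hd
    refine eq_tau hf h2 hfix (hmemS d) (by rw [← map_mul, TSet.sq hD.1 hd, map_one]) (h1ne d hd) ?_
    intro k hk
    obtain ⟨x, rfl⟩ := hsurj k hk
    rw [← map_inv, ← map_mul, ← map_mul, ← map_mul, ← map_pow, ← map_pow]
    rcases hD.1.2 d hd _ (TClass.conjInv hD x d hd) with h | h
    · exact Or.inl (by rw [h, map_one])
    · exact Or.inr (by rw [h, map_one])
  have hall : ∀ v (hv : hh v v = 0), v ≠ 0 → ∃ d ∈ D, π d = htv hf v hv 1 := by
    intro v hv hv0
    obtain ⟨d, hd, -⟩ := hD.2.1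
    obtain ⟨u, hu, hu0, hdu⟩ := htau d hd
    obtain ⟨k, hk, hku, -⟩ := exists_move hf htop h4 (K := SS)
      (fun x _ hx c hc => tau_eq_of_mem hf h2 hfix x hx hc (tau_mem hf h2 hfix x hx))
      (Submodule.mem_top (x := u)) (Submodule.mem_top (x := v)) hu0 hv0 hu hv
    obtain ⟨x, rfl⟩ := hsurj k hk
    exact ⟨x * d * x⁻¹, TClass.conjInv hD x d hd, by
      rw [map_mul, map_mul, map_inv, hdu, tau_conj hf h2 hfix hk hku]⟩
  -- commuting in G is seen in the image
  have hcomm : ∀ {a b}, a ∈ D → b ∈ D → Commute (π a) (π b) → Commute a b := by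
    intro a b ha hb h
    have hab : (a * b) ^ 2 ∈ W := hW'.1 (by
      rw [map_pow, map_mul, h.mul_pow, pow_two, pow_two, ← map_mul, ← map_mul, TSet.sq hD.1 ha,
        TSet.sq hD.1 hb, map_one, one_mul])
    obtain ⟨k, hk⟩ := hW ⟨_, hab⟩
    refine TSet.commute_of_two_pow hD.1 ha hb (k := k + 1) ?_
    rw [pow_succ', pow_mul]
    exact congrArg Subtype.val hk
  -- perpendicular transvections lie in the image
  have hperp : ∀ {e}, e ∈ D → ∀ {p} (hp : hh p p = 0), π e = htv hf p hp 1 →
      ∀ v (hv : hh v v = 0), hh p v = 0 →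
        ∃ d, π d = htv hf v hv 1 ∧ ((d ∈ D ∧ Commute d e) ∨ d ∈ W) := by
    intro e he p hp hep v hv hpv
    rcases eq_or_ne v 0 with rfl | hv0
    · refine ⟨1, ?_, Or.inr W.one_mem⟩
      rw [map_one]
      exact (ext_mv fun x => by rw [mv_htv, mv_one, smul_zero, add_zero]).symm
    obtain ⟨d, hd, hdv⟩ := hall v hv hv0
    refine ⟨d, hdv, Or.inl ⟨hd, hcomm hd he ?_⟩⟩
    rw [hdv, hep]
    exact tau_comm hf h2 hfix hv hp hpv
  have hmapS : ∀ K : Subgroup G, K.map π ≤ SS := fun K => hrange ▸ Subgroup.map_le_range π K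
  have hmap : ∀ {e}, e ∈ D → ∀ {p} (hp : hh p p = 0), π e = htv hf p hp 1 → ∀ (K : Subgroup G),
      {d ∈ D | Commute d e} ⊆ K → W ≤ K →
      ∀ v (hv : hh v v = 0), hh p v = 0 → htv hf v hv 1 ∈ K.map π := by
    intro e he p hp hep K hK hWK v hv hpv
    obtain ⟨d, hdv, h⟩ := hperp he hp hep v hv hpv
    refine ⟨d, ?_, hdv⟩
    rcases h with h | h
    · exact hK h
    · exact hWK h
  refine PerpGen.elementaryAbelian hD hZ hWn hW ?_ ?_ ?_
  · -- perpendicular sets of two non-commuting members generate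
    intro e he g hg heg
    obtain ⟨p, hp, -, hep⟩ := htau e he
    obtain ⟨q, hq, -, hgq⟩ := htau g hg
    have hpq : hh p q ≠ 0 := fun h => heg (hcomm he hg (by
      rw [hep, hgq]; exact tau_comm hf h2 hfix hp hq ((f_eq_zero_comm hf).1 h)))
    set K := Subgroup.closure ({d ∈ D | Commute d e} ∪ {d ∈ D | Commute d g}) ⊔ W with hK
    have hsub : {d ∈ D | Commute d e} ∪ {d ∈ D | Commute d g} ⊆ (K : Set G) := fun d hd =>
      (le_sup_left : _ ≤ K) (Subgroup.subset_closure hd)
    have hM := perp_union hf h2 hfix (H := K.map π) (by omega) hp hq hpq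
      (hmap he hp hep K (fun d hd => hsub (Or.inl hd)) le_sup_right)
      (hmap hg hq hgq K (fun d hd => hsub (Or.inr hd)) le_sup_right) (hmapS K)
    have hS : SS ≤ K.map π :=
      su_le hf (fun v hv c hc => tau_eq_of_mem hf h2 hfix v hv hc (hM v hv)) (Or.inr (by omega))
    refine top_le_iff.1 fun x _ => ?_
    obtain ⟨y, hy, hyx⟩ := hS (hmemS x)
    have hm : y⁻¹ * x ∈ W := hW'.1 (by rw [map_mul, map_inv, hyx, inv_mul_cancel])
    have := K.mul_mem hy ((le_sup_right : W ≤ K) hm)
    rwa [mul_inv_cancel_left] at this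
  · -- odd index
    intro e he
    obtain ⟨p, hp, hp0, hep⟩ := htau e he
    set K := Subgroup.closure {d ∈ D | Commute d e} ⊔ W with hK
    letI : MulAction (GL (Fin 7) F) (Fin 7 → F) :=
      { smul := fun g v => mv g v, one_smul := mv_one, mul_smul := mv_mul }
    letI : MulAction G (Fin 7 → F) := MulAction.compHom _ π
    have horb : MulAction.orbit G p = {v : Fin 7 → F | v ≠ 0 ∧ hh v v = 0} := by
      ext v
      constructor
      · rintro ⟨x, rfl⟩
        show mv (π x) p ≠ 0 ∧ hh (mv (π x) p) (mv (π x) p) = 0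
        exact ⟨fun h => hp0 (mv_inj (π x) (h.trans (mv_zero _).symm)), ((hmemS x).1 p p).trans hp⟩
      · rintro ⟨hv0, hv⟩
        obtain ⟨k, hk, hkp, -⟩ := exists_move hf htop h4 (K := SS)
          (fun x _ hx c hc => tau_eq_of_mem hf h2 hfix x hx hc (tau_mem hf h2 hfix x hx))
          (Submodule.mem_top (x := p)) (Submodule.mem_top (x := v)) hp0 hv0 hp hv
        obtain ⟨x, rfl⟩ := hsurj k hk
        exact ⟨x, hkp⟩
    have hstab : MulAction.stabilizer G p ≤ K := by
      intro x hx
      have hx' : mv (π x) p = p := hx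
      obtain ⟨y, hy, hyx⟩ := stab_le hf h2 hfix (H := K.map π) hcard hp hp0
        (hmap he hp hep K (fun d hd => (le_sup_left : _ ≤ K) (Subgroup.subset_closure hd)) le_sup_right)
        (hmapS K) (hmemS x) hx'
      have hm : y⁻¹ * x ∈ W := hW'.1 (by rw [map_mul, map_inv, hyx, inv_mul_cancel])
      have := K.mul_mem hy ((le_sup_right : W ≤ K) hm)
      rwa [mul_inv_cancel_left] at this
    have hodd : Odd (MulAction.stabilizer G p).index := by
      rw [MulAction.index_stabilizer, horb]
      exact odd_card_isotropic h2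
    exact Odd.of_dvd_nat hodd (Subgroup.index_dvd_of_le hstab)
  · -- five members
    intro e he
    obtain ⟨p, hp, hp0, hep⟩ := htau e he
    obtain ⟨d, -, hpd, hdd⟩ := exists_partner hf htop (Submodule.mem_top (x := p)) hp0 hp
    obtain ⟨hPn, hP2⟩ := nondeg_pair hf hp hdd hpd
    have hY2 : 2 ≤ Module.finrank F ↥(orth hf (Submodule.span F ({p, d} : Set (Fin 7 → F)))) := by
      have : 2 + Module.finrank F ↥(orth hf (Submodule.span F ({p, d} : Set (Fin 7 → F)))) = 7 := by
        exact (congrArg (· + _) hP2.symm).trans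
          ((finrank_orth_add hf hPn).trans ((Module.finrank_pi F).trans hcard))
      omega
    obtain ⟨z, hz, hz0, hzz⟩ := exists_isotropic hf (nondeg_orth hf hPn) hY2
    have hpz : hh p z = 0 := hz p (Submodule.subset_span (Set.mem_insert _ _))
    have hdz : hh d z = 0 := hz d (Submodule.subset_span (Set.mem_insert_of_mem _ rfl))
    obtain ⟨h₁, h₂, h₃, hfive⟩ := five hf h2 hfix hp hzz hpz hw
    have hperp' : ∀ (a : F), hh p (p + a • z) = 0 ∧ p + a • z ≠ 0 := fun a => by
      refine ⟨by rw [add_right hf, smul_right hf, hp, hpz, mul_zero, add_zero], fun h => ?_⟩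
      have := congrArg (fun v => hh v d) h
      simp only [hf.add_left, hf.smul_left, hpd, (f_eq_zero_comm hf).1 hdz, mul_zero, add_zero,
        zero_left hf] at this
      exact one_ne_zero this
    have pick : ∀ v (hv : hh v v = 0), v ≠ 0 → hh p v = 0 →
        ∃ b, (b ∈ D ∧ Commute b e) ∧ π b = htv hf v hv 1 := by
      intro v hv hv0 hpv
      obtain ⟨b, hb, hbv⟩ := hall v hv hv0
      refine ⟨b, ⟨hb, hcomm hb he ?_⟩, hbv⟩
      rw [hbv, hep]
      exact tau_comm hf h2 hfix hv hp hpv
    obtain ⟨b₁, hb₁, e₁⟩ := pick p hp hp0 hp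
    obtain ⟨b₂, hb₂, e₂⟩ := pick z hzz hz0 hpz
    obtain ⟨b₃, hb₃, e₃⟩ := pick _ h₁ (by simpa using (hperp' 1).2) (by simpa using (hperp' 1).1)
    obtain ⟨b₄, hb₄, e₄⟩ := pick _ h₂ (hperp' w).2 (hperp' w).1
    obtain ⟨b₅, hb₅, e₅⟩ := pick _ h₃ (hperp' (w + 1)).2 (hperp' (w + 1)).1
    refine ⟨[b₁, b₂, b₃, b₄, b₅], ⟨2, rfl⟩, ?_, hW'.1 ?_⟩
    · intro a ha
      simp only [List.mem_cons, List.not_mem_nil, or_false] at ha
      rcases ha with rfl | rfl | rfl | rfl | rfl <;> assumption
    · simp only [List.prod_cons, List.prod_nil, mul_one, map_mul, e₁, e₂, e₃, e₄, e₅, ← mul_assoc]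
      exact hfive

end Cfsg.Agent.Fischer.UnitaryPerp
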