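import Cfsg.Agent.Lib.Fischer.Cores
import Cfsg.Agent.Lib.Components.FStar
import Cfsg.Agent.Lib.Char.Burnside
import Cfsg.Agent.S5347
import Cfsg.Agent.S5348

set_option autoImplicit false

/-!
Structure of a group generated by a class of 3-transpositions: cores, components, primitivity.
-/

namespace Cfsg.Agent.Fischer

open Subgroup

variable {G : Type*} [Group G] [Finite G] {D : Set G}

theorem isSolvable_closure_of_commute {E : Set G} (h2 : ∀ a ∈ E, a * a = 1)
    (hc : ∀ a ∈ E, ∀ b ∈ E, Commute a b) : Group.IsSolvable (Subgroup.closure E) := by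
  haveI : Fact (Nat.Prime 2) := ⟨Nat.prime_two⟩
  haveI : Group.IsNilpotent (Subgroup.closure E) :=
    (isPGroup_closure_of_commute h2 hc).isNilpotent
  infer_instance

theorem isSolvable_closure_of_braid {S : Set G} (h2 : ∀ x ∈ S, x * x = 1)
    (hbr : ∀ x ∈ S, ∀ y ∈ S, x * y * x = y * x * y)
    (hcl : ∀ x ∈ S, ∀ y ∈ S, x * y * x⁻¹ ∈ S) : Group.IsSolvable (Subgroup.closure S) := by
  rcases Set.eq_empty_or_nonempty S with rfl | ⟨d, hd⟩
  · rw [Subgroup.closure_empty]; infer_instance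
  set H := Subgroup.closure S
  have hcH : ∀ g ∈ H, g ∈ Subgroup.normalizer S := by
    refine fun g hg => (Subgroup.closure_le _).2 (fun x hx => ?_) hg
    refine Subgroup.mem_set_normalizer_iff.2 fun y => ⟨hcl x hx y, fun hy => ?_⟩
    have := hcl x hx _ hy
    rwa [inv_eq_of_mul_eq_one_right (h2 x hx), ← mul_assoc, ← mul_assoc, h2 x hx, one_mul,
      mul_assoc, h2 x hx, mul_one] at this
  set dH : H := ⟨d, Subgroup.subset_closure hd⟩
  have hsup : Cfsg.pCore 3 H ⊔ Subgroup.zpowers dH = ⊤ := by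
    rw [eq_top_iff, ← Subgroup.closure_closure_coe_preimage (k := S), Subgroup.closure_le]
    rintro ⟨x, hxH⟩ hx
    obtain ⟨M, hM, hM3, hMm⟩ := braidSet.mul_mem_normal_three_group (D := {z : H | (z : G) ∈ S})
      (fun y hy => Subtype.ext (h2 y hy)) (fun a ha b hb => Subtype.ext (hbr a ha b hb))
      (fun g y hy => ((Subgroup.mem_set_normalizer_iff.1 (hcH g g.2)) y).1 hy)
      (a := dH) (b := ⟨x, hxH⟩) hd hx
    have := mul_mem (Subgroup.mem_sup_right (S := Cfsg.pCore 3 H) (Subgroup.mem_zpowers dH))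
      (Subgroup.mem_sup_left (T := Subgroup.zpowers dH) (PBasic.le_pCore hM hM3 hMm))
    rwa [← mul_assoc, (Subtype.ext (h2 d hd) : dH * dH = 1), one_mul] at this
  haveI : (Cfsg.pCore 3 H).Normal := Cfsg.pCore_normal 3 H
  haveI : Fact (Nat.Prime 3) := ⟨Nat.prime_three⟩
  haveI : Group.IsNilpotent (Cfsg.pCore 3 H) := (PBasic.pCore_isPGroup 3 H).isNilpotent
  exact Components.isSolvable_of_sup_eq_top (Cfsg.pCore 3 H) (Subgroup.zpowers dH) hsup

/-- A member normalising, but not centralising, a component has in its orbit under the component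
both commuting and non-commuting partners. -/
theorem component_orbit (hD : IsThreeTranspositionGroup D) {L : Subgroup G}
    (hL : Cfsg.IsComponent L) {d : G} (hd : d ∈ D) (hnorm : d ∈ Subgroup.normalizer (L : Set G))
    (hnc : ∃ g ∈ L, ¬ Commute d g) :
    (∃ g ∈ L, ¬ Commute d (g * d * g⁻¹)) ∧
      ∃ g ∈ L, g * d * g⁻¹ ≠ d ∧ Commute d (g * d * g⁻¹) := by
  set S : Set G := {x | ∃ g ∈ L, x = g * d * g⁻¹} with hS
  have hSD : S ⊆ D := by rintro _ ⟨g, -, rfl⟩; exact hD.2.1 g d hd
  have hns : ¬ Group.IsSolvable (Subgroup.closure S) := by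
    intro hs
    have hn : L ≤ Subgroup.normalizer (Subgroup.closure S : Set G) := by
      intro g hg
      rw [Subgroup.mem_normalizer_iff_map_conj_eq, MonoidHom.map_closure]
      congr 1
      ext x
      constructor
      · rintro ⟨_, ⟨a, ha, rfl⟩, rfl⟩
        exact ⟨g * a, mul_mem hg ha, by show g * (a * d * a⁻¹) * g⁻¹ = _; group⟩
      · rintro ⟨a, ha, rfl⟩
        exact ⟨g⁻¹ * a * d * (g⁻¹ * a)⁻¹, ⟨g⁻¹ * a, mul_mem (inv_mem hg) ha, rfl⟩,
          by show g * (g⁻¹ * a * d * (g⁻¹ * a)⁻¹) * g⁻¹ = _; group⟩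
    have hb := Components.component_commute_solvable hL hs hn
    obtain ⟨g, hg, hdg⟩ := hnc
    refine hdg ?_
    have h1 : g * d * g⁻¹ * d⁻¹ = 1 := by
      have := Subgroup.commutator_mem_commutator hg
        (Subgroup.subset_closure (k := S) ⟨1, one_mem L, by group⟩ : d ∈ Subgroup.closure S)
      rwa [hb, Subgroup.mem_bot] at this
    exact (mul_inv_eq_iff_eq_mul.1 (mul_inv_eq_one.1 h1)).symm
  have hshift : ∀ a ∈ L, ∀ b ∈ L, Commute d ((a⁻¹ * b) * d * (a⁻¹ * b)⁻¹) →
      Commute (a * d * a⁻¹) (b * d * b⁻¹) := by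
    intro a _ b _ h
    have h2 := (commute_conj_iff a _ _).2 h
    rwa [show a * ((a⁻¹ * b) * d * (a⁻¹ * b)⁻¹) * a⁻¹ = b * d * b⁻¹ by group] at h2
  constructor
  · by_contra hall
    push Not at hall
    refine hns (isSolvable_closure_of_commute (fun x hx => TSet.sq hD.1 (hSD hx)) ?_)
    rintro _ ⟨a, ha, rfl⟩ _ ⟨b, hb, rfl⟩
    exact hshift a ha b hb (hall _ (mul_mem (inv_mem ha) hb))
  · by_contra hall
    push Not at hall
    refine hns (isSolvable_closure_of_braid (fun x hx => TSet.sq hD.1 (hSD hx)) ?_ ?_)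
    · rintro _ ⟨a, ha, rfl⟩ _ ⟨b, hb, rfl⟩
      by_cases hc : Commute (a * d * a⁻¹) (b * d * b⁻¹)
      · have heq : a * d * a⁻¹ = b * d * b⁻¹ := by
          by_contra hne
          refine hall _ (mul_mem (inv_mem ha) hb) (fun h => hne ?_) ?_
          · conv_lhs => rw [← h]
            group
          · rw [← commute_conj_iff a]
            rwa [show a * ((a⁻¹ * b) * d * (a⁻¹ * b)⁻¹) * a⁻¹ = b * d * b⁻¹ by group]
        rw [heq]
      · exact TSet.braid hD.1 (hD.2.1 a d hd) (hD.2.1 b d hd) hc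
    · rintro _ ⟨a, ha, rfl⟩ _ ⟨b, hb, rfl⟩
      refine ⟨a * (d * (a⁻¹ * b) * d⁻¹), mul_mem ha ?_, by group⟩
      exact (Subgroup.mem_normalizer_iff.1 hnorm _).1 (mul_mem (inv_mem ha) hb)

/-- A normal subgroup outside the centre moves every member of a class. -/
theorem TClass.exists_not_commute_mem (hD : IsThreeTranspositionClass D) {N : Subgroup G}
    [hN : N.Normal] (hnc : ¬ N ≤ Subgroup.center G) {d : G} (hd : d ∈ D) :
    ∃ g ∈ N, ¬ Commute d g := by
  by_contra h
  push Not at h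
  refine hnc fun g hg => mem_center_of_commute_gen hD.2.2 fun s hs => ?_
  obtain ⟨x, hx⟩ := TClass.transitive hD d hd s hs
  have h1 := (commute_conj_iff x _ _).2 (h _ (hN.conj_mem g hg x⁻¹))
  rw [hx, inv_inv, show x * (x⁻¹ * g * x) * x⁻¹ = g by group] at h1
  exact h1.symm

omit [Finite G] in
theorem component_not_le_center {L : Subgroup G} (hL : Cfsg.IsComponent L) :
    ¬ L ≤ Subgroup.center G := fun h =>
  Components.quasisimple_not_commutative hL.2
    (Subgroup.le_centralizer_iff_isMulCommutative.1 (h.trans (Subgroup.center_le_centralizer _)))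

theorem layer_not_le_center (h : Cfsg.layer G ≠ ⊥) : ¬ Cfsg.layer G ≤ Subgroup.center G := by
  intro hc
  refine h ((Components.layer_le_iff).2 (fun L hL => absurd ?_ (component_not_le_center hL)) |>
    le_bot_iff.1)
  exact (Components.component_le_layer hL).trans hc

theorem exists_component_not_le (h : Cfsg.layer G ≠ ⊥) :
    ∃ L : Subgroup G, Cfsg.IsComponent L := by
  by_contra hn
  push Not at hn
  exact h (le_bot_iff.1 (Components.layer_le_iff.2 fun L hL => absurd hL (hn L)))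

/-- If the two cores are not both central there is no component. -/
theorem layer_eq_bot_of_core (hD : IsThreeTranspositionClass D) {p : ℕ} (hp : p = 2 ∨ p = 3)
    (hnc : ¬ Cfsg.pCore p G ≤ Subgroup.center G) : Cfsg.layer G = ⊥ := by
  by_contra hne
  have hT := TClass.toGroup hD
  obtain ⟨L, hL⟩ := exists_component_not_le hne
  obtain ⟨d, hd⟩ : D.Nonempty := ⟨_, hD.2.1.choose_spec.1⟩
  haveI : (Cfsg.layer G).Normal := Components.layer_normal
  haveI : (Cfsg.pCore p G).Normal := Cfsg.pCore_normal p G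
  haveI : Fact p.Prime := ⟨by rcases hp with rfl | rfl; exacts [Nat.prime_two, Nat.prime_three]⟩
  obtain ⟨a, ha, hda⟩ := TClass.exists_not_commute_mem hD hnc hd
  obtain ⟨g, hg, hdg⟩ := TClass.exists_not_commute_mem hD (layer_not_le_center hne) hd
  have hv : a * d * a⁻¹ ∈ D := hT.2.1 a d hd
  have hx : d * (a * d * a⁻¹) ∈ Cfsg.pCore p G := by
    have := mul_conj_mem (d := d) ha
    rwa [TSet.inv hD.1 hd] at this
  have hne' : a * d * a⁻¹ ≠ d := fun h => hda ((mul_inv_eq_iff_eq_mul.1 h).symm)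
  have hcomm : ∀ h ∈ Cfsg.layer G, Commute h (d * (a * d * a⁻¹)) := by
    intro h hh
    haveI : Group.IsNilpotent (Cfsg.pCore p G) := (PBasic.pCore_isPGroup p G).isNilpotent
    have hb := Components.layer_commute_solvable (H := Cfsg.pCore p G) inferInstance
      (by rw [Subgroup.normalizer_eq_top]; exact le_top)
    have := Subgroup.commutator_mem_commutator hh hx
    rw [hb, Subgroup.mem_bot, commutatorElement_eq_one_iff_mul_comm] at this
    exact this
  -- the orbit of `d` under the layer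
  set S : Set G := {x | ∃ h ∈ Cfsg.layer G, x = h * d * h⁻¹} with hS
  have hSD : S ⊆ D := by rintro _ ⟨h, -, rfl⟩; exact hT.2.1 h d hd
  have hns : ¬ Group.IsSolvable (Subgroup.closure S) := by
    intro hs
    have hn : Cfsg.layer G ≤ Subgroup.normalizer (Subgroup.closure S : Set G) := by
      intro b hb
      rw [Subgroup.mem_normalizer_iff_map_conj_eq, MonoidHom.map_closure]
      congr 1
      ext x
      constructor
      · rintro ⟨_, ⟨c, hc, rfl⟩, rfl⟩
        exact ⟨b * c, mul_mem hb hc, by show b * (c * d * c⁻¹) * b⁻¹ = _; group⟩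
      · rintro ⟨c, hc, rfl⟩
        exact ⟨b⁻¹ * c * d * (b⁻¹ * c)⁻¹, ⟨b⁻¹ * c, mul_mem (inv_mem hb) hc, rfl⟩,
          by show b * (b⁻¹ * c * d * (b⁻¹ * c)⁻¹) * b⁻¹ = _; group⟩
    have hb := Components.layer_commute_solvable (H := Subgroup.closure S) hs hn
    have := Subgroup.commutator_mem_commutator hg
      (Subgroup.subset_closure (k := S) ⟨1, one_mem _, by group⟩ : d ∈ Subgroup.closure S)
    rw [hb, Subgroup.mem_bot, commutatorElement_eq_one_iff_mul_comm] at this
    exact hdg this.symm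
  -- every member of the orbit acts on `x` as `d` does
  have hact : ∀ h ∈ Cfsg.layer G, ∀ e : G, e = h * d * h⁻¹ →
      e * (d * (a * d * a⁻¹)) * e⁻¹ = d * (d * (a * d * a⁻¹)) * d⁻¹ := by
    intro h hh e he
    have h1 : d * h⁻¹ * d⁻¹ ∈ Cfsg.layer G :=
      Subgroup.Normal.conj_mem inferInstance _ (inv_mem hh) d
    have hc := hcomm _ (mul_mem hh h1)
    have : e = (h * (d * h⁻¹ * d⁻¹)) * d := by rw [he]; group
    rw [this]
    set x := d * (a * d * a⁻¹)
    set u := h * (d * h⁻¹ * d⁻¹) with hu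
    calc u * d * x * (u * d)⁻¹ = u * (d * x * d⁻¹) * u⁻¹ := by group
      _ = d * x * d⁻¹ := by
        have : Commute u (d * x * d⁻¹) := by
          have h2 := hcomm _ (Subgroup.Normal.conj_mem
            (inferInstance : (Cfsg.layer G).Normal) _ (mul_mem hh h1) d⁻¹)
          have h3 := (commute_conj_iff d _ _).2 h2
          rwa [show d * (d⁻¹ * u * d⁻¹⁻¹) * d⁻¹ = u by group] at h3
        rw [this.eq, mul_inv_cancel_right]
  have sd := TSet.sq hD.1 hd
  have hshift : ∀ b ∈ Cfsg.layer G, ∀ c ∈ Cfsg.layer G,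
      b * ((b⁻¹ * c) * d * (b⁻¹ * c)⁻¹) * b⁻¹ = c * d * c⁻¹ := by intro b _ c _; group
  rcases hp with rfl | rfl
  · refine hns (isSolvable_closure_of_commute (fun x hx' => TSet.sq hD.1 (hSD hx')) ?_)
    rintro _ ⟨b, hb, rfl⟩ _ ⟨c, hc, rfl⟩
    rw [← hshift b hb c hc]
    refine (commute_conj_iff b _ _).2 ?_
    have he := hT.2.1 (b⁻¹ * c) d hd
    have hdv : Commute d (a * d * a⁻¹) := ((sameComm_iff hT hd).2 ⟨hv, hx⟩).commute
    have hdx : d * (d * (a * d * a⁻¹)) * d⁻¹ = d * (a * d * a⁻¹) :=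
      conj_eq_self_of_commute ((Commute.refl d).mul_right hdv)
    have h1 := hact (b⁻¹ * c) (mul_mem (inv_mem hb) hc) _ rfl
    rw [hdx] at h1
    exact ((TSet.commute_mul_iff hD.1 hd hv he hne'.symm hdv).1 (mul_inv_eq_iff_eq_mul.1 h1)).1.symm
  · have hW : SameNbr D d (a * d * a⁻¹) := (sameNbr_iff hT hd).2 ⟨hv, hx⟩
    have hkey : ∀ h ∈ Cfsg.layer G, Commute d (h * d * h⁻¹) → h * d * h⁻¹ = d := by
      intro h hh hc
      by_contra hne2
      set e := h * d * h⁻¹ with he
      set v := a * d * a⁻¹ with hvdef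
      have h1 := hact h hh e he
      have he' : e ∈ D := hT.2.1 h d hd
      have hev : Commute e v := ((hW.2 e he').1 ⟨hne2, hc⟩).2.symm
      rw [conj_eq_self_of_commute (hc.symm.mul_right hev), ← mul_assoc d d v, sd, one_mul,
        TSet.inv hD.1 hd] at h1
      exact hW.not_commute hne' h1
    refine hns (isSolvable_closure_of_braid (fun x hx' => TSet.sq hD.1 (hSD hx')) ?_ ?_)
    · rintro _ ⟨b, hb, rfl⟩ _ ⟨c, hc, rfl⟩
      by_cases hbc : Commute (b * d * b⁻¹) (c * d * c⁻¹)
      · rw [← hshift b hb c hc] at hbc ⊢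
        rw [hkey _ (mul_mem (inv_mem hb) hc) ((commute_conj_iff b _ _).1 hbc)]
      · exact TSet.braid hD.1 (hT.2.1 b d hd) (hT.2.1 c d hd) hbc
    · rintro _ ⟨b, hb, rfl⟩ _ ⟨c, hc, rfl⟩
      refine ⟨b * (d * (b⁻¹ * c) * d⁻¹), mul_mem hb ?_, by group⟩
      exact Subgroup.Normal.conj_mem inferInstance _ (mul_mem (inv_mem hb) hc) d

theorem pCore_le_center_of_gt_three (hD : IsThreeTranspositionGroup D) {p : ℕ} (hp : p.Prime)
    (hp3 : 3 < p) : Cfsg.pCore p G ≤ Subgroup.center G := by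
  haveI : (Cfsg.pCore p G).Normal := Cfsg.pCore_normal p G
  intro x hx
  refine mem_center_of_commute_gen hD.2.2 fun s hs => ?_
  exact (S5347.result hD hp hp3 (Cfsg.pCore p G) (PBasic.pCore_isPGroup p G) hs
    (by rw [Subgroup.normalizer_eq_top]; trivial) x hx).symm

theorem TClass.not_both_cores (hD : IsThreeTranspositionClass D)
    (h2 : ¬ Cfsg.pCore 2 G ≤ Subgroup.center G) : Cfsg.pCore 3 G ≤ Subgroup.center G := by
  by_contra h3
  have hT := TClass.toGroup hD
  obtain ⟨d, hd⟩ : D.Nonempty := ⟨_, hD.2.1.choose_spec.1⟩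
  haveI : (Cfsg.pCore 2 G).Normal := Cfsg.pCore_normal 2 G
  haveI : (Cfsg.pCore 3 G).Normal := Cfsg.pCore_normal 3 G
  obtain ⟨a, ha, hda⟩ := TClass.exists_not_commute_mem hD h2 hd
  obtain ⟨b, hb, hdb⟩ := TClass.exists_not_commute_mem hD h3 hd
  have key : ∀ (x : G), ¬ Commute d x → x * d * x⁻¹ ≠ d := fun x hx h =>
    hx (mul_inv_eq_iff_eq_mul.1 h).symm
  have hV : SameComm D d (a * d * a⁻¹) := (sameComm_iff hT hd).2 ⟨hT.2.1 a d hd, by
    have := mul_conj_mem (d := d) ha
    rwa [TSet.inv hD.1 hd] at this⟩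
  have hW : SameNbr D d (b * d * b⁻¹) := (sameNbr_iff hT hd).2 ⟨hT.2.1 b d hd, by
    have := mul_conj_mem (d := d) hb
    rwa [TSet.inv hD.1 hd] at this⟩
  rcases S5348.result hT hd with h | h
  · exact key a hda (h.subset hV)
  · refine key b hdb (h.subset ⟨hW.1, Set.ext fun y => ?_⟩)
    exact and_congr_right fun hy => hW.2 y hy

theorem fitting_le_center (hD : IsThreeTranspositionGroup D)
    (h2 : Cfsg.pCore 2 G ≤ Subgroup.center G) (h3 : Cfsg.pCore 3 G ≤ Subgroup.center G) :
    Cfsg.fittingSubgroup G ≤ Subgroup.center G := by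
  haveI : Group.IsNilpotent ↥(Cfsg.fittingSubgroup G) := Components.fittingSubgroup_nilpotent
  haveI : (Cfsg.fittingSubgroup G).Normal := Components.fittingSubgroup_normal
  set K := (Subgroup.center G).subgroupOf (Cfsg.fittingSubgroup G)
  suffices K.index = 1 from Subgroup.subgroupOf_eq_top.1 (Subgroup.index_eq_one.1 this)
  by_contra hi
  obtain ⟨p, hp, hpi⟩ := Nat.exists_prime_and_dvd hi
  haveI := Fact.mk hp
  obtain ⟨P⟩ : Nonempty (Sylow p ↥(Cfsg.fittingSubgroup G)) := inferInstance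
  haveI : (P : Subgroup ↥(Cfsg.fittingSubgroup G)).Characteristic :=
    P.characteristic_of_normal inferInstance
  have hle : (P : Subgroup ↥(Cfsg.fittingSubgroup G)).map (Subgroup.subtype _) ≤
      Cfsg.pCore p G := PBasic.le_pCore inferInstance (P.2.map _)
  have hpc : Cfsg.pCore p G ≤ Subgroup.center G := by
    rcases Nat.lt_or_ge 3 p with hlt | hge
    · exact pCore_le_center_of_gt_three hD hp hlt
    · have := hp.two_le
      interval_cases p <;> assumption
  have hPK : (P : Subgroup ↥(Cfsg.fittingSubgroup G)) ≤ K := fun x hx =>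
    hpc (hle ⟨x, hx, rfl⟩)
  exact P.not_dvd_index (hpi.trans (Subgroup.index_dvd_of_le hPK))

theorem TClass.trichotomy_exists (hD : IsThreeTranspositionClass D)
    (hD2 : ∃ a ∈ D, ∃ b ∈ D, a ≠ b) (h2 : Cfsg.pCore 2 G ≤ Subgroup.center G)
    (h3 : Cfsg.pCore 3 G ≤ Subgroup.center G) : Cfsg.layer G ≠ ⊥ := by
  intro hE
  have hF := fitting_le_center (TClass.toGroup hD) h2 h3
  have hG : ∀ x : G, x ∈ Subgroup.center G := by
    intro x
    have hcc := Components.centralizer_generalizedFitting_le (G := G)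
    rw [Cfsg.generalizedFittingSubgroup, hE, bot_sup_eq] at hcc
    refine hF (hcc ?_)
    rw [Subgroup.mem_centralizer_iff]
    intro y hy
    exact (Subgroup.mem_center_iff.1 (hF hy) x).symm
  obtain ⟨a, ha, b, hb, hab⟩ := hD2
  obtain ⟨g, rfl⟩ := TClass.transitive hD a ha b hb
  exact hab (by rw [Subgroup.mem_center_iff.1 (hG a) g, mul_inv_cancel_right])

end Cfsg.Agent.Fischer
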