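import Mathlib
import Cfsg.Agent.Lib.Fischer.ProductFactor

set_option autoImplicit false

/-!
Exchanging two commuting transpositions inside the centraliser of a third one.
-/

namespace Cfsg.Agent.Fischer.Factor

open Subgroup

variable {G : Type*} [Group G] {D : Set G}

/-- In one orbit, distinct commuting members have a member commuting with neither. -/
theorem exists_middle (hD : IsThreeTranspositionSet D) {S : Set G} (hSD : S ⊆ D)
    (hS : ∀ s ∈ S, ∀ z ∈ S, s * z * s⁻¹ ∈ S) {a b : G} (ha : a ∈ S) (hab : a ≠ b)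
    (cab : Commute a b) (hg : ∃ g ∈ Subgroup.closure S, g * a * g⁻¹ = b) :
    ∃ y ∈ S, ¬ Commute a y ∧ ¬ Commute y b := by
  set P : G → Prop := fun z => z = a ∨ ¬ Commute a z ∨ ∃ y ∈ S, ¬ Commute a y ∧ ¬ Commute y z
    with hP
  have step : ∀ s ∈ S, ∀ z ∈ S, P z → P (s * z * s⁻¹) := by
    intro s hs z hz hPz
    by_cases hc : Commute s z
    · rwa [conj_eq_self_of_commute hc]
    set w := s * z * s⁻¹ with hw
    have hwS : w ∈ S := hS s hs z hz
    have hzw : ¬ Commute z w := by
      intro h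
      rw [hw, TSet.inv hD (hSD hs), TSet.braid hD (hSD hs) (hSD hz) hc] at h
      have := (commute_conj_iff z z (z * s * z⁻¹)).1
      rw [TSet.inv hD (hSD hz)] at this
      have hz2 := TSet.sq hD (hSD hz)
      have h' := (commute_conj_iff z z (z * s * z)).2 h
      rw [mul_inv_cancel_right, TSet.inv hD (hSD hz),
        show z * (z * s * z) * z = (z * z) * s * (z * z) by simp only [mul_assoc], hz2, one_mul,
        mul_one] at h'
      exact hc h'.symm
    rcases hPz with rfl | haz | ⟨y, hy, hay, hyz⟩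
    · exact Or.inr (Or.inl hzw)
    · by_cases haw : Commute a w
      · exact Or.inr (Or.inr ⟨z, hz, haz, hzw⟩)
      · exact Or.inr (Or.inl haw)
    · by_cases haw : Commute a w
      swap
      · exact Or.inr (Or.inl haw)
      by_cases hyw : Commute y w
      swap
      · exact Or.inr (Or.inr ⟨y, hy, hay, hyw⟩)
      by_cases haz : Commute a z
      swap
      · exact Or.inr (Or.inr ⟨z, hz, haz, hzw⟩)
      refine Or.inr (Or.inr ⟨y * z * y⁻¹, hS y hy z hz, fun h => hay ?_, fun h => hzw ?_⟩)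
      · have e : y * z * y⁻¹ = z * y * z⁻¹ := by
          rw [TSet.inv hD (hSD hy), TSet.inv hD (hSD hz), TSet.braid hD (hSD hy) (hSD hz) hyz]
        rw [e] at h
        rw [← commute_conj_iff z, conj_eq_self_of_commute haz.symm]
        exact h
      · rw [← commute_conj_iff y, conj_eq_self_of_commute hyw]
        exact h
  obtain ⟨g, hg, hgb⟩ := hg
  have key : ∀ g ∈ Subgroup.closure S, (∀ z ∈ S, g * z * g⁻¹ ∈ S ∧ (P z → P (g * z * g⁻¹))) ∧
      (∀ z ∈ S, g⁻¹ * z * g ∈ S ∧ (P z → P (g⁻¹ * z * g))) := by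
    intro g hg
    induction hg using Subgroup.closure_induction with
    | mem s hs =>
      refine ⟨fun z hz => ⟨hS s hs z hz, step s hs z hz⟩, fun z hz => ?_⟩
      have e : s⁻¹ * z * s = s * z * s⁻¹ := by rw [TSet.inv hD (hSD hs)]
      rw [e]
      exact ⟨hS s hs z hz, step s hs z hz⟩
    | one => simp
    | mul u v _ _ hu hv =>
      refine ⟨fun z hz => ?_, fun z hz => ?_⟩
      · rw [show u * v * z * (u * v)⁻¹ = u * (v * z * v⁻¹) * u⁻¹ by group]
        exact ⟨(hu.1 _ (hv.1 z hz).1).1, fun h => (hu.1 _ (hv.1 z hz).1).2 ((hv.1 z hz).2 h)⟩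
      · rw [show (u * v)⁻¹ * z * (u * v) = v⁻¹ * (u⁻¹ * z * u) * v by group]
        exact ⟨(hv.2 _ (hu.2 z hz).1).1, fun h => (hv.2 _ (hu.2 z hz).1).2 ((hu.2 z hz).2 h)⟩
    | inv u _ hu => exact ⟨by simpa using hu.2, by simpa using hu.1⟩
  have := ((key g hg).1 a ha).2 (Or.inl rfl)
  rw [hgb] at this
  rcases this with h | h | h
  exacts [absurd h hab.symm, absurd cab h, h]

/-- Two distinct commuting neighbours of `c` are exchanged by some element fixing `c`. -/
theorem exists_swap [Finite G] (hD : IsThreeTranspositionGroup D)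
    (hprim : Cfsg.IsPrimitiveUnderConj D) {a b c : G} (hc : c ∈ D) (ha : a ∈ Nb D c)
    (hb : b ∈ Nb D c) (hab : a ≠ b) (cab : Commute a b) :
    ∃ g : G, g * a * g⁻¹ = b ∧ g * b * g⁻¹ = a ∧ g * c * g⁻¹ = c := by
  have hw : ∃ x ∈ D, ∃ y ∈ D, x ≠ y ∧ Commute x y := ⟨a, ha.1, b, hb.1, hab, cab⟩
  obtain ⟨y, hy, hay, hyb⟩ := exists_middle hD.1 (S := Nb D c) (fun x hx => hx.1)
    (fun s hs z hz => by
      have := nb_conj hD s hz
      rwa [conj_eq_self_of_commute hs.2.2.symm] at this)
    ha hab cab (prim_trans_commuting hD hprim hw hc a ha b hb)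
  have sw : ∀ {u v : G}, u ∈ D → v ∈ D → Commute u v → ¬ Commute u y → ¬ Commute y v →
      (y * (u * v) * y⁻¹) * u * (y * (u * v) * y⁻¹)⁻¹ = v := by
    intro u v hu hv cuv huy hyv
    have sy := TSet.sq hD.1 hy.1
    have su := TSet.sq hD.1 hu
    have sv := TSet.sq hD.1 hv
    rw [mul_inv_rev, mul_inv_rev, inv_inv, mul_inv_rev, TSet.inv hD.1 hu, TSet.inv hD.1 hv,
      TSet.inv hD.1 hy.1]
    calc y * (u * v) * y * u * (y * (v * u * y))
        = y * (v * u) * (y * u * y) * (v * u) * y := by rw [cuv.eq]; simp only [mul_assoc]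
      _ = y * (v * u) * (u * y * u) * (u * v) * y := by
          rw [TSet.braid hD.1 hy.1 hu (fun h => huy h.symm), cuv.eq]
      _ = y * (v * (u * u) * y * (u * u) * v) * y := by simp only [mul_assoc]
      _ = y * (v * y * v) * y := by rw [su, mul_one, mul_one]
      _ = y * (y * v * y) * y := by rw [← TSet.braid hD.1 hy.1 hv hyv]
      _ = v := by
          rw [show y * (y * v * y) * y = (y * y) * v * (y * y) by simp only [mul_assoc], sy,
            one_mul, mul_one]
  refine ⟨y * (a * b) * y⁻¹, sw ha.1 hb.1 cab hay hyb, ?_, ?_⟩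
  · rw [cab.eq]
    exact sw hb.1 ha.1 cab.symm (fun h => hyb h.symm) (fun h => hay h.symm)
  · exact conj_eq_self_of_commute
      ((hy.2.2.symm.mul_left (ha.2.2.symm.mul_left hb.2.2.symm)).mul_left hy.2.2.symm.inv_left)

end Cfsg.Agent.Fischer.Factor
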