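import Cfsg.Agent.Lib.Fischer.Cores
import Mathlib.Algebra.BigOperators.Group.Finset.Basic

set_option autoImplicit false

/-!
An involution normalising an odd order group extended by an abelian normal 2-group normalises a
complement, provided its conjugates in its coset are conjugate under that 2-group.
-/

namespace Cfsg.Agent.Fischer

open Subgroup

variable {G : Type*} [Group G] [Finite G]

theorem exists_conj_normalizes {A P : Subgroup G} [A.Normal] [IsMulCommutative A]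
    (hA : IsPGroup 2 A) (hP : IsPGroup 3 P) {d : G} (hd : d * d = 1)
    (hn : ∃ a ∈ A, ∀ p ∈ P, a⁻¹ * d * p * (a⁻¹ * d)⁻¹ ∈ P)
    (hconj : ∀ g : G, d * (g * d * g⁻¹) ∈ A → ∃ x ∈ A, g * d * g⁻¹ = x * d * x⁻¹) :
    ∃ x ∈ A, ∀ p ∈ P, x * d * x⁻¹ * p * (x * d * x⁻¹)⁻¹ ∈ P := by
  classical
  obtain ⟨a, ha, hnP⟩ := hn
  set n := a⁻¹ * d with hndef
  have hdA : ∀ x ∈ A, d * x * d ∈ A := fun x hx => by
    have := (inferInstance : A.Normal).conj_mem x hx d
    rwa [inv_eq_of_mul_eq_one_right hd] at this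
  have hcomA : ∀ x ∈ A, ∀ y ∈ A, x * y = y * x := fun x hx y hy =>
    congrArg Subtype.val (mul_comm' (⟨x, hx⟩ : A) ⟨y, hy⟩)
  have hdisj : ∀ x ∈ A, x ∈ P → x = 1 := fun x hxA hxP => by
    obtain ⟨k, hk⟩ := hA ⟨x, hxA⟩
    obtain ⟨l, hl⟩ := hP ⟨x, hxP⟩
    rw [← orderOf_eq_one_iff]
    exact Nat.eq_one_of_dvd_coprimes
      (Nat.Coprime.pow k l (by decide : Nat.Coprime 2 3))
      (orderOf_dvd_of_pow_eq_one (congrArg Subtype.val hk))
      (orderOf_dvd_of_pow_eq_one (congrArg Subtype.val hl))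
  set w := n * n with hwdef
  have hwA : w ∈ A := by
    have : w = a⁻¹ * (d * a⁻¹ * d) := by rw [hwdef, hndef]; simp only [mul_assoc]
    rw [this]
    exact mul_mem (inv_mem ha) (hdA _ (inv_mem ha))
  have hwP : ∀ p ∈ P, w * p * w⁻¹ = p := by
    intro p hp
    have h1 : w * p * w⁻¹ ∈ P := by
      have := hnP _ (hnP p hp)
      rwa [show n * (n * p * n⁻¹) * n⁻¹ = w * p * w⁻¹ by rw [hwdef]; group] at this
    have h2 : w * p * w⁻¹ * p⁻¹ ∈ A := by
      have := mul_mem hwA ((inferInstance : A.Normal).conj_mem _ (inv_mem hwA) p)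
      rwa [← mul_assoc, ← mul_assoc] at this
    exact mul_inv_eq_one.1 (hdisj _ h2 (mul_mem h1 (inv_mem hp)))
  have hdad : d * a * d = w⁻¹ * a⁻¹ := by
    have hw : w = a⁻¹ * (d * a⁻¹ * d) := by rw [hwdef, hndef]; simp only [mul_assoc]
    have h1 : (d * a⁻¹ * d)⁻¹ = d * a * d := by
      simp only [mul_inv_rev, inv_inv, inv_eq_of_mul_eq_one_right hd, mul_assoc]
    rw [hw, ← h1]
    group
  have hwd : d * w * d = w := by
    have h1 : n * w * n⁻¹ = w := by rw [hwdef]; group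
    have h2 : n⁻¹ = d * a := by rw [hndef, mul_inv_rev, inv_inv, inv_eq_of_mul_eq_one_right hd]
    rw [h2, hndef] at h1
    calc d * w * d = a * (a⁻¹ * d * w * (d * a)) * a⁻¹ := by group
      _ = a * w * a⁻¹ := by rw [h1]
      _ = w := by rw [hcomA a ha w hwA, mul_inv_cancel_right]
  -- the subgroup of commutators with `d` and of fixed points of `P`
  set S : Set A := {z | (∃ x ∈ A, (z : G) = x * (d * x⁻¹ * d)) ∨ ∀ p ∈ P, p * z * p⁻¹ = z}
  set E : Subgroup A := Subgroup.closure S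
  haveI : E.Normal := ⟨fun z hz g => by rwa [mul_comm' g z, mul_inv_cancel_right]⟩
  let f : P → A ⧸ E := fun p =>
    QuotientGroup.mk (⟨(p : G) * a * (p : G)⁻¹, (inferInstance : A.Normal).conj_mem a ha p⟩ : A)
  let σ : P → P := fun p => ⟨n * p * n⁻¹, hnP p p.2⟩
  have hσσ : ∀ p, σ (σ p) = p := fun p => Subtype.ext (by
    show n * (n * p * n⁻¹) * n⁻¹ = p
    calc n * (n * p * n⁻¹) * n⁻¹ = w * p * w⁻¹ := by rw [hwdef]; group
      _ = p := hwP p p.2)
  letI : CommGroup A :=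
    { (inferInstance : Group A) with mul_comm := fun x y => mul_comm' x y }
  letI : CommGroup (A ⧸ E) := QuotientGroup.Quotient.commGroup E
  haveI : Fintype P := Fintype.ofFinite P
  -- pairs contribute trivially
  have hpair : ∀ p, f p * f (σ p) = 1 := by
    intro p
    rw [← QuotientGroup.mk_mul, QuotientGroup.eq_one_iff]
    set y : G := (p : G) * a * (p : G)⁻¹ with hy
    have hyA : y ∈ A := (inferInstance : A.Normal).conj_mem a ha p
    have hq : n * p * n⁻¹ * a * (n * p * n⁻¹)⁻¹ = d * y⁻¹ * d * w⁻¹ := by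
      have e1 : n⁻¹ * a * n = w⁻¹ * a⁻¹ := by
        rw [hndef, mul_inv_rev, inv_inv, inv_eq_of_mul_eq_one_right hd]
        calc d * a * a * (a⁻¹ * d) = d * a * d := by group
          _ = _ := hdad
      have e2 : (p : G) * (w⁻¹ * a⁻¹) * (p : G)⁻¹ = w⁻¹ * y⁻¹ := by
        have hpw : (p : G) * w⁻¹ = w⁻¹ * p := by
          have := hwP p p.2
          rw [mul_inv_eq_iff_eq_mul] at this
          calc (p : G) * w⁻¹ = w⁻¹ * (w * p) * w⁻¹ := by group
            _ = w⁻¹ * p := by rw [this]; group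
        rw [← mul_assoc (p : G), hpw, hy]; group
      calc n * p * n⁻¹ * a * (n * p * n⁻¹)⁻¹ = n * (p * (n⁻¹ * a * n) * (p : G)⁻¹) * n⁻¹ := by group
        _ = n * (w⁻¹ * y⁻¹) * n⁻¹ := by rw [e1, e2]
        _ = a⁻¹ * (d * (w⁻¹ * y⁻¹) * d) * a := by
          rw [hndef]; simp only [mul_inv_rev, inv_inv, inv_eq_of_mul_eq_one_right hd, mul_assoc]
        _ = d * (w⁻¹ * y⁻¹) * d := by
          rw [hcomA a⁻¹ (inv_mem ha) _ (hdA _ (mul_mem (inv_mem hwA) (inv_mem hyA))),
            inv_mul_cancel_right]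
        _ = d * (y⁻¹ * w⁻¹) * d := by rw [hcomA _ (inv_mem hwA) _ (inv_mem hyA)]
        _ = d * y⁻¹ * d * (d * w⁻¹ * d) := by
          calc d * (y⁻¹ * w⁻¹) * d = d * y⁻¹ * 1 * w⁻¹ * d := by group
            _ = d * y⁻¹ * (d * d) * w⁻¹ * d := by rw [hd]
            _ = _ := by group
        _ = d * y⁻¹ * d * w⁻¹ := by
          congr 1
          conv_rhs => rw [← hwd, mul_inv_rev, mul_inv_rev, inv_eq_of_mul_eq_one_right hd, ← mul_assoc]
    rw [show ((⟨(p : G) * a * (p : G)⁻¹, (inferInstance : A.Normal).conj_mem a ha p⟩ : A) *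
        ⟨((σ p : P) : G) * a * ((σ p : P) : G)⁻¹, (inferInstance : A.Normal).conj_mem a ha _⟩) =
        (⟨y * (d * y⁻¹ * d), mul_mem hyA (hdA _ (inv_mem hyA))⟩ : A) * ⟨w⁻¹, inv_mem hwA⟩ from
      Subtype.ext (show y * (n * p * n⁻¹ * a * (n * p * n⁻¹)⁻¹) = y * (d * y⁻¹ * d) * w⁻¹ by
        rw [hq, mul_assoc y])]
    refine mul_mem (Subgroup.subset_closure (Or.inl ⟨y, hyA, rfl⟩))
      (Subgroup.subset_closure (Or.inr fun q hq' => ?_))
    show q * w⁻¹ * q⁻¹ = w⁻¹
    have := hwP q hq'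
    rw [mul_inv_eq_iff_eq_mul] at this
    calc q * w⁻¹ * q⁻¹ = w⁻¹ * (w * q) * w⁻¹ * q⁻¹ := by group
      _ = w⁻¹ := by rw [this]; group
  -- fixed points contribute the class of `a`
  have hfix : ∀ p, σ p = p → f p = QuotientGroup.mk (⟨a, ha⟩ : A) := by
    intro p hp
    have hpn : n * p * n⁻¹ = p := congrArg Subtype.val hp
    have hpd : (p : G) * d * (p : G)⁻¹ = (p : G) * a * (p : G)⁻¹ * n := by
      have h3 := mul_inv_eq_iff_eq_mul.1 hpn
      calc (p : G) * d * (p : G)⁻¹ = (p : G) * a * (n * (p : G)⁻¹) := by rw [hndef]; group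
        _ = (p : G) * a * ((p : G)⁻¹ * n) := by
          congr 1
          calc n * (p : G)⁻¹ = (p : G)⁻¹ * ((p : G) * n) * (p : G)⁻¹ := by group
            _ = (p : G)⁻¹ * n := by rw [← h3]; group
        _ = _ := by group
    have hmem : d * ((p : G) * d * (p : G)⁻¹) ∈ A := by
      rw [hpd, hndef]
      have := hdA _ (mul_mem ((inferInstance : A.Normal).conj_mem a ha p) (inv_mem ha))
      simpa only [mul_assoc] using this
    obtain ⟨x, hx, hxd⟩ := hconj p hmem
    show QuotientGroup.mk (s := E) (⟨(p : G) * a * (p : G)⁻¹, _⟩ : A) = QuotientGroup.mk (⟨a, ha⟩ : A)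
    refine QuotientGroup.eq_iff_div_mem.2 (Subgroup.subset_closure (Or.inl ⟨x, hx, ?_⟩))
    show (p : G) * a * (p : G)⁻¹ / a = x * (d * x⁻¹ * d)
    have h4 : (p : G) * a * (p : G)⁻¹ = (p : G) * d * (p : G)⁻¹ * n⁻¹ := by rw [hpd]; group
    rw [div_eq_mul_inv, h4, hxd, hndef, mul_inv_rev, inv_inv, inv_eq_of_mul_eq_one_right hd]
    group
  -- the product over `P` is fixed by `P`
  have hprod : ∏ p, f p = 1 := by
    let m : A := ∏ p : P,
      (⟨(p : G) * a * (p : G)⁻¹, (inferInstance : A.Normal).conj_mem a ha p⟩ : A)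
    have : (∏ p, f p) = QuotientGroup.mk m := (map_prod (QuotientGroup.mk' E) _ _).symm
    rw [this, QuotientGroup.eq_one_iff]
    refine Subgroup.subset_closure (Or.inr fun r hr => ?_)
    have h1 : (MulAut.conjNormal r : MulAut A) m = m := by
      rw [map_prod]
      refine Fintype.prod_equiv (Equiv.mulLeft (⟨r, hr⟩ : P)) _ _ fun p => Subtype.ext ?_
      simp [MulAut.conjNormal_apply, mul_assoc]
    simpa [MulAut.conjNormal_apply] using congrArg Subtype.val h1
  set F := Finset.univ.filter fun p => σ p = p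
  have hsplit : (QuotientGroup.mk (⟨a, ha⟩ : A) : A ⧸ E) ^ F.card = 1 := by
    rw [← hprod, ← Finset.prod_filter_mul_prod_filter_not Finset.univ (fun p => σ p = p) f]
    have h0 : ∏ p ∈ Finset.univ.filter (fun p => ¬ σ p = p), f p = 1 := by
      refine Finset.prod_involution (fun p _ => σ p) (fun p _ => hpair p)
        (fun p hp _ h => (Finset.mem_filter.1 hp).2 h) (fun p hp => ?_) (fun p _ => hσσ p)
      refine Finset.mem_filter.2 ⟨Finset.mem_univ _, fun h => (Finset.mem_filter.1 hp).2 ?_⟩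
      rw [hσσ] at h
      exact h.symm
    rw [h0, mul_one, Finset.prod_congr rfl (fun p hp => hfix p (Finset.mem_filter.1 hp).2),
      Finset.prod_const]
  have hodd : Odd F.card := by
    let C : Subgroup P := (Subgroup.centralizer ({n} : Set G)).subgroupOf P
    have hC : F.card = Nat.card C := by
      rw [← Nat.card_eq_finsetCard]
      refine Nat.card_congr (Equiv.subtypeEquivRight fun p => ?_)
      simp only [F, Finset.mem_filter, Finset.mem_univ, true_and]
      rw [Subgroup.mem_subgroupOf, Subgroup.mem_centralizer_singleton_iff]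
      constructor
      · intro h
        exact (mul_inv_eq_iff_eq_mul.1 (congrArg Subtype.val h)).symm
      · intro h
        exact Subtype.ext (mul_inv_eq_iff_eq_mul.2 h.symm)
    haveI : Fact (Nat.Prime 3) := ⟨Nat.prime_three⟩
    obtain ⟨k, hk⟩ := (hP.to_subgroup C).exists_card_eq
    rw [hC, hk]
    exact Odd.pow (by decide)
  have haE : (⟨a, ha⟩ : A) ∈ E := by
    obtain ⟨j, hj⟩ := hA ⟨a, ha⟩
    rw [← QuotientGroup.eq_one_iff]
    rw [← orderOf_eq_one_iff]
    refine Nat.eq_one_of_dvd_coprimes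
      ((Nat.Coprime.pow_left j ((Nat.Prime.coprime_iff_not_dvd Nat.prime_two).2
        (fun h => (Nat.not_even_iff_odd.2 hodd) (even_iff_two_dvd.2 h)))))
      (orderOf_dvd_of_pow_eq_one ?_) (orderOf_dvd_of_pow_eq_one hsplit)
    rw [← QuotientGroup.mk_pow, hj, QuotientGroup.mk_one]
  -- decompose
  obtain ⟨x, hx, c, hc, hdec⟩ : ∃ x ∈ A, ∃ c : A, (∀ p ∈ P, p * c * p⁻¹ = c) ∧
      a = x * (d * x⁻¹ * d) * (c : G) := by
    refine Subgroup.closure_induction (k := S) (p := fun z _ => ∃ x ∈ A, ∃ c : A,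
      (∀ p ∈ P, p * c * p⁻¹ = c) ∧ (z : G) = x * (d * x⁻¹ * d) * (c : G)) ?_ ?_ ?_ ?_ haE
    · rintro z (⟨x, hx, hz⟩ | hz)
      · exact ⟨x, hx, 1, fun p _ => by simp, by simpa using hz⟩
      · exact ⟨1, one_mem A, z, hz, by simp [hd]⟩
    · exact ⟨1, one_mem A, 1, fun p _ => by simp, by simp [hd]⟩
    · rintro u v _ _ ⟨x, hx, c, hc, hu⟩ ⟨y, hy, e, he, hv⟩
      refine ⟨x * y, mul_mem hx hy, c * e, fun p hp => ?_, ?_⟩
      · calc p * ((c * e : A) : G) * p⁻¹ = (p * c * p⁻¹) * (p * e * p⁻¹) := by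
              rw [Subgroup.coe_mul]; group
          _ = _ := by rw [hc p hp, he p hp]; rfl
      · rw [Subgroup.coe_mul, Subgroup.coe_mul, hu, hv]
        have hdy := hdA _ (inv_mem hy)
        have hdx := hdA _ (inv_mem hx)
        calc x * (d * x⁻¹ * d) * (c : G) * (y * (d * y⁻¹ * d) * e)
            = x * ((d * x⁻¹ * d) * ((c : G) * (y * (d * y⁻¹ * d)))) * e := by group
          _ = x * ((d * x⁻¹ * d) * (y * (d * y⁻¹ * d) * (c : G))) * e := by
              rw [hcomA _ c.2 _ (mul_mem hy hdy)]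
          _ = x * ((d * x⁻¹ * d) * y) * (d * y⁻¹ * d) * c * e := by group
          _ = x * (y * (d * x⁻¹ * d)) * (d * y⁻¹ * d) * c * e := by rw [hcomA _ hdx _ hy]
          _ = x * y * ((d * x⁻¹ * d) * (d * y⁻¹ * d)) * (c * e) := by group
          _ = x * y * ((d * y⁻¹ * d) * (d * x⁻¹ * d)) * (c * e) := by rw [hcomA _ hdx _ hdy]
          _ = x * y * (d * y⁻¹ * (d * d) * x⁻¹ * d) * (c * e) := by group
          _ = _ := by rw [hd]; group
    · rintro u _ ⟨x, hx, c, hc, hu⟩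
      refine ⟨x⁻¹, inv_mem hx, c⁻¹, fun p hp => ?_, ?_⟩
      · rw [Subgroup.coe_inv, ← conj_inv, hc p hp]
      · rw [Subgroup.coe_inv, Subgroup.coe_inv, hu, inv_inv, mul_inv_rev, mul_inv_rev,
          hcomA (c : G)⁻¹ (inv_mem c.2) _ (mul_mem (inv_mem (hdA _ (inv_mem hx))) (inv_mem hx)),
          hcomA _ (inv_mem (hdA _ (inv_mem hx))) _ (inv_mem hx)]
        congr 2
        rw [mul_inv_rev, mul_inv_rev, inv_inv, inv_eq_of_mul_eq_one_right hd, mul_assoc]
  refine ⟨x⁻¹, inv_mem hx, fun p hp => ?_⟩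
  have hxn : x⁻¹ * d * x⁻¹⁻¹ = (c : G) * n := by
    have hdd : d = a * n := by rw [hndef]; group
    have hdx := hdA _ (inv_mem hx)
    calc x⁻¹ * d * x⁻¹⁻¹ = x⁻¹ * ((d * x * d) * d) := by
          rw [inv_inv, mul_assoc (d * x) d d, hd, mul_one, mul_assoc]
      _ = x⁻¹ * ((d * x * d) * (x * (d * x⁻¹ * d) * c * n)) := by rw [← hdec, ← hdd]
      _ = x⁻¹ * (((d * x * d) * x) * (d * x⁻¹ * d) * c * n) := by group
      _ = x⁻¹ * ((x * (d * x * d)) * (d * x⁻¹ * d) * c * n) := by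
          rw [hcomA _ (hdA x hx) x hx]
      _ = (d * x * (d * d) * x⁻¹ * d) * c * n := by group
      _ = _ := by rw [hd]; group; simp [hd]
  rw [hxn]
  have h1 := hc _ (hnP p hp)
  have : (c : G) * n * p * ((c : G) * n)⁻¹ = n * p * n⁻¹ := by
    set q := n * p * n⁻¹ with hq
    calc (c : G) * n * p * ((c : G) * n)⁻¹ = (c : G) * q * (c : G)⁻¹ := by rw [hq]; group
      _ = (q * c * q⁻¹) * q * (q * c * q⁻¹)⁻¹ := by rw [h1]
      _ = q * ((c : G) * q * (c : G)⁻¹) * q⁻¹ := by group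
      _ = _ := by
        have h2 : (c : G) * q * (c : G)⁻¹ = q := by
          rw [mul_inv_eq_iff_eq_mul, ← mul_inv_eq_iff_eq_mul.1 h1]
        rw [h2, mul_inv_cancel_right]
  rw [this]
  exact hnP p hp

end Cfsg.Agent.Fischer
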