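import Cfsg.Agent.Lib.Fischer.Rel54
import Mathlib.GroupTheory.PGroup
import Mathlib.GroupTheory.QuotientGroup.Basic

/-!
A 3-group with an involution acting on it, faithful on a module in which the fixed points of every inverted
element are fixed by the involution: the 3-group has order 3 or is extraspecial of order 27.
-/

set_option autoImplicit false
set_option linter.style.haveILetI false
set_option linter.unusedSectionVars false

namespace Cfsg.Agent.Fischer.ThreeGroup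

open scoped commutatorElement

variable {G : Type*} [Group G] [Finite G] {V : Type*} [CommGroup V]

/-- If each of `a, b, ab, a²b` has its fixed points fixed by `δ`, so has a vector on whose orbit `a, b` commute. -/
theorem fixed_of_four (a b δ : MulAut V) (hv : ∀ v : V, v * v = 1) (S : Set V)
    (hSa : ∀ v ∈ S, a v ∈ S) (hSb : ∀ v ∈ S, b v ∈ S) (ha : ∀ v ∈ S, a (a (a v)) = v)
    (hb : ∀ v ∈ S, b (b (b v)) = v) (hc : ∀ v ∈ S, a (b v) = b (a v)) (hmul : ∀ u ∈ S, ∀ v ∈ S, u * v ∈ S)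
    (fa : ∀ v ∈ S, a v = v → δ v = v) (fb : ∀ v ∈ S, b v = v → δ v = v)
    (fab : ∀ v ∈ S, a (b v) = v → δ v = v) (faab : ∀ v ∈ S, a (a (b v)) = v → δ v = v) :
    ∀ v ∈ S, δ v = v := by
  intro v hvS
  have s10 := hSa v hvS
  have s20 := hSa _ s10
  have s01 := hSb v hvS
  have s02 := hSb _ s01
  have s11 := hSa _ s01
  have s21 := hSa _ s11
  have s12 := hSa _ s02
  have s22 := hSa _ s12
  -- the action on the nine vectors
  have e1 : b (a v) = a (b v) := (hc v hvS).symm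
  have e2 : b (a (a v)) = a (a (b v)) := by rw [← hc _ s10, e1]
  have e3 : b (a (b v)) = a (b (b v)) := (hc _ s01).symm
  have e4 : b (a (a (b v))) = a (a (b (b v))) := by rw [← hc _ s11, e3]
  have e5 : b (a (b (b v))) = a v := by rw [← hc _ s02, hb v hvS]
  have e6 : b (a (a (b (b v)))) = a (a v) := by rw [← hc _ s12, e5]
  have t1 : δ (v * a v * a (a v)) = v * a v * a (a v) := by
    refine fa _ (hmul _ (hmul _ hvS _ s10) _ s20) ?_
    rw [map_mul, map_mul, ha v hvS, mul_comm, mul_assoc]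
  have t2 : δ (v * b v * b (b v)) = v * b v * b (b v) := by
    refine fb _ (hmul _ (hmul _ hvS _ s01) _ s02) ?_
    rw [map_mul, map_mul, hb v hvS, mul_comm, mul_assoc]
  have t3 : δ (v * a (b v) * a (a (b (b v)))) = v * a (b v) * a (a (b (b v))) := by
    refine fab _ (hmul _ (hmul _ hvS _ s11) _ s22) ?_
    rw [map_mul, map_mul, map_mul, map_mul, e3, e6, ha v hvS, mul_comm, mul_assoc]
  have t4 : δ (v * a (a (b v)) * a (b (b v))) = v * a (a (b v)) * a (b (b v)) := by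
    refine faab _ (hmul _ (hmul _ hvS _ s21) _ s12) ?_
    rw [map_mul, map_mul, map_mul, map_mul, map_mul, map_mul, e4, e5, ha v hvS, ha _ s12]
    ac_rfl
  have t5 : δ (v * a v * a (a v) * (b v * a (b v) * a (a (b v))) * (b (b v) * a (b (b v)) * a (a (b (b v))))) =
      v * a v * a (a v) * (b v * a (b v) * a (a (b v))) * (b (b v) * a (b (b v)) * a (a (b (b v)))) := by
    refine fa _ (hmul _ (hmul _ (hmul _ (hmul _ hvS _ s10) _ s20) _ (hmul _ (hmul _ s01 _ s11) _ s21)) _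
      (hmul _ (hmul _ s02 _ s12) _ s22)) ?_
    simp only [map_mul, ha v hvS, ha _ s01, ha _ s02]
    ac_rfl
  have key : ∀ p q r s t u w y z : V,
      p * q * r * (p * s * w) * (p * t * z) * (p * u * y) * (p * q * r * (s * t * u) * (w * y * z)) = p := by
    intro p q r s t u w y z
    calc _ = (p * p) * (p * p) * (q * q) * (r * r) * (s * s) * (t * t) * (u * u) * (w * w) * (y * y) * (z * z) * p := by
          ac_rfl
      _ = p := by simp only [hv, one_mul]
  have h := key v (a v) (a (a v)) (b v) (a (b v)) (a (a (b v))) (b (b v)) (a (b (b v))) (a (a (b (b v))))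
  have gen : ∀ A B C D E : V, δ A = A → δ B = B → δ C = C → δ D = D → δ E = E →
      δ (A * B * C * D * E) = A * B * C * D * E := by
    intro A B C D E h1 h2 h3 h4 h5
    rw [map_mul, map_mul, map_mul, map_mul, h1, h2, h3, h4, h5]
  rw [← h]
  exact gen _ _ _ _ _ t1 t2 t3 t4 t5

/-- The hypotheses. -/
structure Hyp (P : Subgroup G) (d : G) (α : G →* MulAut V) : Prop where
  pgroup : IsPGroup 3 P
  stable : ∀ p ∈ P, d * p * d ∈ P
  d2 : d * d = 1
  exp2 : ∀ v : V, v * v = 1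
  cube : ∀ x ∈ P, d * x * d = x⁻¹ → x ^ 3 = 1
  fix : ∀ x ∈ P, d * x * d = x⁻¹ → x ≠ 1 → ∀ v, α x v = v → α d v = v
  moves : α d ≠ 1
  gen : P ≤ Subgroup.closure {x | x ∈ P ∧ d * x * d = x⁻¹}

variable {P : Subgroup G} {d : G} {α : G →* MulAut V}

namespace Hyp

variable (h : Hyp P d α)
include h

theorem d_inv : d⁻¹ = d := inv_eq_of_mul_eq_one_right h.d2

theorem dd (a : G) : d * (d * a) = a := by rw [← mul_assoc, h.d2, one_mul]

theorem inv_of_inverted {x : G} (hd : d * x * d = x⁻¹) : d * x⁻¹ * d = x⁻¹⁻¹ := by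
  rw [inv_inv, ← hd]
  simp only [mul_assoc, h.dd, h.d2, mul_one]

theorem conj_mul_d (a b : G) : d * (a * b) * d = d * a * d * (d * b * d) := by
  simp only [mul_assoc, h.dd]

theorem act_cube {x : G} (hx : x ^ 3 = 1) (v : V) : α x (α x (α x v)) = v := by
  have e : α x * (α x * α x) = 1 := by rw [← map_mul, ← map_mul, ← pow_two, ← pow_succ', hx, map_one]
  exact DFunLike.congr_fun e v

theorem act_mul (x y : G) (v : V) : α (x * y) v = α x (α y v) := by rw [map_mul]; rfl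

/-- Two commuting inverted elements are dependent. -/
theorem dependent {x y : G} (hx : x ∈ P) (hdx : d * x * d = x⁻¹) (hy : y ∈ P) (hdy : d * y * d = y⁻¹)
    (hxy : x * y = y * x) (hx1 : x ≠ 1) : y ∈ Subgroup.zpowers x := by
  by_contra hyx
  have hcy : Commute x y := hxy
  have hinv : ∀ {a : G}, Commute a y → d * a * d = a⁻¹ → d * (a * y) * d = (a * y)⁻¹ := fun {a} ha hda => by
    rw [h.conj_mul_d, hda, hdy, _root_.mul_inv_rev, (ha.inv_inv).eq]
  have hne : ∀ k : ℕ, x ^ k * y ≠ 1 := fun k e => hyx <| by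
    rw [show y = (x ^ k)⁻¹ from eq_inv_of_mul_eq_one_right e]
    exact inv_mem (Subgroup.npow_mem_zpowers x k)
  have hxx : d * x ^ 2 * d = (x ^ 2)⁻¹ := by rw [pow_two, h.conj_mul_d, hdx, _root_.mul_inv_rev]
  refine h.moves (MulEquiv.ext fun v => ?_)
  refine fixed_of_four (α x) (α y) (α d) h.exp2 Set.univ (fun _ _ => trivial) (fun _ _ => trivial)
    (fun v _ => h.act_cube (h.cube x hx hdx) v) (fun v _ => h.act_cube (h.cube y hy hdy) v)
    (fun v _ => by rw [← h.act_mul, hxy, h.act_mul]) (fun _ _ _ _ => trivial)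
    (fun v _ e => h.fix x hx hdx hx1 v e)
    (fun v _ e => h.fix y hy hdy (by simpa using hne 0) v e)
    (fun v _ e => h.fix (x * y) (mul_mem hx hy) (hinv hcy hdx) (by simpa using hne 1) v (by rw [h.act_mul, e]))
    (fun v _ e => h.fix (x ^ 2 * y) (mul_mem (pow_mem hx 2) hy) (hinv (hcy.pow_left 2) hxx) (hne 2) v
      (by rw [h.act_mul, pow_two, h.act_mul, e])) v trivial

/-- Commutators with an inverted element that are central are fixed-point controlled by `d`. -/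
theorem fix_comm {u a : G} (hu : u ∈ P) (hdu : d * u * d = u⁻¹) (ha : a ∈ P) (hda : d * a * d = a⁻¹)
    (hc1 : ⁅u, a⁆ ≠ 1) (hcu : Commute ⁅u, a⁆ u) (hca : Commute ⁅u, a⁆ a) :
    ∀ v, α ⁅u, a⁆ v = v → α d v = v := by
  have hu3 := h.cube u hu hdu
  have hu2 : u * u = u⁻¹ := by
    rw [eq_inv_iff_mul_eq_one, ← pow_two, ← pow_succ, hu3]
  have hua : u * a = ⁅u, a⁆ * (a * u) := by rw [commutatorElement_def]; group
  intro v hv
  refine fixed_of_four (α u) (α a) (α d) h.exp2 {w | α ⁅u, a⁆ w = w} ?_ ?_ ?_ ?_ ?_ ?_ ?_ ?_ ?_ ?_ v hv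
  · intro w (hw : α ⁅u, a⁆ w = w)
    show α ⁅u, a⁆ (α u w) = α u w
    rw [← h.act_mul, hcu.eq, h.act_mul, hw]
  · intro w (hw : α ⁅u, a⁆ w = w)
    show α ⁅u, a⁆ (α a w) = α a w
    rw [← h.act_mul, hca.eq, h.act_mul, hw]
  · exact fun w _ => h.act_cube hu3 w
  · exact fun w _ => h.act_cube (h.cube a ha hda) w
  · intro w (hw : α ⁅u, a⁆ w = w)
    rw [← h.act_mul, hua, h.act_mul ⁅u, a⁆ (a * u), h.act_mul a u]
    have : α ⁅u, a⁆ (α a (α u w)) = α a (α u w) := by
      rw [← h.act_mul, ← h.act_mul, ← h.act_mul a, mul_assoc, (hca.mul_right hcu).eq, h.act_mul, hw]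
    exact this
  · intro w (hw : α ⁅u, a⁆ w = w) w' (hw' : α ⁅u, a⁆ w' = w')
    show α ⁅u, a⁆ (w * w') = w * w'
    rw [map_mul, hw, hw']
  · refine fun w _ e => h.fix u hu hdu (fun h1 => hc1 ?_) w e
    rw [h1, commutatorElement_one_left]
  · refine fun w _ e => h.fix a ha hda (fun h1 => hc1 ?_) w e
    rw [h1, commutatorElement_one_right]
  · intro w (hw : α ⁅u, a⁆ w = w) e
    -- `u² a u²` is inverted and acts as `u a`
    refine h.fix (u⁻¹ * a * u⁻¹) (mul_mem (mul_mem (inv_mem hu) ha) (inv_mem hu)) ?_ ?_ w ?_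
    · rw [h.conj_mul_d, h.conj_mul_d, hda, h.inv_of_inverted hdu]; group
    · intro h1
      have : a = u * u := by
        calc a = u * (u⁻¹ * a * u⁻¹) * u := by group
          _ = u * u := by rw [h1, mul_one]
      exact hc1 (commutatorElement_eq_one_iff_mul_comm.2 (by rw [this, mul_assoc]))
    · have hsw : u⁻¹ * a * u⁻¹ = ⁅u, a⁆ * (u * a) := by
        have hsw' : u⁻¹ * a = ⁅u, a⁆⁻¹ * (a * u⁻¹) := by
          have := hcu.inv_left.eq
          calc u⁻¹ * a = u⁻¹ * (u * a * u⁻¹ * a⁻¹)⁻¹ * (u * a * u⁻¹) := by group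
            _ = u⁻¹ * (⁅u, a⁆⁻¹ * u) * (a * u⁻¹) := by rw [commutatorElement_def]; group
            _ = _ := by rw [this]; group
        calc u⁻¹ * a * u⁻¹ = ⁅u, a⁆⁻¹ * a * (u⁻¹ * u⁻¹) := by rw [hsw']; group
          _ = ⁅u, a⁆⁻¹ * (a * u) := by
            rw [← _root_.mul_inv_rev, hu2, inv_inv]; group
          _ = ⁅u, a⁆⁻¹ * (⁅u, a⁆⁻¹ * (u * a)) := by rw [hua]; group
          _ = ⁅u, a⁆ * (u * a) := by
            have hc3 : ⁅u, a⁆ ^ 3 = 1 := by
              have R : ∀ k : ℕ, u ^ k * a = ⁅u, a⁆ ^ k * (a * u ^ k) := by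
                intro k
                induction k with
                | zero => simp
                | succ k ih =>
                  calc u ^ (k + 1) * a = u * (u ^ k * a) := by rw [pow_succ', mul_assoc]
                    _ = u * ⁅u, a⁆ ^ k * (a * u ^ k) := by rw [ih]; group
                    _ = ⁅u, a⁆ ^ k * (u * a) * u ^ k := by rw [(hcu.pow_left k).eq.symm]; group
                    _ = _ := by rw [hua, pow_succ, pow_succ']; simp only [mul_assoc]
              have := R 3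
              rw [hu3, one_mul, mul_one] at this
              exact mul_eq_right.1 this.symm
            have : ⁅u, a⁆⁻¹ * ⁅u, a⁆⁻¹ = ⁅u, a⁆ := by
              rw [← _root_.mul_inv_rev, inv_eq_iff_mul_eq_one, ← pow_two, ← pow_succ, hc3]
            rw [← mul_assoc, this]
      rw [hsw, h.act_mul, h.act_mul, e, hw]
  · intro w (hw : α ⁅u, a⁆ w = w) e
    -- `u a u` is inverted and acts as `u² a`
    refine h.fix (u * a * u) (mul_mem (mul_mem hu ha) hu) ?_ ?_ w ?_
    · rw [h.conj_mul_d, h.conj_mul_d, hda, hdu]; group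
    · intro h1
      have : a = u⁻¹ * u⁻¹ := by
        calc a = u⁻¹ * (u * a * u) * u⁻¹ := by group
          _ = u⁻¹ * u⁻¹ := by rw [h1, mul_one]
      exact hc1 (commutatorElement_eq_one_iff_mul_comm.2 (by rw [this]; group))
    · have hsw : u * a * u = ⁅u, a⁆⁻¹ * (u * (u * a)) := by
        have h1 := hcu.inv_left.eq
        calc u * a * u = u * (u * a * u⁻¹ * a⁻¹)⁻¹ * (u * a) := by group
          _ = u * ⁅u, a⁆⁻¹ * (u * a) := by rw [commutatorElement_def]
          _ = _ := by rw [← h1]; group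
      have hwi : α ⁅u, a⁆⁻¹ w = w := by
        conv_lhs => rw [← hw]
        rw [← h.act_mul, inv_mul_cancel, map_one]; rfl
      rw [hsw, h.act_mul, h.act_mul, h.act_mul, e, hwi]

theorem main (hP : P ≠ ⊥) : (∃ z ∈ P, d * z * d = z⁻¹ ∧ z ≠ 1 ∧ z ^ 3 = 1 ∧ P = Subgroup.zpowers z) ∨
    ∃ u x : G, Rel54.Rel u x d ∧ ⁅u, x⁆ ≠ 1 ∧ P = Subgroup.closure {u, x} := by
  classical
  haveI : Fact (Nat.Prime 3) := ⟨Nat.prime_three⟩
  have closed : ∀ K : Subgroup G, (∀ a ∈ P, d * a * d = a⁻¹ → a ∈ K) → P ≤ K := fun K hK =>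
    h.gen.trans ((Subgroup.closure_le _).2 fun a ha => hK a ha.1 ha.2)
  by_cases hA : ∃ z ∈ P, (∀ p ∈ P, z * p = p * z) ∧ d * z * d = z⁻¹ ∧ z ≠ 1
  · obtain ⟨z, hz, hzc, hdz, hz1⟩ := hA
    exact Or.inl ⟨z, hz, hdz, hz1, h.cube z hz hdz, le_antisymm
      (closed _ fun a ha hda => h.dependent hz hdz ha hda (hzc a ha) hz1) (Subgroup.zpowers_le.2 hz)⟩
  push Not at hA
  right
  -- `P` is not abelian
  have hnab : ¬ ∀ a ∈ P, ∀ b ∈ P, a * b = b * a := by
    intro hab
    have : P ≤ ⊥ := closed _ fun a ha hda => Subgroup.mem_bot.2 (hA a ha (hab a ha) hda)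
    exact hP (le_bot_iff.1 this)
  haveI : Nontrivial (↥P ⧸ Subgroup.center ↥P) := by
    by_contra hnt
    rw [not_nontrivial_iff_subsingleton] at hnt
    refine hnab fun a ha b hb => ?_
    have : (⟨a, ha⟩ : P) ∈ Subgroup.center ↥P := by
      rw [← QuotientGroup.eq_one_iff]
      exact Subsingleton.elim _ _
    exact (congrArg Subtype.val (Subgroup.mem_center_iff.1 this ⟨b, hb⟩)).symm
  have hq : IsPGroup 3 (↥P ⧸ Subgroup.center ↥P) := h.pgroup.to_quotient _
  haveI := hq.center_nontrivial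
  obtain ⟨q, hq1⟩ := exists_ne (1 : ↥(Subgroup.center (↥P ⧸ Subgroup.center ↥P)))
  obtain ⟨⟨u₀, hu₀⟩, he⟩ := QuotientGroup.mk'_surjective (Subgroup.center ↥P) q.1
  let Zc : G → Prop := fun c => ∀ p ∈ P, c * p = p * c
  have hu₀z : ∀ p ∈ P, Zc ⁅u₀, p⁆ := by
    intro p hp r hr
    have h1 : ⁅(⟨u₀, hu₀⟩ : P), ⟨p, hp⟩⁆ ∈ Subgroup.center ↥P := by
      rw [← QuotientGroup.eq_one_iff]
      show QuotientGroup.mk' _ _ = 1
      rw [map_commutatorElement, he, commutatorElement_eq_one_iff_mul_comm]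
      exact (Subgroup.mem_center_iff.1 q.2 _).symm
    exact (congrArg Subtype.val (Subgroup.mem_center_iff.1 h1 ⟨r, hr⟩)).symm
  have hu₀n : ¬ Zc u₀ := by
    intro hc
    refine hq1 (Subtype.ext ?_)
    rw [← he]
    exact (QuotientGroup.eq_one_iff _).2 (Subgroup.mem_center_iff.2 fun r => Subtype.ext (hc r r.2).symm)
  -- an inverted element of the second centre
  set u := u₀ * (d * u₀⁻¹ * d) with hu_def
  have hu : u ∈ P := mul_mem hu₀ (h.stable _ (inv_mem hu₀))
  have hdu : d * u * d = u⁻¹ := by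
    rw [hu_def, h.conj_mul_d, _root_.mul_inv_rev]
    simp only [_root_.mul_inv_rev, inv_inv, h.d_inv, mul_assoc, h.dd, h.d2, mul_one]
  have hcd : ∀ {c : G}, c ∈ P → Zc c → Zc (d * c * d) := by
    intro c _ hc p hp
    calc d * c * d * p = d * (c * (d * p * d)) * d := by simp only [mul_assoc, h.dd, h.d2, mul_one]
      _ = d * (d * p * d * c) * d := by rw [hc _ (h.stable p hp)]
      _ = p * (d * c * d) := by simp only [mul_assoc, h.dd, h.d2, mul_one]
  have hcinv : ∀ {c : G}, Zc c → Zc c⁻¹ := fun {c} hc p hp => by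
    rw [inv_mul_eq_iff_eq_mul, ← mul_assoc, hc p hp, mul_inv_cancel_right]
  have hcP : ∀ {a b : G}, a ∈ P → b ∈ P → ⁅a, b⁆ ∈ P := fun ha hb => by
    rw [commutatorElement_def]
    exact mul_mem (mul_mem (mul_mem ha hb) (inv_mem ha)) (inv_mem hb)
  have hu'z : ∀ p ∈ P, Zc ⁅d * u₀⁻¹ * d, p⁆ := by
    intro p hp
    have h1 : Zc ⁅u₀⁻¹, d * p * d⁆ := by
      have h2 : ⁅u₀⁻¹, d * p * d⁆ = u₀⁻¹ * ⁅u₀, d * p * d⁆⁻¹ * u₀ := by
        simp only [commutatorElement_def]; group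
      have h3 := hcinv (hu₀z _ (h.stable p hp))
      rw [h2, ← h3 _ (inv_mem hu₀), mul_assoc, inv_mul_cancel, mul_one]
      exact h3
    have h4 := hcd (hcP (inv_mem hu₀) (h.stable p hp)) h1
    rwa [show d * ⁅u₀⁻¹, d * p * d⁆ * d = ⁅d * u₀⁻¹ * d, p⁆ by
      simp only [commutatorElement_def, _root_.mul_inv_rev, h.d_inv, mul_assoc, h.dd, h.d2, mul_one]] at h4
  have huz : ∀ p ∈ P, Zc ⁅u, p⁆ := by
    intro p hp
    have h2 := hu'z p hp
    rw [hu_def, show ⁅u₀ * (d * u₀⁻¹ * d), p⁆ = u₀ * ⁅d * u₀⁻¹ * d, p⁆ * u₀⁻¹ * ⁅u₀, p⁆ by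
      simp only [commutatorElement_def]; group, ← h2 u₀ hu₀, mul_inv_cancel_right]
    intro r hr
    rw [mul_assoc, hu₀z p hp r hr, ← mul_assoc, h2 r hr, mul_assoc]
  have hun : ¬ Zc u := by
    intro hc
    have hu1 : u = 1 := hA u hu hc hdu
    have hdu₀ : d * u₀ * d = u₀ := by
      rw [hu_def] at hu1
      have h1 : d * u₀⁻¹ * d = u₀⁻¹ := (inv_eq_of_mul_eq_one_right hu1).symm
      have h2 := congrArg (fun g => g⁻¹) h1
      simpa only [_root_.mul_inv_rev, inv_inv, h.d_inv, mul_assoc] using h2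
    refine hu₀n fun p hp => ?_
    have : P ≤ Subgroup.centralizer ({u₀} : Set G) := closed _ fun a ha hda => by
      rw [Subgroup.mem_centralizer_singleton_iff]
      by_contra hne
      have hz := hu₀z a ha
      have hd1 : d * ⁅u₀, a⁆ * d = ⁅u₀, a⁻¹⁆ := by
        simp only [commutatorElement_def, h.conj_mul_d]
        rw [hdu₀, hda, h.inv_of_inverted hda, show d * u₀⁻¹ * d = u₀⁻¹ by
          conv_rhs => rw [← hdu₀]
          simp only [_root_.mul_inv_rev, h.d_inv, mul_assoc]]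
      have h5 : ⁅u₀, a⁻¹⁆ = ⁅u₀, a⁆⁻¹ := by
        refine eq_inv_of_mul_eq_one_left ?_
        rw [← hz _ (hcP hu₀ (inv_mem ha))]
        calc ⁅u₀, a⁆ * ⁅u₀, a⁻¹⁆ = ⁅u₀, a⁆ * a * ⁅u₀, a⁻¹⁆ * a⁻¹ := by
              rw [mul_assoc ⁅u₀, a⁆ a, mul_assoc ⁅u₀, a⁆, ← hu₀z _ (inv_mem ha) a ha, mul_inv_cancel_right]
          _ = 1 := by simp only [commutatorElement_def]; group
      exact hne (commutatorElement_eq_one_iff_mul_comm.1 (hA _ (hcP hu₀ ha) hz (hd1.trans h5))).symm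
    exact (Subgroup.mem_centralizer_singleton_iff.1 (this hp)).symm
  have hu1 : u ≠ 1 := fun e => hun fun p _ => by rw [e, one_mul, mul_one]
  obtain ⟨x, hx, hdx, hc⟩ : ∃ x ∈ P, d * x * d = x⁻¹ ∧ ⁅u, x⁆ ≠ 1 := by
    by_contra! hcon
    refine hun fun p hp => ?_
    have : P ≤ Subgroup.centralizer ({u} : Set G) := closed _ fun a ha hda =>
      Subgroup.mem_centralizer_singleton_iff.2 (commutatorElement_eq_one_iff_mul_comm.1 (hcon a ha hda)).symm
    exact (Subgroup.mem_centralizer_singleton_iff.1 (this hp)).symm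
  set c := ⁅u, x⁆ with hc_def
  have hcZ : Zc c := huz x hx
  have hcP' : c ∈ P := hcP hu hx
  have R : Rel54.Rel u x d :=
    ⟨h.cube u hu hdu, h.cube x hx hdx, h.d2, hcZ u hu, hcZ x hx, hdu, hdx⟩
  have hc3 : c ^ 3 = 1 := R.c3
  -- the homomorphism `p ↦ [u, p]`
  have hφ : ∀ a ∈ P, ∀ b ∈ P, ⁅u, a * b⁆ = ⁅u, a⁆ * ⁅u, b⁆ := by
    intro a ha b hb
    calc ⁅u, a * b⁆ = ⁅u, a⁆ * (a * ⁅u, b⁆ * a⁻¹) := by simp only [commutatorElement_def]; group
      _ = _ := by rw [← huz b hb a ha, mul_inv_cancel_right]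
  have hfix : ∀ a ∈ P, d * a * d = a⁻¹ → ⁅u, a⁆ ≠ 1 → ∀ v, α ⁅u, a⁆ v = v → α d v = v :=
    fun a ha hda h1 => h.fix_comm hu hdu ha hda h1 (huz a ha u hu) (huz a ha a ha)
  have hpow : ∀ a ∈ P, d * a * d = a⁻¹ → ⁅u, a⁆ ∈ Subgroup.zpowers c := by
    intro a ha hda
    by_contra hac
    set c' := ⁅u, a⁆ with hc'_def
    have hc'1 : c' ≠ 1 := fun e => hac (e ▸ one_mem _)
    have hc'3 : c' ^ 3 = 1 :=
      (⟨h.cube u hu hdu, h.cube a ha hda, h.d2, huz a ha u hu, huz a ha a ha, hdu, hda⟩ :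
        Rel54.Rel u a d).c3
    have hcom : ∀ v, α c (α c' v) = α c' (α c v) := fun v => by
      rw [← h.act_mul, hcZ c' (hcP hu ha), h.act_mul]
    have hpal : ∀ y ∈ P, d * y * d = y⁻¹ → d * (y * a * y) * d = (y * a * y)⁻¹ := fun y _ hdy => by
      rw [h.conj_mul_d, h.conj_mul_d, hdy, hda]; group
    have hφ3 : ∀ y ∈ P, ⁅u, y * a * y⁆ = ⁅u, y⁆ * c' * ⁅u, y⁆ := fun y hy => by
      rw [hφ _ (mul_mem hy ha) _ hy, hφ _ hy _ ha]
    have hxi : ⁅u, x⁻¹⁆ = c⁻¹ := by
      refine eq_inv_of_mul_eq_one_left ?_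
      rw [← hφ _ (inv_mem hx) _ hx, inv_mul_cancel, commutatorElement_one_right]
    refine h.moves (MulEquiv.ext fun v => ?_)
    refine fixed_of_four (α c) (α c') (α d) h.exp2 Set.univ (fun _ _ => trivial) (fun _ _ => trivial)
      (fun v _ => h.act_cube hc3 v) (fun v _ => h.act_cube hc'3 v) (fun v _ => hcom v) (fun _ _ _ _ => trivial)
      (fun v _ e => hfix x hx hdx hc v e) (fun v _ e => hfix a ha hda hc'1 v e) ?_ ?_ v trivial
    · -- `c c'` is the commutator of `x⁻¹ a x⁻¹`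
      intro v _ e
      have h1 : ⁅u, x⁻¹ * a * x⁻¹⁆ = c * c' := by
        rw [hφ3 _ (inv_mem hx), hxi, mul_assoc, hcinv hcZ c' (hcP hu ha) |>.symm, ← mul_assoc]
        congr 1
        rw [← _root_.mul_inv_rev, inv_eq_iff_mul_eq_one, ← pow_two, ← pow_succ, hc3]
      refine hfix _ (mul_mem (mul_mem (inv_mem hx) ha) (inv_mem hx)) (hpal _ (inv_mem hx) (h.inv_of_inverted hdx)) ?_ v ?_
      · rw [h1]
        exact fun e1 => hac (by rw [eq_inv_of_mul_eq_one_right e1]; exact inv_mem (Subgroup.mem_zpowers c))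
      · rw [h1, h.act_mul, e]
    · -- `c² c'` is the commutator of `x a x`
      intro v _ e
      have h1 : ⁅u, x * a * x⁆ = c * c * c' := by
        rw [hφ3 _ hx, mul_assoc, (hcZ c' (hcP hu ha)).symm, ← mul_assoc]
      refine hfix _ (mul_mem (mul_mem hx ha) hx) (hpal _ hx hdx) ?_ v ?_
      · rw [h1]
        exact fun e1 => hac (by
          rw [eq_inv_of_mul_eq_one_right e1]
          exact inv_mem (mul_mem (Subgroup.mem_zpowers c) (Subgroup.mem_zpowers c)))
      · rw [h1, h.act_mul, h.act_mul, e]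
  have hall : ∀ p ∈ P, ⁅u, p⁆ ∈ Subgroup.zpowers c := by
    let K : Subgroup G :=
      { carrier := {p | p ∈ P ∧ ⁅u, p⁆ ∈ Subgroup.zpowers c}
        one_mem' := ⟨one_mem _, by rw [commutatorElement_one_right]; exact one_mem _⟩
        mul_mem' := fun {a b} ha hb => ⟨mul_mem ha.1 hb.1, by rw [hφ a ha.1 b hb.1]; exact mul_mem ha.2 hb.2⟩
        inv_mem' := fun {a} ha => ⟨inv_mem ha.1, by
          have h1 := hφ a ha.1 a⁻¹ (inv_mem ha.1)
          rw [mul_inv_cancel, commutatorElement_one_right, eq_comm, mul_eq_one_iff_eq_inv] at h1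
          rw [← inv_inv ⁅u, a⁻¹⁆, ← h1]
          exact inv_mem ha.2⟩ }
    exact fun p hp => (closed K (fun a ha hda => ⟨ha, hpow a ha hda⟩) hp).2
  refine ⟨u, x, R, hc, le_antisymm (closed _ fun a ha hda => ?_)
    ((Subgroup.closure_le _).2 (by rintro _ (rfl | rfl) <;> assumption))⟩
  -- every inverted element lies in `⟨u, x⟩`
  set p := a * a with hp_def
  have hpP : p ∈ P := mul_mem ha ha
  obtain ⟨k, hk⟩ := hall p hpP
  set w := x ^ k with hw
  have hwP : w ∈ P := zpow_mem hx k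
  have hdw : d * w * d = w⁻¹ := by
    rw [hw, ← inv_zpow, ← hdx]
    have := (MulAut.conj d).toMonoidHom.map_zpow x k
    simpa [MulAut.conj_apply, h.d_inv] using this
  have hwc : ⁅u, w⁆ = c ^ k := by
    let f : ↥P →* G := MonoidHom.mk' (fun p : ↥P => ⁅u, (p : G)⁆) fun a b => hφ a a.2 b b.2
    have h1 := map_zpow f ⟨x, hx⟩ k
    rw [hw]
    simpa [f, hc_def] using h1
  set s := w⁻¹ * p with hs
  have hsP : s ∈ P := mul_mem (inv_mem hwP) hpP
  have hsu : u * s = s * u := by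
    have h2 := hφ w hwP s hsP
    rw [hs, mul_inv_cancel_left, ← hk, hwc, left_eq_mul] at h2
    exact commutatorElement_eq_one_iff_mul_comm.1 h2
  set t := s * (d * s⁻¹ * d) with ht
  have htP : t ∈ P := mul_mem hsP (h.stable _ (inv_mem hsP))
  have hdt : d * t * d = t⁻¹ := by
    rw [ht]
    simp only [_root_.mul_inv_rev, inv_inv, h.d_inv, mul_assoc, h.dd, h.d2, mul_one]
  have htu : u * t = t * u := by
    have h3 : u * (d * s⁻¹ * d) = d * s⁻¹ * d * u := by
      have h4 : Commute u⁻¹ s⁻¹ := (show Commute u s from hsu).inv_inv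
      have h5 : d * u⁻¹ * d = u := by rw [h.inv_of_inverted hdu, inv_inv]
      calc u * (d * s⁻¹ * d) = d * (u⁻¹ * s⁻¹) * d := by rw [h.conj_mul_d, h5]
        _ = d * (s⁻¹ * u⁻¹) * d := by rw [h4.eq]
        _ = _ := by rw [h.conj_mul_d, h5]
    calc u * t = u * s * (d * s⁻¹ * d) := by rw [ht]; exact (mul_assoc _ _ _).symm
      _ = s * (u * (d * s⁻¹ * d)) := by rw [hsu]; exact mul_assoc _ _ _
      _ = t * u := by rw [h3, ht]; exact (mul_assoc _ _ _).symm
  have htU : t ∈ Subgroup.zpowers u := h.dependent hu hdu htP hdt htu hu1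
  have hclu : ∀ y ∈ ({u, x} : Set G), Subgroup.zpowers y ≤ Subgroup.closure {u, x} :=
    fun y hy => Subgroup.zpowers_le.2 (Subgroup.subset_closure hy)
  have hafin : a = w * t * w := by
    have ha3 := h.cube a ha hda
    have e1 : p * (d * p⁻¹ * d) = a := by
      rw [hp_def, _root_.mul_inv_rev, h.conj_mul_d, h.inv_of_inverted hda, inv_inv,
        show a * a * (a * a) = a ^ 3 * a by simp [pow_succ, mul_assoc], ha3, one_mul]
    rw [← e1, show p = w * s by rw [hs, mul_inv_cancel_left], ht, _root_.mul_inv_rev, h.conj_mul_d,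
      h.inv_of_inverted hdw, inv_inv]
    simp only [mul_assoc]
  rw [hafin]
  exact mul_mem (mul_mem (hclu x (by simp) ⟨k, rfl⟩) (hclu u (by simp) htU)) (hclu x (by simp) ⟨k, rfl⟩)

end Hyp

end Cfsg.Agent.Fischer.ThreeGroup
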