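import Mathlib
import Cfsg.Agent.Lib.Fischer.SwapPair

set_option autoImplicit false

/-!
The centraliser of a product of three commuting transpositions induces `S₃` on them.
-/

namespace Cfsg.Agent.Fischer.Factor

open Subgroup

variable {G : Type*} [Group G] [Finite G] {D : Set G}

theorem triple_quotient (hD : IsThreeTranspositionGroup D) (hprim : Cfsg.IsPrimitiveUnderConj D)
    (h4 : NoRel D 4) (h6 : NoRel D 6) {d₁ d₂ d₃ : G} (h₁ : d₁ ∈ D) (h₂ : d₂ ∈ D) (h₃ : d₃ ∈ D)
    (h12 : d₁ ≠ d₂) (h13 : d₁ ≠ d₃) (h23 : d₂ ≠ d₃) (c12 : Commute d₁ d₂) (c13 : Commute d₁ d₃)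
    (c23 : Commute d₂ d₃) :
    Subgroup.centralizer ({d₁, d₂, d₃} : Set G) ≤ Subgroup.centralizer ({d₁ * d₂ * d₃} : Set G) ∧
      ∃ _ : ((Subgroup.centralizer ({d₁, d₂, d₃} : Set G)).subgroupOf
          (Subgroup.centralizer ({d₁ * d₂ * d₃} : Set G))).Normal,
        Nonempty (↥(Subgroup.centralizer ({d₁ * d₂ * d₃} : Set G)) ⧸
          (Subgroup.centralizer ({d₁, d₂, d₃} : Set G)).subgroupOf
            (Subgroup.centralizer ({d₁ * d₂ * d₃} : Set G)) ≃* Equiv.Perm (Fin 3)) := by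
  set K := Subgroup.centralizer ({d₁, d₂, d₃} : Set G) with hK
  set C := Subgroup.centralizer ({d₁ * d₂ * d₃} : Set G) with hC
  set T : Set G := {d₁, d₂, d₃} with hT
  have hle : K ≤ C := by
    intro g hg
    rw [hK, Subgroup.mem_centralizer_iff] at hg
    rw [hC, Subgroup.mem_centralizer_singleton_iff]
    have e1 : Commute g d₁ := (hg d₁ (by simp [hT])).symm
    have e2 : Commute g d₂ := (hg d₂ (by simp [hT])).symm
    have e3 : Commute g d₃ := (hg d₃ (by simp [hT])).symm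
    exact ((e1.mul_right e2).mul_right e3).eq
  -- members of `C` permute the three factors
  have hperm : ∀ g ∈ C, ∀ x, x ∈ T → g * x * g⁻¹ ∈ T := by
    intro g hg
    rw [hC, Subgroup.mem_centralizer_singleton_iff] at hg
    set c : G →* G := (MulAut.conj g).toMonoidHom with hc
    have hl : ([d₁, d₂, d₃] : List G).Nodup := by simp [h12, h13, h23]
    have hm : ∀ a ∈ ([d₁, d₂, d₃] : List G), a ∈ D := by simp [h₁, h₂, h₃]
    have hcc : ∀ a ∈ ([d₁, d₂, d₃] : List G), ∀ b ∈ ([d₁, d₂, d₃] : List G), Commute a b := by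
      simp [c12, c13, c23, c12.symm, c13.symm, c23.symm]
    have := unique_factor hD.1 h4 h6 3 le_rfl ([d₁, d₂, d₃].map c) [d₁, d₂, d₃]
      (hl.map (MulAut.conj g).injective) hl (by simp) (by simp)
      (fun a ha => by obtain ⟨b, hb, rfl⟩ := List.mem_map.1 ha; exact hD.2.1 g b (hm b hb)) hm
      (fun a ha b hb => by
        obtain ⟨u, hu, rfl⟩ := List.mem_map.1 ha
        obtain ⟨v, hv, rfl⟩ := List.mem_map.1 hb
        exact (hcc u hu v hv).map c) hcc
      (by
        rw [← map_list_prod]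
        show g * ([d₁, d₂, d₃] : List G).prod * g⁻¹ = _
        have e : ([d₁, d₂, d₃] : List G).prod = d₁ * d₂ * d₃ := by simp [mul_assoc]
        rw [e, hg, mul_inv_cancel_right])
    intro x hx
    have := (this (g * x * g⁻¹)).1 (List.mem_map.2 ⟨x, by simpa [hT] using hx, rfl⟩)
    simpa [hT] using this
  let idx : Fin 3 → T := ![⟨d₁, by simp [hT]⟩, ⟨d₂, by simp [hT]⟩, ⟨d₃, by simp [hT]⟩]
  have hidx : Function.Bijective idx := by
    refine ⟨fun i j h => ?_, fun ⟨x, hx⟩ => ?_⟩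
    · fin_cases i <;> fin_cases j <;>
        simp [idx, Subtype.ext_iff, h12, h13, h23, Ne.symm h12, Ne.symm h13, Ne.symm h23] at h ⊢
    · simp only [hT, Set.mem_insert_iff, Set.mem_singleton_iff] at hx
      rcases hx with rfl | rfl | rfl
      exacts [⟨0, rfl⟩, ⟨1, rfl⟩, ⟨2, rfl⟩]
  set e : Fin 3 ≃ T := Equiv.ofBijective idx hidx with he
  let act : ↥C → Equiv.Perm T := fun g =>
    { toFun := fun x => ⟨g * x * (g : G)⁻¹, hperm g g.2 x x.2⟩
      invFun := fun x => ⟨(g : G)⁻¹ * x * (g : G), by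
        simpa using hperm _ (inv_mem g.2) x x.2⟩
      left_inv := fun x => Subtype.ext (by simp [mul_assoc])
      right_inv := fun x => Subtype.ext (by simp [mul_assoc]) }
  let φ₀ : ↥C →* Equiv.Perm T :=
    { toFun := act
      map_one' := Equiv.ext fun x => Subtype.ext (by simp [act])
      map_mul' := fun g h => Equiv.ext fun x => Subtype.ext (by simp [act, mul_assoc]) }
  set φ : ↥C →* Equiv.Perm (Fin 3) := e.symm.permCongrHom.toMonoidHom.comp φ₀ with hφ
  have hker : φ.ker = K.subgroupOf C := by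
    have h0 : φ.ker = φ₀.ker := by
      ext g
      rw [MonoidHom.mem_ker, MonoidHom.mem_ker, hφ]
      exact MulEquiv.map_eq_one_iff e.symm.permCongrHom
    rw [h0]
    ext g
    rw [MonoidHom.mem_ker, Subgroup.mem_subgroupOf, hK, Subgroup.mem_centralizer_iff]
    constructor
    · intro h x hx
      have := congrArg Subtype.val (congrArg (fun p : Equiv.Perm T => p ⟨x, hx⟩) h)
      change (g : G) * x * (g : G)⁻¹ = x at this
      exact (mul_inv_eq_iff_eq_mul.1 this).symm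
    · intro h
      refine Equiv.ext fun x => Subtype.ext ?_
      show (g : G) * (x : G) * (g : G)⁻¹ = x
      rw [← h x x.2, mul_inv_cancel_right]
  have mkswap : ∀ {a b c : G} (i j k : Fin 3), (idx i : G) = a → (idx j : G) = b → (idx k : G) = c →
      (∀ l, l = i ∨ l = j ∨ l = k) → k ≠ i → k ≠ j →
      ∀ g : G, g ∈ C → g * a * g⁻¹ = b → g * b * g⁻¹ = a → g * c * g⁻¹ = c →
        Equiv.swap i j ∈ φ.range := by
    intro a b c i j k hi hj hk hall hki hkj g hg hab hba hcc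
    refine ⟨⟨g, hg⟩, Equiv.ext fun l => e.injective ?_⟩
    rw [hφ]
    show e (e.symm (act ⟨g, hg⟩ (e l))) = e (Equiv.swap i j l)
    rw [Equiv.apply_symm_apply]
    refine Subtype.ext ?_
    show g * (idx l : G) * g⁻¹ = (idx (Equiv.swap i j l) : G)
    rcases hall l with rfl | rfl | rfl
    · rw [Equiv.swap_apply_left, hi, hj, hab]
    · rw [Equiv.swap_apply_right, hi, hj, hba]
    · rw [Equiv.swap_apply_of_ne_of_ne hki hkj, hk, hcc]
  have hmemC : ∀ g : G, g * (d₁ * d₂ * d₃) * g⁻¹ = d₁ * d₂ * d₃ → g ∈ C := fun g h =>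
    Subgroup.mem_centralizer_singleton_iff.2 (mul_inv_eq_iff_eq_mul.1 h)
  have hconj : ∀ g : G, g * (d₁ * d₂ * d₃) * g⁻¹ =
      (g * d₁ * g⁻¹) * (g * d₂ * g⁻¹) * (g * d₃ * g⁻¹) := fun g => by group
  have s01 : Equiv.swap (0 : Fin 3) 1 ∈ φ.range := by
    obtain ⟨g, hab, hba, hcc⟩ := exists_swap hD hprim h₃ (a := d₁) (b := d₂)
      ⟨h₁, h13, c13.symm⟩ ⟨h₂, h23, c23.symm⟩ h12 c12
    exact mkswap 0 1 2 rfl rfl rfl (by decide) (by decide) (by decide) g
      (hmemC g (by rw [hconj, hab, hba, hcc, c12.eq])) hab hba hcc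
  have s12 : Equiv.swap (1 : Fin 3) 2 ∈ φ.range := by
    obtain ⟨g, hab, hba, hcc⟩ := exists_swap hD hprim h₁ (a := d₂) (b := d₃)
      ⟨h₂, h12.symm, c12⟩ ⟨h₃, h13.symm, c13⟩ h23 c23
    exact mkswap 1 2 0 rfl rfl rfl (by decide) (by decide) (by decide) g
      (hmemC g (by rw [hconj, hab, hba, hcc, mul_assoc, mul_assoc, c23.eq])) hab hba hcc
  have hsurj : Function.Surjective φ := by
    intro p
    have : ∀ p : Equiv.Perm (Fin 3), p = 1 ∨ p = Equiv.swap 0 1 ∨ p = Equiv.swap 1 2 ∨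
        p = Equiv.swap 0 1 * Equiv.swap 1 2 ∨ p = Equiv.swap 1 2 * Equiv.swap 0 1 ∨
        p = Equiv.swap 0 1 * Equiv.swap 1 2 * Equiv.swap 0 1 := by decide
    have hp : p ∈ φ.range := by
      rcases this p with h | h | h | h | h | h <;> rw [h]
      exacts [one_mem _, s01, s12, mul_mem s01 s12, mul_mem s12 s01, mul_mem (mul_mem s01 s12) s01]
    exact hp
  haveI hn : (K.subgroupOf C).Normal := hker ▸ φ.normal_ker
  refine ⟨hle, hn, ⟨(QuotientGroup.quotientMulEquivOfEq hker.symm).trans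
    (QuotientGroup.quotientKerEquivOfSurjective φ hsurj)⟩⟩

end Cfsg.Agent.Fischer.Factor
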