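import Mathlib
import Cfsg.Agent.Lib.Fischer.ProductFactor
import Cfsg.Agent.Lib.Fischer.Classes
import Cfsg.Agent.Lib.Classical.UnitaryStd
import Cfsg.Prelude.Def_FischerSpaces

set_option autoImplicit false

/-!
Groups of type M(22), M(23) and M(24): no relations of length four and six between commuting
transpositions.
-/

namespace Cfsg.Agent.Fischer.Factor

open Subgroup

section Psu

variable {F : Type} [Field F] [Fintype F]

/-- `PSU₆(2)` has no 2-core and is not commutative. -/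
theorem psu_six (hF : Fintype.card F = 4) :
    Cfsg.pCore 2 (Cfsg.PSU 6 F 2) = ⊥ ∧ ∃ x y : Cfsg.PSU 6 F 2, ¬ Commute x y := by
  obtain ⟨σ, -, hf, -⟩ := UnitaryStd.exists_setup (F := F) (q := 2) (n := 6)
    (by rw [hF]; norm_num) (by norm_num)
  haveI hs := UnitaryStd.isSimpleGroup_psu hf (by norm_num) (fun h => absurd h (by norm_num))
  have hperf : commutator ↥(Cfsg.SU 6 F 2) = ⊤ := by
    rw [eq_top_iff, ← UnitaryStd.closure_eq_top hf (by norm_num) (fun h => absurd h (by norm_num)),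
      commutator_eq_closure, Subgroup.closure_le]
    rintro A ⟨v, c, hv, hA⟩
    exact Subgroup.subset_closure (UnitaryStd.mem_commutatorSet hf (by norm_num) A hv hA)
  have hperf' : commutator (Cfsg.PSU 6 F 2) = ⊤ := by
    have h := congrArg (Subgroup.map (QuotientGroup.mk' (Subgroup.center ↥(Cfsg.SU 6 F 2)))) hperf
    rwa [commutator_def, Subgroup.map_commutator,
      Subgroup.map_top_of_surjective _ (QuotientGroup.mk'_surjective _), ← commutator_def] at h
  have hnc : ∃ x y : Cfsg.PSU 6 F 2, ¬ Commute x y := by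
    by_contra h
    push Not at h
    have hbot : commutator (Cfsg.PSU 6 F 2) = ⊥ := by
      rw [commutator_eq_closure, eq_bot_iff, Subgroup.closure_le]
      rintro _ ⟨a, b, rfl⟩
      exact commutatorElement_eq_one_iff_commute.2 (h a b)
    exact bot_ne_top (hbot.symm.trans hperf')
  refine ⟨?_, hnc⟩
  rcases ((Cfsg.pCore_normal 2 (Cfsg.PSU 6 F 2)).eq_bot_or_eq_top) with h | h
  · exact h
  haveI := Fact.mk Nat.prime_two
  haveI : Group.IsNilpotent (Cfsg.PSU 6 F 2) :=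
    (((PBasic.pCore_isPGroup 2 (Cfsg.PSU 6 F 2)).of_equiv
      ((MulEquiv.subgroupCongr h).trans Subgroup.topEquiv))).isNilpotent
  haveI : Nontrivial (Cfsg.PSU 6 F 2) := hs.toNontrivial
  exact absurd hperf' (Group.IsSolvable.commutator_lt_top_of_nontrivial _).ne

end Psu

universe u

variable {G : Type u} [Group G] [Finite G] {D : Set G}

theorem twinFree_of_core (hT : IsThreeTranspositionGroup D) (h2 : Cfsg.pCore 2 G = ⊥) :
    TwinFree D := by
  intro d v hd h
  have := h.mul_mem_pCore hT hd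
  rw [h2, Subgroup.mem_bot] at this
  rw [← TSet.inv hT.1 hd]
  exact eq_inv_of_mul_eq_one_right this

theorem pCore_quotient_center {p : ℕ} [hp : Fact p.Prime]
    (h : Cfsg.pCore p G ≤ Subgroup.center G) : Cfsg.pCore p (G ⧸ Subgroup.center G) = ⊥ := by
  set π := QuotientGroup.mk' (Subgroup.center G)
  set K := Cfsg.pCore p (G ⧸ Subgroup.center G)
  haveI : K.Normal := Cfsg.pCore_normal p _
  set N := K.comap π with hN
  haveI : N.Normal := Subgroup.Normal.comap inferInstance π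
  obtain ⟨P⟩ := (inferInstance : Nonempty (Sylow p ↥N))
  -- the image of a Sylow subgroup of the preimage is everything
  let f : ↥N →* ↥K := (π.comp N.subtype).codRestrict K (fun x => x.2)
  have hf : Function.Surjective f := by
    rintro ⟨y, hy⟩
    obtain ⟨x, rfl⟩ := QuotientGroup.mk'_surjective _ y
    exact ⟨⟨x, hy⟩, rfl⟩
  have hKp : IsPGroup p ↥K := PBasic.pCore_isPGroup p _
  have htop : (P : Subgroup ↥N).map f = ⊤ :=
    ((P.mapSurjective hf).is_maximal' (hKp.of_equiv Subgroup.topEquiv.symm) le_top).symm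
  have hPn : ((P : Subgroup ↥N)).Normal := by
    constructor
    intro x hx g
    obtain ⟨y, hy, hye⟩ : f g ∈ (P : Subgroup ↥N).map f := htop ▸ Subgroup.mem_top _
    have hz : (((y⁻¹ * g : ↥N)) : G) ∈ Subgroup.center G := by
      rw [← QuotientGroup.eq_one_iff]
      have := congrArg Subtype.val (show f (y⁻¹ * g) = 1 by rw [map_mul, map_inv, hye, inv_mul_cancel])
      exact this
    have hc : (y⁻¹ * g) * x = x * (y⁻¹ * g) :=
      Subtype.ext (Subgroup.mem_center_iff.1 hz (x : G)).symm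
    have : g * x * g⁻¹ = y * x * y⁻¹ := by
      calc g * x * g⁻¹ = y * ((y⁻¹ * g) * x) * g⁻¹ := by group
        _ = y * x * y⁻¹ := by rw [hc]; group
    rw [this]
    exact mul_mem (mul_mem hy hx) (inv_mem hy)
  haveI : ((P : Subgroup ↥N)).Characteristic := Sylow.characteristic_of_normal P hPn
  have hle : (P : Subgroup ↥N).map N.subtype ≤ Subgroup.center G :=
    (PBasic.le_pCore inferInstance (P.isPGroup'.map _)).trans h
  refine eq_bot_iff.2 fun y hy => ?_
  obtain ⟨x, hx, hxe⟩ : (⟨y, hy⟩ : ↥K) ∈ (P : Subgroup ↥N).map f := htop ▸ Subgroup.mem_top _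
  rw [Subgroup.mem_bot, ← show π (x : G) = y from congrArg Subtype.val hxe]
  exact (QuotientGroup.eq_one_iff _).2 (hle ⟨x, hx, rfl⟩)

/-- The cores below the centre at one member give it at every member. -/
theorem core_transport (hT : IsThreeTranspositionGroup D) (htr : Trans D) {p : ℕ} {d₀ d : G}
    (hd₀ : d₀ ∈ D) (hd : d ∈ D)
    (h : Cfsg.pCore p ↥(Subgroup.closure (Nb D d₀)) ≤ Subgroup.center _) :
    Cfsg.pCore p ↥(Subgroup.closure (Nb D d)) ≤ Subgroup.center _ := by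
  obtain ⟨g, hg⟩ := htr d₀ hd₀ d hd
  have hmap : (Subgroup.closure (Nb D d₀)).map (MulAut.conj g).toMonoidHom =
      Subgroup.closure (Nb D d) := by
    rw [MonoidHom.map_closure]
    congr 1
    ext y
    constructor
    · rintro ⟨z, hz, rfl⟩
      exact hg ▸ nb_conj hT g hz
    · intro hy
      refine ⟨g⁻¹ * y * g, ?_, by simp [mul_assoc]⟩
      have := nb_conj hT g⁻¹ hy
      rwa [inv_inv, ← hg, show g⁻¹ * (g * d₀ * g⁻¹) * g = d₀ by group] at this
  set e : ↥(Subgroup.closure (Nb D d₀)) ≃* ↥(Subgroup.closure (Nb D d)) :=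
    (MulEquiv.subgroupMap (MulAut.conj g) (Subgroup.closure (Nb D d₀))).trans
      (MulEquiv.subgroupCongr hmap)
  rw [← PBasic.map_pCore_equiv e]
  rintro _ ⟨x, hx, rfl⟩
  refine Subgroup.mem_center_iff.2 fun y => ?_
  obtain ⟨z, rfl⟩ := e.surjective y
  show e z * e x = e x * e z
  rw [← map_mul, ← map_mul, Subgroup.mem_center_iff.1 (h hx) z]

/-- Every two non-commuting members have a common neighbour. -/
def Common (D : Set G) : Prop :=
  ∀ b ∈ D, ∀ y ∈ D, ¬ Commute b y → ∃ r ∈ D, Commute r b ∧ Commute r y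

/-- One common edge forces a common edge at every common neighbour. -/
theorem common_img (hT : IsThreeTranspositionGroup D) (hprim : Cfsg.IsPrimitiveUnderConj D)
    (hfree : TwinFree D) {p q d e : G} (hp : p ∈ D) (hq : q ∈ D) (hd : d ∈ D) (he : e ∈ D)
    (hpq : ¬ Commute p q) (hde : d ≠ e) (cde : Commute d e) (cdp : Commute d p) (cdq : Commute d q)
    (cep : Commute e p) (ceq : Commute e q) {r : G} (hr : r ∈ D) : Common (img D r) := by
  rintro _ ⟨b, hb, rfl⟩ _ ⟨y, hy, rfl⟩ hby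
  have hby' : ¬ Commute (b : G) (y : G) := fun h => hby ((mk_commute_iff hT.1 hb.1 hy.1).2 h)
  obtain ⟨g, hg⟩ := hprim.1 p hp b hb.1
  have hnc : ¬ Commute (b : G) (g * q * g⁻¹) := fun h => hpq (by rwa [← hg, commute_conj_iff] at h)
  obtain ⟨m, hm, hmy⟩ := prim_trans_noncommuting hT hprim ⟨d, hd, e, he, hde, cde⟩ hb.1
    (g * q * g⁻¹) (hT.2.1 g q hq) y hy.1 hnc hby'
  set k := m * g with hk
  have hkp : k * p * k⁻¹ = b := by
    rw [hk, show m * g * p * (m * g)⁻¹ = m * (g * p * g⁻¹) * m⁻¹ by group, hg,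
      conj_eq_self_of_commute (commute_of_mem_commClosure hm)]
  have hkq : k * q * k⁻¹ = y := by
    rw [hk, show m * g * q * (m * g)⁻¹ = m * (g * q * g⁻¹) * m⁻¹ by group, hmy]
  -- a common edge of `b, y`
  have cof : ∀ {z : G}, Commute z p → Commute z q →
      Commute (k * z * k⁻¹) b ∧ Commute (k * z * k⁻¹) y := fun h1 h2 =>
    ⟨hkp ▸ (commute_conj_iff k _ _).2 h1, hkq ▸ (commute_conj_iff k _ _).2 h2⟩
  have hrb : Commute r (b : G) := hb.2.2
  have hry : Commute r (y : G) := hy.2.2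
  obtain ⟨s, hs, hsr, crs, csb, csy⟩ : ∃ s ∈ D, s ≠ r ∧ Commute r s ∧ Commute s b ∧ Commute s y := by
    set g₁ := k * d * k⁻¹ with hg₁
    set s₁ := k * e * k⁻¹ with hs₁
    have hg₁D : g₁ ∈ D := hT.2.1 k d hd
    have hs₁D : s₁ ∈ D := hT.2.1 k e he
    have hne : s₁ ≠ g₁ := fun h => hde ((mul_left_cancel (mul_right_cancel h)).symm)
    have hc : Commute g₁ s₁ := (commute_conj_iff k d e).2 cde
    by_cases hrg : r = g₁
    · exact ⟨s₁, hs₁D, hrg ▸ hne, hrg ▸ hc, cof cep ceq⟩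
    by_cases hcr : Commute r g₁
    · exact ⟨g₁, hg₁D, Ne.symm hrg, hcr, cof cdp cdq⟩
    have hmove := TSet.conj_swap hT.1 hg₁D hr (fun h => hcr h.symm)
    have fx : ∀ z : G, Commute g₁ z → Commute r z → g₁ * r * z * (g₁ * r)⁻¹ = z := fun z h1 h2 =>
      conj_eq_self_of_commute (h1.mul_left h2)
    refine ⟨g₁ * r * s₁ * (g₁ * r)⁻¹, hT.2.1 _ _ hs₁D, fun h => hne ?_, ?_, ?_, ?_⟩
    · rw [← hmove] at h
      exact mul_left_cancel (mul_right_cancel (h.trans (by rw [hmove]; exact hmove.symm)))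
    · conv_lhs => rw [← hmove]
      exact (commute_conj_iff _ g₁ s₁).2 hc
    · rw [← fx b (cof cdp cdq).1 hrb]
      exact (commute_conj_iff _ s₁ b).2 (cof cep ceq).1
    · rw [← fx y (cof cdp cdq).2 hry]
      exact (commute_conj_iff _ s₁ y).2 (cof cep ceq).2
  refine ⟨QuotientGroup.mk ⟨s, nb_subset (⟨hs, hsr, crs⟩ : s ∈ Nb D r)⟩,
    ⟨_, (⟨hs, hsr, crs⟩ : s ∈ Nb D r), rfl⟩, ?_, ?_⟩
  · exact (mk_commute_iff hT.1 hs hb.1).2 csb
  · exact (mk_commute_iff hT.1 hs hy.1).2 csy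

theorem connected_of_common (hT : IsThreeTranspositionGroup D) (hne : D.Nonempty) (hc : Common D) :
    (Cfsg.commutingGraph D).Connected := by
  haveI : Nonempty D := hne.to_subtype
  refine ⟨fun a b => ?_⟩
  have adj : ∀ x y : D, Commute (x : G) y → (Cfsg.commutingGraph D).Reachable x y := by
    intro x y h
    by_cases e : x = y
    · rw [e]
    · refine SimpleGraph.Adj.reachable ?_
      rw [Cfsg.commutingGraph, SimpleGraph.fromRel_adj]
      exact ⟨e, Or.inl h⟩
  by_cases h : Commute (a : G) b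
  · exact adj a b h
  obtain ⟨r, hr, h1, h2⟩ := hc a a.2 b b.2 h
  exact (adj a ⟨r, hr⟩ h1.symm).trans (adj ⟨r, hr⟩ b h2)

theorem toClass' (hT : IsThreeTranspositionGroup D) (htr : Trans D) (hne : D.Nonempty) :
    IsThreeTranspositionClass D := by
  obtain ⟨d, hd⟩ := hne
  refine ⟨hT.1, ⟨d, hd, Set.Subset.antisymm (fun x hx => ?_) fun x hx => ?_⟩, hT.2.2⟩
  · obtain ⟨g, hg⟩ := htr d hd x hx
    exact isConj_iff.2 ⟨g, hg⟩
  · obtain ⟨g, rfl⟩ := isConj_iff.1 hx
    exact hT.2.1 g d hd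

theorem primitive_of_common (hT : IsThreeTranspositionGroup D) (htr : Trans D) (hc : Common D)
    (h2D : ∃ a ∈ D, ∃ b ∈ D, a ≠ b) (h2 : Cfsg.pCore 2 G = ⊥) (h3 : Cfsg.pCore 3 G = ⊥) :
    Cfsg.IsPrimitiveUnderConj D := by
  obtain ⟨a, ha, -⟩ := id h2D
  have hcl := toClass' hT htr ⟨a, ha⟩
  have e2 : Cfsg.pCore 2 G ≤ Subgroup.center G := h2 ▸ bot_le
  have e3 : Cfsg.pCore 3 G ≤ Subgroup.center G := h3 ▸ bot_le
  obtain ⟨L, hL⟩ := TClass.exists_component hcl h2D e2 e3
  exact TClass.primitive_of_index hcl h2D e2 e3 hL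
    (TClass.index_le_two_of_connected hcl hL (connected_of_common hT ⟨a, ha⟩ hc))

/-- Without centre, with common neighbours and a twin-free quotient at one member: no twins. -/
theorem twinFree_of_common (hT : IsThreeTranspositionGroup D) (htr : Trans D) (hc : Common D)
    (hz : Subgroup.center G = ⊥) {f : G} (hf : f ∈ D) (hq : Cfsg.pCore 2 (Q D f) = ⊥) :
    TwinFree D := by
  intro d v hd h
  by_contra hne
  have hdv : Commute d v := h.commute
  suffices hcen : d * v ∈ Subgroup.center G by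
    rw [hz, Subgroup.mem_bot] at hcen
    exact hne ((eq_inv_of_mul_eq_one_right hcen).trans (TSet.inv hT.1 hd))
  refine mem_center_of_commute_gen hT.2.2 fun y hy => ?_
  by_cases hdy : Commute d y
  · exact hdy.mul_left ((h.2 y hy).2 hdy)
  obtain ⟨r, hr, hrd, hry⟩ := hc d hd y hy hdy
  have hrv : Commute r v := ((h.2 r hr).2 hrd.symm).symm
  have hne_d : d ≠ r := fun e => hdy (e ▸ hry)
  have hne_v : v ≠ r := fun e => hdy ((h.2 y hy).1 (e ▸ hry))
  have hne_y : y ≠ r := fun e => hdy (e ▸ hrd.symm)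
  obtain ⟨g, hg⟩ := htr r hr f hf
  have hnb : ∀ {z : G}, z ∈ D → z ≠ r → Commute r z → g * z * g⁻¹ ∈ Nb D f := fun hzD hzr hcz =>
    hg ▸ nb_conj hT g ⟨hzD, hzr, hcz⟩
  have h' := h.conj hT.2.1 g
  set d' := g * d * g⁻¹
  set v' := g * v * g⁻¹
  set y' := g * y * g⁻¹
  have hd' : d' ∈ Nb D f := hnb hd hne_d hrd.symm.symm
  have hv' : v' ∈ Nb D f := hnb h.1 hne_v hrv
  have hy' : y' ∈ Nb D f := hnb hy hne_y hry
  set D' : ↥(Subgroup.closure (Nb D f)) := ⟨d', nb_subset hd'⟩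
  set V' : ↥(Subgroup.closure (Nb D f)) := ⟨v', nb_subset hv'⟩
  set Y' : ↥(Subgroup.closure (Nb D f)) := ⟨y', nb_subset hy'⟩
  have hdy' : ¬ Commute d' y' := fun e => hdy ((commute_conj_iff g d y).1 e)
  have n1 : (QuotientGroup.mk D' : Q D f) ≠ 1 := fun e => hdy' ((mk_eq_one_iff D').1 e y' hy')
  have n2 : (QuotientGroup.mk V' : Q D f) ≠ 1 := fun e =>
    hdy' ((h'.2 y' hy'.1).1 ((mk_eq_one_iff V').1 e y' hy'))
  have hsame : SameComm (img D f \ {1}) (QuotientGroup.mk D' : Q D f) (QuotientGroup.mk V') := by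
    refine ⟨⟨⟨V', hv', rfl⟩, n2⟩, ?_⟩
    rintro _ ⟨⟨x, hx, rfl⟩, -⟩
    rw [mk_commute_iff hT.1 hv'.1 hx.1, mk_commute_iff hT.1 hd'.1 hx.1]
    exact h'.2 x hx.1
  have hm := hsame.mul_mem_pCore (img_tset hT f) ⟨⟨D', hd', rfl⟩, n1⟩
  rw [hq, Subgroup.mem_bot, ← QuotientGroup.mk_mul] at hm
  have := (mk_eq_one_iff _).1 hm y' hy'
  rw [Subgroup.coe_mul] at this
  exact (commute_conj_iff g (d * v) y).1 (by rwa [show g * (d * v) * g⁻¹ = d' * v' by
    simp only [d', v']; group])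

theorem core_of_iso {X Y : Type*} [Group X] [Group Y] {p : ℕ} (e : X ≃* Y)
    (h : Cfsg.pCore p Y = ⊥) : Cfsg.pCore p X = ⊥ := by
  rw [← PBasic.map_pCore_equiv e.symm, h, Subgroup.map_bot]

omit [Finite G] in
theorem exists_nc_nb {d : G} (h : ∃ x y : Q D d, ¬ Commute x y) :
    ∃ p ∈ Nb D d, ∃ q ∈ Nb D d, ¬ Commute p q := by
  by_contra hall
  push Not at hall
  obtain ⟨x, y, hxy⟩ := h
  haveI := Subgroup.isMulCommutative_closure (k := Nb D d) hall
  obtain ⟨a, rfl⟩ := QuotientGroup.mk_surjective x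
  obtain ⟨b, rfl⟩ := QuotientGroup.mk_surjective y
  exact hxy (Commute.map (mul_comm' a b) (QuotientGroup.mk' _))

/-- The facts at the U₆(2) level. -/
theorem m22_facts (h : Cfsg.IsOfTypeM22 G D) :
    Subgroup.center G = ⊥ ∧ ∃ f ∈ D, Cfsg.pCore 2 (Q D f) = ⊥ ∧
      ∃ p ∈ Nb D f, ∃ q ∈ Nb D f, ¬ Commute p q := by
  obtain ⟨hz, d, hd, c, -, -, ⟨F, iF, iFF, hF, ⟨e⟩⟩, -⟩ := h
  obtain ⟨h2, x, y, hxy⟩ := psu_six hF
  refine ⟨hz, d, hd, core_of_iso e h2, exists_nc_nb ⟨e.symm x, e.symm y, fun h => hxy ?_⟩⟩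
  have := congrArg e h.eq
  exact ((congrArg₂ (· * ·) (e.apply_symm_apply x).symm (e.apply_symm_apply y).symm).trans
    ((e.map_mul' _ _).symm.trans (this.trans ((e.map_mul' _ _).trans
      (congrArg₂ (· * ·) (e.apply_symm_apply y) (e.apply_symm_apply x))))))

end Cfsg.Agent.Fischer.Factor
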