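import Mathlib
import Cfsg.Agent.Lib.Fischer.TypeMFactor

set_option autoImplicit false

/-!
Products of at most three commuting transpositions in groups of type M(23) and M(24) determine
their factors.
-/

namespace Cfsg.Agent.Fischer.Factor

open Subgroup

variable {G : Type*} [Group G] [Finite G] {D : Set G}

omit [Finite G] in
theorem img_lift {d : G} {z : Q D d} (hz : z ∈ img D d) :
    ∃ x : ↥(Subgroup.closure (Nb D d)), (x : G) ∈ Nb D d ∧ (QuotientGroup.mk x : Q D d) = z := hz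

/-- Relations of length four and six are absent. -/
theorem noRel_four_six (hD : IsThreeTranspositionGroup D) (hprim : Cfsg.IsPrimitiveUnderConj D)
    {d₀ : G} (hd₀ : d₀ ∈ D)
    (h3 : Cfsg.pCore 3 ↥(Subgroup.closure (Nb D d₀)) ≤ Subgroup.center ↥(Subgroup.closure (Nb D d₀)))
    (h2 : Cfsg.pCore 2 ↥(Subgroup.closure (Nb D d₀)) ≤ Subgroup.center ↥(Subgroup.closure (Nb D d₀)))
    (h : Cfsg.IsOfTypeM23 G D ∨ Cfsg.IsOfTypeM24 G D) : NoRel D 4 ∧ NoRel D 6 := by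
  have hfree : TwinFree D := fun d v hd hs => prim_sameComm_trivial hD hprim hd hs
  refine ⟨noRel_four hD.1 hfree, ?_⟩
  have htr : Trans D := hprim.1
  have cores : ∀ d ∈ D, Cfsg.pCore 2 (Q D d) = ⊥ ∧ Cfsg.pCore 3 (Q D d) = ⊥ := fun d hd =>
    ⟨pCore_quotient_center (core_transport hD htr hd₀ hd h2),
      pCore_quotient_center (core_transport hD htr hd₀ hd h3)⟩
  -- the first quotient
  have step : ∀ d ∈ D, (∃ p, p ∈ Nb D d) → IsThreeTranspositionGroup (img D d) ∧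
      Trans (img D d) ∧ TwinFree (img D d) := by
    rintro d hd ⟨p, hp⟩
    have hT := img_group hD htr hfree hd
    have hw : ∃ a ∈ D, ∃ b ∈ D, a ≠ b ∧ Commute a b := ⟨d, hd, p, hp.1, hp.2.1.symm, hp.2.2⟩
    exact ⟨hT, img_trans (prim_trans_commuting hD hprim hw hd),
      twinFree_of_core hT (cores d hd).1⟩
  rcases h with ⟨-, d, hd, c, -, -, h22, -⟩ | ⟨-, d, hd, c, -, -, h23, -⟩
  · have h22' : Cfsg.IsOfTypeM22 (Q D d) (img D d) := h22
    obtain ⟨-, f, hf, hq, p, hp, q, hqn, hpq⟩ := m22_facts h22'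
    obtain ⟨x, hx, rfl⟩ := img_lift hf
    obtain ⟨hT, htr1, hfree1⟩ := step d hd ⟨x, hx⟩
    have hT2 := img_group hT htr1 hfree1 (show (QuotientGroup.mk x : Q D d) ∈ img D d from hf)
    exact noRel_step hD htr hfree hd (noRel_step hT htr1 hfree1 hf
      (noRel_four hT2.1 (twinFree_of_core hT2 hq)))
  · have h23' : Cfsg.IsOfTypeM23 (Q D d) (img D d) := h23
    obtain ⟨-, e, he, c', -, -, h22, -⟩ := h23'
    have h22' : Cfsg.IsOfTypeM22 (Q (img D d) e) (img (img D d) e) := h22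
    obtain ⟨hz2, f, hf, hq, p, hp, q, hqn, hpq⟩ := m22_facts h22'
    obtain ⟨E, hE, rfl⟩ := img_lift he
    obtain ⟨hT, htr1, hfree1⟩ := step d hd ⟨E, hE⟩
    -- an edge common to two non-commuting members of the first quotient
    obtain ⟨P₂, hP₂, rfl⟩ := img_lift hp.1
    obtain ⟨Q₂, hQ₂, rfl⟩ := img_lift hqn.1
    obtain ⟨F₂, hF₂, rfl⟩ := img_lift hf
    have hpq1 : ¬ Commute (P₂ : Q D d) (Q₂ : Q D d) := fun h =>
      hpq ((mk_commute_iff hT.1 hP₂.1 hQ₂.1).2 h)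
    have cfp := (mk_commute_iff hT.1 hF₂.1 hP₂.1).1 hp.2.2
    have cfq := (mk_commute_iff hT.1 hF₂.1 hQ₂.1).1 hqn.2.2
    -- lift it to `G`
    obtain ⟨P₁, hP₁, ep⟩ := img_lift hP₂.1
    obtain ⟨Q₁, hQ₁, eq⟩ := img_lift hQ₂.1
    have cEP : Commute (E : G) P₁ := (mk_commute_iff hD.1 hE.1 hP₁.1).1 (ep ▸ hP₂.2.2)
    have cEQ : Commute (E : G) Q₁ := (mk_commute_iff hD.1 hE.1 hQ₁.1).1 (eq ▸ hQ₂.2.2)
    have hpq0 : ¬ Commute (P₁ : G) (Q₁ : G) := fun h =>
      hpq1 (ep ▸ eq ▸ (mk_commute_iff hD.1 hP₁.1 hQ₁.1).2 h)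
    have hcom1 : Common (img D d) := common_img hD hprim hfree hP₁.1 hQ₁.1 hd hE.1 hpq0
      hE.2.1.symm hE.2.2 hP₁.2.2 hQ₁.2.2 cEP cEQ hd
    have hprim1 : Cfsg.IsPrimitiveUnderConj (img D d) := primitive_of_common hT htr1 hcom1
      ⟨_, hP₂.1, _, hQ₂.1, not_commute_ne hpq1⟩ (cores d hd).1 (cores d hd).2
    have he1 : (QuotientGroup.mk E : Q D d) ∈ img D d := he
    have hT2 := img_group hT htr1 hfree1 he1
    have htr2 : Trans (img (img D d) (QuotientGroup.mk E : Q D d)) :=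
      img_trans (prim_trans_commuting hT hprim1
        ⟨_, he1, _, hF₂.1, hF₂.2.1.symm, hF₂.2.2⟩ he1)
    have hcom2 : Common (img (img D d) (QuotientGroup.mk E : Q D d)) :=
      common_img hT hprim1 hfree1 hP₂.1 hQ₂.1 he1 hF₂.1 hpq1 hF₂.2.1.symm hF₂.2.2
        hP₂.2.2 hQ₂.2.2 cfp cfq he1
    have hfree2 := twinFree_of_common hT2 htr2 hcom2 hz2 hf hq
    exact noRel_step hD htr hfree hd (noRel_step hT htr1 hfree1 he1 (noRel_four hT2.1 hfree2))

end Cfsg.Agent.Fischer.Factor
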