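import Cfsg.Agent.Lib.Fischer.WidthOneOrbit
import Cfsg.Agent.Lib.Involutions.BaerSuzuki
import Cfsg.Prelude.Def_FischerSpaces
import Mathlib.GroupTheory.Sylow
import Mathlib.GroupTheory.Nilpotent

set_option autoImplicit false

/-!
An invariant set of involutions in a finite group, any two members of which satisfy the braid
relation, has all products of two members in the largest normal 3-subgroup.
-/

namespace Cfsg.Agent.Fischer.Orbit81

/-- Coordinates of the 81 points. -/
abbrev Pt : Type := (ZMod 3 × ZMod 3 × ZMod 3) × ZMod 3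

/-- Position of a point in the table. -/
def code (x : Pt) : ℕ := ((x.1.1.val * 3 + x.1.2.1.val) * 3 + x.1.2.2.val) * 3 + x.2.val

/-- Coordinates of the generators. -/
def base : Fin 4 → ZMod 3 × ZMod 3 × ZMod 3 :=
  ![(0, 0, 0), (1, 0, 0), (0, 1, 0), (0, 0, 1)]

/-- The twist of the Hall triple system. -/
def twist (x y : ZMod 3 × ZMod 3 × ZMod 3) : ZMod 3 :=
  (x.1 - y.1) * (x.2.1 * y.2.2 - x.2.2 * y.2.1)

/-- Reflection in a generator. -/
def act (k : Fin 4) (x : Pt) : Pt :=
  (-x.1 - base k, -x.2 + twist x.1 (base k))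

theorem index_lt (x : Pt) : index (code x) < 81 := by
  revert x; decide

theorem tab_act (k : Fin 4) (x : Pt) :
    tab k (index (code x)) = index (code (act k x)) := by
  revert k x; decide

theorem index_base (k : Fin 4) : index (code (base k, 0)) = k := by
  revert k; decide

variable {G : Type*} [Group G] {p : ℕ → G}

/-- The points in coordinates. -/
def pt (p : ℕ → G) (x : Pt) : G := Q p (index (code x))

theorem pt_base (p : ℕ → G) (k : Fin 4) : pt p (base k, 0) = p k := by
  rw [pt, index_base]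
  fin_cases k <;> rfl

theorem cj_pt (h : Setup p) (k : Fin 4) (x : Pt) : cj p k (pt p x) = pt p (act k x) := by
  rw [pt, pt, ← tab_act]
  fin_cases k
  · exact edge0 h _ (index_lt x)
  · exact edge1 h _ (index_lt x)
  · exact edge2 h _ (index_lt x)
  · exact edge3 h _ (index_lt x)

/-- The product of two generators as a permutation of the points. -/
def twoPerm (a b : Fin 4) : Equiv.Perm Pt where
  toFun x := act a (act b x)
  invFun x := act b (act a x)
  left_inv := by revert a b; decide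
  right_inv := by revert a b; decide

/-- Permutations that are translations on the base with a shift in each fibre. -/
def shiftGroup : Subgroup (Equiv.Perm Pt) where
  carrier := {σ | ∃ (c : ZMod 3 × ZMod 3 × ZMod 3) (f : ZMod 3 × ZMod 3 × ZMod 3 → ZMod 3),
    ∀ x : Pt, σ x = (x.1 + c, x.2 + f x.1)}
  one_mem' := ⟨0, 0, fun x => by simp⟩
  mul_mem' := by
    rintro σ τ ⟨c, f, hσ⟩ ⟨d, g, hτ⟩
    refine ⟨d + c, fun v => g v + f (v + d), fun x => ?_⟩
    rw [Equiv.Perm.mul_apply, hτ, hσ]
    exact Prod.ext (add_assoc _ _ _) (add_assoc _ _ _)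
  inv_mem' := by
    rintro σ ⟨c, f, hσ⟩
    refine ⟨-c, fun v => -f (v - c), fun x => ?_⟩
    apply σ.injective
    rw [← Equiv.Perm.mul_apply, mul_inv_cancel, Equiv.Perm.one_apply, hσ]
    simp [sub_eq_add_neg]

theorem isPGroup_shiftGroup : IsPGroup 3 shiftGroup := by
  rintro ⟨σ, c, f, hσ⟩
  refine ⟨2, Subtype.ext (Equiv.ext fun x => ?_)⟩
  have h3 : ∀ y : Pt, (σ ^ 3) y = (y.1, y.2 + (f y.1 + f (y.1 + c) + f (y.1 + c + c))) := by
    intro y
    have hc : c + c + c = 0 := by
      have : ∀ u : ZMod 3 × ZMod 3 × ZMod 3, u + u + u = 0 := by decide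
      exact this c
    simp only [pow_succ, pow_zero, one_mul, Equiv.Perm.mul_apply, hσ]
    refine Prod.ext ?_ ?_
    · simp [add_assoc, ← add_assoc c c c, hc]
    · simp [add_assoc]
  have h9 : ((σ ^ 3) ^ 3) x = x := by
    simp only [pow_succ (σ ^ 3), pow_zero, one_mul, Equiv.Perm.mul_apply, h3]
    refine Prod.ext rfl ?_
    generalize f x.1 + f (x.1 + c) + f (x.1 + c + c) = t
    show x.2 + t + t + t = x.2
    rw [add_assoc, add_assoc, ← add_assoc t t t]
    have : t + t + t = 0 := (by decide : ∀ u : ZMod 3, u + u + u = 0) t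
    rw [this, add_zero]
  simpa [← pow_mul] using h9

theorem twoPerm_mem (a b : Fin 4) : twoPerm a b ∈ shiftGroup := by
  refine ⟨base b - base a, fun v => twist (-v - base b) (base a) - twist v (base b), fun x => ?_⟩
  refine Prod.ext ?_ ?_
  · show -(-x.1 - base b) - base a = x.1 + (base b - base a)
    abel
  · show -(-x.2 + twist x.1 (base b)) + twist (-x.1 - base b) (base a) = _
    abel

theorem cube_eq_one (h : Setup p) (i j : ℕ) : (p i * p j) ^ 3 = 1 := by
  obtain ⟨D, h1, h2, -, h4⟩ := h.exists_set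
  calc (p i * p j) ^ 3 = (p i * p j * p i) * (p j * p i * p j) := by
        simp only [pow_succ, pow_zero, one_mul, mul_assoc]
    _ = (p i * p j * p i) * (p i * p j * p i) := by rw [h2 _ (h4 j) _ (h4 i)]
    _ = 1 := by
      simp only [mul_assoc]
      rw [← mul_assoc (p i) (p i), h.sq, one_mul, ← mul_assoc (p j) (p j), h.sq, one_mul, h.sq]

/-- A nilpotent finite group generated by elements killed by a power of `3` is a 3-group. -/
theorem isPGroup_closure_of_nilpotent {H : Type*} [Group H] [Finite H] {S : Set H}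
    [Group.IsNilpotent (Subgroup.closure S)] (h : ∀ s ∈ S, s ^ 3 = 1) :
    IsPGroup 3 (Subgroup.closure S) := by
  haveI : Fact (Nat.Prime 3) := ⟨Nat.prime_three⟩
  obtain ⟨P⟩ : Nonempty (Sylow 3 (Subgroup.closure S)) := inferInstance
  have hn : (P : Subgroup (Subgroup.closure S)).Normal := inferInstance
  have hle : Subgroup.closure ((↑) ⁻¹' S : Set (Subgroup.closure S)) ≤
      (P : Subgroup (Subgroup.closure S)) := by
    rw [Subgroup.closure_le]
    rintro ⟨s, hs'⟩ hs
    have hp : IsPGroup 3 (Subgroup.zpowers (⟨s, hs'⟩ : Subgroup.closure S)) := by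
      rintro ⟨u, k, rfl⟩
      refine ⟨1, Subtype.ext (Subtype.ext ?_)⟩
      show (s ^ k) ^ 3 ^ 1 = 1
      rw [pow_one, ← zpow_natCast, ← zpow_mul, mul_comm, zpow_mul, zpow_natCast, h s hs, one_zpow]
    obtain ⟨P', hP'⟩ := hp.exists_le_sylow
    have := Sylow.unique_of_normal P hn
    rw [Subsingleton.elim P P']
    exact hP' (Subgroup.mem_zpowers _)
  rw [Subgroup.closure_closure_coe_preimage, top_le_iff] at hle
  exact (P.2.to_le (le_of_eq hle.symm) :
    IsPGroup 3 (⊤ : Subgroup (Subgroup.closure S))).of_equiv Subgroup.topEquiv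

theorem fourPoint [Finite G] (h : Setup p) (hgen : Subgroup.closure (Set.range p) = ⊤)
    (hp : ∀ n, ∃ k : Fin 4, p n = p k) :
    IsPGroup 3 (Subgroup.closure ({p 0 * p 1, p 2 * p 3} : Set G)) := by
  set T : Subgroup (G × Equiv.Perm Pt) :=
    Subgroup.closure {(p 0 * p 1, twoPerm 0 1), (p 2 * p 3, twoPerm 2 3)} with hT
  have hinv : ∀ y ∈ T, ∀ x, y.1 * pt p x * y.1⁻¹ = pt p (y.2 x) := by
    intro y hy
    induction hy using Subgroup.closure_induction with
    | mem z hz =>
      intro x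
      have key : ∀ a b : Fin 4,
          p a * p b * pt p x * (p a * p b)⁻¹ = pt p (twoPerm a b x) := by
        intro a b
        show _ = pt p (act a (act b x))
        rw [← cj_pt h, ← cj_pt h, mul_inv_rev, inv_eq_of_mul_eq_one_right (h.sq a),
          inv_eq_of_mul_eq_one_right (h.sq b), cj, cj]
        simp only [mul_assoc]
      rcases hz with rfl | rfl
      · exact key 0 1
      · exact key 2 3
    | one => intro x; simp
    | mul u v _ _ hu hv =>
      intro x
      show u.1 * v.1 * pt p x * (u.1 * v.1)⁻¹ = pt p (u.2 (v.2 x))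
      rw [← hu, ← hv]
      group
    | inv u _ hu =>
      intro x
      show u.1⁻¹ * pt p x * u.1⁻¹⁻¹ = pt p (u.2⁻¹ x)
      have := hu (u.2⁻¹ x)
      rw [← Equiv.Perm.mul_apply, mul_inv_cancel, Equiv.Perm.one_apply] at this
      rw [← this]
      group
  have hsnd : ∀ y ∈ T, y.2 ∈ shiftGroup := by
    intro y hy
    induction hy using Subgroup.closure_induction with
    | mem z hz =>
      rcases hz with rfl | rfl
      · exact twoPerm_mem 0 1
      · exact twoPerm_mem 2 3
    | one => exact one_mem _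
    | mul u v _ _ hu hv => exact mul_mem hu hv
    | inv u _ hu => exact inv_mem hu
  let φ : T →* shiftGroup := MonoidHom.codRestrict
    ((MonoidHom.snd G (Equiv.Perm Pt)).comp T.subtype) shiftGroup fun y => hsnd y y.2
  have hker : φ.ker ≤ Subgroup.center T := by
    rintro ⟨⟨g, σ⟩, hy⟩ hk
    have hσ : σ = 1 := congrArg Subtype.val (MonoidHom.mem_ker.1 hk)
    subst hσ
    have hc : ∀ g' : G, g' * g = g * g' := by
      intro g'
      refine (Subgroup.mem_center_iff.1 ?_ g')
      refine mem_center_of_commute_gen hgen ?_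
      rintro _ ⟨n, rfl⟩
      obtain ⟨k, hk⟩ := hp n
      have h1 := hinv _ hy (base k, 0)
      simp only [Equiv.Perm.one_apply, pt_base, ← hk] at h1
      exact mul_inv_eq_iff_eq_mul.1 h1
    rw [Subgroup.mem_center_iff]
    rintro ⟨⟨g', σ'⟩, hy'⟩
    exact Subtype.ext (Prod.ext (hc g') (by simp))
  haveI : Group.IsNilpotent shiftGroup := by
    haveI : Fact (Nat.Prime 3) := ⟨Nat.prime_three⟩
    exact isPGroup_shiftGroup.isNilpotent
  haveI hTn : Group.IsNilpotent T := Subgroup.isNilpotent_of_ker_le_center φ hker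
  have hperm : twoPerm 0 1 ^ 3 = 1 ∧ twoPerm 2 3 ^ 3 = 1 :=
    ⟨Equiv.ext (by decide), Equiv.ext (by decide)⟩
  have hT3 : IsPGroup 3 T := by
    haveI : Group.IsNilpotent (Subgroup.closure
      ({(p 0 * p 1, twoPerm 0 1), (p 2 * p 3, twoPerm 2 3)} : Set (G × Equiv.Perm Pt))) := hTn
    refine isPGroup_closure_of_nilpotent ?_
    rintro y (rfl | rfl)
    · exact Prod.ext (cube_eq_one h 0 1) hperm.1
    · exact Prod.ext (cube_eq_one h 2 3) hperm.2
  have hmap := hT3.map (MonoidHom.fst G (Equiv.Perm Pt))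
  refine hmap.to_le ?_
  rw [Subgroup.closure_le]
  rintro z (rfl | rfl)
  · exact ⟨(p 0 * p 1, twoPerm 0 1), Subgroup.subset_closure (Or.inl rfl), rfl⟩
  · exact ⟨(p 2 * p 3, twoPerm 2 3), Subgroup.subset_closure (Or.inr rfl), rfl⟩

end Cfsg.Agent.Fischer.Orbit81

namespace Cfsg.Agent.Fischer

variable {G : Type*} [Group G]

/-- Two products of two members of a width-one invariant set generate a 3-group. -/
theorem braidSet.isPGroup_pair [Finite G] {D : Set G} (h2 : ∀ d ∈ D, d * d = 1)
    (hbr : ∀ a ∈ D, ∀ b ∈ D, a * b * a = b * a * b)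
    (hcl : ∀ a ∈ D, ∀ b ∈ D, a * b * a ∈ D) {a b c e : G} (ha : a ∈ D) (hb : b ∈ D)
    (hc : c ∈ D) (he : e ∈ D) : IsPGroup 3 (Subgroup.closure ({a * b, c * e} : Set G)) := by
  set H := Subgroup.closure ({a, b, c, e} : Set G) with hH
  have hm : ∀ z ∈ ({a, b, c, e} : Set G), z ∈ H := fun z hz => Subgroup.subset_closure hz
  let p : ℕ → H
    | 0 => ⟨a, hm a (by simp)⟩
    | 1 => ⟨b, hm b (by simp)⟩
    | 2 => ⟨c, hm c (by simp)⟩
    | _ => ⟨e, hm e (by simp)⟩
  have hpD : ∀ k, ((p k : H) : G) ∈ D := by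
    rintro (_ | _ | _ | _) <;> assumption
  have hs : Orbit81.Setup p := ⟨⟨{z : H | (z : G) ∈ D},
    fun d hd => Subtype.ext (h2 d hd), fun x hx y hy => Subtype.ext (hbr x hx y hy),
    fun x hx y hy => hcl x hx y hy, hpD⟩⟩
  have hgen : Subgroup.closure (Set.range p) = ⊤ := by
    refine top_le_iff.1 ?_
    rw [← Subgroup.closure_closure_coe_preimage (k := ({a, b, c, e} : Set G))]
    refine Subgroup.closure_mono ?_
    rintro ⟨z, hz⟩ (h | h | h | h)
    · exact ⟨0, Subtype.ext h.symm⟩
    · exact ⟨1, Subtype.ext h.symm⟩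
    · exact ⟨2, Subtype.ext h.symm⟩
    · exact ⟨3, Subtype.ext h.symm⟩
  have hp4 : ∀ n, ∃ k : Fin 4, p n = p k := by
    rintro (_ | _ | _ | n)
    · exact ⟨0, rfl⟩
    · exact ⟨1, rfl⟩
    · exact ⟨2, rfl⟩
    · exact ⟨3, rfl⟩
  have hmap := (Orbit81.fourPoint hs hgen hp4).map H.subtype
  rw [MonoidHom.map_closure, Set.image_pair] at hmap
  exact hmap

/-- All products of two members of a width-one invariant set lie in the largest normal 3-subgroup. -/
theorem braidSet.mul_mem_normal_three_group [Finite G] {D : Set G} (h2 : ∀ d ∈ D, d * d = 1)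
    (hbr : ∀ a ∈ D, ∀ b ∈ D, a * b * a = b * a * b)
    (hconj : ∀ g : G, ∀ d ∈ D, g * d * g⁻¹ ∈ D) {a b : G} (ha : a ∈ D) (hb : b ∈ D) :
    ∃ N : Subgroup G, N.Normal ∧ IsPGroup 3 N ∧ a * b ∈ N := by
  haveI : Fact (Nat.Prime 3) := ⟨Nat.prime_three⟩
  have hcl : ∀ x ∈ D, ∀ y ∈ D, x * y * x ∈ D := fun x hx y hy => by
    have := hconj x y hy
    rwa [inv_eq_of_mul_eq_one_right (h2 x hx)] at this
  have key : ∀ g : G, IsPGroup 3 (Subgroup.zpowers (a * b) ⊔
      (Subgroup.zpowers (a * b)).map (MulAut.conj g).toMonoidHom : Subgroup G) := by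
    intro g
    refine (braidSet.isPGroup_pair h2 hbr hcl ha hb (hconj g a ha) (hconj g b hb)).to_le ?_
    rw [← Set.singleton_union, Subgroup.closure_union, MonoidHom.map_zpowers,
      ← Subgroup.zpowers_eq_closure, ← Subgroup.zpowers_eq_closure]
    refine sup_le_sup_left (le_of_eq ?_) _
    congr 1
    show g * (a * b) * g⁻¹ = _
    group
  obtain ⟨N, hN, hN3, hle⟩ := BaerSuzuki.baerSuzuki (Subgroup.zpowers (a * b))
    ((key 1).to_le le_sup_left) key
  exact ⟨N, hN, hN3, hle (Subgroup.mem_zpowers _)⟩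

end Cfsg.Agent.Fischer
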