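import Cfsg.Agent.Lib.Fischer.Basic
import Mathlib.Data.ZMod.Basic

set_option autoImplicit false

/-!
Generated: the orbit of four involutions, any two conjugate members of whose class satisfy the
braid relation, has at most 81 members, permuted like a Hall triple system of order 81.
-/

namespace Cfsg.Agent.Fischer.Orbit81

variable {G : Type*} [Group G]

/-- Hypothesis: `p` lists members of an invariant set of involutions with the braid relation. -/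
structure Setup (p : ℕ → G) : Prop where
  exists_set : ∃ D : Set G, (∀ d ∈ D, d * d = 1) ∧ (∀ a ∈ D, ∀ b ∈ D, a * b * a = b * a * b) ∧
    (∀ a ∈ D, ∀ b ∈ D, a * b * a ∈ D) ∧ ∀ k, p k ∈ D

/-- Conjugation by the `k`-th generator. -/
def cj (p : ℕ → G) (k : ℕ) (x : G) : G := p k * x * p k

/-- Successive conjugations. -/
def path (p : ℕ → G) (w : List ℕ) (x : G) : G := w.foldl (fun y k => cj p k y) x

/-- Root and conjugating word of each point. -/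
def data : ℕ → ℕ × List ℕ
  | 0 => (0, [])
  | 1 => (1, [])
  | 2 => (2, [])
  | 3 => (3, [])
  | 4 => (0, [1])
  | 5 => (0, [2])
  | 6 => (0, [3])
  | 7 => (1, [2])
  | 8 => (1, [3])
  | 9 => (2, [3])
  | 10 => (0, [1, 2])
  | 11 => (0, [1, 3])
  | 12 => (0, [2, 1])
  | 13 => (0, [2, 3])
  | 14 => (0, [3, 1])
  | 15 => (0, [3, 2])
  | 16 => (1, [2, 0])
  | 17 => (1, [2, 3])
  | 18 => (1, [3, 0])
  | 19 => (1, [3, 2])
  | 20 => (2, [3, 0])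
  | 21 => (2, [3, 1])
  | 22 => (0, [1, 2, 3])
  | 23 => (0, [1, 3, 2])
  | 24 => (0, [2, 1, 3])
  | 25 => (0, [2, 3, 1])
  | 26 => (0, [3, 1, 2])
  | 27 => (0, [3, 2, 1])
  | 28 => (1, [2, 0, 3])
  | 29 => (1, [2, 3, 0])
  | 30 => (1, [3, 0, 2])
  | 31 => (1, [3, 2, 0])
  | 32 => (2, [3, 0, 1])
  | 33 => (2, [3, 1, 0])
  | 34 => (0, [1, 2, 3, 0])
  | 35 => (0, [1, 2, 3, 1])
  | 36 => (0, [1, 2, 3, 2])
  | 37 => (0, [1, 3, 2, 0])
  | 38 => (0, [1, 3, 2, 1])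
  | 39 => (0, [2, 1, 3, 0])
  | 40 => (0, [2, 1, 3, 1])
  | 41 => (0, [2, 1, 3, 2])
  | 42 => (0, [2, 3, 1, 0])
  | 43 => (0, [2, 3, 1, 2])
  | 44 => (0, [3, 1, 2, 0])
  | 45 => (0, [3, 1, 2, 1])
  | 46 => (0, [3, 1, 2, 3])
  | 47 => (0, [3, 2, 1, 0])
  | 48 => (0, [3, 2, 1, 3])
  | 49 => (1, [2, 0, 3, 1])
  | 50 => (1, [2, 0, 3, 2])
  | 51 => (1, [2, 3, 0, 1])
  | 52 => (1, [2, 3, 0, 2])
  | 53 => (1, [3, 0, 2, 1])
  | 54 => (1, [3, 0, 2, 3])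
  | 55 => (1, [3, 2, 0, 1])
  | 56 => (1, [3, 2, 0, 3])
  | 57 => (2, [3, 0, 1, 2])
  | 58 => (2, [3, 0, 1, 3])
  | 59 => (2, [3, 1, 0, 2])
  | 60 => (2, [3, 1, 0, 3])
  | 61 => (0, [1, 2, 3, 0, 2])
  | 62 => (0, [1, 2, 3, 1, 2])
  | 63 => (0, [1, 3, 2, 0, 3])
  | 64 => (0, [1, 3, 2, 1, 3])
  | 65 => (0, [2, 1, 3, 0, 1])
  | 66 => (0, [2, 1, 3, 2, 1])
  | 67 => (0, [2, 3, 1, 0, 3])
  | 68 => (0, [2, 3, 1, 2, 3])
  | 69 => (0, [3, 1, 2, 0, 1])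
  | 70 => (0, [3, 1, 2, 3, 1])
  | 71 => (0, [3, 2, 1, 0, 2])
  | 72 => (0, [3, 2, 1, 3, 2])
  | 73 => (0, [1, 2, 3, 0, 2, 1])
  | 74 => (0, [1, 2, 3, 0, 2, 3])
  | 75 => (0, [1, 2, 3, 1, 2, 0])
  | 76 => (0, [1, 2, 3, 1, 2, 3])
  | 77 => (0, [1, 3, 2, 0, 3, 1])
  | 78 => (0, [1, 3, 2, 0, 3, 2])
  | 79 => (0, [1, 3, 2, 1, 3, 0])
  | 80 => (0, [1, 3, 2, 1, 3, 2])
  | _ => (0, [])

/-- The points. -/
def Q (p : ℕ → G) (i : ℕ) : G := path p (data i).2 (p (data i).1)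

/-- The palindrome word of a point. -/
def W (i : ℕ) : List ℕ := (data i).2.reverse ++ (data i).1 :: (data i).2

variable {p : ℕ → G}

theorem Setup.sq (h : Setup p) (k : ℕ) : p k * p k = 1 := by
  obtain ⟨D, h1, -, -, h4⟩ := h.exists_set
  exact h1 _ (h4 k)

theorem cj_cj (h : Setup p) (k : ℕ) (x : G) : cj p k (cj p k x) = x := by
  simp only [cj, mul_assoc, h.sq, mul_one]
  rw [← mul_assoc, h.sq, one_mul]

theorem cj_flip (h : Setup p) {k : ℕ} {x y : G} (e : cj p k x = y) : cj p k y = x := by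
  rw [← e, cj_cj h]

theorem path_reverse (h : Setup p) (R : List ℕ) (x : G) :
    path p R.reverse (path p R x) = x := by
  induction R generalizing x with
  | nil => rfl
  | cons k R ih =>
    simp only [path, List.reverse_cons, List.foldl_append, List.foldl_cons, List.foldl_nil] at *
    rw [ih, cj_cj h]

theorem path_eq_prod (h : Setup p) (w : List ℕ) (x : G) :
    path p w x = ((w.map p).prod)⁻¹ * x * (w.map p).prod := by
  induction w generalizing x with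
  | nil => simp [path]
  | cons k w ih =>
    have hk : (p k)⁻¹ = p k := inv_eq_of_mul_eq_one_right (h.sq k)
    show path p w (cj p k x) = _
    rw [ih, List.map_cons, List.prod_cons, mul_inv_rev, hk, cj]
    simp only [mul_assoc]

theorem prod_reverse (h : Setup p) (w : List ℕ) :
    (w.reverse.map p).prod = ((w.map p).prod)⁻¹ := by
  induction w with
  | nil => simp
  | cons k w ih =>
    rw [List.reverse_cons, List.map_append, List.prod_append, ih, List.map_cons, List.map_nil,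
      List.prod_singleton, List.map_cons, List.prod_cons, mul_inv_rev,
      inv_eq_of_mul_eq_one_right (h.sq k)]

theorem Q_eq_prod (h : Setup p) (i : ℕ) : Q p i = ((W i).map p).prod := by
  rw [Q, path_eq_prod h, W, List.map_append, List.prod_append, prod_reverse h, List.map_cons,
    List.prod_cons, mul_assoc]

theorem mem_path {D : Set G} (hD : ∀ a ∈ D, ∀ b ∈ D, a * b * a ∈ D) (hp : ∀ k, p k ∈ D)
    (w : List ℕ) {x : G} (hx : x ∈ D) : path p w x ∈ D := by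
  induction w generalizing x with
  | nil => exact hx
  | cons k w ih => exact ih (hD _ (hp k) _ hx)

theorem cycle (h : Setup p) (i j : ℕ) : path p (W j ++ W i) (Q p i) = Q p j := by
  obtain ⟨D, h1, h2, h3, h4⟩ := h.exists_set
  have hi : Q p i ∈ D := mem_path h3 h4 _ (h4 _)
  have hj : Q p j ∈ D := mem_path h3 h4 _ (h4 _)
  rw [path_eq_prod h, List.map_append, List.prod_append, ← Q_eq_prod h, ← Q_eq_prod h,
    mul_inv_rev, inv_eq_of_mul_eq_one_right (h1 _ hi), inv_eq_of_mul_eq_one_right (h1 _ hj)]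
  calc Q p i * Q p j * Q p i * (Q p j * Q p i)
      = Q p i * (Q p j * Q p i * Q p j) * Q p i := by simp only [mul_assoc]
    _ = Q p i * (Q p i * Q p j * Q p i) * Q p i := by rw [h2 _ hj _ hi]
    _ = Q p j := by
      simp only [mul_assoc, h1 _ hi, mul_one]
      rw [← mul_assoc, h1 _ hi, one_mul]

theorem split_path (h : Setup p) {v L R : List ℕ} {x y : G} (e : path p v x = y)
    (hv : v = L ++ R.reverse) : path p L x = path p R y := by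
  have h1 := path_reverse h R.reverse (path p L x)
  rw [List.reverse_reverse] at h1
  rw [← e, hv]
  conv_lhs => rw [← h1]
  simp only [path, List.foldl_append]

theorem e0_1 (h : Setup p) : cj p 1 (Q p 0) = Q p 4 := rfl
theorem e4_1 (h : Setup p) : cj p 1 (Q p 4) = Q p 0 := cj_flip h (e0_1 h)
theorem e0_2 (h : Setup p) : cj p 2 (Q p 0) = Q p 5 := rfl
theorem e5_2 (h : Setup p) : cj p 2 (Q p 5) = Q p 0 := cj_flip h (e0_2 h)
theorem e0_3 (h : Setup p) : cj p 3 (Q p 0) = Q p 6 := rfl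
theorem e6_3 (h : Setup p) : cj p 3 (Q p 6) = Q p 0 := cj_flip h (e0_3 h)
theorem e1_2 (h : Setup p) : cj p 2 (Q p 1) = Q p 7 := rfl
theorem e7_2 (h : Setup p) : cj p 2 (Q p 7) = Q p 1 := cj_flip h (e1_2 h)
theorem e1_3 (h : Setup p) : cj p 3 (Q p 1) = Q p 8 := rfl
theorem e8_3 (h : Setup p) : cj p 3 (Q p 8) = Q p 1 := cj_flip h (e1_3 h)
theorem e2_3 (h : Setup p) : cj p 3 (Q p 2) = Q p 9 := rfl
theorem e9_3 (h : Setup p) : cj p 3 (Q p 9) = Q p 2 := cj_flip h (e2_3 h)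
theorem e4_2 (h : Setup p) : cj p 2 (Q p 4) = Q p 10 := rfl
theorem e10_2 (h : Setup p) : cj p 2 (Q p 10) = Q p 4 := cj_flip h (e4_2 h)
theorem e4_3 (h : Setup p) : cj p 3 (Q p 4) = Q p 11 := rfl
theorem e11_3 (h : Setup p) : cj p 3 (Q p 11) = Q p 4 := cj_flip h (e4_3 h)
theorem e5_1 (h : Setup p) : cj p 1 (Q p 5) = Q p 12 := rfl
theorem e12_1 (h : Setup p) : cj p 1 (Q p 12) = Q p 5 := cj_flip h (e5_1 h)
theorem e5_3 (h : Setup p) : cj p 3 (Q p 5) = Q p 13 := rfl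
theorem e13_3 (h : Setup p) : cj p 3 (Q p 13) = Q p 5 := cj_flip h (e5_3 h)
theorem e6_1 (h : Setup p) : cj p 1 (Q p 6) = Q p 14 := rfl
theorem e14_1 (h : Setup p) : cj p 1 (Q p 14) = Q p 6 := cj_flip h (e6_1 h)
theorem e6_2 (h : Setup p) : cj p 2 (Q p 6) = Q p 15 := rfl
theorem e15_2 (h : Setup p) : cj p 2 (Q p 15) = Q p 6 := cj_flip h (e6_2 h)
theorem e7_0 (h : Setup p) : cj p 0 (Q p 7) = Q p 16 := rfl
theorem e16_0 (h : Setup p) : cj p 0 (Q p 16) = Q p 7 := cj_flip h (e7_0 h)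
theorem e7_3 (h : Setup p) : cj p 3 (Q p 7) = Q p 17 := rfl
theorem e17_3 (h : Setup p) : cj p 3 (Q p 17) = Q p 7 := cj_flip h (e7_3 h)
theorem e8_0 (h : Setup p) : cj p 0 (Q p 8) = Q p 18 := rfl
theorem e18_0 (h : Setup p) : cj p 0 (Q p 18) = Q p 8 := cj_flip h (e8_0 h)
theorem e8_2 (h : Setup p) : cj p 2 (Q p 8) = Q p 19 := rfl
theorem e19_2 (h : Setup p) : cj p 2 (Q p 19) = Q p 8 := cj_flip h (e8_2 h)
theorem e9_0 (h : Setup p) : cj p 0 (Q p 9) = Q p 20 := rfl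
theorem e20_0 (h : Setup p) : cj p 0 (Q p 20) = Q p 9 := cj_flip h (e9_0 h)
theorem e9_1 (h : Setup p) : cj p 1 (Q p 9) = Q p 21 := rfl
theorem e21_1 (h : Setup p) : cj p 1 (Q p 21) = Q p 9 := cj_flip h (e9_1 h)
theorem e10_3 (h : Setup p) : cj p 3 (Q p 10) = Q p 22 := rfl
theorem e22_3 (h : Setup p) : cj p 3 (Q p 22) = Q p 10 := cj_flip h (e10_3 h)
theorem e11_2 (h : Setup p) : cj p 2 (Q p 11) = Q p 23 := rfl
theorem e23_2 (h : Setup p) : cj p 2 (Q p 23) = Q p 11 := cj_flip h (e11_2 h)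
theorem e12_3 (h : Setup p) : cj p 3 (Q p 12) = Q p 24 := rfl
theorem e24_3 (h : Setup p) : cj p 3 (Q p 24) = Q p 12 := cj_flip h (e12_3 h)
theorem e13_1 (h : Setup p) : cj p 1 (Q p 13) = Q p 25 := rfl
theorem e25_1 (h : Setup p) : cj p 1 (Q p 25) = Q p 13 := cj_flip h (e13_1 h)
theorem e14_2 (h : Setup p) : cj p 2 (Q p 14) = Q p 26 := rfl
theorem e26_2 (h : Setup p) : cj p 2 (Q p 26) = Q p 14 := cj_flip h (e14_2 h)
theorem e15_1 (h : Setup p) : cj p 1 (Q p 15) = Q p 27 := rfl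
theorem e27_1 (h : Setup p) : cj p 1 (Q p 27) = Q p 15 := cj_flip h (e15_1 h)
theorem e16_3 (h : Setup p) : cj p 3 (Q p 16) = Q p 28 := rfl
theorem e28_3 (h : Setup p) : cj p 3 (Q p 28) = Q p 16 := cj_flip h (e16_3 h)
theorem e17_0 (h : Setup p) : cj p 0 (Q p 17) = Q p 29 := rfl
theorem e29_0 (h : Setup p) : cj p 0 (Q p 29) = Q p 17 := cj_flip h (e17_0 h)
theorem e18_2 (h : Setup p) : cj p 2 (Q p 18) = Q p 30 := rfl
theorem e30_2 (h : Setup p) : cj p 2 (Q p 30) = Q p 18 := cj_flip h (e18_2 h)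
theorem e19_0 (h : Setup p) : cj p 0 (Q p 19) = Q p 31 := rfl
theorem e31_0 (h : Setup p) : cj p 0 (Q p 31) = Q p 19 := cj_flip h (e19_0 h)
theorem e20_1 (h : Setup p) : cj p 1 (Q p 20) = Q p 32 := rfl
theorem e32_1 (h : Setup p) : cj p 1 (Q p 32) = Q p 20 := cj_flip h (e20_1 h)
theorem e21_0 (h : Setup p) : cj p 0 (Q p 21) = Q p 33 := rfl
theorem e33_0 (h : Setup p) : cj p 0 (Q p 33) = Q p 21 := cj_flip h (e21_0 h)
theorem e22_0 (h : Setup p) : cj p 0 (Q p 22) = Q p 34 := rfl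
theorem e34_0 (h : Setup p) : cj p 0 (Q p 34) = Q p 22 := cj_flip h (e22_0 h)
theorem e22_1 (h : Setup p) : cj p 1 (Q p 22) = Q p 35 := rfl
theorem e35_1 (h : Setup p) : cj p 1 (Q p 35) = Q p 22 := cj_flip h (e22_1 h)
theorem e22_2 (h : Setup p) : cj p 2 (Q p 22) = Q p 36 := rfl
theorem e36_2 (h : Setup p) : cj p 2 (Q p 36) = Q p 22 := cj_flip h (e22_2 h)
theorem e23_0 (h : Setup p) : cj p 0 (Q p 23) = Q p 37 := rfl
theorem e37_0 (h : Setup p) : cj p 0 (Q p 37) = Q p 23 := cj_flip h (e23_0 h)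
theorem e23_1 (h : Setup p) : cj p 1 (Q p 23) = Q p 38 := rfl
theorem e38_1 (h : Setup p) : cj p 1 (Q p 38) = Q p 23 := cj_flip h (e23_1 h)
theorem e24_0 (h : Setup p) : cj p 0 (Q p 24) = Q p 39 := rfl
theorem e39_0 (h : Setup p) : cj p 0 (Q p 39) = Q p 24 := cj_flip h (e24_0 h)
theorem e24_1 (h : Setup p) : cj p 1 (Q p 24) = Q p 40 := rfl
theorem e40_1 (h : Setup p) : cj p 1 (Q p 40) = Q p 24 := cj_flip h (e24_1 h)
theorem e24_2 (h : Setup p) : cj p 2 (Q p 24) = Q p 41 := rfl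
theorem e41_2 (h : Setup p) : cj p 2 (Q p 41) = Q p 24 := cj_flip h (e24_2 h)
theorem e25_0 (h : Setup p) : cj p 0 (Q p 25) = Q p 42 := rfl
theorem e42_0 (h : Setup p) : cj p 0 (Q p 42) = Q p 25 := cj_flip h (e25_0 h)
theorem e25_2 (h : Setup p) : cj p 2 (Q p 25) = Q p 43 := rfl
theorem e43_2 (h : Setup p) : cj p 2 (Q p 43) = Q p 25 := cj_flip h (e25_2 h)
theorem e26_0 (h : Setup p) : cj p 0 (Q p 26) = Q p 44 := rfl
theorem e44_0 (h : Setup p) : cj p 0 (Q p 44) = Q p 26 := cj_flip h (e26_0 h)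
theorem e26_1 (h : Setup p) : cj p 1 (Q p 26) = Q p 45 := rfl
theorem e45_1 (h : Setup p) : cj p 1 (Q p 45) = Q p 26 := cj_flip h (e26_1 h)
theorem e26_3 (h : Setup p) : cj p 3 (Q p 26) = Q p 46 := rfl
theorem e46_3 (h : Setup p) : cj p 3 (Q p 46) = Q p 26 := cj_flip h (e26_3 h)
theorem e27_0 (h : Setup p) : cj p 0 (Q p 27) = Q p 47 := rfl
theorem e47_0 (h : Setup p) : cj p 0 (Q p 47) = Q p 27 := cj_flip h (e27_0 h)
theorem e27_3 (h : Setup p) : cj p 3 (Q p 27) = Q p 48 := rfl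
theorem e48_3 (h : Setup p) : cj p 3 (Q p 48) = Q p 27 := cj_flip h (e27_3 h)
theorem e28_1 (h : Setup p) : cj p 1 (Q p 28) = Q p 49 := rfl
theorem e49_1 (h : Setup p) : cj p 1 (Q p 49) = Q p 28 := cj_flip h (e28_1 h)
theorem e28_2 (h : Setup p) : cj p 2 (Q p 28) = Q p 50 := rfl
theorem e50_2 (h : Setup p) : cj p 2 (Q p 50) = Q p 28 := cj_flip h (e28_2 h)
theorem e29_1 (h : Setup p) : cj p 1 (Q p 29) = Q p 51 := rfl
theorem e51_1 (h : Setup p) : cj p 1 (Q p 51) = Q p 29 := cj_flip h (e29_1 h)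
theorem e29_2 (h : Setup p) : cj p 2 (Q p 29) = Q p 52 := rfl
theorem e52_2 (h : Setup p) : cj p 2 (Q p 52) = Q p 29 := cj_flip h (e29_2 h)
theorem e30_1 (h : Setup p) : cj p 1 (Q p 30) = Q p 53 := rfl
theorem e53_1 (h : Setup p) : cj p 1 (Q p 53) = Q p 30 := cj_flip h (e30_1 h)
theorem e30_3 (h : Setup p) : cj p 3 (Q p 30) = Q p 54 := rfl
theorem e54_3 (h : Setup p) : cj p 3 (Q p 54) = Q p 30 := cj_flip h (e30_3 h)
theorem e31_1 (h : Setup p) : cj p 1 (Q p 31) = Q p 55 := rfl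
theorem e55_1 (h : Setup p) : cj p 1 (Q p 55) = Q p 31 := cj_flip h (e31_1 h)
theorem e31_3 (h : Setup p) : cj p 3 (Q p 31) = Q p 56 := rfl
theorem e56_3 (h : Setup p) : cj p 3 (Q p 56) = Q p 31 := cj_flip h (e31_3 h)
theorem e32_2 (h : Setup p) : cj p 2 (Q p 32) = Q p 57 := rfl
theorem e57_2 (h : Setup p) : cj p 2 (Q p 57) = Q p 32 := cj_flip h (e32_2 h)
theorem e32_3 (h : Setup p) : cj p 3 (Q p 32) = Q p 58 := rfl
theorem e58_3 (h : Setup p) : cj p 3 (Q p 58) = Q p 32 := cj_flip h (e32_3 h)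
theorem e33_2 (h : Setup p) : cj p 2 (Q p 33) = Q p 59 := rfl
theorem e59_2 (h : Setup p) : cj p 2 (Q p 59) = Q p 33 := cj_flip h (e33_2 h)
theorem e33_3 (h : Setup p) : cj p 3 (Q p 33) = Q p 60 := rfl
theorem e60_3 (h : Setup p) : cj p 3 (Q p 60) = Q p 33 := cj_flip h (e33_3 h)
theorem e34_2 (h : Setup p) : cj p 2 (Q p 34) = Q p 61 := rfl
theorem e61_2 (h : Setup p) : cj p 2 (Q p 61) = Q p 34 := cj_flip h (e34_2 h)
theorem e35_2 (h : Setup p) : cj p 2 (Q p 35) = Q p 62 := rfl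
theorem e62_2 (h : Setup p) : cj p 2 (Q p 62) = Q p 35 := cj_flip h (e35_2 h)
theorem e37_3 (h : Setup p) : cj p 3 (Q p 37) = Q p 63 := rfl
theorem e63_3 (h : Setup p) : cj p 3 (Q p 63) = Q p 37 := cj_flip h (e37_3 h)
theorem e38_3 (h : Setup p) : cj p 3 (Q p 38) = Q p 64 := rfl
theorem e64_3 (h : Setup p) : cj p 3 (Q p 64) = Q p 38 := cj_flip h (e38_3 h)
theorem e39_1 (h : Setup p) : cj p 1 (Q p 39) = Q p 65 := rfl
theorem e65_1 (h : Setup p) : cj p 1 (Q p 65) = Q p 39 := cj_flip h (e39_1 h)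
theorem e41_1 (h : Setup p) : cj p 1 (Q p 41) = Q p 66 := rfl
theorem e66_1 (h : Setup p) : cj p 1 (Q p 66) = Q p 41 := cj_flip h (e41_1 h)
theorem e42_3 (h : Setup p) : cj p 3 (Q p 42) = Q p 67 := rfl
theorem e67_3 (h : Setup p) : cj p 3 (Q p 67) = Q p 42 := cj_flip h (e42_3 h)
theorem e43_3 (h : Setup p) : cj p 3 (Q p 43) = Q p 68 := rfl
theorem e68_3 (h : Setup p) : cj p 3 (Q p 68) = Q p 43 := cj_flip h (e43_3 h)
theorem e44_1 (h : Setup p) : cj p 1 (Q p 44) = Q p 69 := rfl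
theorem e69_1 (h : Setup p) : cj p 1 (Q p 69) = Q p 44 := cj_flip h (e44_1 h)
theorem e46_1 (h : Setup p) : cj p 1 (Q p 46) = Q p 70 := rfl
theorem e70_1 (h : Setup p) : cj p 1 (Q p 70) = Q p 46 := cj_flip h (e46_1 h)
theorem e47_2 (h : Setup p) : cj p 2 (Q p 47) = Q p 71 := rfl
theorem e71_2 (h : Setup p) : cj p 2 (Q p 71) = Q p 47 := cj_flip h (e47_2 h)
theorem e48_2 (h : Setup p) : cj p 2 (Q p 48) = Q p 72 := rfl
theorem e72_2 (h : Setup p) : cj p 2 (Q p 72) = Q p 48 := cj_flip h (e48_2 h)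
theorem e61_1 (h : Setup p) : cj p 1 (Q p 61) = Q p 73 := rfl
theorem e73_1 (h : Setup p) : cj p 1 (Q p 73) = Q p 61 := cj_flip h (e61_1 h)
theorem e61_3 (h : Setup p) : cj p 3 (Q p 61) = Q p 74 := rfl
theorem e74_3 (h : Setup p) : cj p 3 (Q p 74) = Q p 61 := cj_flip h (e61_3 h)
theorem e62_0 (h : Setup p) : cj p 0 (Q p 62) = Q p 75 := rfl
theorem e75_0 (h : Setup p) : cj p 0 (Q p 75) = Q p 62 := cj_flip h (e62_0 h)
theorem e62_3 (h : Setup p) : cj p 3 (Q p 62) = Q p 76 := rfl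
theorem e76_3 (h : Setup p) : cj p 3 (Q p 76) = Q p 62 := cj_flip h (e62_3 h)
theorem e63_1 (h : Setup p) : cj p 1 (Q p 63) = Q p 77 := rfl
theorem e77_1 (h : Setup p) : cj p 1 (Q p 77) = Q p 63 := cj_flip h (e63_1 h)
theorem e63_2 (h : Setup p) : cj p 2 (Q p 63) = Q p 78 := rfl
theorem e78_2 (h : Setup p) : cj p 2 (Q p 78) = Q p 63 := cj_flip h (e63_2 h)
theorem e64_0 (h : Setup p) : cj p 0 (Q p 64) = Q p 79 := rfl
theorem e79_0 (h : Setup p) : cj p 0 (Q p 79) = Q p 64 := cj_flip h (e64_0 h)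
theorem e64_2 (h : Setup p) : cj p 2 (Q p 64) = Q p 80 := rfl
theorem e80_2 (h : Setup p) : cj p 2 (Q p 80) = Q p 64 := cj_flip h (e64_2 h)
theorem e0_0 (h : Setup p) : cj p 0 (Q p 0) = Q p 0 := by
  show p 0 * p 0 * p 0 = p 0
  rw [h.sq 0, one_mul]
theorem e1_1 (h : Setup p) : cj p 1 (Q p 1) = Q p 1 := by
  show p 1 * p 1 * p 1 = p 1
  rw [h.sq 1, one_mul]
theorem e2_2 (h : Setup p) : cj p 2 (Q p 2) = Q p 2 := by
  show p 2 * p 2 * p 2 = p 2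
  rw [h.sq 2, one_mul]
theorem e3_3 (h : Setup p) : cj p 3 (Q p 3) = Q p 3 := by
  show p 3 * p 3 * p 3 = p 3
  rw [h.sq 3, one_mul]
theorem e4_0 (h : Setup p) : cj p 0 (Q p 4) = Q p 1 := by
  have e := split_path h (cycle h 0 1) (L := [1, 0]) (R := []) rfl
  simp only [path, List.foldl_cons, List.foldl_nil] at e
  rw [e0_1 h] at e
  exact e
theorem e1_0 (h : Setup p) : cj p 0 (Q p 1) = Q p 4 := cj_flip h (e4_0 h)
theorem e5_0 (h : Setup p) : cj p 0 (Q p 5) = Q p 2 := by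
  have e := split_path h (cycle h 0 2) (L := [2, 0]) (R := []) rfl
  simp only [path, List.foldl_cons, List.foldl_nil] at e
  rw [e0_2 h] at e
  exact e
theorem e2_0 (h : Setup p) : cj p 0 (Q p 2) = Q p 5 := cj_flip h (e5_0 h)
theorem e6_0 (h : Setup p) : cj p 0 (Q p 6) = Q p 3 := by
  have e := split_path h (cycle h 0 3) (L := [3, 0]) (R := []) rfl
  simp only [path, List.foldl_cons, List.foldl_nil] at e
  rw [e0_3 h] at e
  exact e
theorem e3_0 (h : Setup p) : cj p 0 (Q p 3) = Q p 6 := cj_flip h (e6_0 h)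
theorem e7_1 (h : Setup p) : cj p 1 (Q p 7) = Q p 2 := by
  have e := split_path h (cycle h 1 2) (L := [2, 1]) (R := []) rfl
  simp only [path, List.foldl_cons, List.foldl_nil] at e
  rw [e1_2 h] at e
  exact e
theorem e2_1 (h : Setup p) : cj p 1 (Q p 2) = Q p 7 := cj_flip h (e7_1 h)
theorem e8_1 (h : Setup p) : cj p 1 (Q p 8) = Q p 3 := by
  have e := split_path h (cycle h 1 3) (L := [3, 1]) (R := []) rfl
  simp only [path, List.foldl_cons, List.foldl_nil] at e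
  rw [e1_3 h] at e
  exact e
theorem e3_1 (h : Setup p) : cj p 1 (Q p 3) = Q p 8 := cj_flip h (e8_1 h)
theorem e9_2 (h : Setup p) : cj p 2 (Q p 9) = Q p 3 := by
  have e := split_path h (cycle h 2 3) (L := [3, 2]) (R := []) rfl
  simp only [path, List.foldl_cons, List.foldl_nil] at e
  rw [e2_3 h] at e
  exact e
theorem e3_2 (h : Setup p) : cj p 2 (Q p 3) = Q p 9 := cj_flip h (e9_2 h)
theorem e12_2 (h : Setup p) : cj p 2 (Q p 12) = Q p 16 := by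
  have e := split_path h (cycle h 0 7) (L := [2, 1, 2]) (R := [0]) rfl
  simp only [path, List.foldl_cons, List.foldl_nil] at e
  rw [e0_2 h, e5_1 h, e7_0 h] at e
  exact e
theorem e16_2 (h : Setup p) : cj p 2 (Q p 16) = Q p 12 := cj_flip h (e12_2 h)
theorem e16_1 (h : Setup p) : cj p 1 (Q p 16) = Q p 10 := by
  have e := split_path h (cycle h 1 10) (L := [2, 1, 0, 1, 2, 1]) (R := []) rfl
  simp only [path, List.foldl_cons, List.foldl_nil] at e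
  rw [e1_2 h, e7_1 h, e2_0 h, e5_1 h, e12_2 h] at e
  exact e
theorem e10_1 (h : Setup p) : cj p 1 (Q p 10) = Q p 16 := cj_flip h (e16_1 h)
theorem e12_0 (h : Setup p) : cj p 0 (Q p 12) = Q p 10 := by
  have e := split_path h (cycle h 1 16) (L := [0, 2, 1, 2, 0]) (R := [1]) rfl
  simp only [path, List.foldl_cons, List.foldl_nil] at e
  rw [e1_0 h, e4_2 h, e10_1 h, e16_2 h, e16_1 h] at e
  exact e
theorem e10_0 (h : Setup p) : cj p 0 (Q p 10) = Q p 12 := cj_flip h (e12_0 h)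
theorem e14_3 (h : Setup p) : cj p 3 (Q p 14) = Q p 18 := by
  have e := split_path h (cycle h 0 8) (L := [3, 1, 3]) (R := [0]) rfl
  simp only [path, List.foldl_cons, List.foldl_nil] at e
  rw [e0_3 h, e6_1 h, e8_0 h] at e
  exact e
theorem e18_3 (h : Setup p) : cj p 3 (Q p 18) = Q p 14 := cj_flip h (e14_3 h)
theorem e18_1 (h : Setup p) : cj p 1 (Q p 18) = Q p 11 := by
  have e := split_path h (cycle h 1 11) (L := [3, 1, 0, 1, 3, 1]) (R := []) rfl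
  simp only [path, List.foldl_cons, List.foldl_nil] at e
  rw [e1_3 h, e8_1 h, e3_0 h, e6_1 h, e14_3 h] at e
  exact e
theorem e11_1 (h : Setup p) : cj p 1 (Q p 11) = Q p 18 := cj_flip h (e18_1 h)
theorem e14_0 (h : Setup p) : cj p 0 (Q p 14) = Q p 11 := by
  have e := split_path h (cycle h 1 18) (L := [0, 3, 1, 3, 0]) (R := [1]) rfl
  simp only [path, List.foldl_cons, List.foldl_nil] at e
  rw [e1_0 h, e4_3 h, e11_1 h, e18_3 h, e18_1 h] at e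
  exact e
theorem e11_0 (h : Setup p) : cj p 0 (Q p 11) = Q p 14 := cj_flip h (e14_0 h)
theorem e15_3 (h : Setup p) : cj p 3 (Q p 15) = Q p 20 := by
  have e := split_path h (cycle h 0 9) (L := [3, 2, 3]) (R := [0]) rfl
  simp only [path, List.foldl_cons, List.foldl_nil] at e
  rw [e0_3 h, e6_2 h, e9_0 h] at e
  exact e
theorem e20_3 (h : Setup p) : cj p 3 (Q p 20) = Q p 15 := cj_flip h (e15_3 h)
theorem e20_2 (h : Setup p) : cj p 2 (Q p 20) = Q p 13 := by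
  have e := split_path h (cycle h 2 13) (L := [3, 2, 0, 2, 3, 2]) (R := []) rfl
  simp only [path, List.foldl_cons, List.foldl_nil] at e
  rw [e2_3 h, e9_2 h, e3_0 h, e6_2 h, e15_3 h] at e
  exact e
theorem e13_2 (h : Setup p) : cj p 2 (Q p 13) = Q p 20 := cj_flip h (e20_2 h)
theorem e15_0 (h : Setup p) : cj p 0 (Q p 15) = Q p 13 := by
  have e := split_path h (cycle h 2 20) (L := [0, 3, 2, 3, 0]) (R := [2]) rfl
  simp only [path, List.foldl_cons, List.foldl_nil] at e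
  rw [e2_0 h, e5_3 h, e13_2 h, e20_3 h, e20_2 h] at e
  exact e
theorem e13_0 (h : Setup p) : cj p 0 (Q p 13) = Q p 15 := cj_flip h (e15_0 h)
theorem e19_3 (h : Setup p) : cj p 3 (Q p 19) = Q p 21 := by
  have e := split_path h (cycle h 1 9) (L := [3, 2, 3]) (R := [1]) rfl
  simp only [path, List.foldl_cons, List.foldl_nil] at e
  rw [e1_3 h, e8_2 h, e9_1 h] at e
  exact e
theorem e21_3 (h : Setup p) : cj p 3 (Q p 21) = Q p 19 := cj_flip h (e19_3 h)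
theorem e21_2 (h : Setup p) : cj p 2 (Q p 21) = Q p 17 := by
  have e := split_path h (cycle h 2 17) (L := [3, 2, 1, 2, 3, 2]) (R := []) rfl
  simp only [path, List.foldl_cons, List.foldl_nil] at e
  rw [e2_3 h, e9_2 h, e3_1 h, e8_2 h, e19_3 h] at e
  exact e
theorem e17_2 (h : Setup p) : cj p 2 (Q p 17) = Q p 21 := cj_flip h (e21_2 h)
theorem e19_1 (h : Setup p) : cj p 1 (Q p 19) = Q p 17 := by
  have e := split_path h (cycle h 2 21) (L := [1, 3, 2, 3, 1]) (R := [2]) rfl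
  simp only [path, List.foldl_cons, List.foldl_nil] at e
  rw [e2_1 h, e7_3 h, e17_2 h, e21_3 h, e21_2 h] at e
  exact e
theorem e17_1 (h : Setup p) : cj p 1 (Q p 17) = Q p 19 := cj_flip h (e19_1 h)
theorem e23_3 (h : Setup p) : cj p 3 (Q p 23) = Q p 36 := by
  have e := split_path h (cycle h 2 22) (L := [3, 2, 1, 0, 1, 2, 3]) (R := [2]) rfl
  simp only [path, List.foldl_cons, List.foldl_nil] at e
  rw [e2_3 h, e9_2 h, e3_1 h, e8_0 h, e18_1 h, e11_2 h, e22_2 h] at e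
  exact e
theorem e36_3 (h : Setup p) : cj p 3 (Q p 36) = Q p 23 := cj_flip h (e23_3 h)
theorem e33_1 (h : Setup p) : cj p 1 (Q p 33) = Q p 36 := by
  have e := split_path h (cycle h 2 23) (L := [2, 3, 1, 0, 1]) (R := [2, 2, 3]) rfl
  simp only [path, List.foldl_cons, List.foldl_nil] at e
  rw [e2_2 h, e2_3 h, e9_1 h, e21_0 h, e23_2 h, e11_2 h, e23_3 h] at e
  exact e
theorem e36_1 (h : Setup p) : cj p 1 (Q p 36) = Q p 33 := cj_flip h (e33_1 h)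
theorem e36_0 (h : Setup p) : cj p 0 (Q p 36) = Q p 32 := by
  have e := split_path h (cycle h 4 20) (L := [0, 3, 2, 3, 0, 1, 0]) (R := [1]) rfl
  simp only [path, List.foldl_cons, List.foldl_nil] at e
  rw [e4_0 h, e1_3 h, e8_2 h, e19_3 h, e21_0 h, e33_1 h, e20_1 h] at e
  exact e
theorem e32_0 (h : Setup p) : cj p 0 (Q p 32) = Q p 36 := cj_flip h (e36_0 h)
theorem e37_1 (h : Setup p) : cj p 1 (Q p 37) = Q p 34 := by
  have e := split_path h (cycle h 32 34) (L := [0, 3, 2, 1, 0, 1, 2, 3, 0, 1, 0, 3, 2, 3, 0, 1]) (R := []) rfl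
  simp only [path, List.foldl_cons, List.foldl_nil] at e
  rw [e32_0 h, e36_3 h, e23_2 h, e11_1 h, e18_0 h, e8_1 h, e3_2 h, e9_3 h, e2_0 h, e5_1 h, e12_0 h, e10_3 h, e22_2 h, e36_3 h, e23_0 h] at e
  exact e
theorem e34_1 (h : Setup p) : cj p 1 (Q p 34) = Q p 37 := cj_flip h (e37_1 h)
theorem e38_0 (h : Setup p) : cj p 0 (Q p 38) = Q p 35 := by
  have e := split_path h (cycle h 1 34) (L := [0, 3, 2, 1, 0]) (R := [1, 0, 3, 2, 1]) rfl
  simp only [path, List.foldl_cons, List.foldl_nil] at e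
  rw [e1_0 h, e4_3 h, e11_2 h, e23_1 h, e34_1 h, e37_0 h, e23_3 h, e36_2 h, e22_1 h] at e
  exact e
theorem e35_0 (h : Setup p) : cj p 0 (Q p 35) = Q p 38 := cj_flip h (e38_0 h)
theorem e39_3 (h : Setup p) : cj p 3 (Q p 39) = Q p 34 := by
  have e := split_path h (cycle h 3 34) (L := [0, 3, 2, 1, 0, 1, 2, 3, 0, 3]) (R := []) rfl
  simp only [path, List.foldl_cons, List.foldl_nil] at e
  rw [e3_0 h, e6_3 h, e0_2 h, e5_1 h, e12_0 h, e10_1 h, e16_2 h, e12_3 h, e24_0 h] at e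
  exact e
theorem e34_3 (h : Setup p) : cj p 3 (Q p 34) = Q p 39 := cj_flip h (e39_3 h)
theorem e25_3 (h : Setup p) : cj p 3 (Q p 25) = Q p 40 := by
  have e := split_path h (cycle h 1 24) (L := [3, 1, 2, 0, 2, 1, 3]) (R := [1]) rfl
  simp only [path, List.foldl_cons, List.foldl_nil] at e
  rw [e1_3 h, e8_1 h, e3_2 h, e9_0 h, e20_2 h, e13_1 h, e24_1 h] at e
  exact e
theorem e40_3 (h : Setup p) : cj p 3 (Q p 40) = Q p 25 := cj_flip h (e25_3 h)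
theorem e31_2 (h : Setup p) : cj p 2 (Q p 31) = Q p 40 := by
  have e := split_path h (cycle h 1 25) (L := [1, 3, 2, 0, 2]) (R := [1, 1, 3]) rfl
  simp only [path, List.foldl_cons, List.foldl_nil] at e
  rw [e1_1 h, e1_3 h, e8_2 h, e19_0 h, e25_1 h, e13_1 h, e25_3 h] at e
  exact e
theorem e40_2 (h : Setup p) : cj p 2 (Q p 40) = Q p 31 := cj_flip h (e31_2 h)
theorem e40_0 (h : Setup p) : cj p 0 (Q p 40) = Q p 30 := by
  have e := split_path h (cycle h 2 18) (L := [0, 3, 1, 3, 0]) (R := [2]) rfl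
  simp only [path, List.foldl_cons, List.foldl_nil] at e
  rw [e2_0 h, e5_3 h, e13_1 h, e25_3 h, e18_2 h] at e
  exact e
theorem e30_0 (h : Setup p) : cj p 0 (Q p 30) = Q p 40 := cj_flip h (e40_0 h)
theorem e39_2 (h : Setup p) : cj p 2 (Q p 39) = Q p 42 := by
  have e := split_path h (cycle h 15 42) (L := [0, 1, 3, 2, 0, 2, 3, 1, 0, 2, 3, 0, 3, 2]) (R := []) rfl
  simp only [path, List.foldl_cons, List.foldl_nil] at e
  rw [e15_0 h, e13_1 h, e25_3 h, e40_2 h, e31_0 h, e19_2 h, e8_3 h, e1_1 h, e1_0 h, e4_2 h, e10_3 h, e22_0 h, e34_3 h] at e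
  exact e
theorem e42_2 (h : Setup p) : cj p 2 (Q p 42) = Q p 39 := cj_flip h (e39_2 h)
theorem e43_0 (h : Setup p) : cj p 0 (Q p 43) = Q p 41 := by
  have e := split_path h (cycle h 2 39) (L := [0, 3, 1, 2, 0]) (R := [2, 0, 3, 1, 2]) rfl
  simp only [path, List.foldl_cons, List.foldl_nil] at e
  rw [e2_0 h, e5_3 h, e13_1 h, e25_2 h, e39_2 h, e42_0 h, e25_3 h, e40_1 h, e24_2 h] at e
  exact e
theorem e41_0 (h : Setup p) : cj p 0 (Q p 41) = Q p 43 := cj_flip h (e43_0 h)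
theorem e44_2 (h : Setup p) : cj p 2 (Q p 44) = Q p 37 := by
  have e := split_path h (cycle h 0 24) (L := [3, 1, 2, 0, 2]) (R := [0, 3, 1]) rfl
  simp only [path, List.foldl_cons, List.foldl_nil] at e
  rw [e0_3 h, e6_1 h, e14_2 h, e26_0 h, e24_0 h, e39_3 h, e34_1 h] at e
  exact e
theorem e37_2 (h : Setup p) : cj p 2 (Q p 37) = Q p 44 := cj_flip h (e44_2 h)
theorem e27_2 (h : Setup p) : cj p 2 (Q p 27) = Q p 45 := by
  have e := split_path h (cycle h 1 26) (L := [2, 1, 3, 0, 3, 1, 2]) (R := [1]) rfl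
  simp only [path, List.foldl_cons, List.foldl_nil] at e
  rw [e1_2 h, e7_1 h, e2_3 h, e9_0 h, e20_3 h, e15_1 h, e26_1 h] at e
  exact e
theorem e45_2 (h : Setup p) : cj p 2 (Q p 45) = Q p 27 := cj_flip h (e27_2 h)
theorem e29_3 (h : Setup p) : cj p 3 (Q p 29) = Q p 45 := by
  have e := split_path h (cycle h 1 27) (L := [1, 2, 3, 0, 3]) (R := [1, 1, 2]) rfl
  simp only [path, List.foldl_cons, List.foldl_nil] at e
  rw [e1_1 h, e1_2 h, e7_3 h, e17_0 h, e27_1 h, e15_1 h, e27_2 h] at e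
  exact e
theorem e45_3 (h : Setup p) : cj p 3 (Q p 45) = Q p 29 := cj_flip h (e29_3 h)
theorem e45_0 (h : Setup p) : cj p 0 (Q p 45) = Q p 28 := by
  have e := split_path h (cycle h 3 16) (L := [0, 2, 1, 2, 0]) (R := [3]) rfl
  simp only [path, List.foldl_cons, List.foldl_nil] at e
  rw [e3_0 h, e6_2 h, e15_1 h, e27_2 h, e16_3 h] at e
  exact e
theorem e28_0 (h : Setup p) : cj p 0 (Q p 28) = Q p 45 := cj_flip h (e45_0 h)
theorem e47_1 (h : Setup p) : cj p 1 (Q p 47) = Q p 42 := by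
  have e := split_path h (cycle h 0 22) (L := [3, 2, 1, 0, 1]) (R := [0, 3, 2]) rfl
  simp only [path, List.foldl_cons, List.foldl_nil] at e
  rw [e0_3 h, e6_2 h, e15_1 h, e27_0 h, e22_0 h, e34_3 h, e39_2 h] at e
  exact e
theorem e42_1 (h : Setup p) : cj p 1 (Q p 42) = Q p 47 := cj_flip h (e47_1 h)
theorem e47_3 (h : Setup p) : cj p 3 (Q p 47) = Q p 44 := by
  have e := split_path h (cycle h 0 23) (L := [2, 3, 1, 0, 1, 3]) (R := [0, 2]) rfl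
  simp only [path, List.foldl_cons, List.foldl_nil] at e
  rw [e0_2 h, e5_3 h, e13_1 h, e25_0 h, e42_1 h, e23_0 h, e37_2 h] at e
  exact e
theorem e44_3 (h : Setup p) : cj p 3 (Q p 44) = Q p 47 := cj_flip h (e47_3 h)
theorem e48_0 (h : Setup p) : cj p 0 (Q p 48) = Q p 46 := by
  have e := split_path h (cycle h 3 44) (L := [0, 2, 1, 3, 0]) (R := [3, 0, 2, 1, 3]) rfl
  simp only [path, List.foldl_cons, List.foldl_nil] at e
  rw [e3_0 h, e6_2 h, e15_1 h, e27_3 h, e44_3 h, e47_0 h, e27_2 h, e45_1 h, e26_3 h] at e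
  exact e
theorem e46_0 (h : Setup p) : cj p 0 (Q p 46) = Q p 48 := cj_flip h (e48_0 h)
theorem e49_3 (h : Setup p) : cj p 3 (Q p 49) = Q p 35 := by
  have e := split_path h (cycle h 3 35) (L := [1, 3, 2, 1, 0, 1, 2, 3, 1, 3]) (R := []) rfl
  simp only [path, List.foldl_cons, List.foldl_nil] at e
  rw [e3_1 h, e8_3 h, e1_2 h, e7_1 h, e2_0 h, e5_1 h, e12_2 h, e16_3 h, e28_1 h] at e
  exact e
theorem e35_3 (h : Setup p) : cj p 3 (Q p 35) = Q p 49 := cj_flip h (e49_3 h)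
theorem e41_3 (h : Setup p) : cj p 3 (Q p 41) = Q p 50 := by
  have e := split_path h (cycle h 2 28) (L := [3, 0, 2, 1, 2, 0, 3]) (R := [2]) rfl
  simp only [path, List.foldl_cons, List.foldl_nil] at e
  rw [e2_3 h, e9_0 h, e20_2 h, e13_1 h, e25_2 h, e43_0 h, e28_2 h] at e
  exact e
theorem e50_3 (h : Setup p) : cj p 3 (Q p 50) = Q p 41 := cj_flip h (e41_3 h)
theorem e51_2 (h : Setup p) : cj p 2 (Q p 51) = Q p 49 := by
  have e := split_path h (cycle h 0 45) (L := [1, 2, 1, 3, 0, 3, 1, 2]) (R := [0, 1]) rfl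
  simp only [path, List.foldl_cons, List.foldl_nil] at e
  rw [e0_1 h, e4_2 h, e10_1 h, e16_3 h, e28_0 h, e45_3 h, e29_1 h, e45_0 h, e28_1 h] at e
  exact e
theorem e49_2 (h : Setup p) : cj p 2 (Q p 49) = Q p 51 := cj_flip h (e51_2 h)
theorem e52_1 (h : Setup p) : cj p 1 (Q p 52) = Q p 50 := by
  have e := split_path h (cycle h 2 24) (L := [3, 1, 2, 0, 2, 1]) (R := [2, 3]) rfl
  simp only [path, List.foldl_cons, List.foldl_nil] at e
  rw [e2_3 h, e9_1 h, e21_2 h, e17_0 h, e29_2 h, e24_2 h, e41_3 h] at e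
  exact e
theorem e50_1 (h : Setup p) : cj p 1 (Q p 50) = Q p 52 := cj_flip h (e52_1 h)
theorem e53_2 (h : Setup p) : cj p 2 (Q p 53) = Q p 38 := by
  have e := split_path h (cycle h 1 28) (L := [3, 0, 2, 1, 2]) (R := [1, 3, 0]) rfl
  simp only [path, List.foldl_cons, List.foldl_nil] at e
  rw [e1_3 h, e8_0 h, e18_2 h, e30_1 h, e28_1 h, e49_3 h, e35_0 h] at e
  exact e
theorem e38_2 (h : Setup p) : cj p 2 (Q p 38) = Q p 53 := cj_flip h (e53_2 h)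
theorem e54_2 (h : Setup p) : cj p 2 (Q p 54) = Q p 46 := by
  have e := split_path h (cycle h 2 46) (L := [3, 2, 1, 3, 0, 3, 1, 2, 3, 2]) (R := []) rfl
  simp only [path, List.foldl_cons, List.foldl_nil] at e
  rw [e2_3 h, e9_2 h, e3_1 h, e8_3 h, e1_0 h, e4_3 h, e11_1 h, e18_2 h, e30_3 h] at e
  exact e
theorem e46_2 (h : Setup p) : cj p 2 (Q p 46) = Q p 54 := cj_flip h (e54_2 h)
theorem e55_3 (h : Setup p) : cj p 3 (Q p 55) = Q p 53 := by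
  have e := split_path h (cycle h 0 40) (L := [1, 3, 1, 2, 0, 2, 1, 3]) (R := [0, 1]) rfl
  simp only [path, List.foldl_cons, List.foldl_nil] at e
  rw [e0_1 h, e4_3 h, e11_1 h, e18_2 h, e30_0 h, e40_2 h, e31_1 h, e40_0 h, e30_1 h] at e
  exact e
theorem e53_3 (h : Setup p) : cj p 3 (Q p 53) = Q p 55 := cj_flip h (e55_3 h)
theorem e55_0 (h : Setup p) : cj p 0 (Q p 55) = Q p 51 := by
  have e := split_path h (cycle h 0 51) (L := [1, 0, 3, 2, 1, 2, 3, 0, 1, 0]) (R := []) rfl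
  simp only [path, List.foldl_cons, List.foldl_nil] at e
  rw [e0_1 h, e4_0 h, e1_3 h, e8_2 h, e19_1 h, e17_2 h, e21_3 h, e19_0 h, e31_1 h] at e
  exact e
theorem e51_0 (h : Setup p) : cj p 0 (Q p 51) = Q p 55 := cj_flip h (e55_0 h)
theorem e56_1 (h : Setup p) : cj p 1 (Q p 56) = Q p 54 := by
  have e := split_path h (cycle h 3 26) (L := [2, 1, 3, 0, 3, 1]) (R := [3, 2]) rfl
  simp only [path, List.foldl_cons, List.foldl_nil] at e
  rw [e3_2 h, e9_1 h, e21_3 h, e19_0 h, e31_3 h, e26_3 h, e46_2 h] at e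
  exact e
theorem e54_1 (h : Setup p) : cj p 1 (Q p 54) = Q p 56 := cj_flip h (e56_1 h)
theorem e57_1 (h : Setup p) : cj p 1 (Q p 57) = Q p 43 := by
  have e := split_path h (cycle h 1 43) (L := [2, 1, 3, 2, 0, 2, 3, 1, 2, 1]) (R := []) rfl
  simp only [path, List.foldl_cons, List.foldl_nil] at e
  rw [e1_2 h, e7_1 h, e2_3 h, e9_2 h, e3_0 h, e6_2 h, e15_3 h, e20_1 h, e32_2 h] at e
  exact e
theorem e43_1 (h : Setup p) : cj p 1 (Q p 43) = Q p 57 := cj_flip h (e57_1 h)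
theorem e58_1 (h : Setup p) : cj p 1 (Q p 58) = Q p 48 := by
  have e := split_path h (cycle h 1 48) (L := [3, 1, 2, 3, 0, 3, 2, 1, 3, 1]) (R := []) rfl
  simp only [path, List.foldl_cons, List.foldl_nil] at e
  rw [e1_3 h, e8_1 h, e3_2 h, e9_3 h, e2_0 h, e5_3 h, e13_2 h, e20_1 h, e32_3 h] at e
  exact e
theorem e48_1 (h : Setup p) : cj p 1 (Q p 48) = Q p 58 := cj_flip h (e58_1 h)
theorem e59_3 (h : Setup p) : cj p 3 (Q p 59) = Q p 57 := by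
  have e := split_path h (cycle h 0 36) (L := [2, 3, 2, 1, 0, 1, 2, 3]) (R := [0, 2]) rfl
  simp only [path, List.foldl_cons, List.foldl_nil] at e
  rw [e0_2 h, e5_3 h, e13_2 h, e20_1 h, e32_0 h, e36_1 h, e33_2 h, e36_0 h, e32_2 h] at e
  exact e
theorem e57_3 (h : Setup p) : cj p 3 (Q p 57) = Q p 59 := cj_flip h (e59_3 h)
theorem e59_0 (h : Setup p) : cj p 0 (Q p 59) = Q p 52 := by
  have e := split_path h (cycle h 0 52) (L := [2, 0, 3, 2, 1, 2, 3, 0, 2, 0]) (R := []) rfl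
  simp only [path, List.foldl_cons, List.foldl_nil] at e
  rw [e0_2 h, e5_0 h, e2_3 h, e9_2 h, e3_1 h, e8_2 h, e19_3 h, e21_0 h, e33_2 h] at e
  exact e
theorem e52_0 (h : Setup p) : cj p 0 (Q p 52) = Q p 59 := cj_flip h (e59_0 h)
theorem e60_0 (h : Setup p) : cj p 0 (Q p 60) = Q p 56 := by
  have e := split_path h (cycle h 0 56) (L := [3, 0, 2, 3, 1, 3, 2, 0, 3, 0]) (R := []) rfl
  simp only [path, List.foldl_cons, List.foldl_nil] at e
  rw [e0_3 h, e6_0 h, e3_2 h, e9_3 h, e2_1 h, e7_3 h, e17_2 h, e21_0 h, e33_3 h] at e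
  exact e
theorem e56_0 (h : Setup p) : cj p 0 (Q p 56) = Q p 60 := cj_flip h (e60_0 h)
theorem e60_2 (h : Setup p) : cj p 2 (Q p 60) = Q p 58 := by
  have e := split_path h (cycle h 3 27) (L := [1, 2, 3, 0, 3, 2]) (R := [3, 1]) rfl
  simp only [path, List.foldl_cons, List.foldl_nil] at e
  rw [e3_1 h, e8_2 h, e19_3 h, e21_0 h, e33_3 h, e27_3 h, e48_1 h] at e
  exact e
theorem e58_2 (h : Setup p) : cj p 2 (Q p 58) = Q p 60 := cj_flip h (e60_2 h)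
theorem e61_0 (h : Setup p) : cj p 0 (Q p 61) = Q p 57 := by
  have e := split_path h (cycle h 0 57) (L := [2, 1, 0, 3, 2, 3, 0, 1, 2, 0]) (R := []) rfl
  simp only [path, List.foldl_cons, List.foldl_nil] at e
  rw [e0_2 h, e5_1 h, e12_0 h, e10_3 h, e22_2 h, e36_3 h, e23_0 h, e37_1 h, e34_2 h] at e
  exact e
theorem e57_0 (h : Setup p) : cj p 0 (Q p 57) = Q p 61 := cj_flip h (e61_0 h)
theorem e62_1 (h : Setup p) : cj p 1 (Q p 62) = Q p 59 := by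
  have e := split_path h (cycle h 1 59) (L := [2, 0, 1, 3, 2, 3, 1, 0, 2, 1]) (R := []) rfl
  simp only [path, List.foldl_cons, List.foldl_nil] at e
  rw [e1_2 h, e7_0 h, e16_1 h, e10_3 h, e22_2 h, e36_3 h, e23_1 h, e38_0 h, e35_2 h] at e
  exact e
theorem e59_1 (h : Setup p) : cj p 1 (Q p 59) = Q p 62 := cj_flip h (e62_1 h)
theorem e63_0 (h : Setup p) : cj p 0 (Q p 63) = Q p 58 := by
  have e := split_path h (cycle h 0 58) (L := [3, 1, 0, 3, 2, 3, 0, 1, 3, 0]) (R := []) rfl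
  simp only [path, List.foldl_cons, List.foldl_nil] at e
  rw [e0_3 h, e6_1 h, e14_0 h, e11_3 h, e4_2 h, e10_3 h, e22_0 h, e34_1 h, e37_3 h] at e
  exact e
theorem e58_0 (h : Setup p) : cj p 0 (Q p 58) = Q p 63 := cj_flip h (e63_0 h)
theorem e64_1 (h : Setup p) : cj p 1 (Q p 64) = Q p 60 := by
  have e := split_path h (cycle h 1 60) (L := [3, 0, 1, 3, 2, 3, 1, 0, 3, 1]) (R := []) rfl
  simp only [path, List.foldl_cons, List.foldl_nil] at e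
  rw [e1_3 h, e8_0 h, e18_1 h, e11_3 h, e4_2 h, e10_3 h, e22_1 h, e35_0 h, e38_3 h] at e
  exact e
theorem e60_1 (h : Setup p) : cj p 1 (Q p 60) = Q p 64 := cj_flip h (e64_1 h)
theorem e65_0 (h : Setup p) : cj p 0 (Q p 65) = Q p 53 := by
  have e := split_path h (cycle h 0 53) (L := [1, 2, 0, 3, 1, 3, 0, 2, 1, 0]) (R := []) rfl
  simp only [path, List.foldl_cons, List.foldl_nil] at e
  rw [e0_1 h, e4_2 h, e10_0 h, e12_3 h, e24_1 h, e40_3 h, e25_0 h, e42_2 h, e39_1 h] at e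
  exact e
theorem e53_0 (h : Setup p) : cj p 0 (Q p 53) = Q p 65 := cj_flip h (e65_0 h)
theorem e55_2 (h : Setup p) : cj p 2 (Q p 55) = Q p 66 := by
  have e := split_path h (cycle h 1 41) (L := [2, 3, 1, 2, 0, 2, 1, 3, 2]) (R := [1]) rfl
  simp only [path, List.foldl_cons, List.foldl_nil] at e
  rw [e1_2 h, e7_3 h, e17_1 h, e19_2 h, e8_0 h, e18_2 h, e30_1 h, e53_3 h, e41_1 h] at e
  exact e
theorem e66_2 (h : Setup p) : cj p 2 (Q p 66) = Q p 55 := cj_flip h (e55_2 h)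
theorem e67_0 (h : Setup p) : cj p 0 (Q p 67) = Q p 54 := by
  have e := split_path h (cycle h 0 54) (L := [3, 2, 0, 3, 1, 3, 0, 2, 3, 0]) (R := []) rfl
  simp only [path, List.foldl_cons, List.foldl_nil] at e
  rw [e0_3 h, e6_2 h, e15_0 h, e13_3 h, e5_1 h, e12_3 h, e24_0 h, e39_2 h, e42_3 h] at e
  exact e
theorem e54_0 (h : Setup p) : cj p 0 (Q p 54) = Q p 67 := cj_flip h (e67_0 h)
theorem e68_2 (h : Setup p) : cj p 2 (Q p 68) = Q p 56 := by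
  have e := split_path h (cycle h 2 56) (L := [3, 0, 2, 3, 1, 3, 2, 0, 3, 2]) (R := []) rfl
  simp only [path, List.foldl_cons, List.foldl_nil] at e
  rw [e2_3 h, e9_0 h, e20_2 h, e13_3 h, e5_1 h, e12_3 h, e24_2 h, e41_0 h, e43_3 h] at e
  exact e
theorem e56_2 (h : Setup p) : cj p 2 (Q p 56) = Q p 68 := cj_flip h (e68_2 h)
theorem e69_0 (h : Setup p) : cj p 0 (Q p 69) = Q p 49 := by
  have e := split_path h (cycle h 0 49) (L := [1, 3, 0, 2, 1, 2, 0, 3, 1, 0]) (R := []) rfl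
  simp only [path, List.foldl_cons, List.foldl_nil] at e
  rw [e0_1 h, e4_3 h, e11_0 h, e14_2 h, e26_1 h, e45_2 h, e27_0 h, e47_3 h, e44_1 h] at e
  exact e
theorem e49_0 (h : Setup p) : cj p 0 (Q p 49) = Q p 69 := cj_flip h (e69_0 h)
theorem e51_3 (h : Setup p) : cj p 3 (Q p 51) = Q p 70 := by
  have e := split_path h (cycle h 1 46) (L := [3, 2, 1, 3, 0, 3, 1, 2, 3]) (R := [1]) rfl
  simp only [path, List.foldl_cons, List.foldl_nil] at e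
  rw [e1_3 h, e8_2 h, e19_1 h, e17_3 h, e7_0 h, e16_3 h, e28_1 h, e49_2 h, e46_1 h] at e
  exact e
theorem e70_3 (h : Setup p) : cj p 3 (Q p 70) = Q p 51 := cj_flip h (e51_3 h)
theorem e71_0 (h : Setup p) : cj p 0 (Q p 71) = Q p 50 := by
  have e := split_path h (cycle h 0 50) (L := [2, 3, 0, 2, 1, 2, 0, 3, 2, 0]) (R := []) rfl
  simp only [path, List.foldl_cons, List.foldl_nil] at e
  rw [e0_2 h, e5_3 h, e13_0 h, e15_2 h, e6_1 h, e14_2 h, e26_0 h, e44_3 h, e47_2 h] at e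
  exact e
theorem e50_0 (h : Setup p) : cj p 0 (Q p 50) = Q p 71 := cj_flip h (e71_0 h)
theorem e52_3 (h : Setup p) : cj p 3 (Q p 52) = Q p 72 := by
  have e := split_path h (cycle h 2 48) (L := [3, 1, 2, 3, 0, 3, 2, 1, 3]) (R := [2]) rfl
  simp only [path, List.foldl_cons, List.foldl_nil] at e
  rw [e2_3 h, e9_1 h, e21_2 h, e17_3 h, e7_0 h, e16_3 h, e28_2 h, e50_1 h, e48_2 h] at e
  exact e
theorem e72_3 (h : Setup p) : cj p 3 (Q p 72) = Q p 52 := cj_flip h (e52_3 h)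
theorem e69_2 (h : Setup p) : cj p 2 (Q p 69) = Q p 73 := by
  have e := split_path h (cycle h 1 61) (L := [2, 0, 3, 2, 1, 0, 1, 2, 3, 0, 2]) (R := [1]) rfl
  simp only [path, List.foldl_cons, List.foldl_nil] at e
  rw [e1_2 h, e7_0 h, e16_3 h, e28_2 h, e50_1 h, e52_0 h, e59_1 h, e62_2 h, e35_3 h, e49_0 h, e61_1 h] at e
  exact e
theorem e73_2 (h : Setup p) : cj p 2 (Q p 73) = Q p 69 := cj_flip h (e69_2 h)
theorem e73_0 (h : Setup p) : cj p 0 (Q p 73) = Q p 66 := by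
  have e := split_path h (cycle h 5 55) (L := [1, 0, 2, 3, 1, 3, 2, 0, 1, 2, 0]) (R := [2]) rfl
  simp only [path, List.foldl_cons, List.foldl_nil] at e
  rw [e5_1 h, e12_0 h, e10_2 h, e4_3 h, e11_1 h, e18_3 h, e14_2 h, e26_0 h, e44_1 h, e69_2 h, e55_2 h] at e
  exact e
theorem e66_0 (h : Setup p) : cj p 0 (Q p 66) = Q p 73 := cj_flip h (e73_0 h)
theorem e72_0 (h : Setup p) : cj p 0 (Q p 72) = Q p 74 := by
  have e := split_path h (cycle h 0 74) (L := [3, 2, 0, 3, 2, 1, 0, 1, 2, 3, 0, 2, 3, 0]) (R := []) rfl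
  simp only [path, List.foldl_cons, List.foldl_nil] at e
  rw [e0_3 h, e6_2 h, e15_0 h, e13_3 h, e5_2 h, e0_1 h, e4_0 h, e1_1 h, e1_2 h, e7_3 h, e17_0 h, e29_2 h, e52_3 h] at e
  exact e
theorem e74_0 (h : Setup p) : cj p 0 (Q p 74) = Q p 72 := cj_flip h (e72_0 h)
theorem e74_2 (h : Setup p) : cj p 2 (Q p 74) = Q p 67 := by
  have e := split_path h (cycle h 2 67) (L := [3, 0, 1, 3, 2, 0, 2, 3, 1, 0, 3, 2]) (R := []) rfl
  simp only [path, List.foldl_cons, List.foldl_nil] at e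
  rw [e2_3 h, e9_0 h, e20_1 h, e32_3 h, e58_2 h, e60_0 h, e56_2 h, e68_3 h, e43_1 h, e57_0 h, e61_3 h] at e
  exact e
theorem e67_2 (h : Setup p) : cj p 2 (Q p 67) = Q p 74 := cj_flip h (e74_2 h)
theorem e65_2 (h : Setup p) : cj p 2 (Q p 65) = Q p 75 := by
  have e := split_path h (cycle h 0 62) (L := [2, 1, 3, 2, 1, 0, 1, 2, 3, 1, 2]) (R := [0]) rfl
  simp only [path, List.foldl_cons, List.foldl_nil] at e
  rw [e0_2 h, e5_1 h, e12_3 h, e24_2 h, e41_1 h, e66_0 h, e73_1 h, e61_2 h, e34_3 h, e39_1 h, e62_0 h] at e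
  exact e
theorem e75_2 (h : Setup p) : cj p 2 (Q p 75) = Q p 65 := cj_flip h (e65_2 h)
theorem e75_1 (h : Setup p) : cj p 1 (Q p 75) = Q p 71 := by
  have e := split_path h (cycle h 1 71) (L := [2, 0, 1, 2, 3, 0, 3, 2, 1, 0, 2, 1]) (R := []) rfl
  simp only [path, List.foldl_cons, List.foldl_nil] at e
  rw [e1_2 h, e7_0 h, e16_1 h, e10_2 h, e4_3 h, e11_0 h, e14_3 h, e18_2 h, e30_1 h, e53_0 h, e65_2 h] at e
  exact e
theorem e71_1 (h : Setup p) : cj p 1 (Q p 71) = Q p 75 := cj_flip h (e75_1 h)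
theorem e73_3 (h : Setup p) : cj p 3 (Q p 73) = Q p 75 := by
  have e := split_path h (cycle h 8 75) (L := [0, 2, 1, 3, 2, 1, 0, 1, 2, 3, 1, 2, 0, 3, 1, 3]) (R := []) rfl
  simp only [path, List.foldl_cons, List.foldl_nil] at e
  rw [e8_0 h, e18_2 h, e30_1 h, e53_3 h, e55_2 h, e66_1 h, e41_0 h, e43_1 h, e57_2 h, e32_3 h, e58_1 h, e48_2 h, e72_0 h, e74_3 h, e61_1 h] at e
  exact e
theorem e75_3 (h : Setup p) : cj p 3 (Q p 75) = Q p 73 := cj_flip h (e73_3 h)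
theorem e76_1 (h : Setup p) : cj p 1 (Q p 76) = Q p 68 := by
  have e := split_path h (cycle h 1 68) (L := [3, 2, 1, 3, 2, 0, 2, 3, 1, 2, 3, 1]) (R := []) rfl
  simp only [path, List.foldl_cons, List.foldl_nil] at e
  rw [e1_3 h, e8_2 h, e19_1 h, e17_3 h, e7_2 h, e1_0 h, e4_2 h, e10_3 h, e22_1 h, e35_2 h, e62_3 h] at e
  exact e
theorem e68_1 (h : Setup p) : cj p 1 (Q p 68) = Q p 76 := cj_flip h (e76_1 h)
theorem e76_2 (h : Setup p) : cj p 2 (Q p 76) = Q p 70 := by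
  have e := split_path h (cycle h 2 70) (L := [1, 3, 2, 1, 3, 0, 3, 1, 2, 3, 1, 2]) (R := []) rfl
  simp only [path, List.foldl_cons, List.foldl_nil] at e
  rw [e2_1 h, e7_3 h, e17_2 h, e21_1 h, e9_3 h, e2_0 h, e5_3 h, e13_1 h, e25_2 h, e43_3 h, e68_1 h] at e
  exact e
theorem e70_2 (h : Setup p) : cj p 2 (Q p 70) = Q p 76 := cj_flip h (e76_2 h)
theorem e65_3 (h : Setup p) : cj p 3 (Q p 65) = Q p 77 := by
  have e := split_path h (cycle h 1 63) (L := [3, 0, 2, 3, 1, 0, 1, 3, 2, 0, 3]) (R := [1]) rfl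
  simp only [path, List.foldl_cons, List.foldl_nil] at e
  rw [e1_3 h, e8_0 h, e18_2 h, e30_3 h, e54_1 h, e56_0 h, e60_1 h, e64_3 h, e38_2 h, e53_0 h, e63_1 h] at e
  exact e
theorem e77_3 (h : Setup p) : cj p 3 (Q p 77) = Q p 65 := cj_flip h (e65_3 h)
theorem e77_0 (h : Setup p) : cj p 0 (Q p 77) = Q p 70 := by
  have e := split_path h (cycle h 6 51) (L := [1, 0, 3, 2, 1, 2, 3, 0, 1, 3, 0]) (R := [3]) rfl
  simp only [path, List.foldl_cons, List.foldl_nil] at e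
  rw [e6_1 h, e14_0 h, e11_3 h, e4_2 h, e10_1 h, e16_2 h, e12_3 h, e24_0 h, e39_1 h, e65_3 h, e51_3 h] at e
  exact e
theorem e70_0 (h : Setup p) : cj p 0 (Q p 70) = Q p 77 := cj_flip h (e77_0 h)
theorem e68_0 (h : Setup p) : cj p 0 (Q p 68) = Q p 78 := by
  have e := split_path h (cycle h 0 78) (L := [2, 3, 0, 2, 3, 1, 0, 1, 3, 2, 0, 3, 2, 0]) (R := []) rfl
  simp only [path, List.foldl_cons, List.foldl_nil] at e
  rw [e0_2 h, e5_3 h, e13_0 h, e15_2 h, e6_3 h, e0_1 h, e4_0 h, e1_1 h, e1_3 h, e8_2 h, e19_0 h, e31_3 h, e56_2 h] at e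
  exact e
theorem e78_0 (h : Setup p) : cj p 0 (Q p 78) = Q p 68 := cj_flip h (e68_0 h)
theorem e71_3 (h : Setup p) : cj p 3 (Q p 71) = Q p 78 := by
  have e := split_path h (cycle h 2 63) (L := [3, 0, 2, 3, 1, 0, 1, 3, 2, 0, 3]) (R := [2]) rfl
  simp only [path, List.foldl_cons, List.foldl_nil] at e
  rw [e2_3 h, e9_0 h, e20_2 h, e13_3 h, e5_1 h, e12_0 h, e10_1 h, e16_3 h, e28_2 h, e50_0 h, e63_2 h] at e
  exact e
theorem e78_3 (h : Setup p) : cj p 3 (Q p 78) = Q p 71 := cj_flip h (e71_3 h)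
theorem e74_1 (h : Setup p) : cj p 1 (Q p 74) = Q p 78 := by
  have e := split_path h (cycle h 8 73) (L := [1, 2, 0, 3, 2, 1, 0, 1, 2, 3, 0, 2, 1]) (R := [3, 1, 3]) rfl
  simp only [path, List.foldl_cons, List.foldl_nil] at e
  rw [e8_1 h, e3_2 h, e9_0 h, e20_3 h, e15_2 h, e6_1 h, e14_0 h, e11_1 h, e18_2 h, e30_3 h, e54_0 h, e67_2 h, e73_3 h, e75_1 h, e71_3 h] at e
  exact e
theorem e78_1 (h : Setup p) : cj p 1 (Q p 78) = Q p 74 := cj_flip h (e74_1 h)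
theorem e69_3 (h : Setup p) : cj p 3 (Q p 69) = Q p 79 := by
  have e := split_path h (cycle h 0 64) (L := [3, 1, 2, 3, 1, 0, 1, 3, 2, 1, 3]) (R := [0]) rfl
  simp only [path, List.foldl_cons, List.foldl_nil] at e
  rw [e0_3 h, e6_1 h, e14_2 h, e26_3 h, e46_1 h, e70_0 h, e77_1 h, e63_3 h, e37_2 h, e44_1 h, e64_0 h] at e
  exact e
theorem e79_3 (h : Setup p) : cj p 3 (Q p 79) = Q p 69 := cj_flip h (e69_3 h)
theorem e79_1 (h : Setup p) : cj p 1 (Q p 79) = Q p 67 := by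
  have e := split_path h (cycle h 1 67) (L := [3, 0, 1, 3, 2, 0, 2, 3, 1, 0, 3, 1]) (R := []) rfl
  simp only [path, List.foldl_cons, List.foldl_nil] at e
  rw [e1_3 h, e8_0 h, e18_1 h, e11_3 h, e4_2 h, e10_0 h, e12_2 h, e16_3 h, e28_1 h, e49_0 h, e69_3 h] at e
  exact e
theorem e67_1 (h : Setup p) : cj p 1 (Q p 67) = Q p 79 := cj_flip h (e79_1 h)
theorem e79_2 (h : Setup p) : cj p 2 (Q p 79) = Q p 77 := by
  have e := split_path h (cycle h 5 76) (L := [3, 2, 1, 3, 2, 1, 0, 1, 2, 3, 1, 2, 3, 2]) (R := [2, 0]) rfl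
  simp only [path, List.foldl_cons, List.foldl_nil] at e
  rw [e5_3 h, e13_2 h, e20_1 h, e32_3 h, e58_2 h, e60_1 h, e64_0 h, e79_1 h, e67_2 h, e74_3 h, e61_1 h, e73_2 h, e69_3 h, e76_2 h, e70_0 h] at e
  exact e
theorem e77_2 (h : Setup p) : cj p 2 (Q p 77) = Q p 79 := cj_flip h (e79_2 h)
theorem e80_1 (h : Setup p) : cj p 1 (Q p 80) = Q p 72 := by
  have e := split_path h (cycle h 1 72) (L := [2, 3, 1, 2, 3, 0, 3, 2, 1, 3, 2, 1]) (R := []) rfl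
  simp only [path, List.foldl_cons, List.foldl_nil] at e
  rw [e1_2 h, e7_3 h, e17_1 h, e19_2 h, e8_3 h, e1_0 h, e4_3 h, e11_2 h, e23_1 h, e38_3 h, e64_2 h] at e
  exact e
theorem e72_1 (h : Setup p) : cj p 1 (Q p 72) = Q p 80 := cj_flip h (e80_1 h)
theorem e76_0 (h : Setup p) : cj p 0 (Q p 76) = Q p 80 := by
  have e := split_path h (cycle h 1 74) (L := [3, 2, 0, 3, 2, 1, 0]) (R := [1, 3, 2, 0, 3, 2, 1]) rfl
  simp only [path, List.foldl_cons, List.foldl_nil] at e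
  rw [e1_3 h, e8_2 h, e19_0 h, e31_3 h, e56_2 h, e68_1 h, e74_1 h, e78_3 h, e71_2 h, e47_0 h, e27_3 h, e48_2 h, e72_1 h] at e
  exact e
theorem e80_0 (h : Setup p) : cj p 0 (Q p 80) = Q p 76 := cj_flip h (e76_0 h)
theorem e66_3 (h : Setup p) : cj p 3 (Q p 66) = Q p 80 := by
  have e := split_path h (cycle h 2 64) (L := [3, 1, 2, 3, 1, 0, 1, 3, 2, 1, 3]) (R := [2]) rfl
  simp only [path, List.foldl_cons, List.foldl_nil] at e
  rw [e2_3 h, e9_1 h, e21_2 h, e17_3 h, e7_1 h, e2_0 h, e5_1 h, e12_3 h, e24_2 h, e41_1 h, e64_2 h] at e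
  exact e
theorem e80_3 (h : Setup p) : cj p 3 (Q p 80) = Q p 66 := cj_flip h (e66_3 h)

/-- Points in coordinate order. -/
def index : ℕ → ℕ
  | 0 => 0
  | 1 => 76
  | 2 => 80
  | 3 => 3
  | 4 => 75
  | 5 => 73
  | 6 => 6
  | 7 => 66
  | 8 => 62
  | 9 => 2
  | 10 => 77
  | 11 => 79
  | 12 => 20
  | 13 => 53
  | 14 => 49
  | 15 => 13
  | 16 => 51
  | 17 => 38
  | 18 => 5
  | 19 => 64
  | 20 => 70
  | 21 => 15
  | 22 => 35
  | 23 => 55
  | 24 => 9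
  | 25 => 69
  | 26 => 65
  | 27 => 1
  | 28 => 78
  | 29 => 74
  | 30 => 18
  | 31 => 50
  | 32 => 57
  | 33 => 11
  | 34 => 43
  | 35 => 52
  | 36 => 16
  | 37 => 58
  | 38 => 54
  | 39 => 36
  | 40 => 40
  | 41 => 45
  | 42 => 42
  | 43 => 17
  | 44 => 37
  | 45 => 10
  | 46 => 56
  | 47 => 48
  | 48 => 47
  | 49 => 34
  | 50 => 19
  | 51 => 33
  | 52 => 26
  | 53 => 24
  | 54 => 4
  | 55 => 72
  | 56 => 68
  | 57 => 14
  | 58 => 59
  | 59 => 41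
  | 60 => 8
  | 61 => 61
  | 62 => 71
  | 63 => 12
  | 64 => 46
  | 65 => 60
  | 66 => 21
  | 67 => 39
  | 68 => 44
  | 69 => 27
  | 70 => 31
  | 71 => 22
  | 72 => 7
  | 73 => 67
  | 74 => 63
  | 75 => 25
  | 76 => 23
  | 77 => 29
  | 78 => 32
  | 79 => 28
  | 80 => 30
  | _ => 0

/-- Action of the generators on points. -/
def tab : ℕ → ℕ → ℕ
  | 0, 0 => 0
  | 1, 0 => 4
  | 2, 0 => 5
  | 3, 0 => 6
  | 0, 1 => 4
  | 1, 1 => 1
  | 2, 1 => 7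
  | 3, 1 => 8
  | 0, 2 => 5
  | 1, 2 => 7
  | 2, 2 => 2
  | 3, 2 => 9
  | 0, 3 => 6
  | 1, 3 => 8
  | 2, 3 => 9
  | 3, 3 => 3
  | 0, 4 => 1
  | 1, 4 => 0
  | 2, 4 => 10
  | 3, 4 => 11
  | 0, 5 => 2
  | 1, 5 => 12
  | 2, 5 => 0
  | 3, 5 => 13
  | 0, 6 => 3
  | 1, 6 => 14
  | 2, 6 => 15
  | 3, 6 => 0
  | 0, 7 => 16
  | 1, 7 => 2
  | 2, 7 => 1
  | 3, 7 => 17
  | 0, 8 => 18
  | 1, 8 => 3
  | 2, 8 => 19
  | 3, 8 => 1
  | 0, 9 => 20
  | 1, 9 => 21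
  | 2, 9 => 3
  | 3, 9 => 2
  | 0, 10 => 12
  | 1, 10 => 16
  | 2, 10 => 4
  | 3, 10 => 22
  | 0, 11 => 14
  | 1, 11 => 18
  | 2, 11 => 23
  | 3, 11 => 4
  | 0, 12 => 10
  | 1, 12 => 5
  | 2, 12 => 16
  | 3, 12 => 24
  | 0, 13 => 15
  | 1, 13 => 25
  | 2, 13 => 20
  | 3, 13 => 5
  | 0, 14 => 11
  | 1, 14 => 6
  | 2, 14 => 26
  | 3, 14 => 18
  | 0, 15 => 13
  | 1, 15 => 27
  | 2, 15 => 6
  | 3, 15 => 20
  | 0, 16 => 7
  | 1, 16 => 10
  | 2, 16 => 12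
  | 3, 16 => 28
  | 0, 17 => 29
  | 1, 17 => 19
  | 2, 17 => 21
  | 3, 17 => 7
  | 0, 18 => 8
  | 1, 18 => 11
  | 2, 18 => 30
  | 3, 18 => 14
  | 0, 19 => 31
  | 1, 19 => 17
  | 2, 19 => 8
  | 3, 19 => 21
  | 0, 20 => 9
  | 1, 20 => 32
  | 2, 20 => 13
  | 3, 20 => 15
  | 0, 21 => 33
  | 1, 21 => 9
  | 2, 21 => 17
  | 3, 21 => 19
  | 0, 22 => 34
  | 1, 22 => 35
  | 2, 22 => 36
  | 3, 22 => 10
  | 0, 23 => 37
  | 1, 23 => 38
  | 2, 23 => 11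
  | 3, 23 => 36
  | 0, 24 => 39
  | 1, 24 => 40
  | 2, 24 => 41
  | 3, 24 => 12
  | 0, 25 => 42
  | 1, 25 => 13
  | 2, 25 => 43
  | 3, 25 => 40
  | 0, 26 => 44
  | 1, 26 => 45
  | 2, 26 => 14
  | 3, 26 => 46
  | 0, 27 => 47
  | 1, 27 => 15
  | 2, 27 => 45
  | 3, 27 => 48
  | 0, 28 => 45
  | 1, 28 => 49
  | 2, 28 => 50
  | 3, 28 => 16
  | 0, 29 => 17
  | 1, 29 => 51
  | 2, 29 => 52
  | 3, 29 => 45
  | 0, 30 => 40
  | 1, 30 => 53
  | 2, 30 => 18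
  | 3, 30 => 54
  | 0, 31 => 19
  | 1, 31 => 55
  | 2, 31 => 40
  | 3, 31 => 56
  | 0, 32 => 36
  | 1, 32 => 20
  | 2, 32 => 57
  | 3, 32 => 58
  | 0, 33 => 21
  | 1, 33 => 36
  | 2, 33 => 59
  | 3, 33 => 60
  | 0, 34 => 22
  | 1, 34 => 37
  | 2, 34 => 61
  | 3, 34 => 39
  | 0, 35 => 38
  | 1, 35 => 22
  | 2, 35 => 62
  | 3, 35 => 49
  | 0, 36 => 32
  | 1, 36 => 33
  | 2, 36 => 22
  | 3, 36 => 23
  | 0, 37 => 23
  | 1, 37 => 34
  | 2, 37 => 44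
  | 3, 37 => 63
  | 0, 38 => 35
  | 1, 38 => 23
  | 2, 38 => 53
  | 3, 38 => 64
  | 0, 39 => 24
  | 1, 39 => 65
  | 2, 39 => 42
  | 3, 39 => 34
  | 0, 40 => 30
  | 1, 40 => 24
  | 2, 40 => 31
  | 3, 40 => 25
  | 0, 41 => 43
  | 1, 41 => 66
  | 2, 41 => 24
  | 3, 41 => 50
  | 0, 42 => 25
  | 1, 42 => 47
  | 2, 42 => 39
  | 3, 42 => 67
  | 0, 43 => 41
  | 1, 43 => 57
  | 2, 43 => 25
  | 3, 43 => 68
  | 0, 44 => 26
  | 1, 44 => 69
  | 2, 44 => 37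
  | 3, 44 => 47
  | 0, 45 => 28
  | 1, 45 => 26
  | 2, 45 => 27
  | 3, 45 => 29
  | 0, 46 => 48
  | 1, 46 => 70
  | 2, 46 => 54
  | 3, 46 => 26
  | 0, 47 => 27
  | 1, 47 => 42
  | 2, 47 => 71
  | 3, 47 => 44
  | 0, 48 => 46
  | 1, 48 => 58
  | 2, 48 => 72
  | 3, 48 => 27
  | 0, 49 => 69
  | 1, 49 => 28
  | 2, 49 => 51
  | 3, 49 => 35
  | 0, 50 => 71
  | 1, 50 => 52
  | 2, 50 => 28
  | 3, 50 => 41
  | 0, 51 => 55
  | 1, 51 => 29
  | 2, 51 => 49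
  | 3, 51 => 70
  | 0, 52 => 59
  | 1, 52 => 50
  | 2, 52 => 29
  | 3, 52 => 72
  | 0, 53 => 65
  | 1, 53 => 30
  | 2, 53 => 38
  | 3, 53 => 55
  | 0, 54 => 67
  | 1, 54 => 56
  | 2, 54 => 46
  | 3, 54 => 30
  | 0, 55 => 51
  | 1, 55 => 31
  | 2, 55 => 66
  | 3, 55 => 53
  | 0, 56 => 60
  | 1, 56 => 54
  | 2, 56 => 68
  | 3, 56 => 31
  | 0, 57 => 61
  | 1, 57 => 43
  | 2, 57 => 32
  | 3, 57 => 59
  | 0, 58 => 63
  | 1, 58 => 48
  | 2, 58 => 60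
  | 3, 58 => 32
  | 0, 59 => 52
  | 1, 59 => 62
  | 2, 59 => 33
  | 3, 59 => 57
  | 0, 60 => 56
  | 1, 60 => 64
  | 2, 60 => 58
  | 3, 60 => 33
  | 0, 61 => 57
  | 1, 61 => 73
  | 2, 61 => 34
  | 3, 61 => 74
  | 0, 62 => 75
  | 1, 62 => 59
  | 2, 62 => 35
  | 3, 62 => 76
  | 0, 63 => 58
  | 1, 63 => 77
  | 2, 63 => 78
  | 3, 63 => 37
  | 0, 64 => 79
  | 1, 64 => 60
  | 2, 64 => 80
  | 3, 64 => 38
  | 0, 65 => 53
  | 1, 65 => 39
  | 2, 65 => 75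
  | 3, 65 => 77
  | 0, 66 => 73
  | 1, 66 => 41
  | 2, 66 => 55
  | 3, 66 => 80
  | 0, 67 => 54
  | 1, 67 => 79
  | 2, 67 => 74
  | 3, 67 => 42
  | 0, 68 => 78
  | 1, 68 => 76
  | 2, 68 => 56
  | 3, 68 => 43
  | 0, 69 => 49
  | 1, 69 => 44
  | 2, 69 => 73
  | 3, 69 => 79
  | 0, 70 => 77
  | 1, 70 => 46
  | 2, 70 => 76
  | 3, 70 => 51
  | 0, 71 => 50
  | 1, 71 => 75
  | 2, 71 => 47
  | 3, 71 => 78
  | 0, 72 => 74
  | 1, 72 => 80
  | 2, 72 => 48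
  | 3, 72 => 52
  | 0, 73 => 66
  | 1, 73 => 61
  | 2, 73 => 69
  | 3, 73 => 75
  | 0, 74 => 72
  | 1, 74 => 78
  | 2, 74 => 67
  | 3, 74 => 61
  | 0, 75 => 62
  | 1, 75 => 71
  | 2, 75 => 65
  | 3, 75 => 73
  | 0, 76 => 80
  | 1, 76 => 68
  | 2, 76 => 70
  | 3, 76 => 62
  | 0, 77 => 70
  | 1, 77 => 63
  | 2, 77 => 79
  | 3, 77 => 65
  | 0, 78 => 68
  | 1, 78 => 74
  | 2, 78 => 63
  | 3, 78 => 71
  | 0, 79 => 64
  | 1, 79 => 67
  | 2, 79 => 77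
  | 3, 79 => 69
  | 0, 80 => 76
  | 1, 80 => 72
  | 2, 80 => 64
  | 3, 80 => 66
  | _, _ => 0

theorem edge0 (h : Setup p) : ∀ i, i < 81 → cj p 0 (Q p i) = Q p (tab 0 i)
  | 0, _ => e0_0 h
  | 1, _ => e1_0 h
  | 2, _ => e2_0 h
  | 3, _ => e3_0 h
  | 4, _ => e4_0 h
  | 5, _ => e5_0 h
  | 6, _ => e6_0 h
  | 7, _ => e7_0 h
  | 8, _ => e8_0 h
  | 9, _ => e9_0 h
  | 10, _ => e10_0 h
  | 11, _ => e11_0 h
  | 12, _ => e12_0 h
  | 13, _ => e13_0 h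
  | 14, _ => e14_0 h
  | 15, _ => e15_0 h
  | 16, _ => e16_0 h
  | 17, _ => e17_0 h
  | 18, _ => e18_0 h
  | 19, _ => e19_0 h
  | 20, _ => e20_0 h
  | 21, _ => e21_0 h
  | 22, _ => e22_0 h
  | 23, _ => e23_0 h
  | 24, _ => e24_0 h
  | 25, _ => e25_0 h
  | 26, _ => e26_0 h
  | 27, _ => e27_0 h
  | 28, _ => e28_0 h
  | 29, _ => e29_0 h
  | 30, _ => e30_0 h
  | 31, _ => e31_0 h
  | 32, _ => e32_0 h
  | 33, _ => e33_0 h
  | 34, _ => e34_0 h
  | 35, _ => e35_0 h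
  | 36, _ => e36_0 h
  | 37, _ => e37_0 h
  | 38, _ => e38_0 h
  | 39, _ => e39_0 h
  | 40, _ => e40_0 h
  | 41, _ => e41_0 h
  | 42, _ => e42_0 h
  | 43, _ => e43_0 h
  | 44, _ => e44_0 h
  | 45, _ => e45_0 h
  | 46, _ => e46_0 h
  | 47, _ => e47_0 h
  | 48, _ => e48_0 h
  | 49, _ => e49_0 h
  | 50, _ => e50_0 h
  | 51, _ => e51_0 h
  | 52, _ => e52_0 h
  | 53, _ => e53_0 h
  | 54, _ => e54_0 h
  | 55, _ => e55_0 h
  | 56, _ => e56_0 h
  | 57, _ => e57_0 h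
  | 58, _ => e58_0 h
  | 59, _ => e59_0 h
  | 60, _ => e60_0 h
  | 61, _ => e61_0 h
  | 62, _ => e62_0 h
  | 63, _ => e63_0 h
  | 64, _ => e64_0 h
  | 65, _ => e65_0 h
  | 66, _ => e66_0 h
  | 67, _ => e67_0 h
  | 68, _ => e68_0 h
  | 69, _ => e69_0 h
  | 70, _ => e70_0 h
  | 71, _ => e71_0 h
  | 72, _ => e72_0 h
  | 73, _ => e73_0 h
  | 74, _ => e74_0 h
  | 75, _ => e75_0 h
  | 76, _ => e76_0 h
  | 77, _ => e77_0 h
  | 78, _ => e78_0 h
  | 79, _ => e79_0 h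
  | 80, _ => e80_0 h
  | n + 81, hn => absurd hn (by omega)

theorem edge1 (h : Setup p) : ∀ i, i < 81 → cj p 1 (Q p i) = Q p (tab 1 i)
  | 0, _ => e0_1 h
  | 1, _ => e1_1 h
  | 2, _ => e2_1 h
  | 3, _ => e3_1 h
  | 4, _ => e4_1 h
  | 5, _ => e5_1 h
  | 6, _ => e6_1 h
  | 7, _ => e7_1 h
  | 8, _ => e8_1 h
  | 9, _ => e9_1 h
  | 10, _ => e10_1 h
  | 11, _ => e11_1 h
  | 12, _ => e12_1 h
  | 13, _ => e13_1 h
  | 14, _ => e14_1 h
  | 15, _ => e15_1 h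
  | 16, _ => e16_1 h
  | 17, _ => e17_1 h
  | 18, _ => e18_1 h
  | 19, _ => e19_1 h
  | 20, _ => e20_1 h
  | 21, _ => e21_1 h
  | 22, _ => e22_1 h
  | 23, _ => e23_1 h
  | 24, _ => e24_1 h
  | 25, _ => e25_1 h
  | 26, _ => e26_1 h
  | 27, _ => e27_1 h
  | 28, _ => e28_1 h
  | 29, _ => e29_1 h
  | 30, _ => e30_1 h
  | 31, _ => e31_1 h
  | 32, _ => e32_1 h
  | 33, _ => e33_1 h
  | 34, _ => e34_1 h
  | 35, _ => e35_1 h
  | 36, _ => e36_1 h
  | 37, _ => e37_1 h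
  | 38, _ => e38_1 h
  | 39, _ => e39_1 h
  | 40, _ => e40_1 h
  | 41, _ => e41_1 h
  | 42, _ => e42_1 h
  | 43, _ => e43_1 h
  | 44, _ => e44_1 h
  | 45, _ => e45_1 h
  | 46, _ => e46_1 h
  | 47, _ => e47_1 h
  | 48, _ => e48_1 h
  | 49, _ => e49_1 h
  | 50, _ => e50_1 h
  | 51, _ => e51_1 h
  | 52, _ => e52_1 h
  | 53, _ => e53_1 h
  | 54, _ => e54_1 h
  | 55, _ => e55_1 h
  | 56, _ => e56_1 h
  | 57, _ => e57_1 h
  | 58, _ => e58_1 h
  | 59, _ => e59_1 h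
  | 60, _ => e60_1 h
  | 61, _ => e61_1 h
  | 62, _ => e62_1 h
  | 63, _ => e63_1 h
  | 64, _ => e64_1 h
  | 65, _ => e65_1 h
  | 66, _ => e66_1 h
  | 67, _ => e67_1 h
  | 68, _ => e68_1 h
  | 69, _ => e69_1 h
  | 70, _ => e70_1 h
  | 71, _ => e71_1 h
  | 72, _ => e72_1 h
  | 73, _ => e73_1 h
  | 74, _ => e74_1 h
  | 75, _ => e75_1 h
  | 76, _ => e76_1 h
  | 77, _ => e77_1 h
  | 78, _ => e78_1 h
  | 79, _ => e79_1 h
  | 80, _ => e80_1 h
  | n + 81, hn => absurd hn (by omega)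

theorem edge2 (h : Setup p) : ∀ i, i < 81 → cj p 2 (Q p i) = Q p (tab 2 i)
  | 0, _ => e0_2 h
  | 1, _ => e1_2 h
  | 2, _ => e2_2 h
  | 3, _ => e3_2 h
  | 4, _ => e4_2 h
  | 5, _ => e5_2 h
  | 6, _ => e6_2 h
  | 7, _ => e7_2 h
  | 8, _ => e8_2 h
  | 9, _ => e9_2 h
  | 10, _ => e10_2 h
  | 11, _ => e11_2 h
  | 12, _ => e12_2 h
  | 13, _ => e13_2 h
  | 14, _ => e14_2 h
  | 15, _ => e15_2 h
  | 16, _ => e16_2 h
  | 17, _ => e17_2 h
  | 18, _ => e18_2 h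
  | 19, _ => e19_2 h
  | 20, _ => e20_2 h
  | 21, _ => e21_2 h
  | 22, _ => e22_2 h
  | 23, _ => e23_2 h
  | 24, _ => e24_2 h
  | 25, _ => e25_2 h
  | 26, _ => e26_2 h
  | 27, _ => e27_2 h
  | 28, _ => e28_2 h
  | 29, _ => e29_2 h
  | 30, _ => e30_2 h
  | 31, _ => e31_2 h
  | 32, _ => e32_2 h
  | 33, _ => e33_2 h
  | 34, _ => e34_2 h
  | 35, _ => e35_2 h
  | 36, _ => e36_2 h
  | 37, _ => e37_2 h
  | 38, _ => e38_2 h
  | 39, _ => e39_2 h
  | 40, _ => e40_2 h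
  | 41, _ => e41_2 h
  | 42, _ => e42_2 h
  | 43, _ => e43_2 h
  | 44, _ => e44_2 h
  | 45, _ => e45_2 h
  | 46, _ => e46_2 h
  | 47, _ => e47_2 h
  | 48, _ => e48_2 h
  | 49, _ => e49_2 h
  | 50, _ => e50_2 h
  | 51, _ => e51_2 h
  | 52, _ => e52_2 h
  | 53, _ => e53_2 h
  | 54, _ => e54_2 h
  | 55, _ => e55_2 h
  | 56, _ => e56_2 h
  | 57, _ => e57_2 h
  | 58, _ => e58_2 h
  | 59, _ => e59_2 h
  | 60, _ => e60_2 h
  | 61, _ => e61_2 h
  | 62, _ => e62_2 h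
  | 63, _ => e63_2 h
  | 64, _ => e64_2 h
  | 65, _ => e65_2 h
  | 66, _ => e66_2 h
  | 67, _ => e67_2 h
  | 68, _ => e68_2 h
  | 69, _ => e69_2 h
  | 70, _ => e70_2 h
  | 71, _ => e71_2 h
  | 72, _ => e72_2 h
  | 73, _ => e73_2 h
  | 74, _ => e74_2 h
  | 75, _ => e75_2 h
  | 76, _ => e76_2 h
  | 77, _ => e77_2 h
  | 78, _ => e78_2 h
  | 79, _ => e79_2 h
  | 80, _ => e80_2 h
  | n + 81, hn => absurd hn (by omega)

theorem edge3 (h : Setup p) : ∀ i, i < 81 → cj p 3 (Q p i) = Q p (tab 3 i)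
  | 0, _ => e0_3 h
  | 1, _ => e1_3 h
  | 2, _ => e2_3 h
  | 3, _ => e3_3 h
  | 4, _ => e4_3 h
  | 5, _ => e5_3 h
  | 6, _ => e6_3 h
  | 7, _ => e7_3 h
  | 8, _ => e8_3 h
  | 9, _ => e9_3 h
  | 10, _ => e10_3 h
  | 11, _ => e11_3 h
  | 12, _ => e12_3 h
  | 13, _ => e13_3 h
  | 14, _ => e14_3 h
  | 15, _ => e15_3 h
  | 16, _ => e16_3 h
  | 17, _ => e17_3 h
  | 18, _ => e18_3 h
  | 19, _ => e19_3 h
  | 20, _ => e20_3 h
  | 21, _ => e21_3 h
  | 22, _ => e22_3 h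
  | 23, _ => e23_3 h
  | 24, _ => e24_3 h
  | 25, _ => e25_3 h
  | 26, _ => e26_3 h
  | 27, _ => e27_3 h
  | 28, _ => e28_3 h
  | 29, _ => e29_3 h
  | 30, _ => e30_3 h
  | 31, _ => e31_3 h
  | 32, _ => e32_3 h
  | 33, _ => e33_3 h
  | 34, _ => e34_3 h
  | 35, _ => e35_3 h
  | 36, _ => e36_3 h
  | 37, _ => e37_3 h
  | 38, _ => e38_3 h
  | 39, _ => e39_3 h
  | 40, _ => e40_3 h
  | 41, _ => e41_3 h
  | 42, _ => e42_3 h
  | 43, _ => e43_3 h
  | 44, _ => e44_3 h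
  | 45, _ => e45_3 h
  | 46, _ => e46_3 h
  | 47, _ => e47_3 h
  | 48, _ => e48_3 h
  | 49, _ => e49_3 h
  | 50, _ => e50_3 h
  | 51, _ => e51_3 h
  | 52, _ => e52_3 h
  | 53, _ => e53_3 h
  | 54, _ => e54_3 h
  | 55, _ => e55_3 h
  | 56, _ => e56_3 h
  | 57, _ => e57_3 h
  | 58, _ => e58_3 h
  | 59, _ => e59_3 h
  | 60, _ => e60_3 h
  | 61, _ => e61_3 h
  | 62, _ => e62_3 h
  | 63, _ => e63_3 h
  | 64, _ => e64_3 h
  | 65, _ => e65_3 h
  | 66, _ => e66_3 h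
  | 67, _ => e67_3 h
  | 68, _ => e68_3 h
  | 69, _ => e69_3 h
  | 70, _ => e70_3 h
  | 71, _ => e71_3 h
  | 72, _ => e72_3 h
  | 73, _ => e73_3 h
  | 74, _ => e74_3 h
  | 75, _ => e75_3 h
  | 76, _ => e76_3 h
  | 77, _ => e77_3 h
  | 78, _ => e78_3 h
  | 79, _ => e79_3 h
  | 80, _ => e80_3 h
  | n + 81, hn => absurd hn (by omega)

end Cfsg.Agent.Fischer.Orbit81
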